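import Mathlib
import Cfsg.Agent.SplitTwo.RootSys

/-!
# Root group systems of rank two: mu-maps and the Tits-Weiss 6.4 formulas (S1144)

`Sys m X`: a family `X : ZMod (2 m) → Subgroup G` of non trivial root groups with the commutator relations,
uniqueness of products and, for every `1 ≠ u ∈ X i`, elements `v, w ∈ X (i + m)` with `v u w` inducing the reflection
`j ↦ 2 i + m - j`.
-/

set_option autoImplicit false

namespace Cfsg.Agent.SplitTwo

open scoped commutatorElement Pointwise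

universe u

variable {m : ℕ} {G : Type u} [Group G]

/-- The subgroup generated by `X i, X (i+1), …, X (i+k-1)`. -/
def seg (X : ZMod (2 * m) → Subgroup G) (i : ZMod (2 * m)) : ℕ → Subgroup G
  | 0 => ⊥
  | (k + 1) => seg X i k ⊔ X (i + (k : ℕ))

theorem seg_zero (X : ZMod (2 * m) → Subgroup G) (i : ZMod (2 * m)) : seg X i 0 = ⊥ := rfl

theorem seg_succ (X : ZMod (2 * m) → Subgroup G) (i : ZMod (2 * m)) (k : ℕ) :
    seg X i (k + 1) = seg X i k ⊔ X (i + (k : ℕ)) := rfl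

theorem seg_one (X : ZMod (2 * m) → Subgroup G) (i : ZMod (2 * m)) : seg X i 1 = X i := by
  simp [seg]

theorem le_seg (X : ZMod (2 * m) → Subgroup G) (i : ZMod (2 * m)) :
    ∀ {k r : ℕ}, r < k → X (i + (r : ℕ)) ≤ seg X i k := by
  intro k
  induction k with
  | zero => intro r hr; omega
  | succ k ih =>
    intro r hr
    rcases Nat.lt_succ_iff_lt_or_eq.mp hr with h | h
    · exact (ih h).trans le_sup_left
    · subst h; exact le_sup_right

theorem seg_le {X : ZMod (2 * m) → Subgroup G} {i : ZMod (2 * m)} {k : ℕ} {S : Subgroup G}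
    (h : ∀ r < k, X (i + (r : ℕ)) ≤ S) : seg X i k ≤ S := by
  induction k with
  | zero => exact bot_le
  | succ k ih =>
    exact sup_le (ih fun r hr => h r (by omega)) (h k (by omega))

theorem seg_mono (X : ZMod (2 * m) → Subgroup G) (i : ZMod (2 * m)) {k l : ℕ} (h : k ≤ l) :
    seg X i k ≤ seg X i l :=
  seg_le fun _ hr => le_seg X i (lt_of_lt_of_le hr h)

theorem seg_eq_iSup (X : ZMod (2 * m) → Subgroup G) (i : ZMod (2 * m)) (k : ℕ) :
    seg X i k = ⨆ r ∈ Set.Iio k, X (i + ((r : ℕ) : ZMod (2 * m))) := by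
  apply le_antisymm
  · refine seg_le fun r hr => ?_
    exact le_iSup₂_of_le r hr le_rfl
  · refine iSup₂_le fun r hr => ?_
    exact le_seg X i hr

theorem seg_succ_left (X : ZMod (2 * m) → Subgroup G) (i : ZMod (2 * m)) (k : ℕ) :
    seg X i (k + 1) = X i ⊔ seg X (i + 1) k := by
  apply le_antisymm
  · refine seg_le fun r hr => ?_
    rcases Nat.eq_zero_or_pos r with h | h
    · subst h
      simp
    · obtain ⟨s, rfl⟩ : ∃ s, r = s + 1 := ⟨r - 1, by omega⟩
      have h1 : i + ((s + 1 : ℕ) : ZMod (2 * m)) = (i + 1) + (s : ℕ) := by push_cast; ring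
      rw [h1]
      exact (le_seg X (i + 1) (by omega)).trans le_sup_right
  · refine sup_le ?_ (seg_le fun r hr => ?_)
    · have := le_seg X i (k := k + 1) (r := 0) (by omega)
      simpa using this
    · have h1 : (i + 1) + (r : ℕ) = i + ((r + 1 : ℕ) : ZMod (2 * m)) := by push_cast; ring
      rw [h1]
      exact le_seg X i (by omega)

theorem seg_shift_le (X : ZMod (2 * m) → Subgroup G) (i : ZMod (2 * m)) {a k l : ℕ} (h : a + k ≤ l) :
    seg X (i + (a : ℕ)) k ≤ seg X i l := by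
  refine seg_le fun r hr => ?_
  have h1 : i + (a : ℕ) + (r : ℕ) = i + ((a + r : ℕ) : ZMod (2 * m)) := by push_cast; ring
  rw [h1]
  exact le_seg X i (by omega)

/-- Root group system. -/
structure Sys (m : ℕ) {G : Type u} [Group G] (X : ZMod (2 * m) → Subgroup G) : Prop where
  three_le : 3 ≤ m
  ne_bot : ∀ i, X i ≠ ⊥
  comm : ∀ (i : ZMod (2 * m)) (k : ℕ), k + 1 < m → ∀ a ∈ X i, ∀ b ∈ X (i + ((k + 1 : ℕ) : ZMod (2 * m))),
    ⁅a, b⁆ ∈ seg X (i + 1) k
  inter : ∀ i, ∀ x ∈ X i, x ∈ seg X (i + 1) (m - 1) → x = 1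
  mu : ∀ i, ∀ u ∈ X i, u ≠ 1 → ∃ v ∈ X (i + (m : ℕ)), ∃ w ∈ X (i + (m : ℕ)), ∀ j x,
    (v * u * w) * x * (v * u * w)⁻¹ ∈ X (2 * i + (m : ℕ) - j) ↔ x ∈ X j

namespace Sys

variable {X : ZMod (2 * m) → Subgroup G} (S : Sys m X)

include S

/-- Elements of `X (i + k + 1)` normalise `X (i+1) ⋯ X (i+k)`, for `k + 1 < m`... (right hand side). -/
theorem conj_seg_right (i : ZMod (2 * m)) {k l : ℕ} (hkl : k ≤ l) (hl : l < m) {b : G}
    (hb : b ∈ X (i + (l : ℕ))) {x : G} (hx : x ∈ seg X i k) : b * x * b⁻¹ ∈ seg X i l := by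
  have key : seg X i k ≤ (seg X i l).comap (MulAut.conj b).toMonoidHom := by
    refine seg_le fun r hr => ?_
    intro y hy
    rw [Subgroup.mem_comap]
    change b * y * b⁻¹ ∈ seg X i l
    have h1 : i + (l : ℕ) = (i + (r : ℕ)) + (((l - r - 1) + 1 : ℕ) : ZMod (2 * m)) := by
      have h2 : ((l : ℕ) : ZMod (2 * m)) = ((r + ((l - r - 1) + 1) : ℕ) : ZMod (2 * m)) := by
        congr 1; omega
      rw [h2, Nat.cast_add, ← add_assoc]
    rw [h1] at hb
    have h3 := S.comm (i + (r : ℕ)) (l - r - 1) (by omega) y hy b hb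
    have h4 : seg X (i + (r : ℕ) + 1) (l - r - 1) ≤ seg X i l := by
      have h5 : i + (r : ℕ) + 1 = i + ((r + 1 : ℕ) : ZMod (2 * m)) := by push_cast; ring
      rw [h5]
      exact seg_shift_le X i (by omega)
    have h6 := h4 h3
    have h7 : y ∈ seg X i l := le_seg X i (by omega) hy
    have h8 : b * y * b⁻¹ = (⁅y, b⁆)⁻¹ * y := by
      rw [commutatorElement_def]; group
    rw [h8]
    exact mul_mem (inv_mem h6) h7
  exact key hx

theorem conj_seg_left (i : ZMod (2 * m)) {k l : ℕ} (hkl : k ≤ l) (hl : l < m) {b : G}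
    (hb : b ∈ X i) {x : G} (hx : x ∈ seg X (i + 1 + ((l - k : ℕ) : ZMod (2 * m))) k) :
    b * x * b⁻¹ ∈ seg X (i + 1) l := by
  have key : seg X (i + 1 + ((l - k : ℕ) : ZMod (2 * m))) k ≤
      (seg X (i + 1) l).comap (MulAut.conj b).toMonoidHom := by
    refine seg_le fun r hr => ?_
    intro y hy
    rw [Subgroup.mem_comap]
    change b * y * b⁻¹ ∈ seg X (i + 1) l
    have h1 : i + 1 + ((l - k : ℕ) : ZMod (2 * m)) + (r : ℕ) =
        i + (((l - k + r) + 1 : ℕ) : ZMod (2 * m)) := by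
      push_cast; ring
    rw [h1] at hy
    have h3 := S.comm i (l - k + r) (by omega) b hb y hy
    have h4 : seg X (i + 1) (l - k + r) ≤ seg X (i + 1) l := seg_mono X _ (by omega)
    have h7 : y ∈ seg X (i + 1) l := by
      have h8 : i + (((l - k + r) + 1 : ℕ) : ZMod (2 * m)) = i + 1 + ((l - k + r : ℕ) : ZMod (2 * m)) := by
        push_cast; ring
      rw [h8] at hy
      exact le_seg X (i + 1) (by omega) hy
    have h8 : b * y * b⁻¹ = ⁅b, y⁆ * y := by
      rw [commutatorElement_def]; group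
    rw [h8]
    exact mul_mem (h4 h3) h7
  exact key hx

/-- `X (i + k)` normalises `X i ⋯ X (i+k-1)` for `k < m`. -/
theorem conj_right (i : ZMod (2 * m)) {k : ℕ} (hk : k < m) {b : G}
    (hb : b ∈ X (i + (k : ℕ))) {x : G} (hx : x ∈ seg X i k) : b * x * b⁻¹ ∈ seg X i k :=
  S.conj_seg_right i le_rfl hk hb hx

/-- `X i` normalises `X (i+1) ⋯ X (i+k)` for `k < m`. -/
theorem conj_left (i : ZMod (2 * m)) {k : ℕ} (hk : k < m) {b : G}
    (hb : b ∈ X i) {x : G} (hx : x ∈ seg X (i + 1) k) : b * x * b⁻¹ ∈ seg X (i + 1) k := by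
  refine S.conj_seg_left i le_rfl hk hb ?_
  simpa using hx

theorem mem_seg_succ (i : ZMod (2 * m)) {k : ℕ} (hk : k < m) {x : G} :
    x ∈ seg X i (k + 1) ↔ ∃ s ∈ seg X i k, ∃ b ∈ X (i + (k : ℕ)), s * b = x := by
  constructor
  · intro hx
    rw [seg_succ] at hx
    have h1 : X (i + (k : ℕ)) ≤ Subgroup.normalizer ((seg X i k : Subgroup G) : Set G) := by
      intro b hb
      rw [Subgroup.mem_normalizer_iff]
      intro y
      constructor
      · intro hy; exact S.conj_right i hk hb hy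
      · intro hy
        have := S.conj_right i hk (inv_mem hb) hy
        have e : b⁻¹ * (b * y * b⁻¹) * b⁻¹⁻¹ = y := by group
        rwa [e] at this
    have h2 := Subgroup.coe_mul_of_right_le_normalizer_left (seg X i k) (X (i + (k : ℕ))) h1
    have h3 : x ∈ ((seg X i k : Subgroup G) : Set G) * ((X (i + (k : ℕ)) : Subgroup G) : Set G) := by
      rw [← h2]; exact hx
    obtain ⟨s, hs, b, hb, e⟩ := Set.mem_mul.mp h3
    exact ⟨s, hs, b, hb, e⟩
  · rintro ⟨s, hs, b, hb, rfl⟩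
    exact mul_mem (seg_mono X i (Nat.le_succ k) hs) (le_seg X i (Nat.lt_succ_self k) hb)

theorem mem_seg_succ_left (i : ZMod (2 * m)) {k : ℕ} (hk : k < m) {x : G} :
    x ∈ seg X i (k + 1) ↔ ∃ b ∈ X i, ∃ s ∈ seg X (i + 1) k, b * s = x := by
  constructor
  · intro hx
    rw [seg_succ_left] at hx
    have h1 : X i ≤ Subgroup.normalizer ((seg X (i + 1) k : Subgroup G) : Set G) := by
      intro b hb
      rw [Subgroup.mem_normalizer_iff]
      intro y
      constructor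
      · intro hy; exact S.conj_left i hk hb hy
      · intro hy
        have := S.conj_left i hk (inv_mem hb) hy
        have e : b⁻¹ * (b * y * b⁻¹) * b⁻¹⁻¹ = y := by group
        rwa [e] at this
    have h2 := Subgroup.coe_mul_of_left_le_normalizer_right (X i) (seg X (i + 1) k) h1
    have h3 : x ∈ ((X i : Subgroup G) : Set G) * ((seg X (i + 1) k : Subgroup G) : Set G) := by
      rw [← h2]; exact hx
    obtain ⟨s, hs, b, hb, e⟩ := Set.mem_mul.mp h3
    exact ⟨s, hs, b, hb, e⟩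
  · rintro ⟨b, hb, s, hs, rfl⟩
    rw [seg_succ_left]
    exact mul_mem ((le_sup_left : X i ≤ _) hb) ((le_sup_right : seg X (i + 1) k ≤ _) hs)

theorem inter_left (i : ZMod (2 * m)) {k : ℕ} (hk : k < m) {x : G} (hx : x ∈ X i)
    (hx' : x ∈ seg X (i + 1) k) : x = 1 :=
  S.inter i x hx (seg_mono X (i + 1) (by omega) hx')

theorem inter_right {k : ℕ} : ∀ (i : ZMod (2 * m)), k < m → ∀ x ∈ X (i + (k : ℕ)), x ∈ seg X i k → x = 1 := by
  induction k with
  | zero =>
    intro i _ x _ hx'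
    rw [seg_zero] at hx'
    exact Subgroup.mem_bot.mp hx'
  | succ k ih =>
    intro i hk x hx hx'
    obtain ⟨a, ha, s, hs, rfl⟩ := (S.mem_seg_succ_left i (by omega)).mp hx'
    have h1 : i + ((k + 1 : ℕ) : ZMod (2 * m)) = (i + 1) + (k : ℕ) := by push_cast; ring
    rw [h1] at hx
    have h2 : a = 1 := by
      apply S.inter_left i hk ha
      have h3 : a = (a * s) * s⁻¹ := by group
      rw [h3]
      exact mul_mem (le_seg X (i + 1) (Nat.lt_succ_self k) hx) (inv_mem (seg_mono X _ (Nat.le_succ k) hs))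
    subst h2
    rw [one_mul] at hx ⊢
    exact ih (i + 1) (by omega) s hx hs

/-- Adjacent root groups commute. -/
theorem comm_one (i : ZMod (2 * m)) {a b : G} (ha : a ∈ X i) (hb : b ∈ X (i + 1)) : a * b = b * a := by
  have h := S.comm i 0 (by have := S.three_le; omega) a ha b (by simpa using hb)
  rw [seg_zero, Subgroup.mem_bot, commutatorElement_def] at h
  have h2 : a * b = (a * b * a⁻¹ * b⁻¹) * (b * a) := by group
  rw [h2, h, one_mul]

end Sys

/-- `n` induces the reflection `j ↦ 2 i + m - j` on the family `X`. -/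
def Refl (X : ZMod (2 * m) → Subgroup G) (i : ZMod (2 * m)) (n : G) : Prop :=
  ∀ j x, n * x * n⁻¹ ∈ X (2 * i + (m : ℕ) - j) ↔ x ∈ X j

namespace Refl

variable {X : ZMod (2 * m) → Subgroup G} {i : ZMod (2 * m)} {n : G}

theorem inv (h : Refl X i n) : Refl X i n⁻¹ := by
  intro j x
  have h1 := h (2 * i + (m : ℕ) - j) (n⁻¹ * x * n)
  have h2 : 2 * i + (m : ℕ) - (2 * i + (m : ℕ) - j) = j := by ring
  have e : n * (n⁻¹ * x * n) * n⁻¹ = x := by group
  rw [h2, e] at h1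
  rw [inv_inv]
  exact h1.symm

theorem mem (h : Refl X i n) {j : ZMod (2 * m)} {x : G} (hx : x ∈ X j) :
    n * x * n⁻¹ ∈ X (2 * i + (m : ℕ) - j) := (h j x).mpr hx

theorem mem' (h : Refl X i n) {j : ZMod (2 * m)} {x : G} (hx : x ∈ X j) :
    n⁻¹ * x * n ∈ X (2 * i + (m : ℕ) - j) := by
  have := h.inv.mem hx
  rwa [inv_inv] at this

end Refl

theorem two_m_cast (m : ℕ) : (m : ZMod (2 * m)) + m = 0 := by
  have h : ((2 * m : ℕ) : ZMod (2 * m)) = 0 := ZMod.natCast_self (2 * m)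
  rw [← h]; push_cast; ring

/-- `v * u * w` is the mu-element. -/
def IsMu (X : ZMod (2 * m) → Subgroup G) (i : ZMod (2 * m)) (u v w : G) : Prop :=
  v ∈ X (i + (m : ℕ)) ∧ w ∈ X (i + (m : ℕ)) ∧ Refl X i (v * u * w)

theorem IsMu.inv {X : ZMod (2 * m) → Subgroup G} {i : ZMod (2 * m)} {u v w : G} (h : IsMu X i u v w) :
    IsMu X i u⁻¹ w⁻¹ v⁻¹ := by
  refine ⟨inv_mem h.2.1, inv_mem h.1, ?_⟩
  have e : w⁻¹ * u⁻¹ * v⁻¹ = (v * u * w)⁻¹ := by group
  rw [e]
  exact h.2.2.inv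

namespace Sys

variable {X : ZMod (2 * m) → Subgroup G} (S : Sys m X)

include S

theorem exists_ne_one (i : ZMod (2 * m)) : ∃ x ∈ X i, x ≠ 1 := by
  by_contra h
  push Not at h
  exact S.ne_bot i ((Subgroup.eq_bot_iff_forall _).mpr h)

theorem exists_isMu {i : ZMod (2 * m)} {u : G} (hu : u ∈ X i) (hu1 : u ≠ 1) : ∃ v w, IsMu X i u v w := by
  obtain ⟨v, hv, w, hw, h⟩ := S.mu i u hu hu1
  exact ⟨v, w, hv, hw, h⟩

/-- An element of `X (i + m)` normalising `X i` is trivial. -/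
theorem free {i : ZMod (2 * m)} {w : G} (hw : w ∈ X (i + (m : ℕ))) (hn : ∀ x, w * x * w⁻¹ ∈ X i ↔ x ∈ X i) :
    w = 1 := by
  by_contra hw1
  obtain ⟨v, v', hv, hv', hr⟩ := S.exists_isMu hw hw1
  have h0 : i + (m : ℕ) + (m : ℕ) = i := by rw [add_assoc, two_m_cast, add_zero]
  rw [h0] at hv hv'
  -- `n` maps `X i` to `X (i + m)`
  have hN : ∀ x, (v * w * v') * x * (v * w * v')⁻¹ ∈ X i ↔ x ∈ X i := by
    intro x
    have e : (v * w * v') * x * (v * w * v')⁻¹ = v * (w * (v' * x * v'⁻¹) * w⁻¹) * v⁻¹ := by group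
    rw [e]
    have h1 : ∀ {a y : G}, a ∈ X i → (a * y * a⁻¹ ∈ X i ↔ y ∈ X i) := by
      intro a y ha
      constructor
      · intro hy
        have h2 : y = a⁻¹ * (a * y * a⁻¹) * a := by group
        rw [h2]
        exact mul_mem (mul_mem (inv_mem ha) hy) ha
      · intro hy
        exact mul_mem (mul_mem ha hy) (inv_mem ha)
    rw [h1 hv, hn, h1 hv']
  have e1 : 2 * (i + (m : ℕ)) + (m : ℕ) - i = i + (m : ℕ) := by
    have h2 : 2 * (i + (m : ℕ)) + (m : ℕ) - i = i + (m : ℕ) + ((m : ZMod (2 * m)) + m) := by ring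
    rw [h2, two_m_cast, add_zero]
  have hEq : ∀ y, y ∈ X (i + (m : ℕ)) → y ∈ X i := by
    intro y hy
    have h2 := (hr i ((v * w * v')⁻¹ * y * (v * w * v')))
    rw [e1] at h2
    have e : (v * w * v') * ((v * w * v')⁻¹ * y * (v * w * v')) * (v * w * v')⁻¹ = y := by group
    rw [e] at h2
    have h3 := (hN _).mpr (h2.mp hy)
    rwa [e] at h3
  obtain ⟨x, hx, hx1⟩ := S.exists_ne_one (i + 1)
  have hn' : v * w * v' ∈ X i := mul_mem (mul_mem hv (hEq w hw)) hv'
  have h4 := hr.mem hx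
  have h5 := S.comm_one i hn' hx
  rw [h5, mul_inv_cancel_right] at h4
  have e2 : 2 * (i + (m : ℕ)) + (m : ℕ) - (i + 1) = (i + 1 + 1) + ((m - 3 : ℕ) : ZMod (2 * m)) := by
    have h6 : ((m - 3 : ℕ) : ZMod (2 * m)) = m - 3 := by
      have := S.three_le
      rw [Nat.cast_sub this]; norm_num
    have h7 : 2 * (i + (m : ℕ)) + (m : ℕ) - (i + 1) = i - 1 + m + ((m : ZMod (2 * m)) + m) := by ring
    rw [h7, two_m_cast, h6]; ring
  rw [e2] at h4
  exact hx1 (S.inter_left (i + 1) (k := m - 2) (by have := S.three_le; omega) hx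
    (le_seg X _ (by have := S.three_le; omega) h4))

theorem isMu_unique {i : ZMod (2 * m)} {u v w v' w' : G} (h : IsMu X i u v w)
    (h' : IsMu X i u v' w') : v = v' ∧ w = w' := by
  obtain ⟨hv, hw, hr⟩ := h
  obtain ⟨hv', hw', hr'⟩ := h'
  have e1 : 2 * i + (m : ℕ) - i = i + (m : ℕ) := by ring
  have hc : ∀ {a y : G}, a ∈ X (i + (m : ℕ)) → (a * y * a⁻¹ ∈ X (i + (m : ℕ)) ↔ y ∈ X (i + (m : ℕ))) := by
    intro a y ha
    constructor
    · intro hy
      have h2 : y = a⁻¹ * (a * y * a⁻¹) * a := by group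
      rw [h2]
      exact mul_mem (mul_mem (inv_mem ha) hy) ha
    · intro hy
      exact mul_mem (mul_mem ha hy) (inv_mem ha)
  have hA : ∀ x, u * (w * x * w⁻¹) * u⁻¹ ∈ X (i + (m : ℕ)) ↔ x ∈ X i := by
    intro x
    have h1 := hr i x
    rw [e1] at h1
    have e : (v * u * w) * x * (v * u * w)⁻¹ = v * (u * (w * x * w⁻¹) * u⁻¹) * v⁻¹ := by group
    rwa [e, hc hv] at h1
  have hB : ∀ x, u * (w' * x * w'⁻¹) * u⁻¹ ∈ X (i + (m : ℕ)) ↔ x ∈ X i := by
    intro x
    have h1 := hr' i x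
    rw [e1] at h1
    have e : (v' * u * w') * x * (v' * u * w')⁻¹ = v' * (u * (w' * x * w'⁻¹) * u⁻¹) * v'⁻¹ := by group
    rwa [e, hc hv'] at h1
  have hz : w'⁻¹ * w = 1 := by
    apply S.free (i := i) (mul_mem (inv_mem hw') hw)
    intro x
    rw [← hB, ← hA x]
    have e : u * (w' * (w'⁻¹ * w * x * (w'⁻¹ * w)⁻¹) * w'⁻¹) * u⁻¹ = u * (w * x * w⁻¹) * u⁻¹ := by group
    rw [e]
  have hww : w = w' := (inv_mul_eq_one.mp hz).symm
  subst hww
  refine ⟨?_, rfl⟩
  have hy : v * v'⁻¹ = 1 := by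
    apply S.free (i := i) (mul_mem hv (inv_mem hv'))
    intro x
    have h1 := hr (i + (m : ℕ)) ((v' * u * w)⁻¹ * x * (v' * u * w))
    have e2 : 2 * i + (m : ℕ) - (i + (m : ℕ)) = i := by ring
    rw [e2] at h1
    have h2 := hr' (i + (m : ℕ)) ((v' * u * w)⁻¹ * x * (v' * u * w))
    rw [e2] at h2
    have e3 : (v' * u * w) * ((v' * u * w)⁻¹ * x * (v' * u * w)) * (v' * u * w)⁻¹ = x := by group
    rw [e3] at h2
    rw [h2, ← h1]
    have e4 : (v * u * w) * ((v' * u * w)⁻¹ * x * (v' * u * w)) * (v * u * w)⁻¹ = v * v'⁻¹ * x * (v * v'⁻¹)⁻¹ := by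
      group
    rw [e4]
  exact mul_inv_eq_one.mp hy

end Sys

open Classical in
/-- The left partner `κ(u)`. -/
noncomputable def kap (X : ZMod (2 * m) → Subgroup G) (i : ZMod (2 * m)) (u : G) : G :=
  if h : ∃ v w, IsMu X i u v w then h.choose else 1

open Classical in
/-- The right partner `λ(u)`. -/
noncomputable def lam (X : ZMod (2 * m) → Subgroup G) (i : ZMod (2 * m)) (u : G) : G :=
  if h : ∃ v w, IsMu X i u v w then h.choose_spec.choose else 1

/-- The mu-map. -/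
noncomputable def muMap (X : ZMod (2 * m) → Subgroup G) (i : ZMod (2 * m)) (u : G) : G :=
  kap X i u * u * lam X i u

namespace Sys

variable {X : ZMod (2 * m) → Subgroup G} (S : Sys m X)

include S

theorem isMu {i : ZMod (2 * m)} {u : G} (hu : u ∈ X i) (hu1 : u ≠ 1) :
    IsMu X i u (kap X i u) (lam X i u) := by
  have h := S.exists_isMu hu hu1
  unfold kap lam
  rw [dif_pos h, dif_pos h]
  exact h.choose_spec.choose_spec

theorem kap_eq {i : ZMod (2 * m)} {u v w : G} (hu : u ∈ X i) (hu1 : u ≠ 1) (h : IsMu X i u v w) :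
    kap X i u = v := (S.isMu_unique (S.isMu hu hu1) h).1

theorem lam_eq {i : ZMod (2 * m)} {u v w : G} (hu : u ∈ X i) (hu1 : u ≠ 1) (h : IsMu X i u v w) :
    lam X i u = w := (S.isMu_unique (S.isMu hu hu1) h).2

theorem kap_mem {i : ZMod (2 * m)} {u : G} (hu : u ∈ X i) (hu1 : u ≠ 1) : kap X i u ∈ X (i + (m : ℕ)) :=
  (S.isMu hu hu1).1

theorem lam_mem {i : ZMod (2 * m)} {u : G} (hu : u ∈ X i) (hu1 : u ≠ 1) : lam X i u ∈ X (i + (m : ℕ)) :=
  (S.isMu hu hu1).2.1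

theorem refl {i : ZMod (2 * m)} {u : G} (hu : u ∈ X i) (hu1 : u ≠ 1) : Refl X i (muMap X i u) :=
  (S.isMu hu hu1).2.2

theorem muMap_eq {i : ZMod (2 * m)} {u v w : G} (hu : u ∈ X i) (hu1 : u ≠ 1) (h : IsMu X i u v w) :
    muMap X i u = v * u * w := by
  unfold muMap
  rw [S.kap_eq hu hu1 h, S.lam_eq hu hu1 h]

theorem kap_inv {i : ZMod (2 * m)} {u : G} (hu : u ∈ X i) (hu1 : u ≠ 1) :
    kap X i u⁻¹ = (lam X i u)⁻¹ :=
  S.kap_eq (inv_mem hu) (inv_ne_one.mpr hu1) (S.isMu hu hu1).inv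

theorem lam_inv {i : ZMod (2 * m)} {u : G} (hu : u ∈ X i) (hu1 : u ≠ 1) :
    lam X i u⁻¹ = (kap X i u)⁻¹ :=
  S.lam_eq (inv_mem hu) (inv_ne_one.mpr hu1) (S.isMu hu hu1).inv

theorem muMap_inv {i : ZMod (2 * m)} {u : G} (hu : u ∈ X i) (hu1 : u ≠ 1) :
    muMap X i u⁻¹ = (muMap X i u)⁻¹ := by
  unfold muMap
  rw [S.kap_inv hu hu1, S.lam_inv hu hu1]
  group

/-- Tits-Weiss (6.4)(i): the first component of `a⁻¹ x a x⁻¹` is `x ^ μ(a)`. -/
theorem tw_left {i : ZMod (2 * m)} {a x c d : G} (ha : a ∈ X i) (ha1 : a ≠ 1)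
    (hx : x ∈ X (i + ((m - 1 : ℕ) : ZMod (2 * m)))) (hc : c ∈ X (i + 1)) (hd : d ∈ seg X (i + 1 + 1) (m - 3))
    (h : a⁻¹ * x * a * x⁻¹ = c * d) : (muMap X i a)⁻¹ * x * muMap X i a = c := by
  have h3 := S.three_le
  have hk := S.kap_mem ha ha1
  have hl := S.lam_mem ha ha1
  have hr := S.refl ha ha1
  have hm1 : ((m - 1 : ℕ) : ZMod (2 * m)) = m - 1 := by
    rw [Nat.cast_sub (by omega)]; norm_num
  have hm2 : ((m - 2 : ℕ) : ZMod (2 * m)) = m - 2 := by
    rw [Nat.cast_sub (by omega)]; norm_num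
  have hm3 : ((m - 3 : ℕ) : ZMod (2 * m)) = m - 3 := by
    rw [Nat.cast_sub (by omega)]; norm_num
  -- `κ` commutes with `x`
  have hkx : x * kap X i a = kap X i a * x := by
    apply S.comm_one _ hx
    have e : i + ((m - 1 : ℕ) : ZMod (2 * m)) + 1 = i + (m : ℕ) := by rw [hm1]; ring
    rw [e]; exact hk
  have hmem := hr.mem' hx
  have e1 : 2 * i + (m : ℕ) - (i + ((m - 1 : ℕ) : ZMod (2 * m))) = i + 1 := by rw [hm1]; ring
  rw [e1] at hmem
  -- compute
  have e2 : (muMap X i a)⁻¹ * x * muMap X i a = (lam X i a)⁻¹ * (c * d * x) * lam X i a := by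
    have e3 : c * d * x = a⁻¹ * x * a := by rw [← h]; group
    rw [e3]
    unfold muMap
    calc (kap X i a * a * lam X i a)⁻¹ * x * (kap X i a * a * lam X i a)
        = (lam X i a)⁻¹ * (a⁻¹ * ((kap X i a)⁻¹ * (x * kap X i a)) * a) * lam X i a := by group
      _ = (lam X i a)⁻¹ * (a⁻¹ * x * a) * lam X i a := by rw [hkx]; group
  have hdx : d * x ∈ seg X (i + 1 + 1) (m - 2) := by
    have h4 : m - 2 = (m - 3) + 1 := by omega
    rw [h4]
    refine mul_mem (seg_mono X _ (Nat.le_succ _) hd) (le_seg X _ (Nat.lt_succ_self _) ?_)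
    have e : i + 1 + 1 + ((m - 3 : ℕ) : ZMod (2 * m)) = i + ((m - 1 : ℕ) : ZMod (2 * m)) := by
      rw [hm3, hm1]; ring
    rw [e]; exact hx
  have hL : (lam X i a)⁻¹ * (d * x) * lam X i a ∈ seg X (i + 1 + 1) (m - 2) := by
    have e : i + (m : ℕ) = i + 1 + 1 + ((m - 2 : ℕ) : ZMod (2 * m)) := by rw [hm2]; ring
    rw [e] at hl
    have := S.conj_right (i + 1 + 1) (k := m - 2) (by omega) (inv_mem hl) hdx
    rwa [inv_inv] at this
  have hC : c⁻¹ * ((lam X i a)⁻¹ * c * lam X i a) ∈ seg X (i + 1 + 1) (m - 2) := by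
    have e : i + (m : ℕ) = i + 1 + (((m - 2) + 1 : ℕ) : ZMod (2 * m)) := by
      rw [Nat.cast_add, hm2]; push_cast; ring
    rw [e] at hl
    have h5 := S.comm (i + 1) (m - 2) (by omega) c⁻¹ (inv_mem hc) (lam X i a)⁻¹ (inv_mem hl)
    rw [commutatorElement_def] at h5
    have e6 : c⁻¹ * ((lam X i a)⁻¹ * c * lam X i a) = c⁻¹ * (lam X i a)⁻¹ * c⁻¹⁻¹ * (lam X i a)⁻¹⁻¹ := by group
    rw [e6]; exact h5
  have h7 : c⁻¹ * ((muMap X i a)⁻¹ * x * muMap X i a) ∈ seg X (i + 1 + 1) (m - 2) := by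
    rw [e2]
    have e8 : c⁻¹ * ((lam X i a)⁻¹ * (c * d * x) * lam X i a) =
        (c⁻¹ * ((lam X i a)⁻¹ * c * lam X i a)) * ((lam X i a)⁻¹ * (d * x) * lam X i a) := by group
    rw [e8]
    exact mul_mem hC hL
  have h9 := S.inter_left (i + 1) (k := m - 2) (by omega) (mul_mem (inv_mem hc) hmem) h7
  exact (inv_mul_eq_one.mp h9).symm

/-- Tits-Weiss (6.4)(ii): the last component of `a⁻¹ x a x⁻¹` is `a ^ μ(x)⁻¹`. -/
theorem tw_right {i : ZMod (2 * m)} {a x c d : G} (ha : a ∈ X i)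
    (hx : x ∈ X (i + ((m - 1 : ℕ) : ZMod (2 * m)))) (hx1 : x ≠ 1)
    (hc : c ∈ X (i + ((m - 2 : ℕ) : ZMod (2 * m)))) (hd : d ∈ seg X (i + 1) (m - 3))
    (h : a⁻¹ * x * a * x⁻¹ = d * c) :
    muMap X (i + ((m - 1 : ℕ) : ZMod (2 * m))) x * a * (muMap X (i + ((m - 1 : ℕ) : ZMod (2 * m))) x)⁻¹ = c := by
  have h3 := S.three_le
  have hk := S.kap_mem hx hx1
  have hl := S.lam_mem hx hx1
  have hr := S.refl hx hx1
  have hm1 : ((m - 1 : ℕ) : ZMod (2 * m)) = m - 1 := by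
    rw [Nat.cast_sub (by omega)]; norm_num
  have hm2 : ((m - 2 : ℕ) : ZMod (2 * m)) = m - 2 := by
    rw [Nat.cast_sub (by omega)]; norm_num
  have hm3 : ((m - 3 : ℕ) : ZMod (2 * m)) = m - 3 := by
    rw [Nat.cast_sub (by omega)]; norm_num
  set k := kap X (i + ((m - 1 : ℕ) : ZMod (2 * m))) x with hkdef
  set l := lam X (i + ((m - 1 : ℕ) : ZMod (2 * m))) x with hldef
  have e0 : i + ((m - 1 : ℕ) : ZMod (2 * m)) + (m : ℕ) = i - 1 := by
    have h4 : i + ((m - 1 : ℕ) : ZMod (2 * m)) + (m : ℕ) = i - 1 + ((m : ZMod (2 * m)) + m) := by rw [hm1]; ring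
    rw [h4, two_m_cast, add_zero]
  rw [e0] at hk hl
  -- `λ` commutes with `a`
  have hla : l * a = a * l := by
    apply S.comm_one _ hl
    rw [sub_add_cancel]; exact ha
  have hmem := hr.mem ha
  have e1 : 2 * (i + ((m - 1 : ℕ) : ZMod (2 * m))) + (m : ℕ) - i = i + ((m - 2 : ℕ) : ZMod (2 * m)) := by
    have h4 : 2 * (i + ((m - 1 : ℕ) : ZMod (2 * m))) + (m : ℕ) - i = i + (m : ZMod (2 * m)) - 2 + ((m : ZMod (2 * m)) + m) := by
      rw [hm1]; ring
    rw [h4, two_m_cast, hm2]; ring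
  rw [e1] at hmem
  have e2 : muMap X (i + ((m - 1 : ℕ) : ZMod (2 * m))) x * a * (muMap X (i + ((m - 1 : ℕ) : ZMod (2 * m))) x)⁻¹ =
      k * (a * d * c) * k⁻¹ := by
    have e3 : a * d * c = x * a * x⁻¹ := by rw [mul_assoc, ← h]; group
    rw [e3]
    unfold muMap
    rw [← hkdef, ← hldef]
    calc k * x * l * a * (k * x * l)⁻¹ = k * x * (l * a) * l⁻¹ * x⁻¹ * k⁻¹ := by group
      _ = k * (x * a * x⁻¹) * k⁻¹ := by rw [hla]; group
  have hi : i - 1 + 1 = i := by ring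
  have hi2 : seg X (i + 1) (m - 3) ≤ seg X i (m - 2) := by
    have h4 : i + 1 = i + ((1 : ℕ) : ZMod (2 * m)) := by push_cast; ring
    rw [h4]
    exact seg_shift_le X i (by omega)
  have hdx : a * d ∈ seg X i (m - 2) := by
    refine mul_mem ?_ (hi2 hd)
    have := le_seg X i (k := m - 2) (r := 0) (by omega)
    rw [Nat.cast_zero, add_zero] at this
    exact this ha
  have hL : k * (a * d) * k⁻¹ ∈ seg X i (m - 2) := by
    have := S.conj_left (i - 1) (k := m - 2) (by omega) hk (x := a * d) (by rw [hi]; exact hdx)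
    rwa [hi] at this
  have hC : (k * c * k⁻¹) * c⁻¹ ∈ seg X i (m - 2) := by
    have e : i + ((m - 2 : ℕ) : ZMod (2 * m)) = i - 1 + (((m - 2) + 1 : ℕ) : ZMod (2 * m)) := by
      rw [Nat.cast_add, hm2]; push_cast; ring
    rw [e] at hc
    have h5 := S.comm (i - 1) (m - 2) (by omega) k hk c hc
    rw [commutatorElement_def, hi] at h5
    exact h5
  have h7 : (muMap X (i + ((m - 1 : ℕ) : ZMod (2 * m))) x * a *
      (muMap X (i + ((m - 1 : ℕ) : ZMod (2 * m))) x)⁻¹) * c⁻¹ ∈ seg X i (m - 2) := by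
    rw [e2]
    have e8 : k * (a * d * c) * k⁻¹ * c⁻¹ = (k * (a * d) * k⁻¹) * ((k * c * k⁻¹) * c⁻¹) := by group
    rw [e8]
    exact mul_mem hL hC
  have h9 := S.inter_right (k := m - 2) i (by omega) _ (mul_mem hmem (inv_mem hc)) h7
  exact mul_inv_eq_one.mp h9

end Sys

/-! ## The mirrored system `j ↦ X (-j)` -/

theorem seg_neg (X : ZMod (2 * m) → Subgroup G) (i : ZMod (2 * m)) (k : ℕ) :
    seg (fun j => X (-j)) i k = seg X (-i - (k : ℕ) + 1) k := by
  apply le_antisymm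
  · refine seg_le fun r hr => ?_
    have e : -(i + (r : ℕ)) = -i - (k : ℕ) + 1 + ((k - 1 - r : ℕ) : ZMod (2 * m)) := by
      have h1 : k = (k - 1 - r) + 1 + r := by omega
      conv_rhs => rw [h1]
      have h2 : k - 1 - r + 1 + r - 1 - r = k - 1 - r := by omega
      rw [h2]
      push_cast; ring
    change X (-(i + (r : ℕ))) ≤ _
    rw [e]
    exact le_seg X _ (by omega)
  · refine seg_le fun r hr => ?_
    have e : -i - (k : ℕ) + 1 + (r : ℕ) = -(i + ((k - 1 - r : ℕ) : ZMod (2 * m))) := by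
      have h1 : k = (k - 1 - r) + 1 + r := by omega
      conv_lhs => rw [h1]
      push_cast; ring
    rw [e]
    exact le_seg (fun j => X (-j)) i (k := k) (r := k - 1 - r) (by omega)

theorem neg_m (m : ℕ) : -(m : ZMod (2 * m)) = m := by
  rw [neg_eq_iff_add_eq_zero]; exact two_m_cast m

theorem Refl.neg {X : ZMod (2 * m) → Subgroup G} {i : ZMod (2 * m)} {n : G} (h : Refl X (-i) n) :
    Refl (fun j => X (-j)) i n := by
  intro j x
  have h1 := h (-j) x
  have e : 2 * -i + (m : ℕ) - -j = -(2 * i + (m : ℕ) - j) := by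
    have := neg_m m
    calc 2 * -i + (m : ZMod (2 * m)) - -j = -(2 * i + -(m : ZMod (2 * m)) - j) := by ring
      _ = -(2 * i + (m : ℕ) - j) := by rw [this]
  rw [e] at h1
  exact h1

theorem IsMu.neg {X : ZMod (2 * m) → Subgroup G} {i : ZMod (2 * m)} {u v w : G} (h : IsMu X (-i) u v w) :
    IsMu (fun j => X (-j)) i u v w := by
  have e : -i + (m : ZMod (2 * m)) = -(i + (m : ℕ)) := by
    rw [neg_add, neg_m]
  obtain ⟨h1, h2, h3⟩ := h
  rw [e] at h1 h2
  exact ⟨h1, h2, h3.neg⟩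

theorem Sys.neg {X : ZMod (2 * m) → Subgroup G} (S : Sys m X) : Sys m (fun j => X (-j)) where
  three_le := S.three_le
  ne_bot := fun i => S.ne_bot (-i)
  comm := by
    intro i k hk a ha b hb
    change a ∈ X (-i) at ha
    change b ∈ X (-(i + ((k + 1 : ℕ) : ZMod (2 * m)))) at hb
    rw [seg_neg]
    have e1 : -i = -(i + ((k + 1 : ℕ) : ZMod (2 * m))) + ((k + 1 : ℕ) : ZMod (2 * m)) := by ring
    rw [e1] at ha
    have h := S.comm _ k hk b hb a ha
    have e2 : -(i + ((k + 1 : ℕ) : ZMod (2 * m))) + 1 = -(i + 1) - (k : ℕ) + 1 := by push_cast; ring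
    rw [e2] at h
    rw [← commutatorElement_inv]
    exact inv_mem h
  inter := by
    intro i x hx hx'
    change x ∈ X (-i) at hx
    rw [seg_neg] at hx'
    have hm := S.three_le
    have e1 : -i = (-(i + 1) - ((m - 1 : ℕ) : ZMod (2 * m)) + 1) + ((m - 1 : ℕ) : ZMod (2 * m)) := by ring
    rw [e1] at hx
    exact S.inter_right _ (by omega) x hx hx'
  mu := by
    intro i u hu hu1
    obtain ⟨v, w, h⟩ := S.exists_isMu (i := -i) hu hu1
    obtain ⟨h1, h2, h3⟩ := h.neg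
    exact ⟨v, h1, w, h2, h3⟩

theorem Sys.muMap_neg {X : ZMod (2 * m) → Subgroup G} (S : Sys m X) {i : ZMod (2 * m)} {u : G}
    (hu : u ∈ X (-i)) (hu1 : u ≠ 1) : muMap (fun j => X (-j)) i u = muMap X (-i) u :=
  S.neg.muMap_eq hu hu1 (S.isMu hu hu1).neg

/-! ## `RootSys` gives `Sys` -/

theorem iSup_Ioo_eq_seg (X : ZMod (2 * m) → Subgroup G) (i : ZMod (2 * m)) (k : ℕ) :
    (⨆ r ∈ Set.Ioo 0 (k + 1), X (i + ((r : ℕ) : ZMod (2 * m)))) = seg X (i + 1) k := by
  apply le_antisymm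
  · refine iSup₂_le fun r hr => ?_
    obtain ⟨h1, h2⟩ := hr
    have e : i + (r : ℕ) = i + 1 + ((r - 1 : ℕ) : ZMod (2 * m)) := by
      have h3 : r = (r - 1) + 1 := by omega
      conv_lhs => rw [h3]
      push_cast; ring
    rw [e]
    exact le_seg X _ (by omega)
  · refine seg_le fun r hr => ?_
    have e : i + 1 + (r : ℕ) = i + ((r + 1 : ℕ) : ZMod (2 * m)) := by push_cast; ring
    rw [e]
    exact le_iSup₂_of_le (r + 1) ⟨by omega, by omega⟩ le_rfl

theorem RootSys.toSys {G : Type u} [Group G] (R : RootSys m G) : Sys m R.X where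
  three_le := R.two_lt
  ne_bot := R.ne_bot
  comm := by
    intro i k hk a ha b hb
    have h := R.comm i (k + 1) (by omega) hk
    rw [iSup_Ioo_eq_seg] at h
    exact h (Subgroup.commutator_mem_commutator ha hb)
  inter := by
    intro i x hx hx'
    have h := R.inter i
    have e : m = (m - 1) + 1 := by have := R.two_lt; omega
    have e2 : (⨆ r ∈ Set.Ioo 0 m, R.X (i + ((r : ℕ) : ZMod (2 * m)))) = seg R.X (i + 1) (m - 1) := by
      rw [← iSup_Ioo_eq_seg R.X i (m - 1)]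
      have e3 : Set.Ioo 0 (m - 1 + 1) = Set.Ioo 0 m := by rw [← e]
      rw [e3]
    rw [e2] at h
    exact (Subgroup.mem_bot.mp (h ▸ ⟨hx, hx'⟩ : x ∈ (⊥ : Subgroup G)))
  mu := R.mu

end Cfsg.Agent.SplitTwo
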