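import Mathlib
import Cfsg.Agent.SplitTwo.MuMaps

/-!
# Moufang hexagons, `m = 6` (S1144): the interfaces

* `Hex X` : output of the structure part ([6a], [6b]): the even root groups are "central".
* `CubicSys F J` : cubic norm structure, input of the algebra part ([6d]).
* `Cubic σ ...` : the standard cubic system of a field `E` with an automorphism of order dividing three.
* `HexRel` : the positive relations (Tits-Weiss 16.8) in coordinates.
-/

set_option autoImplicit false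

namespace Cfsg.Agent.SplitTwo

open scoped commutatorElement

universe u

/-- Structure theorem for a Moufang hexagon, after a possible shift of the indices by one. -/
structure Hex {G : Type u} [Group G] (X : ZMod (2 * 6) → Subgroup G) : Prop where
  sys : Sys 6 X
  /-- even root groups commute with everything at distance `≤ 3` -/
  even_right : ∀ (i : ZMod (2 * 6)) (k : ℕ), k ≤ 3 → ∀ a ∈ X (2 * i), ∀ b ∈ X (2 * i + k), a * b = b * a
  even_left : ∀ (i : ZMod (2 * 6)) (k : ℕ), k ≤ 3 → ∀ a ∈ X (2 * i), ∀ b ∈ X (2 * i - k), a * b = b * a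
  /-- `[X 2, X 6] ≤ X 4` and its conjugates -/
  even_four : ∀ (i : ZMod (2 * 6)), ∀ a ∈ X (2 * i), ∀ b ∈ X (2 * i + 4), ⁅a, b⁆ ∈ X (2 * i + 2)
  /-- odd root groups are abelian -/
  odd_comm : ∀ (i : ZMod (2 * 6)), ∀ a ∈ X (2 * i + 1), ∀ b ∈ X (2 * i + 1), a * b = b * a

/-- Cubic norm structure over `F` (Tits-Weiss 15.15, the part needed here), anisotropic. -/
structure CubicSys (F J : Type*) [Field F] [AddCommGroup J] [Module F J] where
  one : J
  N : J → F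
  sh : J → J
  T : J →ₗ[F] J →ₗ[F] F
  cr : J →ₗ[F] J →ₗ[F] J
  T_symm : ∀ a b, T a b = T b a
  cr_symm : ∀ a b, cr a b = cr b a
  T_cr : ∀ a b c, T (cr a b) c = T a (cr b c)
  sh_smul : ∀ (t : F) a, sh (t • a) = t ^ 2 • sh a
  sh_add : ∀ a b, sh (a + b) = sh a + sh b + cr a b
  N_smul : ∀ (t : F) a, N (t • a) = t ^ 3 * N a
  N_add : ∀ a b, N (a + b) = N a + N b + T (sh a) b + T a (sh b)
  sh_sh : ∀ a, sh (sh a) = N a • a
  sh_one : sh one = one
  one_ne : one ≠ 0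
  cr_one : ∀ a, cr one a = T a one • one - a
  N_ne : ∀ a, a ≠ 0 → N a ≠ 0

/-! ## The standard cubic systems -/

section Std

variable {E : Type*} [Field E] (σ : E ≃+* E)

/-- the norm -/
def nrm (a : E) : E := a * σ a * σ (σ a)

/-- the adjoint `a^#` -/
def shp (a : E) : E := σ a * σ (σ a)

/-- the trace form -/
def trc (a b : E) : E := a * b + σ (a * b) + σ (σ (a * b))

/-- the cross product -/
def crs (a b : E) : E := σ a * σ (σ b) + σ (σ a) * σ b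

end Std

/-- `[a, b] = a⁻¹ b⁻¹ a b` (Tits-Weiss convention). -/
def kk {G : Type*} [Group G] (a b : G) : G := a⁻¹ * b⁻¹ * a * b

/-- **Positive relations of a hexagonal root system** over `E`, `σ³ = 1`, in Tits-Weiss form
(16.8), with `[a, b] = a⁻¹ b⁻¹ a b`. The even root groups are parametrised by the elements `t` of `E` with
`σ t = t`; the maps `x2, x4, x6` are only evaluated there. -/
structure HexRel {E : Type*} [Field E] (σ : E ≃+* E) {G : Type*} [Group G]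
    (x1 x2 x3 x4 x5 x6 : E → G) : Prop where
  cube : ∀ a, σ (σ (σ a)) = a
  add1 : ∀ a b, x1 (a + b) = x1 a * x1 b
  add2 : ∀ a b, σ a = a → σ b = b → x2 (a + b) = x2 a * x2 b
  add3 : ∀ a b, x3 (a + b) = x3 a * x3 b
  add4 : ∀ a b, σ a = a → σ b = b → x4 (a + b) = x4 a * x4 b
  add5 : ∀ a b, x5 (a + b) = x5 a * x5 b
  add6 : ∀ a b, σ a = a → σ b = b → x6 (a + b) = x6 a * x6 b
  c12 : ∀ a t, σ t = t → kk (x1 a) (x2 t) = 1
  c13 : ∀ a b, kk (x1 a) (x3 b) = x2 (trc σ a b)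
  c14 : ∀ a t, σ t = t → kk (x1 a) (x4 t) = 1
  c15 : ∀ a b, kk (x1 a) (x5 b) = x2 (-(trc σ (shp σ a) b)) * x3 (crs σ a b) * x4 (trc σ a (shp σ b))
  c16 : ∀ a t, σ t = t → kk (x1 a) (x6 t) =
    x2 (-(t * nrm σ a)) * x3 (t * shp σ a) * x4 (t ^ 2 * nrm σ a) * x5 (-(t * a))
  c23 : ∀ t a, σ t = t → kk (x2 t) (x3 a) = 1
  c24 : ∀ t u, σ t = t → σ u = u → kk (x2 t) (x4 u) = 1
  c25 : ∀ t a, σ t = t → kk (x2 t) (x5 a) = 1
  c26 : ∀ t u, σ t = t → σ u = u → kk (x2 t) (x6 u) = x4 (t * u)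
  c34 : ∀ a t, σ t = t → kk (x3 a) (x4 t) = 1
  c35 : ∀ a b, kk (x3 a) (x5 b) = x4 (trc σ a b)
  c36 : ∀ a t, σ t = t → kk (x3 a) (x6 t) = 1
  c45 : ∀ t a, σ t = t → kk (x4 t) (x5 a) = 1
  c46 : ∀ t u, σ t = t → σ u = u → kk (x4 t) (x6 u) = 1
  c56 : ∀ a t, σ t = t → kk (x5 a) (x6 t) = 1

/-- The parametrisations are bijections onto the root groups `X 1, …, X 6`. -/
structure HexPar {E : Type*} [Field E] (σ : E ≃+* E) {G : Type*} [Group G]
    (X : ZMod (2 * 6) → Subgroup G) (x1 x2 x3 x4 x5 x6 : E → G) : Prop where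
  rel : HexRel σ x1 x2 x3 x4 x5 x6
  inj1 : ∀ a b, x1 a = x1 b → a = b
  inj2 : ∀ a b, σ a = a → σ b = b → x2 a = x2 b → a = b
  inj3 : ∀ a b, x3 a = x3 b → a = b
  inj4 : ∀ a b, σ a = a → σ b = b → x4 a = x4 b → a = b
  inj5 : ∀ a b, x5 a = x5 b → a = b
  inj6 : ∀ a b, σ a = a → σ b = b → x6 a = x6 b → a = b
  mem1 : ∀ g, g ∈ X 1 ↔ ∃ a, x1 a = g
  mem2 : ∀ g, g ∈ X 2 ↔ ∃ a, σ a = a ∧ x2 a = g
  mem3 : ∀ g, g ∈ X 3 ↔ ∃ a, x3 a = g
  mem4 : ∀ g, g ∈ X 4 ↔ ∃ a, σ a = a ∧ x4 a = g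
  mem5 : ∀ g, g ∈ X 5 ↔ ∃ a, x5 a = g
  mem6 : ∀ g, g ∈ X 6 ↔ ∃ a, σ a = a ∧ x6 a = g

end Cfsg.Agent.SplitTwo
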