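import Cfsg.Agent.SplitTwo.RootSys
import Cfsg.Agent.TitsThree.RankTwoZ

/-!
S1144: a root group system of rank two (`RootSys m G`) is a root datum `RGDZ m G`, hence gives `R2 m G` and
`Core m G` (Bruhat decomposition, maximality of `D`).
-/

set_option autoImplicit false

namespace Cfsg.Agent.SplitTwo.RootSysZ

open Cfsg.Agent.SplitTwo Cfsg.Agent.TitsThree.RankTwoZ Cfsg.Agent.TitsThree.RankTwoIdx
  Cfsg.Agent.TitsThree.RankTwoRGD
open scoped commutatorElement

universe u

variable {m : ℕ} {G : Type u} [Group G]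

theorem two_m' : (m : ZMod (2 * m)) + m = 0 := by
  have := ZMod.natCast_self (2 * m)
  push_cast at this
  rw [← two_mul]
  exact this

/-- The root datum of a root group system. -/
def rgdz (R : RootSys m G) : RGDZ m G where
  X := R.X
  one_le := by have := R.two_lt; omega
  comm := by
    intro k l hk hkl hl x hx y hy
    have h1 := R.comm (k : ZMod (2 * m)) (l - k) (by omega) (by omega)
    have e : (k : ZMod (2 * m)) + ((l - k : ℕ) : ZMod (2 * m)) = (l : ZMod (2 * m)) := by
      rw [← Nat.cast_add]; congr 1; omega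
    rw [e] at h1
    have h2 := h1 (Subgroup.commutator_mem_commutator hx hy)
    refine (iSup₂_le ?_ : (⨆ r ∈ Set.Ioo 0 (l - k), R.X ((k : ZMod (2 * m)) + ((r : ℕ) : ZMod (2 * m)))) ≤ _) h2
    intro r hr
    have e2 : (k : ZMod (2 * m)) + ((r : ℕ) : ZMod (2 * m)) = ((k + r : ℕ) : ZMod (2 * m)) := by
      rw [← Nat.cast_add]
    rw [e2]
    exact le_iSup₂_of_le (f := fun (r : ℕ) (_ : r ∈ Set.Ioo k l) => R.X ((r : ℕ) : ZMod (2 * m)))
      (k + r) ⟨by have := hr.1; omega, by have := hr.2; omega⟩ le_rfl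
  muI := by
    intro a ha h1
    obtain ⟨v, hv, v', hv', h⟩ := R.mu _ a ha h1
    have e : (m : ZMod (2 * m)) + 1 + m = 1 := by
      have := two_m' (m := m)
      linear_combination this
    rw [e] at hv hv'
    refine ⟨v, hv, v', hv', fun k x => ?_⟩
    have e2 : (m : ZMod (2 * m)) + 2 - k = 2 * (m + 1) + m - k := by
      have := two_m' (m := m)
      linear_combination -this
    change _ ∈ R.X ((m : ZMod (2 * m)) + 2 - k) ↔ _
    rw [e2]
    exact h k x
  muJ := by
    intro a ha h1
    obtain ⟨v, hv, v', hv', h⟩ := R.mu _ a ha h1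
    rw [zero_add] at hv hv'
    refine ⟨v, hv, v', hv', fun k x => ?_⟩
    have e2 : (m : ZMod (2 * m)) - k = 2 * 0 + m - k := by ring
    change _ ∈ R.X ((m : ZMod (2 * m)) - k) ↔ _
    rw [e2]
    exact h k x
  neI := R.ne_bot _
  neJ := R.ne_bot _

theorem rgdz_X (R : RootSys m G) : (rgdz R).X = R.X := rfl

/-- The core of a root group system is the whole group. -/
theorem core_G_eq_top (R : RootSys m G) : (rgdz R).core.G = ⊤ := by
  rw [eq_top_iff, ← R.gen]
  exact iSup_le fun k => (rgdz R).X_le_G k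

end Cfsg.Agent.SplitTwo.RootSysZ
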