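import Mathlib
import Cfsg.Agent.SplitTwo.RootSys

/-!
# Root group systems of rank two, indexed by `ℤ` (S1144)

`ZSys m X`: `X : ℤ → Subgroup G` with period `2 m`; `J X a b = ⟨X a, …, X b⟩`.  All side conditions are linear
arithmetic over `ℤ` (`omega`).  Contains the commuting lemma `comm_top` and `opp_comm` for every even `m`.
-/

set_option autoImplicit false

namespace Cfsg.Agent.SplitTwo.ZS

open scoped commutatorElement

universe u

variable {G : Type u} [Group G]

/-- the subgroup generated by `X a, …, X b` -/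
def J (X : ℤ → Subgroup G) (a b : ℤ) : Subgroup G := ⨆ r ∈ Set.Icc a b, X r

variable {X : ℤ → Subgroup G}

theorem X_le_J {k a b : ℤ} (h1 : a ≤ k) (h2 : k ≤ b) : X k ≤ J X a b := le_iSup₂_of_le k ⟨h1, h2⟩ le_rfl

theorem mem_J {k a b : ℤ} {x : G} (hx : x ∈ X k) (h1 : a ≤ k) (h2 : k ≤ b) : x ∈ J X a b := X_le_J h1 h2 hx

theorem J_le {a b : ℤ} {K : Subgroup G} (h : ∀ k, a ≤ k → k ≤ b → X k ≤ K) : J X a b ≤ K :=
  iSup₂_le fun k hk => h k hk.1 hk.2

theorem J_mono {a b c d : ℤ} (h1 : c ≤ a) (h2 : b ≤ d) : J X a b ≤ J X c d :=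
  J_le fun k hk1 hk2 => X_le_J (by omega) (by omega)

theorem J_empty {a b : ℤ} (h : b < a) : J X a b = ⊥ := eq_bot_iff.2 (J_le fun k h1 h2 => by omega)

theorem eq_one_of_J {a b : ℤ} {x : G} (hx : x ∈ J X a b) (h : b < a) : x = 1 := by
  rw [J_empty h] at hx
  exact Subgroup.mem_bot.1 hx

theorem J_self (a : ℤ) : J X a a = X a :=
  le_antisymm (J_le fun k h1 h2 => by rw [show k = a by omega]) (X_le_J le_rfl le_rfl)

theorem mem_of_J_self {a b : ℤ} {x : G} (hx : x ∈ J X a b) (h : b ≤ a) : x ∈ X a := by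
  rcases lt_or_eq_of_le h with h1 | h1
  · rw [eq_one_of_J hx h1]; exact one_mem _
  · rw [h1, J_self] at hx; exact hx

/-- `n` acts as `j ↦ c - j` -/
def Refl (X : ℤ → Subgroup G) (c : ℤ) (n : G) : Prop := ∀ j x, x ∈ X j ↔ n * x * n⁻¹ ∈ X (c - j)

namespace Refl

variable {c : ℤ} {n : G}

theorem inv (h : Refl X c n) : Refl X c n⁻¹ := by
  intro j x
  rw [h (c - j) (n⁻¹ * x * n⁻¹⁻¹), show c - (c - j) = j by ring,
    show n * (n⁻¹ * x * n⁻¹⁻¹) * n⁻¹ = x by group]

theorem mem (h : Refl X c n) {j : ℤ} {x : G} (hx : x ∈ X j) : n * x * n⁻¹ ∈ X (c - j) := (h j x).1 hx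

theorem mem' (h : Refl X c n) {j k : ℤ} {x : G} (hx : x ∈ X j) (hk : k = c - j) : n * x * n⁻¹ ∈ X k := by
  rw [hk]; exact h.mem hx

theorem mem_inv (h : Refl X c n) {j k : ℤ} {x : G} (hx : x ∈ X j) (hk : k = c - j) : n⁻¹ * x * n ∈ X k := by
  have := h.inv.mem' hx hk
  rwa [inv_inv] at this

theorem mem_J (h : Refl X c n) {a b a' b' : ℤ} {x : G} (hx : x ∈ J X a b) (ha : a' ≤ c - b) (hb : c - a ≤ b') :
    n * x * n⁻¹ ∈ J X a' b' := by
  have : J X a b ≤ (J X a' b').comap (MulAut.conj n).toMonoidHom := by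
    refine J_le fun k h1 h2 y hy => ?_
    exact ZS.mem_J (h.mem hy) (by omega) (by omega)
  exact this hx

theorem mem_J_inv (h : Refl X c n) {a b a' b' : ℤ} {x : G} (hx : x ∈ J X a b) (ha : a' ≤ c - b) (hb : c - a ≤ b') :
    n⁻¹ * x * n ∈ J X a' b' := by
  have := h.inv.mem_J hx ha hb
  rwa [inv_inv] at this

end Refl

/-- root groups of a Moufang `m`-gon -/
structure ZSys (m : ℤ) (X : ℤ → Subgroup G) : Prop where
  two_lt : 2 < m
  per : ∀ k, X (k + 2 * m) = X k
  ne_bot : ∀ k, X k ≠ ⊥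
  comm : ∀ k l, k < l → l < k + m → ∀ x ∈ X k, ∀ y ∈ X l, ⁅x, y⁆ ∈ J X (k + 1) (l - 1)
  inter : ∀ k, ∀ x ∈ X k, x ∈ J X (k + 1) (k + m - 1) → x = 1
  mu : ∀ i, ∀ u ∈ X i, u ≠ 1 → ∃ v ∈ X (i - m), ∃ v' ∈ X (i - m), Refl X (2 * i - m) (v * u * v')

/-- product decomposition -/
theorem mem_sup_of_norm {A B : Subgroup G} (h : ∀ a ∈ A, ∀ b ∈ B, a * b * a⁻¹ ∈ B) {x : G} (hx : x ∈ A ⊔ B) :
    ∃ a ∈ A, ∃ b ∈ B, x = a * b := by
  let K : Subgroup G :=
    { carrier := {x | ∃ a ∈ A, ∃ b ∈ B, x = a * b}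
      one_mem' := ⟨1, one_mem _, 1, one_mem _, by simp⟩
      mul_mem' := by
        rintro _ _ ⟨a, ha, b, hb, rfl⟩ ⟨a', ha', b', hb', rfl⟩
        refine ⟨a * a', mul_mem ha ha', (a'⁻¹ * b * a') * b', mul_mem ?_ hb', by group⟩
        have := h a'⁻¹ (inv_mem ha') b hb
        rwa [inv_inv] at this
      inv_mem' := by
        rintro _ ⟨a, ha, b, hb, rfl⟩
        exact ⟨a⁻¹, inv_mem ha, a * b⁻¹ * a⁻¹, h a ha _ (inv_mem hb), by group⟩ }
  have : A ⊔ B ≤ K := sup_le (fun a ha => ⟨a, ha, 1, one_mem _, by simp⟩) fun b hb => ⟨1, one_mem _, b, hb, by simp⟩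
  exact this hx

namespace ZSys

variable {m : ℤ} (S : ZSys m X)
include S

theorem exists_ne (k : ℤ) : ∃ x ∈ X k, x ≠ 1 := (X k).bot_or_exists_ne_one.resolve_left (S.ne_bot k)

theorem comm' {k l : ℤ} (h1 : l < k) (h2 : k < l + m) {x y : G} (hx : x ∈ X k) (hy : y ∈ X l) :
    ⁅x, y⁆ ∈ J X (l + 1) (k - 1) := by
  rw [← commutatorElement_inv]
  exact inv_mem (S.comm l k h1 h2 y hy x hx)

theorem commute_succ {k : ℤ} {x y : G} (hx : x ∈ X k) (hy : y ∈ X (k + 1)) : x * y = y * x := by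
  have := S.comm k (k + 1) (by omega) (by have := S.two_lt; omega) x hx y hy
  exact commutatorElement_eq_one_iff_mul_comm.1 (eq_one_of_J this (by omega))

theorem per' (k : ℤ) : X (k - 2 * m) = X k := by
  have := S.per (k - 2 * m)
  rw [show k - 2 * m + 2 * m = k by ring] at this
  exact this.symm

theorem exists_refl (i : ℤ) : ∃ n, Refl X (2 * i - m) n := by
  obtain ⟨u, hu, hu1⟩ := S.exists_ne i
  obtain ⟨v, -, v', -, h⟩ := S.mu i u hu hu1
  exact ⟨_, h⟩

/-- conjugation by elements of `X k`, `a - 1 ≤ k ≤ b + 1`, preserves `J a b` -/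
theorem conj_X {a b k : ℤ} (hab : b < a + m - 1) (h1 : a - 1 ≤ k) (h2 : k ≤ b + 1) {x y : G} (hx : x ∈ X k)
    (hy : y ∈ J X a b) : x * y * x⁻¹ ∈ J X a b := by
  rcases lt_or_ge k a with hk | hk
  · have hk' : k = a - 1 := by omega
    subst hk'
    have : J X a b ≤ (J X a b).comap (MulAut.conj x).toMonoidHom := by
      refine J_le fun l hl1 hl2 z hz => ?_
      show x * z * x⁻¹ ∈ J X a b
      have h3 := S.comm (a - 1) l (by omega) (by omega) x hx z hz
      have e : x * z * x⁻¹ = ⁅x, z⁆ * z := by rw [commutatorElement_def]; group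
      rw [e]
      exact mul_mem (J_mono (by omega) (by omega) h3) (mem_J hz hl1 hl2)
    exact this hy
  · rcases lt_or_ge b k with hk' | hk'
    · have hk'' : k = b + 1 := by omega
      subst hk''
      have : J X a b ≤ (J X a b).comap (MulAut.conj x).toMonoidHom := by
        refine J_le fun l hl1 hl2 z hz => ?_
        show x * z * x⁻¹ ∈ J X a b
        have h3 := S.comm' (k := b + 1) (l := l) (by omega) (by omega) hx hz
        have e : x * z * x⁻¹ = ⁅x, z⁆ * z := by rw [commutatorElement_def]; group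
        rw [e]
        exact mul_mem (J_mono (by omega) (by omega) h3) (mem_J hz hl1 hl2)
      exact this hy
    · exact mul_mem (mul_mem (mem_J hx hk hk') hy) (inv_mem (mem_J hx hk hk'))

theorem le_normalizer {a b : ℤ} (hab : b < a + m - 1) :
    J X (a - 1) (b + 1) ≤ Subgroup.normalizer (J X a b : Set G) := by
  refine J_le fun k h1 h2 x hx => ?_
  rw [Subgroup.mem_normalizer_iff]
  intro y
  refine ⟨fun hy => S.conj_X hab h1 h2 hx hy, fun hy => ?_⟩
  have := S.conj_X hab h1 h2 (inv_mem hx) hy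
  have e : x⁻¹ * (x * y * x⁻¹) * x⁻¹⁻¹ = y := by group
  rwa [e] at this

/-- conjugation inside the normaliser -/
theorem conj_J {a b c d : ℤ} (hab : b < a + m - 1) (h1 : a - 1 ≤ c) (h2 : d ≤ b + 1) {x y : G} (hx : x ∈ J X c d)
    (hy : y ∈ J X a b) : x * y * x⁻¹ ∈ J X a b :=
  (Subgroup.mem_normalizer_iff.1 (S.le_normalizer hab (J_mono h1 h2 hx)) y).1 hy

theorem split_ll {a b : ℤ} (hab : a ≤ b) (hb : b < a + m) {y : G} (hy : y ∈ J X a b) :
    ∃ x ∈ X a, ∃ y' ∈ J X (a + 1) b, y = x * y' := by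
  refine mem_sup_of_norm (fun x hx z hz => S.conj_X (k := a) (by omega) (by omega) (by omega) hx hz) ?_
  have : J X a b ≤ X a ⊔ J X (a + 1) b := by
    refine J_le fun k h1 h2 => ?_
    rcases eq_or_lt_of_le h1 with h3 | h3
    · rw [← h3]; exact le_sup_left
    · exact (X_le_J (by omega) h2).trans le_sup_right
  exact this hy

theorem split_rl {a b : ℤ} (hab : a ≤ b) (hb : b < a + m) {y : G} (hy : y ∈ J X a b) :
    ∃ x ∈ X b, ∃ y' ∈ J X a (b - 1), y = x * y' := by
  refine mem_sup_of_norm (fun x hx z hz => S.conj_X (k := b) (by omega) (by omega) (by omega) hx hz) ?_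
  have : J X a b ≤ X b ⊔ J X a (b - 1) := by
    refine J_le fun k h1 h2 => ?_
    rcases eq_or_lt_of_le h2 with h3 | h3
    · rw [h3]; exact le_sup_left
    · exact (X_le_J h1 (by omega)).trans le_sup_right
  exact this hy

theorem split_lr {a b : ℤ} (hab : a ≤ b) (hb : b < a + m) {y : G} (hy : y ∈ J X a b) :
    ∃ y' ∈ J X (a + 1) b, ∃ x ∈ X a, y = y' * x := by
  obtain ⟨x, hx, y', hy', e⟩ := S.split_ll hab hb (inv_mem hy)
  exact ⟨y'⁻¹, inv_mem hy', x⁻¹, inv_mem hx, by rw [← mul_inv_rev, ← e, inv_inv]⟩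

theorem split_rr {a b : ℤ} (hab : a ≤ b) (hb : b < a + m) {y : G} (hy : y ∈ J X a b) :
    ∃ y' ∈ J X a (b - 1), ∃ x ∈ X b, y = y' * x := by
  obtain ⟨x, hx, y', hy', e⟩ := S.split_rl hab hb (inv_mem hy)
  exact ⟨y'⁻¹, inv_mem hy', x⁻¹, inv_mem hx, by rw [← mul_inv_rev, ← e, inv_inv]⟩

/-- `J a b = J a (c-1) · J c b` -/
theorem split {a b c : ℤ} (h1 : a ≤ c) (h2 : c ≤ b + 1) (hb : b < a + m) {y : G} (hy : y ∈ J X a b) :
    ∃ p ∈ J X a (c - 1), ∃ q ∈ J X c b, y = p * q := by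
  obtain ⟨n, hn⟩ := Int.le.dest h1
  induction n generalizing a y with
  | zero =>
    have : a = c := by simpa using hn
    subst this
    exact ⟨1, one_mem _, y, hy, by simp⟩
  | succ n ih =>
    push_cast at hn
    obtain ⟨x, hx, y', hy', rfl⟩ := S.split_ll (by omega) hb hy
    obtain ⟨p, hp, q, hq, rfl⟩ := ih (a := a + 1) (by omega) (by omega) hy' (by omega)
    exact ⟨x * p, mul_mem (mem_J hx le_rfl (by omega)) (J_mono (by omega) le_rfl hp), q, hq, by group⟩

/-- `J a b = J c b · J a (c-1)` -/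
theorem split' {a b c : ℤ} (h1 : a ≤ c) (h2 : c ≤ b + 1) (hb : b < a + m) {y : G} (hy : y ∈ J X a b) :
    ∃ q ∈ J X c b, ∃ p ∈ J X a (c - 1), y = q * p := by
  obtain ⟨p, hp, q, hq, e⟩ := S.split h1 h2 hb (inv_mem hy)
  exact ⟨q⁻¹, inv_mem hq, p⁻¹, inv_mem hp, by rw [← mul_inv_rev, ← e, inv_inv]⟩

theorem inter' {k : ℤ} {x : G} (hx : x ∈ X k) (hx' : x ∈ J X (k - m + 1) (k - 1)) : x = 1 := by
  obtain ⟨n, hn⟩ := S.exists_refl 0
  have h1 := hn.mem hx
  have h2 := hn.mem_J hx' (a' := 2 * 0 - m - k + 1) (b' := 2 * 0 - m - k + m - 1) (by omega) (by omega)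
  have h3 := S.inter _ _ h1 h2
  calc x = n⁻¹ * (n * x * n⁻¹) * n := by group
    _ = 1 := by rw [h3]; group

theorem inter_left {a b : ℤ} (hb : b < a + m) {x : G} (hx : x ∈ J X a b) (hx' : x ∈ J X (a + 1) (a + m - 1)) :
    x ∈ J X (a + 1) b := by
  rcases lt_or_ge b a with h | h
  · rw [eq_one_of_J hx h]; exact one_mem _
  · obtain ⟨y, hy, z, hz, rfl⟩ := S.split_ll h hb hx
    have h1 : y ∈ J X (a + 1) (a + m - 1) := by
      have e : y = (y * z) * z⁻¹ := by group
      rw [e]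
      exact mul_mem hx' (inv_mem (J_mono le_rfl (by omega) hz))
    rw [S.inter a y hy h1, one_mul]
    exact hz

theorem inter_right {a b : ℤ} (hb : b < a + m) {x : G} (hx : x ∈ J X a b) (hx' : x ∈ J X (b - m + 1) (b - 1)) :
    x ∈ J X a (b - 1) := by
  rcases lt_or_ge b a with h | h
  · rw [eq_one_of_J hx h]; exact one_mem _
  · obtain ⟨y, hy, z, hz, rfl⟩ := S.split_rl h hb hx
    have h1 : y ∈ J X (b - m + 1) (b - 1) := by
      have e : y = (y * z) * z⁻¹ := by group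
      rw [e]
      exact mul_mem hx' (inv_mem (J_mono (by omega) le_rfl hz))
    rw [S.inter' hy h1, one_mul]
    exact hz

/-- intersections of intervals inside a window of length `m` -/
theorem inter_J {a b c d e f : ℤ} (s : ℤ) {x : G} (hx : x ∈ J X a b) (hx' : x ∈ J X c d)
    (h1 : s ≤ a) (h2 : b < s + m) (h3 : s ≤ c) (h4 : d < s + m) (he : e ≤ a ∨ e ≤ c) (hf : b ≤ f ∨ d ≤ f) :
    x ∈ J X e f := by
  -- first move the left end
  have key1 : ∀ n : ℕ, ∀ a, s ≤ a → b < s + m → x ∈ J X a b → c ≤ a + n → ∃ a', a ≤ a' ∧ c ≤ a' ∧ x ∈ J X a' b := by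
    intro n
    induction n with
    | zero => intro a h1 h2 hx h; exact ⟨a, le_rfl, by simpa using h, hx⟩
    | succ n ih =>
      intro a h1 h2 hx h
      by_cases hac : c ≤ a
      · exact ⟨a, le_rfl, hac, hx⟩
      · push_cast at h
        have h5 := S.inter_left (by omega) hx (J_mono (by omega) (by omega) hx')
        obtain ⟨a', h6, h7, h8⟩ := ih (a + 1) (by omega) h2 h5 (by omega)
        exact ⟨a', by omega, h7, h8⟩
  obtain ⟨a', h5, h6, h7⟩ := key1 (c - a).toNat a h1 h2 hx (by omega)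
  have key2 : ∀ n : ℕ, ∀ b, b < s + m → x ∈ J X a' b → b ≤ d + n → ∃ b', b' ≤ b ∧ b' ≤ d ∧ x ∈ J X a' b' := by
    intro n
    induction n with
    | zero => intro b h2 hx h; exact ⟨b, le_rfl, by simpa using h, hx⟩
    | succ n ih =>
      intro b h2 hx h
      by_cases hbd : b ≤ d
      · exact ⟨b, le_rfl, hbd, hx⟩
      · push_cast at h
        have h5 := S.inter_right (by omega) hx (J_mono (by omega) (by omega) hx')
        obtain ⟨b', h6, h7, h8⟩ := ih (b - 1) (by omega) h5 (by omega)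
        exact ⟨b', by omega, h7, h8⟩
  obtain ⟨b', h8, h9, h10⟩ := key2 (b - d).toNat b h2 h7 (by omega)
  exact J_mono (by omega) (by omega) h10

/-- disjoint intervals -/
theorem inter_one {a b c d : ℤ} (s : ℤ) {x : G} (hx : x ∈ J X a b) (hx' : x ∈ J X c d)
    (h1 : s ≤ a) (h2 : b < s + m) (h3 : s ≤ c) (h4 : d < s + m) (h : b < c ∨ d < a) : x = 1 := by
  rcases h with h | h
  · exact eq_one_of_J (S.inter_J s hx hx' h1 h2 h3 h4 (e := c) (f := b) (Or.inr le_rfl) (Or.inl le_rfl)) h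
  · exact eq_one_of_J (S.inter_J s hx hx' h1 h2 h3 h4 (e := a) (f := d) (Or.inl le_rfl) (Or.inr le_rfl)) h

/-- the reversed system -/
theorem rev (s : ℤ) : ZSys m fun k => X (s - k) := by
  have hJ : ∀ a b, J (fun k => X (s - k)) a b = J X (s - b) (s - a) := by
    intro a b
    apply le_antisymm
    · exact J_le fun k h1 h2 => X_le_J (by omega) (by omega)
    · refine J_le fun k h1 h2 => ?_
      have := X_le_J (X := fun k => X (s - k)) (k := s - k) (a := a) (b := b) (by omega) (by omega)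
      simpa using this
  refine ⟨S.two_lt, fun k => ?_, fun k => S.ne_bot _, ?_, ?_, ?_⟩
  · have := S.per' (s - k)
    rw [show s - k - 2 * m = s - (k + 2 * m) by ring] at this
    exact this
  · intro k l h1 h2 x hx y hy
    rw [hJ]
    exact J_mono (by omega) (by omega) (S.comm' (by omega) (by omega) hx hy)
  · intro k x hx hx'
    rw [hJ] at hx'
    exact S.inter' hx (J_mono (by omega) (by omega) hx')
  · intro i u hu hu1
    obtain ⟨v, hv, v', hv', hn⟩ := S.mu _ u hu hu1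
    have e : X (s - (i - m)) = X (s - i - m) := by
      have := S.per (s - i - m)
      rw [show s - i - m + 2 * m = s - (i - m) by ring] at this
      exact this
    refine ⟨v, by show v ∈ X (s - (i - m)); rw [e]; exact hv, v', by show v' ∈ X (s - (i - m)); rw [e]; exact hv', ?_⟩
    intro j x
    show x ∈ X (s - j) ↔ _ ∈ X (s - (2 * i - m - j))
    rw [hn (s - j) x]
    have := S.per (2 * (s - i) - m - (s - j))
    rw [show 2 * (s - i) - m - (s - j) + 2 * m = s - (2 * i - m - j) by ring] at this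
    rw [this]

omit S in
theorem J_rev (s a b : ℤ) : J (fun k => X (s - k)) a b = J X (s - b) (s - a) := by
  apply le_antisymm
  · exact J_le fun k h1 h2 => X_le_J (by omega) (by omega)
  · refine J_le fun k h1 h2 => ?_
    have := X_le_J (X := fun k => X (s - k)) (k := s - k) (a := a) (b := b) (by omega) (by omega)
    simpa using this

/-- the shifted system -/
theorem shift (s : ℤ) : ZSys m fun k => X (k + s) := by
  have h := (S.rev 0).rev (-s)
  have e : (fun k => X (0 - (-s - k))) = fun k => X (k + s) := by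
    funext k
    congr 1
    ring
  rw [e] at h
  exact h

omit S in
theorem J_shift (s a b : ℤ) : J (fun k => X (k + s)) a b = J X (a + s) (b + s) := by
  apply le_antisymm
  · exact J_le fun k h1 h2 => X_le_J (by omega) (by omega)
  · refine J_le fun k h1 h2 => ?_
    have := X_le_J (X := fun k => X (k + s)) (k := k - s) (a := a) (b := b) (by omega) (by omega)
    simpa using this

/-- `[J a b, X d] ≤ J (a+1) (d-1)` for `b < d` -/
theorem comm_J_right {a b d : ℤ} (h1 : b < d) (h2 : d < a + m) {y g : G} (hy : y ∈ J X a b) (hg : g ∈ X d) :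
    ⁅y, g⁆ ∈ J X (a + 1) (d - 1) := by
  have nrm : ∀ y ∈ J X a b, ∀ z ∈ J X (a + 1) (d - 1), y * z * y⁻¹ ∈ J X (a + 1) (d - 1) := fun y hy z hz =>
    S.conj_J (by omega) (by omega) (by omega) hy hz
  let T : Subgroup G :=
    { carrier := {y | y ∈ J X a b ∧ ⁅y, g⁆ ∈ J X (a + 1) (d - 1)}
      one_mem' := ⟨one_mem _, by rw [commutatorElement_one_left]; exact one_mem _⟩
      mul_mem' := by
        rintro x y ⟨hx, hx'⟩ ⟨hy, hy'⟩
        refine ⟨mul_mem hx hy, ?_⟩
        have e : ⁅x * y, g⁆ = (x * ⁅y, g⁆ * x⁻¹) * ⁅x, g⁆ := by simp only [commutatorElement_def]; group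
        rw [e]
        exact mul_mem (nrm x hx _ hy') hx'
      inv_mem' := by
        rintro x ⟨hx, hx'⟩
        refine ⟨inv_mem hx, ?_⟩
        have e : ⁅x⁻¹, g⁆ = x⁻¹ * ⁅x, g⁆⁻¹ * x⁻¹⁻¹ := by simp only [commutatorElement_def]; group
        rw [e]
        exact nrm _ (inv_mem hx) _ (inv_mem hx') }
  have : J X a b ≤ T := J_le fun k h3 h4 x hx =>
    ⟨mem_J hx h3 h4, J_mono (by omega) (by omega) (S.comm k d (by omega) (by omega) x hx g hg)⟩
  exact (this hy).2

/-- `[X c, J a b] ≤ J (c+1) (b-1)` for `c < a` -/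
theorem comm_J_left {a b c : ℤ} (h1 : c < a) (h2 : b < c + m) {y g : G} (hy : y ∈ J X a b) (hg : g ∈ X c) :
    ⁅g, y⁆ ∈ J X (c + 1) (b - 1) := by
  have h := (S.rev 0).comm_J_right (a := -b) (b := -a) (d := -c) (y := y) (g := g) (by omega) (by omega)
    (by rw [J_rev]; simpa using hy) (by simpa using hg)
  rw [J_rev] at h
  rw [← commutatorElement_inv]
  exact inv_mem (J_mono (by omega) (by omega) h)

theorem comm_J_right' {a b d : ℤ} (h1 : b < d) (h2 : d < a + m) {y g : G} (hy : y ∈ J X a b) (hg : g ∈ X d) :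
    ⁅g, y⁆ ∈ J X (a + 1) (d - 1) := by
  rw [← commutatorElement_inv]
  exact inv_mem (S.comm_J_right h1 h2 hy hg)

theorem comm_J_left' {a b c : ℤ} (h1 : c < a) (h2 : b < c + m) {y g : G} (hy : y ∈ J X a b) (hg : g ∈ X c) :
    ⁅y, g⁆ ∈ J X (c + 1) (b - 1) := by
  rw [← commutatorElement_inv]
  exact inv_mem (S.comm_J_left h1 h2 hy hg)

/-- **Commuting lemma**, one step: `h ∈ X k`, `h ≠ 1`, `w = z w'` with `z ∈ X p`, `w' ∈ J k (p-1)` and `w h = h w`
force `z = 1` if `p` is beyond the middle. -/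
theorem comm_step {k p : ℤ} (hp1 : 2 * k + m < 2 * p) (hp2 : p < k + m) {h z w' : G} (hh : h ∈ X k) (hh1 : h ≠ 1)
    (hz : z ∈ X p) (hw' : w' ∈ J X k (p - 1)) (hcomm : (z * w') * h = h * (z * w')) : z = 1 := by
  by_contra hz1
  obtain ⟨a, ha, b, hb, hn⟩ := S.mu p z hz hz1
  set n := a * z * b with hn_def
  -- split `b⁻¹ w'`
  have h1 : b⁻¹ * w' ∈ J X (p - m) (p - 1) :=
    mul_mem (inv_mem (mem_J hb le_rfl (by have := S.two_lt; omega))) (J_mono (by omega) le_rfl hw')
  obtain ⟨w'', hw'', v, hv, e1⟩ := S.split' (c := 2 * p - m - k) (by omega) (by omega) (by omega) h1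
  have hY : n * w'' * n⁻¹ ∈ J X (p - m + 1) k := hn.mem_J hw'' (by omega) (by omega)
  have hg : a⁻¹ * (n * w'' * n⁻¹) ∈ J X (p - m) k :=
    mul_mem (inv_mem (mem_J ha le_rfl (by omega))) (J_mono (by omega) le_rfl hY)
  set g := a⁻¹ * (n * w'' * n⁻¹) with hg_def
  have e2 : z * w' = g * n * v := by
    have e3 : z * w' = a⁻¹ * n * (b⁻¹ * w') := by rw [hn_def]; group
    rw [e3, e1, hg_def]; group
  have hvh : v * h * v⁻¹ ∈ J X (p - m + 1) (max k (2 * p - m - k - 2)) :=
    S.conj_J (c := p - m) (d := 2 * p - m - k - 1) (by omega) (by omega) (by omega) hv (mem_J hh (by omega) (by omega))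
  have hR : n * (v * h * v⁻¹) * n⁻¹ ∈ J X (2 * p - m - max k (2 * p - m - k - 2)) (p - 1) :=
    hn.mem_J hvh (by omega) (by omega)
  have hL : g⁻¹ * h * g⁻¹⁻¹ ∈ J X (p - m + 1) k :=
    S.conj_J (c := p - m) (d := k) (by omega) (by omega) (by omega) (inv_mem hg) (mem_J hh (by omega) (by omega))
  have e4 : g⁻¹ * h * g⁻¹⁻¹ = n * (v * h * v⁻¹) * n⁻¹ := by
    have e5 : (g * n * v) * h * (g * n * v)⁻¹ = h := by
      rw [← e2, hcomm]; group
    calc g⁻¹ * h * g⁻¹⁻¹ = g⁻¹ * ((g * n * v) * h * (g * n * v)⁻¹) * g := by rw [e5, inv_inv]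
      _ = n * (v * h * v⁻¹) * n⁻¹ := by group
  rw [e4] at hL
  have h6 := S.inter_one (p - m + 1) hL hR (by omega) (by omega) (by omega) (by omega) (Or.inl (by omega))
  apply hh1
  calc h = v⁻¹ * (n⁻¹ * (n * (v * h * v⁻¹) * n⁻¹) * n) * v := by group
    _ = 1 := by rw [h6]; group

/-- **Commuting lemma.** -/
theorem comm_top {k b : ℤ} {r : ℤ} (hr : m ≤ 2 * r + 1) (hb : b < k + m) {h w : G} (hh : h ∈ X k) (hh1 : h ≠ 1)
    (hw : w ∈ J X k b) (hcomm : w * h = h * w) : w ∈ J X k (k + r) := by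
  have key : ∀ n : ℕ, ∀ b, b < k + m → b ≤ k + r + n → w ∈ J X k b → w ∈ J X k (k + r) := by
    intro n
    induction n with
    | zero => intro b _ h1 hw; exact J_mono le_rfl (by simpa using h1) hw
    | succ n ih =>
      intro b hb h1 hw
      push_cast at h1
      by_cases h2 : b ≤ k + r
      · exact J_mono le_rfl h2 hw
      · by_cases h3 : b < k
        · rw [eq_one_of_J hw h3]; exact one_mem _
        · obtain ⟨z, hz, w', hw', rfl⟩ := S.split_rl (by omega) hb hw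
          have h4 := S.comm_step (by omega) hb hh hh1 hz hw' hcomm
          exact ih (b - 1) (by omega) (by omega) (by rw [h4, one_mul]; exact hw')
  exact key (b - (k + r)).toNat b hb (by omega) hw

/-- the mirrored commuting lemma -/
theorem comm_bot {k a : ℤ} {r : ℤ} (hr : m ≤ 2 * r + 1) (ha : k < a + m) {h w : G} (hh : h ∈ X k) (hh1 : h ≠ 1)
    (hw : w ∈ J X a k) (hcomm : w * h = h * w) : w ∈ J X (k - r) k := by
  have h1 := (S.rev 0).comm_top (k := -k) (b := -a) (r := r) hr (by omega) (h := h) (w := w) (by simpa using hh) hh1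
    (by rw [J_rev]; simpa using hw) hcomm
  rw [J_rev] at h1
  exact J_mono (by omega) (by omega) h1

/-- `z ∈ X k` commuting with `X (k - r)`, `m = 2 r`, commutes with the opposite group `X (k + r)` -/
theorem opp_comm {k r : ℤ} (hr : m = 2 * r) {z : G} (hz : z ∈ X k) (hc : ∀ x ∈ X (k - r), z * x = x * z) {g : G}
    (hg : g ∈ X (k + r)) : z * g = g * z := by
  by_cases hg1 : g = 1
  · rw [hg1]; simp
  have hm := S.two_lt
  obtain ⟨v, hv, v', hv', hn⟩ := S.mu (k + r) g⁻¹ (inv_mem hg) (by simpa using hg1)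
  rw [show k + r - m = k - r by omega] at hv hv'
  rw [show 2 * (k + r) - m = 2 * k by omega] at hn
  have c1 : v * z * v⁻¹ = z := by rw [← hc v hv]; group
  have h1 : g * z * g⁻¹ ∈ J X (k - r + 1) k := by
    have e : g * z * g⁻¹ = v' * ((v * g⁻¹ * v')⁻¹ * z * (v * g⁻¹ * v')) * v'⁻¹ := by
      calc g * z * g⁻¹ = g * (v⁻¹ * (v * z * v⁻¹) * v) * g⁻¹ := by group
        _ = g * (v⁻¹ * z * v) * g⁻¹ := by rw [c1]
        _ = _ := by group
    rw [e]
    exact S.conj_X (k := k - r) (by omega) (by omega) (by omega) hv'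
      (mem_J (hn.mem_inv hz (k := k) (by omega)) (by omega) le_rfl)
  have h2 : ⁅g, z⁆ ∈ J X (k + 1) (k + r - 1) := S.comm' (by omega) (by omega) hg hz
  have h3 : ⁅g, z⁆ ∈ J X (k - r + 1) k := by
    rw [commutatorElement_def]
    exact mul_mem h1 (inv_mem (mem_J hz (by omega) le_rfl))
  have h4 := S.inter_one (k - r + 1) h3 h2 (by omega) (by omega) (by omega) (by omega) (Or.inl (by omega))
  exact (commutatorElement_eq_one_iff_mul_comm.1 h4).symm

end ZSys

/-! ### from `RootSys` -/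

/-- the `ℤ`-indexed family of a `RootSys` -/
def fam {m : ℕ} (R : RootSys m G) (k : ℤ) : Subgroup G := R.X (k : ZMod (2 * m))

theorem iSup_Ioo_eq {m : ℕ} (R : RootSys m G) (k : ℤ) (n : ℕ) :
    (⨆ r ∈ Set.Ioo 0 n, R.X ((k : ZMod (2 * m)) + ((r : ℕ) : ZMod (2 * m)))) = J (fam R) (k + 1) (k + n - 1) := by
  apply le_antisymm
  · refine iSup₂_le fun r hr => ?_
    have h := Set.mem_Ioo.1 hr
    have h1 := X_le_J (X := fam R) (k := k + r) (a := k + 1) (b := k + n - 1) (by omega) (by omega)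
    have e : fam R (k + r) = R.X ((k : ZMod (2 * m)) + ((r : ℕ) : ZMod (2 * m))) := by
      unfold fam; push_cast; rfl
    rwa [e] at h1
  · refine J_le fun l h1 h2 => ?_
    have e : fam R l = R.X ((k : ZMod (2 * m)) + (((l - k).toNat : ℕ) : ZMod (2 * m))) := by
      unfold fam
      congr 1
      have h3 : (((l - k).toNat : ℕ) : ℤ) = l - k := Int.toNat_of_nonneg (by omega)
      have h4 : (((l - k).toNat : ℕ) : ZMod (2 * m)) = ((l - k : ℤ) : ZMod (2 * m)) := by
        rw [← h3]; push_cast; rfl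
      rw [h4]; push_cast; ring
    rw [e]
    exact le_iSup₂_of_le (f := fun r (_ : r ∈ Set.Ioo 0 n) => R.X ((k : ZMod (2 * m)) + ((r : ℕ) : ZMod (2 * m))))
      (l - k).toNat (Set.mem_Ioo.2 (by omega)) le_rfl

theorem zsys {m : ℕ} (R : RootSys m G) : ZSys (m : ℤ) (fam R) where
  two_lt := by exact_mod_cast R.two_lt
  per k := by
    unfold fam
    congr 1
    push_cast
    have h : ((2 * m : ℕ) : ZMod (2 * m)) = 0 := ZMod.natCast_self _
    push_cast at h
    rw [h, add_zero]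
  ne_bot k := R.ne_bot _
  comm k l h1 h2 x hx y hy := by
    have h3 := R.comm (k : ZMod (2 * m)) (l - k).toNat (by omega) (by omega)
    have e : ((k : ZMod (2 * m)) + (((l - k).toNat : ℕ) : ZMod (2 * m))) = (l : ZMod (2 * m)) := by
      have h3 : (((l - k).toNat : ℕ) : ℤ) = l - k := Int.toNat_of_nonneg (by omega)
      have h4 : (((l - k).toNat : ℕ) : ZMod (2 * m)) = ((l - k : ℤ) : ZMod (2 * m)) := by
        rw [← h3]; push_cast; rfl
      rw [h4]; push_cast; ring
    rw [e, iSup_Ioo_eq] at h3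
    exact J_mono (by omega) (by omega) (h3 (Subgroup.commutator_mem_commutator hx hy))
  inter k x hx hx' := by
    have h1 := R.inter (k : ZMod (2 * m))
    rw [iSup_Ioo_eq] at h1
    have : x ∈ R.X (k : ZMod (2 * m)) ⊓ J (fam R) (k + 1) (k + m - 1) := Subgroup.mem_inf.2 ⟨hx, hx'⟩
    rw [h1] at this
    exact Subgroup.mem_bot.1 this
  mu i u hu hu1 := by
    obtain ⟨v, hv, v', hv', hn⟩ := R.mu (i : ZMod (2 * m)) u hu hu1
    have h0 : (2 * (m : ZMod (2 * m))) = 0 := by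
      have h : ((2 * m : ℕ) : ZMod (2 * m)) = 0 := ZMod.natCast_self _
      push_cast at h
      exact h
    have hmm : (-(m : ZMod (2 * m))) = m := by
      rw [neg_eq_iff_add_eq_zero, ← two_mul, h0]
    have e1 : ((i - m : ℤ) : ZMod (2 * m)) = (i : ZMod (2 * m)) + (m : ZMod (2 * m)) := by
      push_cast
      rw [sub_eq_add_neg, hmm]
    refine ⟨v, ?_, v', ?_, ?_⟩
    · show v ∈ R.X ((i - m : ℤ) : ZMod (2 * m)); rw [e1]; exact hv
    · show v' ∈ R.X ((i - m : ℤ) : ZMod (2 * m)); rw [e1]; exact hv'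
    · intro j x
      have h := hn (j : ZMod (2 * m)) x
      have e2 : ((2 * i - m - j : ℤ) : ZMod (2 * m)) = 2 * (i : ZMod (2 * m)) + (m : ZMod (2 * m)) - (j : ZMod (2 * m)) := by
        push_cast
        rw [sub_eq_add_neg (2 * (i : ZMod (2 * m))) (m : ZMod (2 * m)), hmm]
      show x ∈ R.X (j : ZMod (2 * m)) ↔ _ ∈ R.X ((2 * i - m - j : ℤ) : ZMod (2 * m))
      rw [e2]
      exact h.symm

end Cfsg.Agent.SplitTwo.ZS
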