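import Cfsg.Agent.SplitTwo.OctCoordA3

/-!
# Moufang octagons (S1144, [8]): coordinates, part A4: the matrices of `X 8` on `W / Y 4`, `CA → CM`
-/

set_option autoImplicit false

namespace Cfsg.Agent.SplitTwo.OctCoordA4

open Cfsg.Agent.SplitTwo Cfsg.Agent.SplitTwo.OctDefs Cfsg.Agent.SplitTwo.OctTools
open Cfsg.Agent.SplitTwo.OctSkel Cfsg.Agent.SplitTwo.HexField Cfsg.Agent.SplitTwo.OctCoordA
open Cfsg.Agent.SplitTwo.OctCoordM Cfsg.Agent.SplitTwo.OctCoordA2 Cfsg.Agent.SplitTwo.OctCoordA3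
open scoped commutatorElement

universe u v

variable {G : Type u} [Group G]

/-- Intermediate data. -/
structure Mx (X : ZMod (2 * 8) → Subgroup G) {F : Type v} [Field F] (n1 n8 e1 e8 : G)
    (x1 x3 x5 x7 y2 y4 y6 y8 : F → G) (p P al B N E H : G → F) : Prop where
  A : CA X n1 n8 e1 e8 x1 x3 x5 x7 y2 y4 y6 y8
  b36 : ∀ x ∈ X 6, ∀ t, kk (x3 t) x = y4 (t * p x)
  p1 : p 1 = 0
  pm : ∀ x ∈ X 6, ∀ z ∈ X 6, p (x * z) = p x + p z
  pY : ∀ x ∈ X 6, p x = 0 → x ∈ Yc X 6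
  ps : ∀ s, ∃ x ∈ X 6, p x = s
  py : ∀ w, p (y6 w) = 0
  Pd : ∀ g, P g = p (cj n8 (cj n1 g))
  m2 : ∀ g ∈ X 8, ∀ u, ∃ d, cj g (y2 u) = W y2 x3 y4 x5 y6 u (al g * u) d (B g * u) (N g * u)
  m3 : ∀ g ∈ X 8, ∀ u, ∃ d, cj g (x3 u) = W y2 x3 y4 x5 y6 0 u d (E g * u) (H g * u)

variable {X : ZMod (2 * 8) → Subgroup G} {F : Type v} [Field F]
  {n1 n8 e1 e8 : G} {x1 x3 x5 x7 y2 y4 y6 y8 : F → G} {p P al B N E H : G → F}

theorem exists_Mx [Finite G] (h : CA X n1 n8 e1 e8 x1 x3 x5 x7 y2 y4 y6 y8) :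
    ∃ p P al B N E H : G → F, Mx X n1 n8 e1 e8 x1 x3 x5 x7 y2 y4 y6 y8 p P al B N E H := by
  classical
  obtain ⟨p, b36, pm, pY, ps, py⟩ := exists_p6 h
  have p1 : p 1 = 0 := by
    have := pm 1 (one_mem _) 1 (one_mem _)
    rw [mul_one] at this
    exact left_eq_add.1 this
  have h2 : ∀ g : G, ∃ al b n : F, g ∈ X 8 → ∀ u, ∃ d, cj g (y2 u) = W y2 x3 y4 x5 y6 u (al * u) d (b * u) (n * u) := by
    intro g
    by_cases hg : g ∈ X 8
    · obtain ⟨al, b, n, H⟩ := mat2 h b36 p1 ps hg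
      exact ⟨al, b, n, fun _ => H⟩
    · exact ⟨0, 0, 0, fun hg' => absurd hg' hg⟩
  have h3 : ∀ g : G, ∃ ep f : F, g ∈ X 8 → ∀ u, ∃ d, cj g (x3 u) = W y2 x3 y4 x5 y6 0 u d (ep * u) (f * u) := by
    intro g
    by_cases hg : g ∈ X 8
    · obtain ⟨al, b, H⟩ := mat3 h b36 p1 ps hg
      exact ⟨al, b, fun _ => H⟩
    · exact ⟨0, 0, fun hg' => absurd hg' hg⟩
  choose al b n H2 using h2
  choose ep f H3 using h3
  exact ⟨p, fun g => p (cj n8 (cj n1 g)), al, b, n, ep, f, h, b36, p1, pm, pY, ps, py, fun _ => rfl, H2, H3⟩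

local notation "MX" => Mx X n1 n8 e1 e8 x1 x3 x5 x7 y2 y4 y6 y8 p P al B N E H

local notation "ww" => W y2 x3 y4 x5 y6

theorem m5 (h : MX) {g : G} (hg : g ∈ X 8) (t : F) : cj g (x5 t) = ww 0 0 0 t (P g * t) := by
  rw [h.Pd]; exact raw5 h.A h.b36 hg t

theorem act (h : MX) {g : G} (hg : g ∈ X 8) (a b c d e : F) :
    ∃ c', cj g (ww a b c d e) = ww a (b + al g * a) c' (d + B g * a + E g * b) (e + N g * a + H g * b + P g * d) := by
  obtain ⟨d2, h2⟩ := h.m2 g hg a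
  obtain ⟨d3, h3⟩ := h.m3 g hg b
  refine ⟨d2 + d3 + c, ?_⟩
  have h4 := raw4 h.A hg c
  have h5 := m5 h hg d
  have h6 := raw6 h.A hg e
  conv_lhs => unfold W
  rw [cj_mul, cj_mul, cj_mul, cj_mul, h2, h3, h4, h5, h6, w_mul h.A, w_mul h.A, w_mul h.A, w_mul h.A]
  congr 1 <;> ring

theorem cj_mul_g (g g' x : G) : cj (g * g') x = cj g' (cj g x) := by unfold cj; group

theorem mul2 (h : MX) {g g' : G} (hg : g ∈ X 8) (hg' : g' ∈ X 8) :
    al (g * g') = al g + al g' ∧ B (g * g') = B g + B g' + al g * E g' ∧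
      N (g * g') = N g + N g' + al g * H g' + B g * P g' := by
  obtain ⟨d, hd⟩ := h.m2 (g * g') (mul_mem hg hg') 1
  obtain ⟨d1, hd1⟩ := h.m2 g hg 1
  obtain ⟨d2, hd2⟩ := act h hg' 1 (al g * 1) d1 (B g * 1) (N g * 1)
  rw [cj_mul_g, hd1, hd2] at hd
  obtain ⟨-, r1, -, r2, r3⟩ := w_inj h.A hd
  refine ⟨?_, ?_, ?_⟩
  · linear_combination -r1
  · linear_combination -r2
  · linear_combination -r3

theorem mul3 (h : MX) {g g' : G} (hg : g ∈ X 8) (hg' : g' ∈ X 8) :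
    E (g * g') = E g + E g' ∧ H (g * g') = H g + H g' + E g * P g' := by
  obtain ⟨d, hd⟩ := h.m3 (g * g') (mul_mem hg hg') 1
  obtain ⟨d1, hd1⟩ := h.m3 g hg 1
  obtain ⟨d2, hd2⟩ := act h hg' 0 1 d1 (E g * 1) (H g * 1)
  rw [cj_mul_g, hd1, hd2] at hd
  obtain ⟨-, -, -, r2, r3⟩ := w_inj h.A hd
  refine ⟨?_, ?_⟩
  · linear_combination -r2
  · linear_combination -r3

theorem mul5' (h : MX) {g g' : G} (hg : g ∈ X 8) (hg' : g' ∈ X 8) : P (g * g') = P g + P g' := by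
  have hd := m5 h (mul_mem hg hg') 1
  obtain ⟨d2, hd2⟩ := act h hg' 0 0 0 1 (P g * 1)
  rw [cj_mul_g, m5 h hg 1, hd2] at hd
  obtain ⟨-, -, -, -, r3⟩ := w_inj h.A hd
  linear_combination -r3

/-- `[X 6, X 8]` -/
theorem e68b (h : MX) {x g : G} (hx : x ∈ X 6) (hg : g ∈ X 8) : kk x g = x7 (al g * p x) := by
  have h1 := e68a h.A h.b36 h.p1 (inv_mem hg) (h.m2 _ (inv_mem hg)) hx
  rw [inv_inv] at h1
  have h2 : al g + al g⁻¹ = 0 := by
    rw [← (mul2 h hg (inv_mem hg)).1, mul_inv_cancel]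
    have := (mul2 h (one_mem (X 8)) (one_mem (X 8))).1
    rw [mul_one] at this
    exact left_eq_add.1 this
  rw [h1, ← eq_of_add h.A h2]

/-- `al = c P` -/
theorem exists_c [Finite G] (h : MX) : ∃ c, c ≠ 0 ∧ ∀ g ∈ X 8, al g = c * P g := by
  have hF : Finite F := Finite.of_injective _ h.A.p1.inj
  -- symmetry
  have k46 : ∀ a ∈ X 4, ∀ b ∈ X 6, kk a b = x5 (al (cj n1 (cj n8 b)) * p (cj n1 a)) := by
    intro a ha b hb
    have ha' : cj n1 a ∈ X 6 := m1x h.A ha (by decide)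
    have hb' : cj n8 b ∈ X 2 := m8x h.A hb (by decide)
    have hb2 : cj n1 (cj n8 b) ∈ X 8 := m1x h.A hb' (by decide)
    have h1 := e68b h ha' hb2
    have h2 := congrArg (fun x => cj n8 (cj n1 x)) h1
    simp only [cj_kk] at h2
    rw [n11 h.A, n11 h.A, n88 h.A, h.A.n1_7, h.A.n8_3, h.A.n8_4 a ha] at h2
    exact h2
  have hsym : ∀ a ∈ X 6, ∀ b ∈ X 6, al (cj n1 (cj n8 b)) * p a = al (cj n1 (cj n8 a)) * p b := by
    intro a ha b hb
    have ha' : cj n1 a ∈ X 4 := m1x h.A ha (by decide)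
    have hb' : cj n1 b ∈ X 4 := m1x h.A hb (by decide)
    have h1 := k46 _ ha' b hb
    rw [n11 h.A] at h1
    have h2 := congrArg (cj n1) h1
    rw [cj_kk, n11 h.A, h.A.n1_5, HexField.kk_inv, k46 _ hb' a ha, n11 h.A, ← h.A.p5.neg, neg_eq h.A] at h2
    exact (h.A.p5.inj h2).symm
  obtain ⟨a1, ha1, hpa⟩ := h.ps 1
  refine ⟨al (cj n1 (cj n8 a1)), ?_, ?_⟩
  swap
  · intro g hg
    have hg' : cj n1 g ∈ X 2 := m1x h.A hg (by decide)
    have hg2 : cj n8 (cj n1 g) ∈ X 6 := m8x h.A hg' (by decide)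
    have := hsym a1 ha1 _ hg2
    rw [n88 h.A, n11 h.A, hpa, mul_one, ← h.Pd] at this
    exact this
  intro hc
  have hal : ∀ g ∈ X 8, al g = 0 := by
    intro g hg
    have hg' : cj n1 g ∈ X 2 := m1x h.A hg (by decide)
    have hg2 : cj n8 (cj n1 g) ∈ X 6 := m8x h.A hg' (by decide)
    have := hsym a1 ha1 _ hg2
    rw [n88 h.A, n11 h.A, hpa, mul_one, ← h.Pd, hc, zero_mul] at this
    exact this
  have h8 : X 8 ≤ Yc X 8 := by
    intro g hg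
    refine h.A.K.cenE 4 g hg ?_
    intro b hb
    have := e68b h hb hg
    rw [hal g hg, zero_mul, h.A.p7.zero] at this
    exact (comm_of_kk this).symm
  have c1 : Nat.card (X 8) ≤ Nat.card (Yc X 8) := Nat.card_le_card_of_injective _ (Subgroup.inclusion_injective h8)
  have c2 : Nat.card (X 8) = Nat.card (X 1) ^ 2 := h.A.K.cX 4 0
  have c3 : Nat.card (Yc X 8) = Nat.card (X 1) := h.A.K.cY 4 0
  have c4 : 1 < Nat.card (X 1) := by
    rw [← card_par h.A.p1]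
    exact Finite.one_lt_card
  rw [c2, c3, sq] at c1
  have : Nat.card (X 1) * 1 < Nat.card (X 1) * Nat.card (X 1) := Nat.mul_lt_mul_of_pos_left c4 (by omega)
  omega

/-! ### Values on `Y 8` -/

theorem m8y8 (h : MX) (w : F) : y8 w ∈ X 8 := yx (h.A.q8.m w)

theorem y8_P (h : MX) (w : F) : P (y8 w) = 0 := by
  have h1 := m5 h (m8y8 h w) 1
  have h2 : cj (y8 w) (x5 1) = x5 1 :=
    cj_of_comm (ycomm (h.A.q8.m w) (h.A.p5.m 1) 1 (by norm_num) (by decide)).symm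
  rw [h2, w5 h.A] at h1
  have := (w_inj h.A h1).2.2.2.2
  linear_combination -this

theorem y8_EH (h : MX) (w : F) : E (y8 w) = 0 ∧ H (y8 w) = w := by
  obtain ⟨d, hd⟩ := h.m3 _ (m8y8 h w) 1
  rw [cj_eq, h.A.a38, w3 h.A, w6 h.A, w_mul h.A] at hd
  obtain ⟨-, -, -, r1, r2⟩ := w_inj h.A hd
  exact ⟨by linear_combination -r1, by linear_combination -r2⟩

theorem kk28 (h : MX) {c : F} (hc : ∀ g ∈ X 8, al g = c * P g) (u w : F) :
    ∃ d, kk (y2 u) (y8 w) = ww 0 0 d (B (y8 w) * u) (N (y8 w) * u) := by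
  obtain ⟨d, hd⟩ := h.m2 _ (m8y8 h w) u
  refine ⟨d, ?_⟩
  have e : kk (y2 u) (y8 w) = (y2 u)⁻¹ * cj (y8 w) (y2 u) := by rw [cj_eq]; group
  rw [e, hd, hc _ (m8y8 h w), y8_P h, w2 h.A, w_inv h.A, w_mul h.A, char2 h.A]
  congr 1 <;> ring

theorem kk28n (h : MX) {c : F} (hc : ∀ g ∈ X 8, al g = c * P g) (u w : F) :
    B (y8 w) * u = B (y8 u) * w ∧ kk (y2 u) (y8 w) = ww 0 0 (N (y8 u) * w) (B (y8 w) * u) (N (y8 w) * u) := by
  obtain ⟨d, hd⟩ := kk28 h hc u w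
  obtain ⟨d', hd'⟩ := kk28 h hc w u
  have h1 := congrArg (cj n1) hd
  unfold W at h1
  rw [h.A.q2.zero, h.A.p3.zero, one_mul, one_mul, cj_kk, h.A.n1_2, h.A.n1_8, cj_mul, cj_mul, h.A.n1_4, h.A.n1_5,
    h.A.n1_6, HexField.kk_inv, hd', w_inv h.A, w4 h.A, w5 h.A, w6 h.A, w_mul h.A, w_mul h.A] at h1
  obtain ⟨-, -, r1, r2, r3⟩ := w_inj h.A h1
  refine ⟨by linear_combination -r2, ?_⟩
  rw [hd]
  congr 1
  linear_combination -r3 + char2 h.A (N (y8 u) * w) - char2 h.A (N (y8 u) * w)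

theorem exists_b0 (h : MX) {c : F} (hc : ∀ g ∈ X 8, al g = c * P g) (w : F) : B (y8 w) = B (y8 1) * w := by
  have := (kk28n h hc 1 w).1
  rwa [mul_one] at this

/-- surjectivity of `P` -/
theorem P_surj (h : MX) (v : F) : ∃ g ∈ X 8, P g = v := by
  obtain ⟨x, hx, hp⟩ := h.ps v
  have h1 : cj n8 x ∈ X 2 := m8x h.A hx (by decide)
  have h2 : cj n1 (cj n8 x) ∈ X 8 := m1x h.A h1 (by decide)
  exact ⟨_, h2, by rw [h.Pd, n11 h.A, n88 h.A, hp]⟩

theorem b0_eq (h : MX) {c : F} (hc : ∀ g ∈ X 8, al g = c * P g) : B (y8 1) = c := by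
  obtain ⟨g, hg, hP⟩ := P_surj h 1
  have hy := m8y8 h 1
  have h1 : y8 1 * g = g * y8 1 := ycomm (h.A.q8.m 1) hg 4 (by norm_num) (by decide)
  have n1' := (mul2 h hy hg).2.2
  have n2' := (mul2 h hg hy).2.2
  rw [← h1, n1', hc _ hy, hc _ hg, y8_P h, (y8_EH h 1).2, hP] at n2'
  linear_combination n2'

/-! ### The mu-elements -/

theorem mu2 (h : MX) {g k l : G} (hg : g ∈ X 8) (hk : k ∈ X 0) (hl : l ∈ X 0) (a : F) :
    ∃ a' b' c' d', cj (k * g * l) (y2 a) = ww a' b' c' d' (N g * a) := by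
  obtain ⟨d, hd⟩ := h.m2 g hg a
  obtain ⟨a', b', c', d', hl'⟩ := lw h.A hl a (al g * a) d (B g * a) (N g * a)
  refine ⟨a', b', c', d', ?_⟩
  rw [cj_mul_g, cj_mul_g, l2 h.A hk, hd, hl']

theorem mu3 (h : MX) {g k l : G} (hg : g ∈ X 8) (hk : k ∈ X 0) (hl : l ∈ X 0) (t s : F)
    (hs : cj (k * g * l) (x3 t) = x5 s) : ∃ m, N g * m + H g * t = 0 ∧ B g * m + E g * t = s := by
  obtain ⟨m, hm⟩ := l3 h.A hk t
  obtain ⟨c', hc'⟩ := act h hg m t 0 0 0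
  obtain ⟨a1, b1, c1, d1, hl'⟩ := lw h.A hl m (t + al g * m) c' (0 + B g * m + E g * t)
    (0 + N g * m + H g * t + P g * 0)
  rw [cj_mul_g, cj_mul_g, hm, hc'] at hs
  have hs1 := hs
  rw [hl', w5 h.A] at hs1
  have r1 := (w_inj h.A hs1).2.2.2.2
  rw [r1] at hs
  obtain ⟨a2, b2, c2, hl2⟩ := lw0 h.A hl m (t + al g * m) c' (0 + B g * m + E g * t)
  rw [hl2, w5 h.A] at hs
  have r2 := (w_inj h.A hs).2.2.2.1
  exact ⟨m, by linear_combination r1, by linear_combination r2⟩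

theorem N_ne' (h : MX) {g : G} (hg : g ∈ X 8) (hg1 : g ≠ 1) : N g ≠ 0 := by
  have S := h.A.K.A.sys
  have hk : kap X 8 g ∈ X 0 := xc (S.kap_mem hg hg1) (by decide)
  have hl : lam X 8 g ∈ X 0 := xc (S.lam_mem hg hg1) (by decide)
  obtain ⟨a', b', c', d', e⟩ := mu2 h hg hk hl 1
  have hr := S.refl hg hg1
  have h6 : cj (muMap X 8 g) (y2 1) ∈ Yc X 6 := Yc_refl' hr (h.A.q2.m 1) (by decide)
  obtain ⟨u, hu⟩ := (h.A.q6.mem _).mp h6
  unfold muMap at hu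
  rw [e, w6 h.A] at hu
  have r := (w_inj h.A hu).2.2.2.2
  intro h0
  rw [h0, zero_mul] at r
  rw [← hu, r, w_zero h.A] at e
  have : y2 1 = 1 := by
    have : cj (kap X 8 g * g * lam X 8 g) (y2 1) = cj (kap X 8 g * g * lam X 8 g) 1 := by rw [e, cj_one]
    exact cj_inj this
  rw [← h.A.q2.zero] at this
  exact one_ne_zero (h.A.q2.inj this)

theorem EN_ne' (h : MX) {g : G} (hg : g ∈ X 8) (hg1 : g ≠ 1) : E g * N g + B g * H g ≠ 0 := by
  have S := h.A.K.A.sys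
  have hk : kap X 8 g ∈ X 0 := xc (S.kap_mem hg hg1) (by decide)
  have hl : lam X 8 g ∈ X 0 := xc (S.lam_mem hg hg1) (by decide)
  have hr := S.refl hg hg1
  have h5 : cj (muMap X 8 g) (x3 1) ∈ X 5 := rx' hr (h.A.p3.m 1) (by decide)
  obtain ⟨s, hs⟩ := (h.A.p5.mem _).mp h5
  have hs0 : s ≠ 0 := by
    rintro rfl
    rw [h.A.p5.zero] at hs
    have h3 : cj (muMap X 8 g) (x3 1) = cj (muMap X 8 g) 1 := by rw [← hs, cj_one]
    have h4 := cj_inj h3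
    rw [← h.A.p3.zero] at h4
    exact one_ne_zero (h.A.p3.inj h4)
  obtain ⟨m, r1, r2⟩ := mu3 h hg hk hl 1 s hs.symm
  have hN := N_ne' h hg hg1
  intro h0
  apply hs0
  have : N g * s = 0 := by
    rw [← r2]
    have hc := char2 h.A (B g * H g)
    linear_combination h0 + B g * r1 - hc
  exact (mul_eq_zero.mp this).resolve_left hN

theorem N_e8 (h : MX) : N (y8 1) = 1 := by
  have S := h.A.K.A.sys
  have he := yx h.A.e8m
  have he1 := h.A.e8n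
  have hk : kap X 8 e8 ∈ X 0 := xc (S.kap_mem he he1) (by decide)
  have hl : lam X 8 e8 ∈ X 0 := xc (S.lam_mem he he1) (by decide)
  obtain ⟨a', b', c', d', e⟩ := mu2 h he hk hl 1
  have hn : n8 = kap X 8 e8 * e8 * lam X 8 e8 := h.A.n8d
  rw [← hn, h.A.n8_2, w6 h.A] at e
  have := (w_inj h.A e).2.2.2.2
  rw [mul_one] at this
  rw [h.A.one8, ← this]

theorem c_one (h : MX) {c : F} (hc : ∀ g ∈ X 8, al g = c * P g) : c = 1 := by
  have S := h.A.K.A.sys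
  have he := yx h.A.e8m
  have he1 := h.A.e8n
  have hk : kap X 8 e8 ∈ X 0 := xc (S.kap_mem he he1) (by decide)
  have hl : lam X 8 e8 ∈ X 0 := xc (S.lam_mem he he1) (by decide)
  have hn : n8 = kap X 8 e8 * e8 * lam X 8 e8 := h.A.n8d
  have h3 := h.A.n8_3 1
  rw [hn] at h3
  obtain ⟨m, r1, r2⟩ := mu3 h he hk hl 1 1 h3
  rw [← h.A.one8, N_e8 h, (y8_EH h 1).2] at r1
  rw [← h.A.one8, b0_eq h hc, (y8_EH h 1).1] at r2
  have hm : m = 1 := eq_of_add h.A (by linear_combination r1)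
  rw [hm] at r2
  linear_combination r2

/-! ### `CM` -/

theorem exists_CM [Finite G] (h : CA X n1 n8 e1 e8 x1 x3 x5 x7 y2 y4 y6 y8) :
    ∃ P B N E H : G → F, CM X n1 n8 e1 e8 x1 x3 x5 x7 y2 y4 y6 y8 P B N E H := by
  have hF : Finite F := Finite.of_injective _ h.p1.inj
  obtain ⟨p, P, al, B, N, E, H, M⟩ := exists_Mx h
  obtain ⟨c, -, hc⟩ := exists_c M
  have hc1 := c_one M hc
  have hb0 := b0_eq M hc
  subst hc1
  have hal : ∀ g ∈ X 8, al g = P g := fun g hg => by rw [hc g hg, one_mul]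
  have hPY : ∀ g ∈ X 8, P g = 0 → g ∈ Yc X 8 := by
    intro g hg h0
    have hg' : cj n1 g ∈ X 2 := m1x h hg (by decide)
    have hg2 : cj n8 (cj n1 g) ∈ X 6 := m8x h hg' (by decide)
    rw [M.Pd] at h0
    have h6 := M.pY _ hg2 h0
    have h2 : cj n8 (cj n8 (cj n1 g)) ∈ Yc X 2 := m8y h h6 (by decide)
    have h8 : cj n1 (cj n8 (cj n8 (cj n1 g))) ∈ Yc X 8 := m1y h h2 (by decide)
    rwa [n88 h, n11 h] at h8
  have hBy : ∀ w, B (y8 w) = w := fun w => by rw [exists_b0 M hc, hb0, one_mul]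
  have hinj : ∀ g ∈ X 8, ∀ g' ∈ X 8, P g = P g' → B g = B g' → g = g' := by
    intro g hg g' hg' e1 e2
    have hm : g⁻¹ * g' ∈ X 8 := mul_mem (inv_mem hg) hg'
    have h1 : P (g * (g⁻¹ * g')) = P g + P (g⁻¹ * g') := mul5' M hg hm
    have h1' : B (g * (g⁻¹ * g')) = B g + B (g⁻¹ * g') + al g * E (g⁻¹ * g') := (mul2 M hg hm).2.1
    rw [mul_inv_cancel_left] at h1 h1'
    have h2 : P (g⁻¹ * g') = 0 := by linear_combination -h1 - e1
    obtain ⟨w, hw⟩ := (h.q8.mem _).mp (hPY _ hm h2)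
    rw [← hw, (y8_EH M w).1, hBy, ← e2] at h1'
    have hw0 : w = 0 := by linear_combination -h1'
    rw [hw0, h.q8.zero] at hw
    exact (inv_mul_eq_one.mp hw.symm)
  have hsurj : ∀ v w, ∃ g ∈ X 8, P g = v ∧ B g = w := by
    have hi : Function.Injective (fun g : X 8 => (P (g : G), B (g : G))) := by
      rintro ⟨g, hg⟩ ⟨g', hg'⟩ e
      exact Subtype.ext (hinj g hg g' hg' (congrArg Prod.fst e) (congrArg Prod.snd e))
    have hb := hi.bijective_of_nat_card_le (by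
      have h1 : Nat.card (X 8) = Nat.card (X 1) ^ 2 := h.K.cX 4 0
      rw [h1, Nat.card_prod, ← card_par h.p1, sq])
    intro v w
    obtain ⟨⟨g, hg⟩, e⟩ := hb.2 (v, w)
    exact ⟨g, hg, congrArg Prod.fst e, congrArg Prod.snd e⟩
  refine ⟨P, B, N, E, H, ?_⟩
  refine
    { A := h, uniqW := ?_, P_Y := hPY, inj := hinj, surj := hsurj, b36 := ?_, b74 := ?_, b52 := ?_, b58 := ?_,
      b14 := ?_, e68 := ?_, m2 := ?_, m3 := ?_, m5 := ?_, P_mul := ?_, E_mul := ?_, B_mul := ?_, H_mul := ?_,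
      N_mul := ?_, P_y := y8_P M, E_y := fun w => (y8_EH M w).1, B_y := hBy, H_y := fun w => (y8_EH M w).2,
      N_one := N_e8 M, c28 := ?_, N_ne := fun g hg hg1 => N_ne' M hg hg1, EN_ne := fun g hg hg1 => EN_ne' M hg hg1 }
  · intro t x hx
    rw [M.Pd, n11 h, n88 h]
    exact M.b36 x hx t
  · intro t x hx
    rw [M.Pd, n11 h, n88 h]
    exact b74 h M.b36 hx t
  · intro t x hx
    rw [M.Pd, n11 h]
    exact b52 h M.b36 hx t
  · intro t x hx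
    rw [M.Pd]
    exact OctCoordA2.b58 h M.b36 hx t
  · intro t x hx
    rw [M.Pd, n11 h, n88 h]
    exact b14 h M.b36 hx t
  · intro x hx z hz
    rw [e68b M hx hz, hal z hz, M.Pd (cj n1 (cj n8 x)), n11 h, n88 h]
  · intro g hg u
    obtain ⟨d, hd⟩ := M.m2 g hg u
    rw [hal g hg] at hd
    exact ⟨d, hd⟩
  · intro g hg t
    obtain ⟨d, hd⟩ := M.m3 g hg t
    refine ⟨d, ?_⟩
    rw [hd]; unfold W; rw [h.q2.zero, one_mul]
  · intro g hg t
    rw [m5 M hg]; unfold W; rw [h.q2.zero, h.p3.zero, h.q4.zero]; group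
  · intro a b c d e a' b' c' d' e' E
    exact w_inj h E
  · intro g hg g' hg'
    exact mul5' M hg hg'
  · intro g hg g' hg'
    exact (mul3 M hg hg').1
  · intro g hg g' hg'
    rw [(mul2 M hg hg').2.1, hal g hg]
  · intro g hg g' hg'
    exact (mul3 M hg hg').2
  · intro g hg g' hg'
    rw [(mul2 M hg hg').2.2, hal g hg]
  · intro u w
    rw [(kk28n M hc u w).2, hBy, mul_comm w u]
    unfold W; rw [h.q2.zero, h.p3.zero, one_mul, one_mul]

end Cfsg.Agent.SplitTwo.OctCoordA4
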