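import Cfsg.Agent.SplitTwo.OctCoordN

/-!
# Moufang octagons (S1144, [8]): the symmetries `Sym`

`sym`: from the coordinates `CN` the structure `OctCoordBDefs.Sym` (reflections `n1`, `n8`, the elements `z`, `k`, `l`,
the torus).
-/

set_option autoImplicit false

namespace Cfsg.Agent.SplitTwo.OctCoordS

open Cfsg.Agent.SplitTwo Cfsg.Agent.SplitTwo.OctDefs Cfsg.Agent.SplitTwo.OctTools
open Cfsg.Agent.SplitTwo.OctSkel Cfsg.Agent.SplitTwo.HexField
open Cfsg.Agent.SplitTwo.OctCoordA Cfsg.Agent.SplitTwo.OctCoordM Cfsg.Agent.SplitTwo.OctTorus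
open Cfsg.Agent.SplitTwo.OctCoordN Cfsg.Agent.SplitTwo.OctCoordBDefs
open scoped commutatorElement

universe u v

variable {G : Type u} [Group G] {X : ZMod (2 * 8) → Subgroup G} {F : Type v} [Field F]
variable {n1 n8 e1 e8 : G} {x1 x3 x5 x7 y2 y4 y6 y8 : F → G} {P B N E H : G → F}

theorem cj_cj_comm (n a b : G) : cj (cj n a) (cj n b) = cj n (cj a b) := by
  unfold cj; group

section

variable (C : CA X n1 n8 e1 e8 x1 x3 x5 x7 y2 y4 y6 y8)

include C

/-- Collecting a word in the abelian group `Y 2 X 3 Y 4 X 5 Y 6`. -/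
theorem W_col (d d' d'' a b c p w : F) :
    y2 1 * 1 * y4 d * (x5 1 * y4 d' * x3 a * y2 b) * (y6 1 * x5 p * y4 d'' * x3 w * y2 c) =
      y2 (1 + (b + c)) * x3 (a + w) * y4 (d + (d' + d'')) * x5 (1 + p) * y6 1 := by
  have K := C.K
  have sw : ∀ {f g : F → G}, (∀ s t, f s * g t = g t * f s) → ∀ s t z, f s * (g t * z) = g t * (f s * z) := by
    intro f g h s t z
    rw [← mul_assoc, h, mul_assoc]
  have mg : ∀ {f : F → G} {U : Subgroup G}, Par U f → ∀ s t z, f s * (f t * z) = f (s + t) * z := by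
    intro f U h s t z
    rw [h.add, mul_assoc]
  have h32 : ∀ s t, x3 s * y2 t = y2 t * x3 s := fun s t =>
    (ycomm (C.q2.m t) (C.p3.m s) 5 (by norm_num) (by decide)).symm
  have h42 : ∀ s t, y4 s * y2 t = y2 t * y4 s := fun s t =>
    ycomm (C.q4.m s) (yx (C.q2.m t)) 2 (by norm_num) (by decide)
  have h52 : ∀ s t, x5 s * y2 t = y2 t * x5 s := fun s t =>
    (ycomm (C.q2.m t) (C.p5.m s) 7 (by norm_num) (by decide)).symm
  have h62 : ∀ s t, y6 s * y2 t = y2 t * y6 s := fun s t =>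
    ycomm (C.q6.m s) (yx (C.q2.m t)) 0 (by norm_num) (by decide)
  have h43 : ∀ s t, y4 s * x3 t = x3 t * y4 s := fun s t =>
    ycomm (C.q4.m s) (C.p3.m t) 3 (by norm_num) (by decide)
  have h53 : ∀ s t, x5 s * x3 t = x3 t * x5 s := fun s t =>
    (K.o2 1 _ (xc (C.p3.m t) (by decide)) _ (xc (C.p5.m s) (by decide))).symm
  have h63 : ∀ s t, y6 s * x3 t = x3 t * y6 s := fun s t =>
    ycomm (C.q6.m s) (C.p3.m t) 1 (by norm_num) (by decide)
  have h54 : ∀ s t, x5 s * y4 t = y4 t * x5 s := fun s t =>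
    (ycomm (C.q4.m t) (C.p5.m s) 5 (by norm_num) (by decide)).symm
  have h64 : ∀ s t, y6 s * y4 t = y4 t * y6 s := fun s t =>
    ycomm (C.q6.m s) (yx (C.q4.m t)) 2 (by norm_num) (by decide)
  have h65 : ∀ s t, y6 s * x5 t = x5 t * y6 s := fun s t =>
    ycomm (C.q6.m s) (C.p5.m t) 3 (by norm_num) (by decide)
  simp only [mul_assoc, one_mul, h52, h62, h53, h63, h54, h64, h65, sw h32, sw h42, sw h52,
    sw h43, sw h53, sw h54, mg C.q2, mg C.p3, mg C.q4, mg C.p5, add_assoc]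

/-- `n1 = z' e1 z'` with `z' ∈ X 9` an involution. -/
theorem exists_z' : ∃ z ∈ X 9, z * z = 1 ∧ n1 = z * e1 * z := by
  have S := C.K.A.sys
  have hk := S.kap_mem C.e1m C.e1n
  have hl := S.lam_mem C.e1m C.e1n
  have hsq9 : ∀ y ∈ X 9, y * y = 1 := by
    intro y hy
    obtain ⟨t, ht⟩ := (C.p1.mem _).mp (rx' (j' := 1) (refl1 C) hy (by decide))
    have e : y = n1 * x1 t * n1⁻¹ := by rw [ht]; group
    rw [e]
    calc n1 * x1 t * n1⁻¹ * (n1 * x1 t * n1⁻¹) = n1 * (x1 t * x1 t) * n1⁻¹ := by group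
      _ = 1 := by rw [← C.p1.add, dbl C, C.p1.zero]; group
  have h9 : ∀ {y}, y ∈ X (1 + ((8 : ℕ) : ZMod (2 * 8))) → y ∈ X 9 := fun hy => xc hy (by decide)
  have he1 : e1⁻¹ = e1 := by
    apply inv_eq_of_mul_eq_one_right
    rw [← C.one1, ← C.p1.add, dbl C, C.p1.zero]
  have h1 := S.kap_inv C.e1m C.e1n
  rw [he1] at h1
  have h2 : (lam X 1 e1)⁻¹ = lam X 1 e1 := inv_eq_of_mul_eq_one_right (hsq9 _ (h9 hl))
  rw [h2] at h1
  refine ⟨lam X 1 e1, h9 hl, hsq9 _ (h9 hl), ?_⟩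
  rw [C.n1d]
  unfold muMap
  rw [h1]

end

section

variable {σ : F →+* F} {x2 x4 x6 x8 : F → F → G}
  (D : CN X n1 n8 e1 e8 x1 x3 x5 x7 y2 y4 y6 y8 P B N E H σ x2 x4 x6 x8)

include D

/-- The right partner of `e8`. -/
theorem lam_eq : lam X 8 e8 = n8⁻¹ * x8 1 1 * n8 := by
  have M := D.M
  have C := M.A
  have S := C.K.A.sys
  have he8 : e8 ∈ X 8 := yx C.e8m
  obtain ⟨k, hk⟩ : ∃ k, k = kap X 8 e8 := ⟨_, rfl⟩
  obtain ⟨l, hl⟩ : ∃ l, l = lam X 8 e8 := ⟨_, rfl⟩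
  have hkm : k ∈ X 0 := by rw [hk]; exact xc (S.kap_mem he8 C.e8n) (by decide)
  have hlm : l ∈ X 0 := by rw [hl]; exact xc (S.lam_mem he8 C.e8n) (by decide)
  have hn : n8 = k * e8 * l := by rw [C.n8d, hk, hl]; rfl
  obtain ⟨p, w, hpw⟩ := surj8 D (rx (j' := 8) (refl8 C) hlm (by decide))
  have hl2 : l = cj n8 (x8 p w) := by
    rw [hpw]; unfold cj; group
  -- the action on `y2 1`
  have h2 : ∀ {g}, g ∈ X 0 → ∀ u, cj g (y2 u) = y2 u := by
    intro g hg u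
    have := ycomm (C.q2.m u) hg 2 (by norm_num) (by decide)
    unfold cj
    rw [mul_assoc, this]; group
  have h4 : ∀ {g}, g ∈ X 0 → ∀ u, cj g (y4 u) = y4 u := by
    intro g hg u
    have := ycomm (C.q4.m u) hg 0 (by norm_num) (by decide)
    unfold cj
    rw [mul_assoc, this]; group
  have e1' : cj n8 (y2 1) = cj l (cj e8 (cj k (y2 1))) := by
    rw [hn]; unfold cj; group
  rw [C.n8_2, h2 hkm] at e1'
  obtain ⟨d, hd⟩ := M.m2 (y8 1) (yx (C.q8.m 1)) 1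
  rw [M.P_y, M.B_y, M.N_one, C.one8, zero_mul, mul_one, C.p3.zero] at hd
  obtain ⟨d', hd'⟩ := M.m3 (x8 p w) (D.m8 p w) 1
  obtain ⟨d'', hd''⟩ := M.m2 (x8 p w) (D.m8 p w) 1
  have e5 : cj l (x5 1) = x5 1 * y4 d' * x3 (E (x8 p w) * 1) * y2 (H (x8 p w) * 1) := by
    rw [← C.n8_3 1, hl2, cj_cj_comm, hd', cj_mul, cj_mul, cj_mul, C.n8_3, C.n8_4 _ (yx (C.q4.m _)), C.n8_5,
      C.n8_6]
  have e6 : cj l (y6 1) = y6 1 * x5 (P (x8 p w) * 1) * y4 d'' * x3 (B (x8 p w) * 1) * y2 (N (x8 p w) * 1) := by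
    rw [← C.n8_2 1, hl2, cj_cj_comm, hd'', cj_mul, cj_mul, cj_mul, cj_mul, C.n8_2, C.n8_3,
      C.n8_4 _ (yx (C.q4.m _)), C.n8_5, C.n8_6]
  rw [hd, cj_mul, cj_mul, cj_mul, cj_mul, cj_one, h2 hlm, h4 hlm, e5, e6, D.E8, D.P8, D.B8] at e1'
  -- collect
  rw [W_col C] at e1'
  have z2 := C.q2.zero
  have z3 := C.p3.zero
  have z4 := C.q4.zero
  have z5 := C.p5.zero
  have e6' : y6 1 = y2 0 * x3 0 * y4 0 * x5 0 * y6 1 := by rw [z2, z3, z4, z5]; group
  obtain ⟨-, q3, -, q5, -⟩ := M.uniqW _ _ _ _ _ _ _ _ _ _ (e6'.symm.trans e1')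
  have two := C.two
  have hp : p = 1 := by linear_combination -q5 - two
  subst hp
  rw [map_one] at q3
  have hw : w = 1 := by linear_combination -q3 - two
  subst hw
  rw [← hl, hl2]; rfl

/-- **The symmetries.** -/
theorem sym [Finite F] : ∃ z k l, Sym σ x1 x3 x5 x7 x2 x4 x6 x8 n1 n8 z k l := by
  have M := D.M
  have C := M.A
  have K := C.K
  have S := K.A.sys
  have he8 : e8 ∈ X 8 := yx C.e8m
  obtain ⟨z', hz', hzz', hn1⟩ := exists_z' C
  have hz : n8 * z' * n8⁻¹ ∈ X 15 := rx (refl8 C) hz' (by decide)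
  have hzz : n8 * z' * n8⁻¹ * (n8 * z' * n8⁻¹) = 1 := by
    calc n8 * z' * n8⁻¹ * (n8 * z' * n8⁻¹) = n8 * (z' * z') * n8⁻¹ := by group
      _ = 1 := by rw [hzz']; group
  have hkm : kap X 8 e8 ∈ X 0 := xc (S.kap_mem he8 C.e8n) (by decide)
  obtain ⟨z, hzd⟩ : ∃ z, z = n8 * z' * n8⁻¹ := ⟨_, rfl⟩
  rw [← hzd] at hz hzz
  have hzi : z⁻¹ = z := inv_eq_of_mul_eq_one_right hzz
  refine ⟨z, kap X 8 e8, lam X 8 e8, ?_⟩
  exact
    { n12 := fun p u => (cn1 C (cn1_2 D p u)).1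
      n13 := fun t => (cn1 C (C.n1_3 t)).1
      n14 := fun p u => (cn1 C (cn1_4 D p u)).1
      n15 := fun t => (cn1 C (C.n1_5 t)).1
      n16 := fun p u => (cn1 C (cn1_6 D p u)).1
      n17 := fun t => (cn1 C (C.n1_7 t)).1
      n18 := fun p u => (cn1 C (cn1_8 D p u)).1
      n81 := fun t => (cn8 C (C.n8_1 t)).1
      n82 := fun p u => (cn8 C (cn8_2 D p u)).1
      n83 := fun t => (cn8 C (C.n8_3 t)).1
      n84 := fun p u => (cn8 C (cn8_4 D p u)).1
      n85 := fun t => (cn8 C (C.n8_5 t)).1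
      n86 := fun p u => (cn8 C (cn8_6 D p u)).1
      n87 := fun t => (cn8 C (C.n8_7 t)).1
      zz := hzz
      z1 := fun t => K.o2 7 _ (xc hz (by decide)) _ (xc (C.p1.m t) (by decide))
      z5 := fun t => by
        obtain ⟨p, hp, q, hq, r, hr, e⟩ := K.s6 7 _ (xc hz (by decide)) _ (xc (C.p5.m t) (by decide))
        obtain ⟨a, ha⟩ := (C.p3.mem _).mp (xc (inv_mem hr) (by decide))
        obtain ⟨b, hb⟩ := (C.q2.mem _).mp (yc (inv_mem hq) (by decide))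
        obtain ⟨c, hc⟩ := (C.p1.mem _).mp (xc (inv_mem hp) (by decide))
        refine ⟨a, b, c, ?_⟩
        rw [y2e D, ha, hb, hc]
        have e2 : z * x5 t * z = x5 t * (kk z (x5 t))⁻¹ := by
          nth_rewrite 1 [← hzi]
          unfold kk; group
        rw [e2, e]; group
      n7 := by
        have e : n8 * n1 * n8⁻¹ = z * (n8 * e1 * n8⁻¹) * z := by
          rw [hzd]
          nth_rewrite 1 [hn1]
          group
        rw [e, ← C.one1, (cn8 C (C.n8_1 1)).1]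
      n8e := by
        rw [y8e D, C.one8]
        exact C.n8d
      k2 := fun u => by
        rw [y2e D]
        exact (ycomm (C.q2.m u) hkm 2 (by norm_num) (by decide)).symm
      l_eq := lam_eq D
      tor7 := fun s hs => tor7 C s hs
      tor8 := fun q hq => by
        obtain ⟨h, h1, h2, h3, h5, h6⟩ := tor8 M D.m8 D.P8 D.B8 (fun v => D.E8 v 0) q hq
        refine ⟨h, h1, ?_, h3, h5, ?_⟩
        · intro u
          rw [y2e D]
          obtain ⟨u', hu'⟩ := h2 u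
          exact ⟨u', by rw [y2e D]; exact hu'⟩
        · intro u
          rw [y6e D]
          obtain ⟨u', hu'⟩ := h6 u
          exact ⟨u', by rw [y6e D]; exact hu'⟩ }

end

end Cfsg.Agent.SplitTwo.OctCoordS
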