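import Cfsg.Agent.SplitTwo.OctCol

/-!
# Moufang octagons: the relations `(2,8)` and `(1,8)` (S1144, m = 8)

Critical pairs `x_i * a * x_8` (`i = 1, 2`), computed by collection.
-/

set_option autoImplicit false
set_option linter.unusedSectionVars false
set_option linter.unusedSimpArgs false

namespace Cfsg.Agent.SplitTwo.OctLast

variable {F : Type*} [Field F] {σ : F →+* F} {G : Type*} [Group G] {x1 x3 x5 x7 : F → G}
    {x2 x4 x6 x8 : F → F → G} {n1 n8 : G}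

namespace OctMin

variable (H : OctMin σ x1 x3 x5 x7 x2 x4 x6 x8 n1 n8)
include H

-- moving `x8` to the left

theorem s38 (t q v : F) : x3 t * x8 q v = x8 q v * (x3 t * (x4 0 (σ t * q) * (x5 (t * σ q) * x6 0 (t * q * σ q + t * v)))) := by
  rw [H.r38]; simp only [mul_assoc]
theorem t38 (t q v : F) (w : G) : x3 t * (x8 q v * w) = x8 q v * (x3 t * (x4 0 (σ t * q) * (x5 (t * σ q) * (x6 0 (t * q * σ q + t * v) * w)))) := by
  rw [← mul_assoc, H.s38]; simp only [mul_assoc]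
theorem s48 (p u q v : F) : x4 p u * x8 q v = x8 q v * x4 p u := by
  rw [H.q48]
theorem t48 (p u q v : F) (w : G) : x4 p u * (x8 q v * w) = x8 q v * (x4 p u * w) := by
  rw [← mul_assoc, H.s48]; simp only [mul_assoc]
theorem s58 (t q v : F) : x5 t * x8 q v = x8 q v * (x5 t * x6 0 (t * q)) := by
  rw [H.r58]; simp only [mul_assoc]
theorem t58 (t q v : F) (w : G) : x5 t * (x8 q v * w) = x8 q v * (x5 t * (x6 0 (t * q) * w)) := by
  rw [← mul_assoc, H.s58]; simp only [mul_assoc]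
theorem s68 (p u q v : F) : x6 p u * x8 q v = x8 q v * (x6 p u * x7 (p * q)) := by
  have h := H.q68 p u q v
  have h2 := inv_rel (a := x8 q v) (b := x6 p u) (c := x7 (p * q)) (by rw [h, mul_assoc]) (H.i7 _)
  exact h2
theorem t68 (p u q v : F) (w : G) : x6 p u * (x8 q v * w) = x8 q v * (x6 p u * (x7 (p * q) * w)) := by
  rw [← mul_assoc, H.s68]; simp only [mul_assoc]
theorem s78 (t q v : F) : x7 t * x8 q v = x8 q v * x7 t := by
  rw [H.q78]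
theorem t78 (t q v : F) (w : G) : x7 t * (x8 q v * w) = x8 q v * (x7 t * w) := by
  rw [← mul_assoc, H.s78]; simp only [mul_assoc]
theorem s28 (u q v : F) : x2 0 u * x8 q v = x8 q v * (x2 0 u * (x3 (u*q) * (x4 0 (σ u*q*σ q + σ u * v) *
    (x5 (u*v) * x6 0 (u*q*v+u*q*q*σ q+u*σ v))))) := by
  rw [H.r28y]; simp only [mul_assoc]
theorem t28 (u q v : F) (w : G) : x2 0 u * (x8 q v * w) = x8 q v * (x2 0 u * (x3 (u*q) * (x4 0 (σ u*q*σ q + σ u * v) *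
    (x5 (u*v) * (x6 0 (u*q*v+u*q*q*σ q+u*σ v) * w))))) := by
  rw [← mul_assoc, H.s28]; simp only [mul_assoc]


theorem inj2 {p u a b b' c d d' e p₁ u₁ a₁ b₁ b₁' c₁ d₁ d₁' e₁ : F}
    (h : x2 p u * (x3 a * (x4 b b' * (x5 c * (x6 d d' * x7 e)))) =
      x2 p₁ u₁ * (x3 a₁ * (x4 b₁ b₁' * (x5 c₁ * (x6 d₁ d₁' * x7 e₁))))) :
    p = p₁ ∧ u = u₁ ∧ a = a₁ ∧ b = b₁ ∧ b' = b₁' ∧ c = c₁ ∧ d = d₁ ∧ d' = d₁' ∧ e = e₁ := by
  exact (H.inj (congrArg (fun g => x1 0 * g) h)).2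

theorem inj3 {a b b' c d d' e a₁ b₁ b₁' c₁ d₁ d₁' e₁ : F}
    (h : x3 a * (x4 b b' * (x5 c * (x6 d d' * x7 e))) =
      x3 a₁ * (x4 b₁ b₁' * (x5 c₁ * (x6 d₁ d₁' * x7 e₁)))) :
    a = a₁ ∧ b = b₁ ∧ b' = b₁' ∧ c = c₁ ∧ d = d₁ ∧ d' = d₁' ∧ e = e₁ := by
  exact (H.inj2 (congrArg (fun g => x2 0 0 * g) h)).2.2


section T28

variable {p u q v a b b' c d d' e : F}

theorem hw (h : x2 p u * x8 q v = x8 q v * x2 p u * (x3 a * (x4 b b' * (x5 c * (x6 d d' * x7 e))))) (w : G) :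
    x2 p u * (x8 q v * w) = x8 q v * (x2 p u * (x3 a * (x4 b b' * (x5 c * (x6 d d' * (x7 e * w)))))) := by
  rw [← mul_assoc, h]; simp only [mul_assoc]


theorem t3 (h : x2 p u * x8 q v = x8 q v * x2 p u * (x3 a * (x4 b b' * (x5 c * (x6 d d' * x7 e))))) : d = p * σ q := by
  have R := H.rel
  have h' : x2 p u * x8 q v = x8 q v * (x2 p u * (x3 a * (x4 b b' * (x5 c * (x6 d d' * x7 e))))) := by rw [h, mul_assoc]
  have e1 : x3 1 * (x2 p u * x8 q v) = x2 p u * (x3 1 * x8 q v) := by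
    rw [R.a23]
  simp only [h', H.hw h, mul_assoc, H.s38, H.t38, H.s48, H.t48, H.s58, H.t58, H.s68, H.t68, H.s78, H.t78, H.s28, H.t28] at e1
  replace e1 := mul_left_cancel e1
  simp only [mul_assoc, R.m1, R.b1, R.m3, R.b3, R.m5, R.b5, R.m7, R.b7, R.m2, R.b2, R.m4, R.b4, R.m6, R.b6, R.m8, R.b8, R.q12, R.a12, R.q13, R.a13, R.q14, R.a14, R.q15, R.a15, R.q16, R.a16, R.q17, R.a17, R.q23, R.a23, R.q24, R.a24, R.q25, R.a25, R.q26, R.a26, R.q27, R.a27, R.q34, R.a34, R.q35, R.a35, R.q36, R.a36, R.q37, R.a37, R.q45, R.a45, R.q46, R.a46, R.q47, R.a47, R.q56, R.a56, R.q57, R.a57, R.q67, R.a67] at e1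
  have e2 := H.inj2 e1
  simp only [map_one, map_zero] at e2
  have h2 := H.two
  grind

theorem t7 (h : x2 p u * x8 q v = x8 q v * x2 p u * (x3 a * (x4 b b' * (x5 c * (x6 d d' * x7 e))))) : b = σ p * q := by
  have R := H.rel
  have h' : x2 p u * x8 q v = x8 q v * (x2 p u * (x3 a * (x4 b b' * (x5 c * (x6 d d' * x7 e))))) := by rw [h, mul_assoc]
  have e1 : x7 1 * (x2 p u * x8 q v) = x2 p u * (x7 1 * (x4 0 (p * σ p * 1 + u * 1) * (x5 (σ p * 1) * (x6 0 (p * σ 1) * x8 q v)))) := by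
    rw [R.a27]
  simp only [h', H.hw h, mul_assoc, H.s38, H.t38, H.s48, H.t48, H.s58, H.t58, H.s68, H.t68, H.s78, H.t78, H.s28, H.t28] at e1
  replace e1 := mul_left_cancel e1
  simp only [mul_assoc, R.m1, R.b1, R.m3, R.b3, R.m5, R.b5, R.m7, R.b7, R.m2, R.b2, R.m4, R.b4, R.m6, R.b6, R.m8, R.b8, R.q12, R.a12, R.q13, R.a13, R.q14, R.a14, R.q15, R.a15, R.q16, R.a16, R.q17, R.a17, R.q23, R.a23, R.q24, R.a24, R.q25, R.a25, R.q26, R.a26, R.q27, R.a27, R.q34, R.a34, R.q35, R.a35, R.q36, R.a36, R.q37, R.a37, R.q45, R.a45, R.q46, R.a46, R.q47, R.a47, R.q56, R.a56, R.q57, R.a57, R.q67, R.a67] at e1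
  have e2 := H.inj2 e1
  simp only [map_one, map_zero] at e2
  have h2 := H.two
  grind

theorem ty2 (h : x2 p u * x8 q v = x8 q v * x2 p u * (x3 a * (x4 b b' * (x5 c * (x6 d d' * x7 e))))) : e = p * v + p * q * σ q := by
  have R := H.rel
  have h' : x2 p u * x8 q v = x8 q v * (x2 p u * (x3 a * (x4 b b' * (x5 c * (x6 d d' * x7 e))))) := by rw [h, mul_assoc]
  have e1 : x2 0 1 * (x2 p u * x8 q v) = x2 p u * (x2 0 1 * x8 q v) := by
    rw [R.b2, R.b2]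
    congr 2 <;> simp [add_comm]
  simp only [h', H.hw h, mul_assoc, H.s38, H.t38, H.s48, H.t48, H.s58, H.t58, H.s68, H.t68, H.s78, H.t78, H.s28, H.t28] at e1
  replace e1 := mul_left_cancel e1
  simp only [mul_assoc, R.m1, R.b1, R.m3, R.b3, R.m5, R.b5, R.m7, R.b7, R.m2, R.b2, R.m4, R.b4, R.m6, R.b6, R.m8, R.b8, R.q12, R.a12, R.q13, R.a13, R.q14, R.a14, R.q15, R.a15, R.q16, R.a16, R.q17, R.a17, R.q23, R.a23, R.q24, R.a24, R.q25, R.a25, R.q26, R.a26, R.q27, R.a27, R.q34, R.a34, R.q35, R.a35, R.q36, R.a36, R.q37, R.a37, R.q45, R.a45, R.q46, R.a46, R.q47, R.a47, R.q56, R.a56, R.q57, R.a57, R.q67, R.a67] at e1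
  have e2 := H.inj2 e1
  simp only [map_one, map_zero] at e2
  have h2 := H.two
  have h3 := H.t3 h
  grind

theorem mir28 {a₂ b₂ b₂' c₂ d₂ d₂' e₂ : F} (h : x2 p u * x8 q v = x8 q v * x2 p u * (x3 a * (x4 b b' * (x5 c * (x6 d d' * x7 e)))))
    (h₂ : x2 q v * x8 p u = x8 p u * x2 q v * (x3 a₂ * (x4 b₂ b₂' * (x5 c₂ * (x6 d₂ d₂' * x7 e₂))))) : a₂ = e ∧ c₂ = c ∧ b₂' = d' + p * σ p * q * q * σ q := by
  have R := H.rel
  have h3 := mir1' n1 h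
  simp only [map_mul, H.c12, H.c13, H.c14, H.c15, H.c16, H.c17, H.c18] at h3
  rw [h₂, mul_assoc] at h3
  have h4 : (x3 a₂ * (x4 b₂ b₂' * (x5 c₂ * (x6 d₂ d₂' * x7 e₂)))) * (x7 a * (x6 b b' * (x5 c * (x4 d d' * x3 e)))) = 1 := by
    have := congrArg (fun g => (x8 p u * x2 q v)⁻¹ * g) h3
    simpa [mul_assoc] using this.symm
  have e1 : (x3 a₂ * (x4 b₂ b₂' * (x5 c₂ * (x6 d₂ d₂' * x7 e₂)))) * (x7 a * (x6 b b' * (x5 c * (x4 d d' * x3 e)))) =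
      x3 0 * (x4 0 0 * (x5 0 * (x6 0 0 * x7 0))) := by
    rw [h4, H.z3, H.z4, H.z5, H.z6, H.z7]; simp
  simp only [mul_assoc, R.m1, R.b1, R.m3, R.b3, R.m5, R.b5, R.m7, R.b7, R.m2, R.b2, R.m4, R.b4, R.m6, R.b6, R.m8, R.b8, R.q12, R.a12, R.q13, R.a13, R.q14, R.a14, R.q15, R.a15, R.q16, R.a16, R.q17, R.a17, R.q23, R.a23, R.q24, R.a24, R.q25, R.a25, R.q26, R.a26, R.q27, R.a27, R.q34, R.a34, R.q35, R.a35, R.q36, R.a36, R.q37, R.a37, R.q45, R.a45, R.q46, R.a46, R.q47, R.a47, R.q56, R.a56, R.q57, R.a57, R.q67, R.a67] at e1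
  obtain ⟨g1, g2, g3, g4, g5, g6, g7⟩ := H.inj3 e1
  have h2 := H.two
  have h33 := H.t3 h
  have h77 := H.t7 h
  subst h33 h77
  simp only [map_zero, map_mul, map_add, H.sq, zero_add, zero_mul, add_zero] at g1 g2 g3 g4 g5
  clear h h₂ h3 h4 e1 R H
  refine ⟨?_, ?_, ?_⟩
  · linear_combination g1 - e * h2
  · linear_combination g4 - p * σ q * g5 - c * h2
  · grind


theorem ty8 (h : x2 p u * x8 q v = x8 q v * x2 p u * (x3 a * (x4 b b' * (x5 c * (x6 d d' * x7 e))))) : a = q * u + q * p * σ p := by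
  obtain ⟨a₂, b₂, b₂', c₂, d₂, d₂', e₂, h₂⟩ := H.e28 q v p u
  rw [(H.mir28 h₂ h).1, H.ty2 h₂]


end T28

section T18

variable {t q v g g' a b b' c d d' e : F}


theorem kw (h : x1 t * x8 q v = x8 q v * x1 t * (x2 g g' * (x3 a * (x4 b b' * (x5 c * (x6 d d' * x7 e)))))) (w : G) :
    x1 t * (x8 q v * w) = x8 q v * (x1 t * (x2 g g' * (x3 a * (x4 b b' * (x5 c * (x6 d d' * (x7 e * w))))))) := by
  rw [← mul_assoc, h]; simp only [mul_assoc]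


theorem u5 (h : x1 t * x8 q v = x8 q v * x1 t * (x2 g g' * (x3 a * (x4 b b' * (x5 c * (x6 d d' * x7 e)))))) : g = t * q := by
  have R := H.rel
  have h' : x1 t * x8 q v = x8 q v * (x1 t * (x2 g g' * (x3 a * (x4 b b' * (x5 c * (x6 d d' * x7 e)))))) := by rw [h, mul_assoc]
  have e1 : x5 1 * (x1 t * x8 q v) = x1 t * (x5 1 * x8 q v) := by
    rw [R.a15]
  simp only [h', H.kw h, mul_assoc, H.s38, H.t38, H.s48, H.t48, H.s58, H.t58, H.s68, H.t68, H.s78, H.t78, H.s28, H.t28] at e1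
  replace e1 := mul_left_cancel e1
  simp only [mul_assoc, R.m1, R.b1, R.m3, R.b3, R.m5, R.b5, R.m7, R.b7, R.m2, R.b2, R.m4, R.b4, R.m6, R.b6, R.m8, R.b8, R.q12, R.a12, R.q13, R.a13, R.q14, R.a14, R.q15, R.a15, R.q16, R.a16, R.q17, R.a17, R.q23, R.a23, R.q24, R.a24, R.q25, R.a25, R.q26, R.a26, R.q27, R.a27, R.q34, R.a34, R.q35, R.a35, R.q36, R.a36, R.q37, R.a37, R.q45, R.a45, R.q46, R.a46, R.q47, R.a47, R.q56, R.a56, R.q57, R.a57, R.q67, R.a67] at e1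
  have e2 := H.inj e1
  simp only [map_one, map_zero] at e2
  have h2 := H.two
  clear h h' e1 R
  grind

theorem u3 (h : x1 t * x8 q v = x8 q v * x1 t * (x2 g g' * (x3 a * (x4 b b' * (x5 c * (x6 d d' * x7 e)))))) : d = t * v := by
  have R := H.rel
  have h' : x1 t * x8 q v = x8 q v * (x1 t * (x2 g g' * (x3 a * (x4 b b' * (x5 c * (x6 d d' * x7 e)))))) := by rw [h, mul_assoc]
  have e1 : x3 1 * (x1 t * x8 q v) = x1 t * (x3 1 * x8 q v) := by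
    rw [R.a13]
  simp only [h', H.kw h, mul_assoc, H.s38, H.t38, H.s48, H.t48, H.s58, H.t58, H.s68, H.t68, H.s78, H.t78, H.s28, H.t28] at e1
  replace e1 := mul_left_cancel e1
  simp only [mul_assoc, R.m1, R.b1, R.m3, R.b3, R.m5, R.b5, R.m7, R.b7, R.m2, R.b2, R.m4, R.b4, R.m6, R.b6, R.m8, R.b8, R.q12, R.a12, R.q13, R.a13, R.q14, R.a14, R.q15, R.a15, R.q16, R.a16, R.q17, R.a17, R.q23, R.a23, R.q24, R.a24, R.q25, R.a25, R.q26, R.a26, R.q27, R.a27, R.q34, R.a34, R.q35, R.a35, R.q36, R.a36, R.q37, R.a37, R.q45, R.a45, R.q46, R.a46, R.q47, R.a47, R.q56, R.a56, R.q57, R.a57, R.q67, R.a67] at e1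
  have e2 := H.inj e1
  simp only [map_one, map_zero] at e2
  have h2 := H.two
  have h5 := H.u5 h
  clear h h' e1 R H
  grind

theorem uy2 (h : x1 t * x8 q v = x8 q v * x1 t * (x2 g g' * (x3 a * (x4 b b' * (x5 c * (x6 d d' * x7 e)))))) : e = t * (q * v + q * q * σ q + σ v) := by
  have R := H.rel
  have h' : x1 t * x8 q v = x8 q v * (x1 t * (x2 g g' * (x3 a * (x4 b b' * (x5 c * (x6 d d' * x7 e)))))) := by rw [h, mul_assoc]
  have e1 : x2 0 1 * (x1 t * x8 q v) = x1 t * (x2 0 1 * x8 q v) := by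
    rw [R.a12]
  simp only [h', H.kw h, mul_assoc, H.s38, H.t38, H.s48, H.t48, H.s58, H.t58, H.s68, H.t68, H.s78, H.t78, H.s28, H.t28] at e1
  replace e1 := mul_left_cancel e1
  simp only [mul_assoc, R.m1, R.b1, R.m3, R.b3, R.m5, R.b5, R.m7, R.b7, R.m2, R.b2, R.m4, R.b4, R.m6, R.b6, R.m8, R.b8, R.q12, R.a12, R.q13, R.a13, R.q14, R.a14, R.q15, R.a15, R.q16, R.a16, R.q17, R.a17, R.q23, R.a23, R.q24, R.a24, R.q25, R.a25, R.q26, R.a26, R.q27, R.a27, R.q34, R.a34, R.q35, R.a35, R.q36, R.a36, R.q37, R.a37, R.q45, R.a45, R.q46, R.a46, R.q47, R.a47, R.q56, R.a56, R.q57, R.a57, R.q67, R.a67] at e1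
  have e2 := H.inj e1
  simp only [map_one, map_zero] at e2
  have h2 := H.two
  have h5 := H.u5 h
  have h3 := H.u3 h
  clear h h' e1 R H
  grind

theorem u7 (h : x1 t * x8 q v = x8 q v * x1 t * (x2 g g' * (x3 a * (x4 b b' * (x5 c * (x6 d d' * x7 e)))))) : b = σ t * (q * σ q + v) ∧ g' = t * σ t * (q * σ q + v) := by
  have R := H.rel
  have h' : x1 t * x8 q v = x8 q v * (x1 t * (x2 g g' * (x3 a * (x4 b b' * (x5 c * (x6 d d' * x7 e)))))) := by rw [h, mul_assoc]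
  have e1 : x7 1 * (x1 t * x8 q v) = x1 t * (x7 1 * (x3 (σ t * 1) * (x5 (t * σ 1) * x8 q v))) := by
    rw [R.a17]
  simp only [h', H.kw h, mul_assoc, H.s38, H.t38, H.s48, H.t48, H.s58, H.t58, H.s68, H.t68, H.s78, H.t78, H.s28, H.t28] at e1
  replace e1 := mul_left_cancel e1
  simp only [mul_assoc, R.m1, R.b1, R.m3, R.b3, R.m5, R.b5, R.m7, R.b7, R.m2, R.b2, R.m4, R.b4, R.m6, R.b6, R.m8, R.b8, R.q12, R.a12, R.q13, R.a13, R.q14, R.a14, R.q15, R.a15, R.q16, R.a16, R.q17, R.a17, R.q23, R.a23, R.q24, R.a24, R.q25, R.a25, R.q26, R.a26, R.q27, R.a27, R.q34, R.a34, R.q35, R.a35, R.q36, R.a36, R.q37, R.a37, R.q45, R.a45, R.q46, R.a46, R.q47, R.a47, R.q56, R.a56, R.q57, R.a57, R.q67, R.a67] at e1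
  have e2 := H.inj e1
  simp only [map_one, map_zero] at e2
  have h2 := H.two
  have h5 := H.u5 h
  have h3 := H.u3 h
  have hy := H.uy2 h
  subst h5 h3 hy
  clear h h' e1 R
  simp only [map_zero, map_one, map_mul, map_add, H.sq, zero_add, zero_mul, add_zero, mul_one, mul_zero, one_mul] at e2
  obtain ⟨-, -, -, -, -, g1, g2, g3, g4, g5⟩ := e2
  clear H
  constructor <;> grind

theorem u6 (h : x1 t * x8 q v = x8 q v * x1 t * (x2 g g' * (x3 a * (x4 b b' * (x5 c * (x6 d d' * x7 e)))))) : a = t * σ t * (q * v + q * q * σ q + σ v) := by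
  have R := H.rel
  have h' : x1 t * x8 q v = x8 q v * (x1 t * (x2 g g' * (x3 a * (x4 b b' * (x5 c * (x6 d d' * x7 e)))))) := by rw [h, mul_assoc]
  have e1 : x6 1 0 * (x1 t * x8 q v) = x1 t * (x6 1 0 * (x2 0 (σ t * 1) * (x3 (t * σ 1) * (x4 0 (t * 1 * σ 1 + t * 0) * x8 q v)))) := by
    rw [R.a16]
  simp only [h', H.kw h, mul_assoc, H.s38, H.t38, H.s48, H.t48, H.s58, H.t58, H.s68, H.t68, H.s78, H.t78, H.s28, H.t28] at e1
  replace e1 := mul_left_cancel e1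
  simp only [mul_assoc, R.m1, R.b1, R.m3, R.b3, R.m5, R.b5, R.m7, R.b7, R.m2, R.b2, R.m4, R.b4, R.m6, R.b6, R.m8, R.b8, R.q12, R.a12, R.q13, R.a13, R.q14, R.a14, R.q15, R.a15, R.q16, R.a16, R.q17, R.a17, R.q23, R.a23, R.q24, R.a24, R.q25, R.a25, R.q26, R.a26, R.q27, R.a27, R.q34, R.a34, R.q35, R.a35, R.q36, R.a36, R.q37, R.a37, R.q45, R.a45, R.q46, R.a46, R.q47, R.a47, R.q56, R.a56, R.q57, R.a57, R.q67, R.a67] at e1
  have e2 := H.inj e1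
  simp only [map_one, map_zero] at e2
  have h2 := H.two
  have h5 := H.u5 h
  have h3 := H.u3 h
  have hy := H.uy2 h
  obtain ⟨h7, h7'⟩ := H.u7 h
  subst h5 h3 hy h7 h7'
  clear h h' e1 R
  simp only [map_zero, map_one, map_mul, map_add, H.sq, zero_add, zero_mul, add_zero, mul_one, mul_zero, one_mul] at e2
  obtain ⟨-, -, -, -, -, g1, g2, g3, g4, g5⟩ := e2
  clear H
  grind

theorem mu1 {s q₂ v₂ g₂ g₂' a₂ b₂ b₂' c₂ d₂ d₂' e₂ : F} (ht : t ≠ 0) (hq : q ≠ 0)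
    (h : x1 t * x8 q 0 = x8 q 0 * x1 t * (x2 g g' * (x3 a * (x4 b b' * (x5 c * (x6 d d' * x7 e))))))
    (h₂ : x1 s * x8 q₂ v₂ = x8 q₂ v₂ * x1 s * (x2 g₂ g₂' * (x3 a₂ * (x4 b₂ b₂' * (x5 c₂ * (x6 d₂ d₂' * x7 e₂))))))
    (hm : (x8 q 0)⁻¹ * x1 t * x8 q 0 = n8⁻¹ * ((x8 q₂ v₂)⁻¹ * x1 s * x8 q₂ v₂) * n8) :
    s = t * q * q * σ q ∧ q₂ = 0 ∧ s * v₂ = t * q ∧ c = t * σ t * q * q * σ q * σ q ∧
      d' = t * σ t * q * q * q * σ q * σ q ∧ c₂ = s * σ s * v₂ * v₂ ∧ d₂' = 0 ∧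
      b₂' = b' + s * s * σ s * v₂ * σ v₂ := by
  have R := H.rel
  have e0 : (x8 q 0)⁻¹ * x1 t * x8 q 0 = x1 t * (x2 g g' * (x3 a * (x4 b b' * (x5 c * (x6 d d' * x7 e))))) := by
    rw [mul_assoc, h]; simp only [mul_assoc, inv_mul_cancel_left]
  have e00 : (x8 q₂ v₂)⁻¹ * x1 s * x8 q₂ v₂ = x1 s * (x2 g₂ g₂' * (x3 a₂ * (x4 b₂ b₂' * (x5 c₂ * (x6 d₂ d₂' * x7 e₂))))) := by
    rw [mul_assoc, h₂]; simp only [mul_assoc, inv_mul_cancel_left]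
  rw [e0, e00, ← cj_apply] at hm
  simp only [map_mul, H.c81, H.c82, H.c83, H.c84, H.c85, H.c86, H.c87] at hm
  simp only [mul_assoc, R.m1, R.b1, R.m3, R.b3, R.m5, R.b5, R.m7, R.b7, R.m2, R.b2, R.m4, R.b4, R.m6, R.b6, R.m8, R.b8, R.q12, R.a12, R.q13, R.a13, R.q14, R.a14, R.q15, R.a15, R.q16, R.a16, R.q17, R.a17, R.q23, R.a23, R.q24, R.a24, R.q25, R.a25, R.q26, R.a26, R.q27, R.a27, R.q34, R.a34, R.q35, R.a35, R.q36, R.a36, R.q37, R.a37, R.q45, R.a45, R.q46, R.a46, R.q47, R.a47, R.q56, R.a56, R.q57, R.a57, R.q67, R.a67] at hm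
  have e2 := H.inj hm
  have h2 := H.two
  have h5 := H.u5 h
  have h3 := H.u3 h
  have hy := H.uy2 h
  have h6 := H.u6 h
  obtain ⟨h7, h7'⟩ := H.u7 h
  have k5 := H.u5 h₂
  have k3 := H.u3 h₂
  have ky := H.uy2 h₂
  have k6 := H.u6 h₂
  obtain ⟨k7, k7'⟩ := H.u7 h₂
  clear h h₂ e0 e00 hm R
  simp only [map_zero, map_one, map_mul, map_add, H.sq, zero_add, zero_mul, add_zero, mul_one, mul_zero, one_mul] at e2
  obtain ⟨g1, g2, g3, g4, g5, g6, g7, g8, g9, g10⟩ := e2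
  have hσq : σ q ≠ 0 := fun h0 => hq (by simpa using h0)
  have hσt : σ t ≠ 0 := fun h0 => ht (by simpa using h0)
  have hs : s = t * q * q * σ q := by rw [← g10, hy, map_zero]; ring
  have hs0 : s ≠ 0 := by rw [hs]; positivity
  have hq2 : q₂ = 0 := by
    have : s * q₂ = 0 := by rw [← k5, ← g8, h3, mul_zero]
    exact (mul_eq_zero.1 this).resolve_left hs0
  have hv2 : s * v₂ = t * q := by rw [← k3, ← g2, h5]
  have hσs : σ s = σ t * σ q * σ q * (q * q) := by rw [hs]; simp only [map_mul, H.sq]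
  have hσv : σ s * σ v₂ = σ t * σ q := by rw [← map_mul, hv2, map_mul]
  have hv3 : q * σ q * v₂ = 1 := by
    have h8 : t * q * (q * σ q * v₂) = t * q * 1 := by
      rw [mul_one]
      conv_rhs => rw [← hv2, hs]
      ring
    exact mul_left_cancel₀ (mul_ne_zero ht hq) h8
  have hd2 : d₂ = t * q := by rw [← g2, h5]
  have he2 : e₂ = t := g1.symm
  subst hq2
  simp only [map_zero, zero_add, zero_mul, add_zero, mul_zero] at k6 k7 k7' k5 h7 h7' h6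
  have ha2 : a₂ = s * (σ t * σ q) := by rw [k6, ← hσv]; ring
  refine ⟨hs, rfl, hv2, ?_, ?_, ?_, ?_, ?_⟩
  · -- c
    rw [g7, k5, ha2, hd2, he2, map_mul, hσs]
    linear_combination (s * σ t * σ q) * h2
  · rw [g9, k7, k7', hd2, hσs]
    linear_combination (s * v₂ * (σ t * σ q * σ q * (q * q))) * h2
  · have e1 : s * σ s * v₂ * v₂ = t * q * (σ s * v₂) := by rw [← hv2]; ring
    rw [e1, hσs]
    rw [h6, he2, k5, map_zero, hd2, k7, hσs] at g4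
    linear_combination -g4 - σ t * hs - (t * q * (σ t * σ q * σ q * (q * q) * v₂)) * h2
  · rw [h7', k5, he2, k7, hσs] at g3
    linear_combination -g3 - t * σ t * σ q * q * hv3
  · have hd2' : d₂' = 0 := by
      rw [h7', k5, he2, k7, hσs] at g3
      linear_combination -g3 - t * σ t * σ q * q * hv3
    have e1 : s * s * σ s * v₂ * σ v₂ = t * q * (σ t * σ q) * s := by rw [← hσv, ← hv2]; ring
    rw [e1]
    rw [hd2, he2, k5, hd2', ha2, k7, k7', map_mul, hσs] at g6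
    rw [hs] at g6 ⊢
    linear_combination -g6 - (2 * (t ^ 2 * q ^ 3 * σ t * σ q ^ 2) + t ^ 2 * q ^ 4 * σ t * σ q ^ 3 * v₂) * h2


theorem s47 (s u : F) : x7 s * x4 0 u = x4 0 u * x7 s := by
  rw [H.q47, zero_mul, H.z6, mul_one]

theorem rev4 (A B C D : F) : x7 A * (x6 0 B * (x5 C * x4 0 D)) = x4 0 D * (x5 C * (x6 0 B * x7 A)) := by
  rw [H.q45, ← mul_assoc (x6 0 B), ← H.s46, mul_assoc, H.q56, ← mul_assoc, H.s47, mul_assoc,
    ← mul_assoc (x7 A), H.q57, mul_assoc, H.q67]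

theorem s28z (p u v : F) : x2 p u * x8 0 v = x8 0 v * (x2 p u * (x4 0 (p*u*v + p*p*σ p*v + σ u*v) *
    (x5 (u * v) * (x6 0 (p*σ p*σ v + u*σ v) * x7 (p*v))))) := by
  have R := H.rel
  have h3 := mir1' n1 (H.r28y v p u)
  rw [map_mul, map_mul, map_mul, map_mul, map_mul, map_mul] at h3
  simp only [H.c12, H.c13, H.c14, H.c15, H.c16, H.c18] at h3
  have h4 : x8 0 v * x2 p u = x2 p u * x8 0 v * (x7 (v * p) * (x6 0 (σ v * p * σ p + σ v * u) *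
      (x5 (v * u) * x4 0 (v * p * u + v * p * p * σ p + v * σ u)))) := by
    rw [h3]; simp only [mul_assoc]
  have h5 := inv_rel h4 (by
    refine invol2 (H.i7 _) (invol3 (H.i6 _) (H.i5 _) (H.i4 _) (H.q56 _ _ _) (H.s46 _ _).symm (H.q45 _ _ _)) ?_
    exact ((show Commute _ _ from H.q67 _ _ _).mul_right
      ((show Commute _ _ from H.q57 _ _).mul_right (H.s47 _ _))).eq)
  rw [h5, H.rev4]
  congr 2
  have e1 : v * p * u + v * p * p * σ p + v * σ u = p*u*v + p*p*σ p*v + σ u*v := by ring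
  have e2 : σ v * p * σ p + σ v * u = p*σ p*σ v + u*σ v := by ring
  rw [e1, e2, mul_comm v u, mul_comm v p]


theorem sqr {g₂ g₂' a₂ b₂ b₂' c₂ d₂ d₂' e₂ a₀ b₀ b₀' c₀ d₀ d₀' e₀ : F}
    (h : x1 t * x8 q 0 = x8 q 0 * x1 t * (x2 g g' * (x3 a * (x4 b b' * (x5 c * (x6 d d' * x7 e))))))
    (h₂ : x1 t * x8 0 (q * σ q) = x8 0 (q * σ q) * x1 t * (x2 g₂ g₂' * (x3 a₂ * (x4 b₂ b₂' * (x5 c₂ * (x6 d₂ d₂' * x7 e₂))))))
    (h₀ : x2 g g' * x8 q 0 = x8 q 0 * x2 g g' * (x3 a₀ * (x4 b₀ b₀' * (x5 c₀ * (x6 d₀ d₀' * x7 e₀)))))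
    (hc : c = t * σ t * q * q * σ q * σ q) (hc₂ : c₂ = t * σ t * (q * σ q) * (q * σ q)) (hd₂ : d₂' = 0) :
    c₀ = 0 ∧ d₀' = 0 ∧ b₂' = b₀' := by
  have R := H.rel
  have h' : x1 t * x8 q 0 = x8 q 0 * (x1 t * (x2 g g' * (x3 a * (x4 b b' * (x5 c * (x6 d d' * x7 e)))))) := by rw [h, mul_assoc]
  have h₀' : x2 g g' * x8 q 0 = x8 q 0 * (x2 g g' * (x3 a₀ * (x4 b₀ b₀' * (x5 c₀ * (x6 d₀ d₀' * x7 e₀))))) := by rw [h₀, mul_assoc]
  have e0 : x8 q 0 * (x8 q 0 * (x1 t * (x2 g₂ g₂' * (x3 a₂ * (x4 b₂ b₂' * (x5 c₂ * (x6 d₂ d₂' * x7 e₂))))))) = x1 t * (x8 q 0 * x8 q 0) := by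
    rw [R.m8, R.b8, ← mul_assoc, zero_add, zero_add]
    have : x8 (q + q) (q * σ q) = x8 0 (q * σ q) := by rw [H.dbl]
    rw [this, h₂]
  simp only [h', H.kw h, h₀', H.hw h₀, mul_assoc, H.s38, H.t38, H.s48, H.t48, H.s58, H.t58, H.s68, H.t68, H.s78, H.t78, H.s28, H.t28] at e0
  replace e0 := mul_left_cancel (mul_left_cancel e0)
  simp only [mul_assoc, R.m1, R.b1, R.m3, R.b3, R.m5, R.b5, R.m7, R.b7, R.m2, R.b2, R.m4, R.b4, R.m6, R.b6, R.m8, R.b8, R.q12, R.a12, R.q13, R.a13, R.q14, R.a14, R.q15, R.a15, R.q16, R.a16, R.q17, R.a17, R.q23, R.a23, R.q24, R.a24, R.q25, R.a25, R.q26, R.a26, R.q27, R.a27, R.q34, R.a34, R.q35, R.a35, R.q36, R.a36, R.q37, R.a37, R.q45, R.a45, R.q46, R.a46, R.q47, R.a47, R.q56, R.a56, R.q57, R.a57, R.q67, R.a67] at e0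
  have e2 := H.inj e0
  have h2 := H.two
  have h5 := H.u5 h
  have h3 := H.u3 h
  have hy := H.uy2 h
  have h6 := H.u6 h
  obtain ⟨h7, h7'⟩ := H.u7 h
  have k5 := H.u5 h₂
  have k3 := H.u3 h₂
  have ky := H.uy2 h₂
  have k6 := H.u6 h₂
  obtain ⟨k7, k7'⟩ := H.u7 h₂
  have j3 := H.t3 h₀
  have j7 := H.t7 h₀
  have jy := H.ty2 h₀
  clear h h₂ h₀ h' h₀' e0 R
  simp only [map_zero, map_one, map_mul, map_add, H.sq, zero_add, zero_mul, add_zero, mul_one, mul_zero, one_mul] at e2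
  obtain ⟨-, -, -, -, -, g1, g2, -, g3, -⟩ := e2
  simp only [map_zero, map_mul, H.sq, zero_add, zero_mul, add_zero, mul_zero] at h5 h3 hy h6 h7 h7' k5 k3 ky k6 k7 k7' j3 j7 jy
  subst h5 h3 hy h6 h7 h7' k5 k3 ky k6 k7 k7' j3 j7 jy hc hc₂ hd₂
  simp only [map_mul, H.sq, map_zero] at g1 g2 g3
  clear H
  refine ⟨?_, ?_, ?_⟩ <;> grind


theorem t28z (p u v : F) (w : G) : x2 p u * (x8 0 v * w) = x8 0 v * (x2 p u * (x4 0 (p*u*v + p*p*σ p*v + σ u*v) *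
    (x5 (u * v) * (x6 0 (p*σ p*σ v + u*σ v) * (x7 (p*v) * w))))) := by
  rw [← mul_assoc, H.s28z]; simp only [mul_assoc]


theorem glue28 {p u : F} {a₀ b₀ b₀' c₀ d₀ d₀' e₀ : F}
    (h : x2 p u * x8 q v = x8 q v * x2 p u * (x3 a * (x4 b b' * (x5 c * (x6 d d' * x7 e)))))
    (h₀ : x2 p (p * σ p) * x8 q 0 = x8 q 0 * x2 p (p * σ p) * (x3 a₀ * (x4 b₀ b₀' * (x5 c₀ * (x6 d₀ d₀' * x7 e₀))))) (hc : c₀ = 0) (hd : d₀' = 0) :
    c = u * v ∧ d' = p * σ p * q * q * σ q + p * σ p * σ v + u * q * v + u * q * q * σ q + u * σ v := by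
  have R := H.rel
  have h₀' : x2 p (p * σ p) * x8 q 0 = x8 q 0 * (x2 p (p * σ p) * (x3 a₀ * (x4 b₀ b₀' * (x5 c₀ * (x6 d₀ d₀' * x7 e₀))))) := by rw [h₀, mul_assoc]
  have e0 : x8 q v * (x2 p u * (x3 a * (x4 b b' * (x5 c * (x6 d d' * x7 e))))) =
      x2 p (p * σ p) * (x2 0 (u + p * σ p) * (x8 q 0 * x8 0 v)) := by
    rw [R.m8, ← mul_assoc (x2 _ _) (x2 _ _), R.m2]
    have e1 : x2 (p + 0) (p * σ p + (u + p * σ p) + p * σ 0) = x2 p u := by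
      congr 1 <;> simp
      linear_combination (p * σ p) * H.two
    have e2 : x8 (q + 0) (0 + v + q * σ 0) = x8 q v := by simp
    rw [e1, e2, h, mul_assoc]
  have e3 : x8 q v = x8 q 0 * x8 0 v := by rw [R.m8]; simp
  rw [e3, mul_assoc] at e0
  simp only [h₀', H.hw h₀, H.s28z, H.t28z, mul_assoc, H.s38, H.t38, H.s48, H.t48, H.s58, H.t58, H.s68, H.t68, H.s78, H.t78, H.s28, H.t28] at e0
  replace e0 := mul_left_cancel (mul_left_cancel e0)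
  simp only [mul_assoc, R.m1, R.b1, R.m3, R.b3, R.m5, R.b5, R.m7, R.b7, R.m2, R.b2, R.m4, R.b4, R.m6, R.b6, R.m8, R.b8, R.q12, R.a12, R.q13, R.a13, R.q14, R.a14, R.q15, R.a15, R.q16, R.a16, R.q17, R.a17, R.q23, R.a23, R.q24, R.a24, R.q25, R.a25, R.q26, R.a26, R.q27, R.a27, R.q34, R.a34, R.q35, R.a35, R.q36, R.a36, R.q37, R.a37, R.q45, R.a45, R.q46, R.a46, R.q47, R.a47, R.q56, R.a56, R.q57, R.a57, R.q67, R.a67] at e0
  have e2 := H.inj2 e0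
  have h2 := H.two
  have i3 := H.t3 h
  have i7 := H.t7 h
  have iy := H.ty2 h
  have j3 := H.t3 h₀
  have j7 := H.t7 h₀
  have jy := H.ty2 h₀
  have jz := H.ty8 h₀
  clear h h₀ h₀' e0 e3 R
  simp only [map_zero, map_one, map_mul, map_add, H.sq, zero_add, zero_mul, add_zero, mul_one, mul_zero, one_mul] at e2 i3 i7 iy j3 j7 jy jz
  obtain ⟨-, -, -, -, -, g1, -, g2, -⟩ := e2
  subst i3 i7 iy j3 j7 jy jz hc hd
  clear H
  constructor <;> grind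


theorem x18 (ht : t ≠ 0) (hq : q ≠ 0) (h : x1 t * x8 q 0 = x8 q 0 * x1 t * (x2 g g' * (x3 a * (x4 b b' * (x5 c * (x6 d d' * x7 e)))))) :
    c = t * σ t * q * q * σ q * σ q ∧ d' = t * σ t * q * q * q * σ q * σ q := by
  obtain ⟨s, q₂, v₂, hm⟩ := H.muM t q hq
  obtain ⟨g₂, g₂', a₂, b₂, b₂', c₂, d₂, d₂', e₂, h₂⟩ := H.e18 s q₂ v₂
  have h3 := H.mu1 ht hq h h₂ hm
  exact ⟨h3.2.2.2.1, h3.2.2.2.2.1⟩

theorem y18 {s g₂ g₂' a₂ b₂ b₂' c₂ d₂ d₂' e₂ : F} (hs : s ≠ 0) (hq : q ≠ 0)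
    (h₂ : x1 s * x8 0 (q * σ q) = x8 0 (q * σ q) * x1 s * (x2 g₂ g₂' * (x3 a₂ * (x4 b₂ b₂' * (x5 c₂ * (x6 d₂ d₂' * x7 e₂))))))
    (h : x1 (s * q * q * σ q) * x8 q⁻¹ 0 = x8 q⁻¹ 0 * x1 (s * q * q * σ q) * (x2 g g' * (x3 a * (x4 b b' * (x5 c * (x6 d d' * x7 e)))))) :
    c₂ = s * σ s * (q * σ q) * (q * σ q) ∧ d₂' = 0 ∧
      b₂' = b' + s * s * σ s * (q * σ q) * σ (q * σ q) := by
  have hσq : σ q ≠ 0 := fun h0 => hq (by simpa using h0)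
  have ht : s * q * q * σ q ≠ 0 := by simp [hs, hq]
  have hq' : q⁻¹ ≠ 0 := inv_ne_zero hq
  obtain ⟨s₃, q₃, v₃, hm⟩ := H.muM (s * q * q * σ q) q⁻¹ hq'
  obtain ⟨g₃, g₃', a₃, b₃, b₃', c₃, d₃, d₃', e₃, h₃⟩ := H.e18 s₃ q₃ v₃
  have k := H.mu1 ht hq' h h₃ hm
  have k1 : s₃ = s := by
    rw [k.1, map_inv₀]; field_simp
  have k2 : v₃ = q * σ q := by
    have := k.2.2.1
    rw [k1] at this
    have h5 : s * v₃ = s * (q * σ q) := by
      rw [this]; field_simp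
    exact mul_left_cancel₀ hs h5
  have k3 : q₃ = 0 := k.2.1
  subst k1 k2 k3
  have k' := H.mu1 ht hq' h h₂ hm
  exact ⟨k'.2.2.2.2.2.1, k'.2.2.2.2.2.2.1, k'.2.2.2.2.2.2.2⟩


/-- The `x5`, `y6` coordinates of `[x_2, x_8]`, and the comparison of `[x_1, y_8]` and `[x_2, x_8]`. -/
theorem base28 {p a₀ b₀ b₀' c₀ d₀ d₀' e₀ : F} (hp : p ≠ 0) (hq : q ≠ 0)
    (h₀ : x2 p (p * σ p) * x8 q 0 = x8 q 0 * x2 p (p * σ p) * (x3 a₀ * (x4 b₀ b₀' * (x5 c₀ * (x6 d₀ d₀' * x7 e₀))))) :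
    c₀ = 0 ∧ d₀' = 0 ∧ ∀ g₂ g₂' a₂ b₂ b₂' c₂ d₂ d₂' e₂ : F,
      x1 (p / q) * x8 0 (q * σ q) = x8 0 (q * σ q) * x1 (p / q) * (x2 g₂ g₂' * (x3 a₂ * (x4 b₂ b₂' * (x5 c₂ * (x6 d₂ d₂' * x7 e₂))))) → b₂' = b₀' := by
  have ht : p / q ≠ 0 := div_ne_zero hp hq
  have htq : p / q * q = p := div_mul_cancel₀ p hq
  have htq' : p / q * σ (p / q) * (q * σ q + 0) = p * σ p := by
    have e1 : σ (p / q) * σ q = σ p := by rw [← map_mul, htq]
    calc p / q * σ (p / q) * (q * σ q + 0) = (p / q * q) * (σ (p / q) * σ q) := by ring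
      _ = p * σ p := by rw [htq, e1]
  obtain ⟨g, g', a, b, b', c, d, d', e, h⟩ := H.e18 (p / q) q 0
  have hg : g = p := by rw [H.u5 h, htq]
  have hg' : g' = p * σ p := by rw [(H.u7 h).2, htq']
  subst hg hg'
  have hh := H.x18 ht hq h
  have key : ∀ g₂ g₂' a₂ b₂ b₂' c₂ d₂ d₂' e₂ : F,
      x1 (g / q) * x8 0 (q * σ q) = x8 0 (q * σ q) * x1 (g / q) * (x2 g₂ g₂' * (x3 a₂ * (x4 b₂ b₂' * (x5 c₂ * (x6 d₂ d₂' * x7 e₂))))) → c₀ = 0 ∧ d₀' = 0 ∧ b₂' = b₀' := by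
    intro g₂ g₂' a₂ b₂ b₂' c₂ d₂ d₂' e₂ h₂
    obtain ⟨g₃, g₃', a₃, b₃, b₃', c₃, d₃, d₃', e₃, h₃⟩ := H.e18 (g / q * q * q * σ q) q⁻¹ 0
    have k := H.y18 ht hq h₂ h₃
    exact H.sqr h h₂ h₀ hh.1 k.1 k.2.1
  obtain ⟨g₂, g₂', a₂, b₂, b₂', c₂, d₂, d₂', e₂, h₂⟩ := H.e18 (g / q) 0 (q * σ q)
  have k := key g₂ g₂' a₂ b₂ b₂' c₂ d₂ d₂' e₂ h₂
  exact ⟨k.1, k.2.1, fun g₂ g₂' a₂ b₂ b₂' c₂ d₂ d₂' e₂ h₂ => (key g₂ g₂' a₂ b₂ b₂' c₂ d₂ d₂' e₂ h₂).2.2⟩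

theorem gen28 {p u : F} (hp : p ≠ 0) (hq : q ≠ 0)
    (h : x2 p u * x8 q v = x8 q v * x2 p u * (x3 a * (x4 b b' * (x5 c * (x6 d d' * x7 e))))) :
    c = u * v ∧ d' = p * σ p * q * q * σ q + p * σ p * σ v + u * q * v + u * q * q * σ q + u * σ v := by
  obtain ⟨a₀, b₀, b₀', c₀, d₀, d₀', e₀, h₀⟩ := H.e28 p (p * σ p) q 0
  have k := H.base28 hp hq h₀
  exact H.glue28 h h₀ k.1 k.2.1

theorem full28 {p u : F} (hp : p ≠ 0) (hq : q ≠ 0)
    (h : x2 p u * x8 q v = x8 q v * x2 p u * (x3 a * (x4 b b' * (x5 c * (x6 d d' * x7 e))))) :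
    a = p * σ p * q + u * q ∧ b = σ p * q ∧ b' = p * u * v + p * p * σ p * v + σ u * q * σ q + σ u * v ∧
    c = u * v ∧ d = p * σ q ∧
    d' = p * σ p * q * q * σ q + p * σ p * σ v + u * q * v + u * q * q * σ q + u * σ v ∧
    e = p * q * σ q + p * v := by
  have k := H.gen28 hp hq h
  obtain ⟨a₂, b₂, b₂', c₂, d₂, d₂', e₂, h₂⟩ := H.e28 q v p u
  have k2 := H.gen28 hq hp h₂
  have k3 := (H.mir28 h₂ h).2.2
  refine ⟨?_, H.t7 h, ?_, k.1, H.t3 h, k.2, ?_⟩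
  · rw [H.ty8 h]; ring
  · rw [k3, k2.2]
    linear_combination (q * σ q * p * p * σ p) * H.two
  · rw [H.ty2 h]; ring


end T18

theorem r28 (p u q v : F) : x2 p u * x8 q v =
    x8 q v * x2 p u * x3 (p * σ p * q + u * q) * x4 (σ p * q) (p * u * v + p * p * σ p * v + σ u * q * σ q + σ u * v) * x5 (u * v) * x6 (p * σ q) (p * σ p * q * q * σ q + p * σ p * σ v + u * q * v + u * q * q * σ q + u * σ v) * x7 (p * q * σ q + p * v) := by
  by_cases hp : p = 0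
  · subst hp
    rw [H.r28y]
    simp [H.z7]
  by_cases hq : q = 0
  · subst hq
    rw [H.s28z]
    simp [H.z3, mul_assoc]
  obtain ⟨a, b, b', c, d, d', e, h⟩ := H.e28 p u q v
  obtain ⟨k1, k2, k3, k4, k5, k6, k7⟩ := H.full28 hp hq h
  rw [h, k1, k2, k3, k4, k5, k6, k7]
  simp only [mul_assoc]


theorem b18y {s q g₂ g₂' a₂ b₂ b₂' c₂ d₂ d₂' e₂ : F} (hs : s ≠ 0) (hq : q ≠ 0)
    (h₂ : x1 s * x8 0 (q * σ q) = x8 0 (q * σ q) * x1 s * (x2 g₂ g₂' * (x3 a₂ * (x4 b₂ b₂' * (x5 c₂ * (x6 d₂ d₂' * x7 e₂)))))) :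
    b₂' = s * s * σ s * (q * σ q) * σ (q * σ q) := by
  have hp : s * q ≠ 0 := mul_ne_zero hs hq
  have e1 : s * q / q = s := mul_div_cancel_right₀ s hq
  obtain ⟨a₀, b₀, b₀', c₀, d₀, d₀', e₀, h₀⟩ := H.e28 (s * q) (s * q * σ (s * q)) q 0
  have k := (H.base28 hp hq h₀).2.2
  rw [e1] at k
  rw [k _ _ _ _ _ _ _ _ _ h₂, (H.full28 hp hq h₀).2.2.1]
  simp only [map_mul, H.sq]
  ring

theorem b18 {t q g g' a b b' c d d' e : F} (ht : t ≠ 0) (hq : q ≠ 0)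
    (h : x1 t * x8 q 0 = x8 q 0 * x1 t * (x2 g g' * (x3 a * (x4 b b' * (x5 c * (x6 d d' * x7 e)))))) : b' = 0 := by
  have hσq : σ q ≠ 0 := fun h0 => hq (by simpa using h0)
  have hs : t * q * q * σ q ≠ 0 := by simp [ht, hq]
  have hq' : q⁻¹ ≠ 0 := inv_ne_zero hq
  have e1 : t * q * q * σ q * q⁻¹ * q⁻¹ * σ q⁻¹ = t := by
    rw [map_inv₀]; field_simp
  obtain ⟨g₂, g₂', a₂, b₂, b₂', c₂, d₂, d₂', e₂, h₂⟩ := H.e18 (t * q * q * σ q) 0 (q⁻¹ * σ q⁻¹)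
  have k := (H.y18 hs hq' h₂ (by rw [e1, inv_inv]; exact h)).2.2
  rw [H.b18y hs hq' h₂] at k
  have := congrArg (fun z => z - (t * q * q * σ q) * (t * q * q * σ q) * σ (t * q * q * σ q) * (q⁻¹ * σ q⁻¹) *
    σ (q⁻¹ * σ q⁻¹)) k
  simpa using this.symm


theorem p18 (t q : F) : x1 t * x8 q 0 = x8 q 0 * (x1 t * (x2 (t * q) (t * σ t * (q * σ q)) * (x3 (t * σ t * (q * q * σ q)) * (x4 (σ t * (q * σ q)) 0 * (x5 (t * σ t * q * q * σ q * σ q) * (x6 0 (t * σ t * q * q * q * σ q * σ q) * x7 (t * (q * q * σ q)))))))) := by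
  by_cases ht : t = 0
  · subst ht
    simp [H.z1, H.z2, H.z3, H.z4, H.z5, H.z6, H.z7]
  by_cases hq : q = 0
  · subst hq
    simp [H.z1, H.z2, H.z3, H.z4, H.z5, H.z6, H.z7, H.z8]
  obtain ⟨g, g', a, b, b', c, d, d', e, h⟩ := H.e18 t q 0
  rw [h, H.u5 h, (H.u7 h).2, H.u6 h, (H.u7 h).1, H.b18 ht hq h, (H.x18 ht hq h).1, H.u3 h, (H.x18 ht hq h).2,
    H.uy2 h]
  simp only [map_zero, mul_zero, zero_add, add_zero, mul_assoc]

theorem p18' (t q : F) (w : G) : x1 t * (x8 q 0 * w) = x8 q 0 * (x1 t * (x2 (t * q) (t * σ t * (q * σ q)) * (x3 (t * σ t * (q * q * σ q)) * (x4 (σ t * (q * σ q)) 0 * (x5 (t * σ t * q * q * σ q * σ q) * (x6 0 (t * σ t * q * q * q * σ q * σ q) * (x7 (t * (q * q * σ q)) * w))))))) := by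
  rw [← mul_assoc, H.p18]; simp only [mul_assoc]

variable (hsurj : ∀ v : F, ∃ q, q * σ q = v)
include hsurj

theorem y18' (t v : F) : x1 t * x8 0 v = x8 0 v * (x1 t * (x2 0 (t * σ t * v) * (x3 (t * σ t * σ v) * (x4 (σ t * v) (t * t * σ t * v * σ v) * (x5 (t * σ t * v * v) * (x6 (t * v) 0 * x7 (t * σ v))))))) := by
  by_cases ht : t = 0
  · subst ht
    simp [H.z1, H.z2, H.z3, H.z4, H.z5, H.z6, H.z7]
  by_cases hv : v = 0
  · subst hv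
    simp [H.z1, H.z2, H.z3, H.z4, H.z5, H.z6, H.z7, H.z8]
  obtain ⟨q, rfl⟩ := hsurj v
  have hq : q ≠ 0 := left_ne_zero_of_mul hv
  obtain ⟨g, g', a, b, b', c, d, d', e, h⟩ := H.e18 t 0 (q * σ q)
  obtain ⟨g₃, g₃', a₃, b₃, b₃', c₃, d₃, d₃', e₃, h₃⟩ := H.e18 (t * q * q * σ q) q⁻¹ 0
  have k := H.y18 ht hq h h₃
  rw [h, H.u5 h, (H.u7 h).2, H.u6 h, (H.u7 h).1, H.b18y ht hq h, k.1, H.u3 h, k.2.1, H.uy2 h]
  simp only [map_zero, mul_zero, zero_mul, zero_add, add_zero, mul_assoc]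

theorem y18'' (t v : F) (w : G) : x1 t * (x8 0 v * w) = x8 0 v * (x1 t * (x2 0 (t * σ t * v) * (x3 (t * σ t * σ v) * (x4 (σ t * v) (t * t * σ t * v * σ v) * (x5 (t * σ t * v * v) * (x6 (t * v) 0 * (x7 (t * σ v) * w))))))) := by
  rw [← mul_assoc, H.y18' hsurj]; simp only [mul_assoc]

theorem r18 (t q v : F) : x1 t * x8 q v =
    x8 q v * x1 t * x2 (t * q) (t * σ t * q * σ q + t * σ t * v) * x3 (t * σ t * q * v + t * σ t * q * q * σ q + t * σ t * σ v) * x4 (σ t * q * σ q + σ t * v) (t * t * σ t * q * v * v + t * t * σ t * q * q * σ q * v + t * t * σ t * v * σ v) * x5 (t * σ t * σ q * σ v + t * σ t * q * q * σ q * σ q + t * σ t * v * v) * x6 (t * v) (t * σ t * q * v * v + t * σ t * q * σ q * σ v + t * σ t * q * q * q * σ q * σ q) * x7 (t * q * v + t * q * q * σ q + t * σ v) := by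
  have R := H.rel
  have e3 : x8 q v = x8 q 0 * x8 0 v := by rw [R.m8]; simp
  rw [e3, ← mul_assoc, H.p18]
  simp only [H.p18, H.p18', H.y18' hsurj, H.y18'' hsurj, H.s28z, H.t28z, mul_assoc, H.s38, H.t38, H.s48, H.t48, H.s58, H.t58, H.s68, H.t68, H.s78, H.t78, H.s28, H.t28]
  congr 2
  simp only [mul_assoc, R.m1, R.b1, R.m3, R.b3, R.m5, R.b5, R.m7, R.b7, R.m2, R.b2, R.m4, R.b4, R.m6, R.b6, R.m8, R.b8, R.q12, R.a12, R.q13, R.a13, R.q14, R.a14, R.q15, R.a15, R.q16, R.a16, R.q17, R.a17, R.q23, R.a23, R.q24, R.a24, R.q25, R.a25, R.q26, R.a26, R.q27, R.a27, R.q34, R.a34, R.q35, R.a35, R.q36, R.a36, R.q37, R.a37, R.q45, R.a45, R.q46, R.a46, R.q47, R.a47, R.q56, R.a56, R.q57, R.a57, R.q67, R.a67]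
  have h2 := H.two
  simp only [map_zero, map_one, map_mul, map_add, H.sq, zero_add, zero_mul, add_zero, mul_one, mul_zero, one_mul]
  congr 2
  · congr 1; ring
  · clear H hsurj R e3
    refine congrArg₂ (· * ·) (congrArg x3 ?_) (congrArg₂ (· * ·) (congrArg₂ x4 ?_ ?_)
      (congrArg₂ (· * ·) (congrArg x5 ?_) (congrArg₂ (· * ·) (congrArg₂ x6 rfl ?_) (congrArg x7 ?_))))
    · ring
    · ring
    · grind
    · grind
    · grind
    · ring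

/-- **All relations.** -/
theorem octRel_of_surj : Octagon.Pkg.OctRel σ x1 x3 x5 x7 x2 x4 x6 x8 where
  m1 := H.m1
  m3 := H.m3
  m5 := H.m5
  m7 := H.m7
  m2 := H.m2
  m4 := H.m4
  m6 := H.m6
  m8 := H.m8
  r12 := H.r12
  r13 := H.r13
  r14 := H.r14
  r15 := H.r15
  r16 := H.r16
  r17 := H.r17
  r18 := H.r18 hsurj
  r23 p u s := (H.q23 p u s).symm
  r24 := H.r24
  r25 p u s := (inv_rel (by rw [H.q25, mul_assoc]) (H.i4 _)).trans (mul_assoc _ _ _).symm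
  r26 := H.r26
  r27 p u s := by
    rw [inv_rel (a := x7 s) (b := x2 p u)
      (c := x4 0 (p * σ p * s + u * s) * (x5 (σ p * s) * x6 0 (p * σ s))) (by rw [H.q27]; simp only [mul_assoc])
      (invol3 (H.i4 _) (H.i5 _) (H.i6 _) (H.q45 _ _ _).symm (H.s46 _ _) (H.q56 _ _ _).symm)]
    simp only [mul_assoc]
  r28 := H.r28
  r34 t q v := (H.q34 t q v).symm
  r35 t s := (H.q35 t s).symm
  r36 := H.r36
  r37 t s := (H.q37 t s).symm
  r38 := H.r38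
  r45 p u s := (H.q45 p u s).symm
  r46 p u q v := (inv_rel (by rw [H.q46, mul_assoc]) (H.i5 _)).trans (mul_assoc _ _ _).symm
  r47 p u s := (inv_rel (by rw [H.q47, mul_assoc]) (H.i6 _)).trans (mul_assoc _ _ _).symm
  r48 p u q v := (H.q48 p u q v).symm
  r56 t q v := (H.q56 t q v).symm
  r57 t s := (H.q57 t s).symm
  r58 := H.r58
  r67 p u s := (H.q67 p u s).symm
  r68 p u q v := by rw [H.s68, mul_assoc]
  r78 t q v := (H.q78 t q v).symm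

omit hsurj in
/-- **All relations**, finite field. -/
theorem octRel [Finite F] : Octagon.Pkg.OctRel σ x1 x3 x5 x7 x2 x4 x6 x8 := by
  refine H.octRel_of_surj ?_
  have hinj : Function.Injective (fun q : F => q * σ q) := by
    intro a b hab
    simp only at hab
    by_cases hb : b = 0
    · subst hb
      simp only [map_zero, mul_zero, mul_eq_zero] at hab
      rcases hab with h | h
      · exact h
      · simpa using h
    · have hσb : σ b ≠ 0 := fun h0 => hb (by simpa using h0)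
      have h1 : (a / b) * σ (a / b) = 1 := by
        rw [map_div₀, div_mul_div_comm, hab]; field_simp
      have h2 : σ (a / b) * (a / b * (a / b)) = 1 := by
        have := congrArg σ h1
        rwa [map_mul, H.sq, map_one] at this
      have h3 : a / b = 1 := by
        calc a / b = (a / b * σ (a / b)) * (a / b) := by rw [h1, one_mul]
          _ = σ (a / b) * (a / b * (a / b)) := by ring
          _ = 1 := h2
      exact (div_eq_one_iff_eq hb).1 h3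
  exact Finite.surjective_of_injective hinj


end OctMin

end Cfsg.Agent.SplitTwo.OctLast

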