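import Cfsg.Agent.SplitTwo.OctTools

/-!
# Moufang octagons (S1144, `m = 8`): existence and uniqueness of coordinates, the property (M)

`Coord X x1 .. x8`: `x_i` are bijections onto the root groups `X i`.  Then: `e28`, `e18`, `p18`, `p28`-type existence of
the coordinates of the commutators, uniqueness of the descending product, and (M) of helper851 (#5845).
-/

set_option autoImplicit false

namespace Cfsg.Agent.SplitTwo.OctMu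

open Cfsg.Agent.SplitTwo Cfsg.Agent.SplitTwo.OctDefs Cfsg.Agent.SplitTwo.OctTools
open scoped commutatorElement

universe u

variable {G : Type u} [Group G]

/-- the coordinate maps -/
structure Coord (X : ZMod (2 * 8) → Subgroup G) {F : Type*} (x1 x3 x5 x7 : F → G) (x2 x4 x6 x8 : F → F → G) :
    Prop where
  inj1 : ∀ a b, x1 a = x1 b → a = b
  inj2 : ∀ p u q v, x2 p u = x2 q v → p = q ∧ u = v
  inj3 : ∀ a b, x3 a = x3 b → a = b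
  inj4 : ∀ p u q v, x4 p u = x4 q v → p = q ∧ u = v
  inj5 : ∀ a b, x5 a = x5 b → a = b
  inj6 : ∀ p u q v, x6 p u = x6 q v → p = q ∧ u = v
  inj7 : ∀ a b, x7 a = x7 b → a = b
  inj8 : ∀ p u q v, x8 p u = x8 q v → p = q ∧ u = v
  mem1 : ∀ g, g ∈ X 1 ↔ ∃ a, x1 a = g
  mem2 : ∀ g, g ∈ X 2 ↔ ∃ p u, x2 p u = g
  mem3 : ∀ g, g ∈ X 3 ↔ ∃ a, x3 a = g
  mem4 : ∀ g, g ∈ X 4 ↔ ∃ p u, x4 p u = g
  mem5 : ∀ g, g ∈ X 5 ↔ ∃ a, x5 a = g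
  mem6 : ∀ g, g ∈ X 6 ↔ ∃ p u, x6 p u = g
  mem7 : ∀ g, g ∈ X 7 ↔ ∃ a, x7 a = g
  mem8 : ∀ g, g ∈ X 8 ↔ ∃ p u, x8 p u = g

theorem dec5 {X : ZMod (2 * 8) → Subgroup G} (S : Sys 8 X) (i : ZMod (2 * 8)) {w : G} (hw : w ∈ seg X i 5) :
    ∃ a ∈ X i, ∃ b ∈ X (i + 1), ∃ c ∈ X (i + 2), ∃ d ∈ X (i + 3), ∃ e ∈ X (i + 4),
      w = a * (b * (c * (d * e))) := by
  obtain ⟨a, ha, w1, h1, rfl⟩ := (S.mem_seg_succ_left i (k := 4) (by norm_num)).mp hw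
  obtain ⟨b, hb, w2, h2, rfl⟩ := (S.mem_seg_succ_left (i + 1) (k := 3) (by norm_num)).mp h1
  obtain ⟨c, hc, w3, h3, rfl⟩ := (S.mem_seg_succ_left (i + 1 + 1) (k := 2) (by norm_num)).mp h2
  obtain ⟨d, hd, w4, h4, rfl⟩ := (S.mem_seg_succ_left (i + 1 + 1 + 1) (k := 1) (by norm_num)).mp h3
  rw [seg_one] at h4
  exact ⟨a, ha, b, hb, c, xc hc (by ring), d, xc hd (by ring), w4, xc h4 (by ring), rfl⟩

theorem dec6 {X : ZMod (2 * 8) → Subgroup G} (S : Sys 8 X) (i : ZMod (2 * 8)) {w : G} (hw : w ∈ seg X i 6) :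
    ∃ z ∈ X i, ∃ a ∈ X (i + 1), ∃ b ∈ X (i + 2), ∃ c ∈ X (i + 3), ∃ d ∈ X (i + 4), ∃ e ∈ X (i + 5),
      w = z * (a * (b * (c * (d * e)))) := by
  obtain ⟨z, hz, w1, h1, rfl⟩ := (S.mem_seg_succ_left i (k := 5) (by norm_num)).mp hw
  obtain ⟨a, ha, b, hb, c, hc, d, hd, e, he, rfl⟩ := dec5 S (i + 1) h1
  exact ⟨z, hz, a, ha, b, xc hb (by ring), c, xc hc (by ring), d, xc hd (by ring), e, xc he (by ring), rfl⟩

/-- **(M)** at group level -/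
theorem mu_conj {X : ZMod (2 * 8) → Subgroup G} (S : Sys 8 X) {n a g : G} (hn : Refl X 8 n) (ha : a ∈ X 1)
    (hg : g ∈ X 8) (hg1 : g ≠ 1) :
    ∃ s ∈ X 1, ∃ g' ∈ X 8, g⁻¹ * a * g = n⁻¹ * (g'⁻¹ * s * g') * n := by
  have hr := S.refl hg hg1
  have hk : kap X 8 g ∈ X 0 := xc (S.kap_mem hg hg1) (by decide)
  have hl : lam X 8 g ∈ X 0 := xc (S.lam_mem hg hg1) (by decide)
  have hka : kap X 8 g * a = a * kap X 8 g := S.comm_one 0 hk (xc ha (by decide))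
  have hb : (muMap X 8 g)⁻¹ * a * muMap X 8 g ∈ X 7 := rx' hr ha (by decide)
  refine ⟨n * ((muMap X 8 g)⁻¹ * a * muMap X 8 g) * n⁻¹, rx hn hb (by decide),
    n * (lam X 8 g)⁻¹ * n⁻¹, rx hn (inv_mem hl) (by decide), ?_⟩
  have e1 : (kap X 8 g)⁻¹ * a * kap X 8 g = a := by rw [mul_assoc, ← hka]; group
  have e2 : (muMap X 8 g)⁻¹ * a * muMap X 8 g = (lam X 8 g)⁻¹ * (g⁻¹ * a * g) * lam X 8 g := by
    unfold muMap
    calc (kap X 8 g * g * lam X 8 g)⁻¹ * a * (kap X 8 g * g * lam X 8 g) =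
        (lam X 8 g)⁻¹ * (g⁻¹ * ((kap X 8 g)⁻¹ * a * kap X 8 g) * g) * lam X 8 g := by group
      _ = _ := by rw [e1]
  rw [e2]; group

namespace Coord

variable {X : ZMod (2 * 8) → Subgroup G} {F : Type*} {x1 x3 x5 x7 : F → G} {x2 x4 x6 x8 : F → F → G}
  (C : Coord X x1 x3 x5 x7 x2 x4 x6 x8)
include C

theorem m1 (a : F) : x1 a ∈ X 1 := (C.mem1 _).mpr ⟨a, rfl⟩
theorem m3 (a : F) : x3 a ∈ X 3 := (C.mem3 _).mpr ⟨a, rfl⟩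
theorem m5 (a : F) : x5 a ∈ X 5 := (C.mem5 _).mpr ⟨a, rfl⟩
theorem m7 (a : F) : x7 a ∈ X 7 := (C.mem7 _).mpr ⟨a, rfl⟩
theorem m2 (p u : F) : x2 p u ∈ X 2 := (C.mem2 _).mpr ⟨p, u, rfl⟩
theorem m4 (p u : F) : x4 p u ∈ X 4 := (C.mem4 _).mpr ⟨p, u, rfl⟩
theorem m6 (p u : F) : x6 p u ∈ X 6 := (C.mem6 _).mpr ⟨p, u, rfl⟩
theorem m8 (p u : F) : x8 p u ∈ X 8 := (C.mem8 _).mpr ⟨p, u, rfl⟩

/-- existence of the coordinates of `[x₂, x₈]` -/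
theorem e28 (S : Sys 8 X) (p u q v : F) : ∃ a b b' c d d' e : F, x2 p u * x8 q v =
    x8 q v * x2 p u * (x3 a * (x4 b b' * (x5 c * (x6 d d' * x7 e)))) := by
  have h := S.comm 2 5 (by norm_num) _ (inv_mem (C.m2 p u)) _ (xc (inv_mem (C.m8 q v)) (by decide))
  obtain ⟨a, ha, b, hb, c, hc, d, hd, e, he, hw⟩ := dec5 S _ h
  obtain ⟨a, rfl⟩ := (C.mem3 _).mp (xc ha (by decide))
  obtain ⟨b, b', rfl⟩ := (C.mem4 _).mp (xc hb (by decide))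
  obtain ⟨c, rfl⟩ := (C.mem5 _).mp (xc hc (by decide))
  obtain ⟨d, d', rfl⟩ := (C.mem6 _).mp (xc hd (by decide))
  obtain ⟨e, rfl⟩ := (C.mem7 _).mp (xc he (by decide))
  refine ⟨a, b, b', c, d, d', e, ?_⟩
  rw [← hw, commutatorElement_def]; group

/-- existence of the coordinates of `[x₁, x₈]` -/
theorem e18 (S : Sys 8 X) (t q v : F) : ∃ g g' a b b' c d d' e : F, x1 t * x8 q v =
    x8 q v * x1 t * (x2 g g' * (x3 a * (x4 b b' * (x5 c * (x6 d d' * x7 e))))) := by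
  have h := S.comm 1 6 (by norm_num) _ (inv_mem (C.m1 t)) _ (xc (inv_mem (C.m8 q v)) (by decide))
  obtain ⟨g, hg, a, ha, b, hb, c, hc, d, hd, e, he, hw⟩ := dec6 S _ h
  obtain ⟨g, g', rfl⟩ := (C.mem2 _).mp (xc hg (by decide))
  obtain ⟨a, rfl⟩ := (C.mem3 _).mp (xc ha (by decide))
  obtain ⟨b, b', rfl⟩ := (C.mem4 _).mp (xc hb (by decide))
  obtain ⟨c, rfl⟩ := (C.mem5 _).mp (xc hc (by decide))
  obtain ⟨d, d', rfl⟩ := (C.mem6 _).mp (xc hd (by decide))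
  obtain ⟨e, rfl⟩ := (C.mem7 _).mp (xc he (by decide))
  refine ⟨g, g', a, b, b', c, d, d', e, ?_⟩
  rw [← hw, commutatorElement_def]; group

/-- `Pre.p18` -/
theorem p18 (S : Sys 8 X) (t q v : F) : ∃ e2 f2 e3 e4 f4 e5 e6 f6 e7 : F, x1 t * x8 q v =
    x8 q v * x1 t * x2 e2 f2 * x3 e3 * x4 e4 f4 * x5 e5 * x6 e6 f6 * x7 e7 := by
  obtain ⟨g, g', a, b, b', c, d, d', e, he⟩ := C.e18 S t q v
  exact ⟨g, g', a, b, b', c, d, d', e, by rw [he]; simp only [mul_assoc]⟩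

/-- `OctMin.muM` -/
theorem muM (S : Sys 8 X) {n8 : G} (hn : Refl X 8 n8) (t q v : F) (hq : x8 q v ≠ 1) : ∃ s q' v' : F,
    (x8 q v)⁻¹ * x1 t * x8 q v = n8⁻¹ * ((x8 q' v')⁻¹ * x1 s * x8 q' v') * n8 := by
  obtain ⟨s, hs, g', hg', e⟩ := mu_conj S hn (C.m1 t) (C.m8 q v) hq
  obtain ⟨s, rfl⟩ := (C.mem1 _).mp hs
  obtain ⟨q', v', rfl⟩ := (C.mem8 _).mp hg'
  exact ⟨s, q', v', e⟩

omit C in
/-- uniqueness, one step -/
theorem step (S : Sys 8 X) {k : ℕ} (hk : k < 8) {a b w w' : G} (ha : a ∈ X (1 + (k : ℕ))) (hb : b ∈ X (1 + (k : ℕ)))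
    (hw : w ∈ seg X 1 k) (hw' : w' ∈ seg X 1 k) (e : a * w = b * w') : a = b ∧ w = w' := by
  have e1 : b⁻¹ * a = w' * w⁻¹ := by
    rw [eq_mul_inv_iff_mul_eq, mul_assoc, e, inv_mul_cancel_left]
  have h1 : b⁻¹ * a = 1 := S.inter_right 1 hk _ (mul_mem (inv_mem hb) ha) (e1 ▸ mul_mem hw' (inv_mem hw))
  have h2 : a = b := (inv_mul_eq_one.mp h1).symm
  exact ⟨h2, mul_left_cancel (h2 ▸ e : b * w = b * w')⟩

/-- `Pre.uniq` -/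
theorem uniq (S : Sys 8 X) {p8 u8 a7 p6 u6 a5 p4 u4 a3 p2 u2 a1 q8 v8 b7 q6 v6 b5 q4 v4 b3 q2 v2 b1 : F}
    (e : x8 p8 u8 * (x7 a7 * (x6 p6 u6 * (x5 a5 * (x4 p4 u4 * (x3 a3 * (x2 p2 u2 * x1 a1)))))) =
    x8 q8 v8 * (x7 b7 * (x6 q6 v6 * (x5 b5 * (x4 q4 v4 * (x3 b3 * (x2 q2 v2 * x1 b1))))))) :
    (p8 = q8 ∧ u8 = v8) ∧ a7 = b7 ∧ (p6 = q6 ∧ u6 = v6) ∧ a5 = b5 ∧ (p4 = q4 ∧ u4 = v4) ∧
      a3 = b3 ∧ (p2 = q2 ∧ u2 = v2) ∧ a1 = b1 := by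
  have s1 : ∀ a, x1 a ∈ seg X 1 1 := fun a => ms (C.m1 a) 0 (by norm_num) (by decide)
  have s2 : ∀ p u a, x2 p u * x1 a ∈ seg X 1 2 := fun p u a =>
    mul_mem (ms (C.m2 p u) 1 (by norm_num) (by decide)) (seg_mono X 1 (by norm_num) (s1 a))
  have s3 : ∀ b p u a, x3 b * (x2 p u * x1 a) ∈ seg X 1 3 := fun b p u a =>
    mul_mem (ms (C.m3 b) 2 (by norm_num) (by decide)) (seg_mono X 1 (by norm_num) (s2 p u a))
  have s4 : ∀ p' u' b p u a, x4 p' u' * (x3 b * (x2 p u * x1 a)) ∈ seg X 1 4 := fun p' u' b p u a =>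
    mul_mem (ms (C.m4 p' u') 3 (by norm_num) (by decide)) (seg_mono X 1 (by norm_num) (s3 b p u a))
  have s5 : ∀ c p' u' b p u a, x5 c * (x4 p' u' * (x3 b * (x2 p u * x1 a))) ∈ seg X 1 5 := fun c p' u' b p u a =>
    mul_mem (ms (C.m5 c) 4 (by norm_num) (by decide)) (seg_mono X 1 (by norm_num) (s4 p' u' b p u a))
  have s6 : ∀ p'' u'' c p' u' b p u a, x6 p'' u'' * (x5 c * (x4 p' u' * (x3 b * (x2 p u * x1 a)))) ∈ seg X 1 6 :=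
    fun p'' u'' c p' u' b p u a =>
    mul_mem (ms (C.m6 p'' u'') 5 (by norm_num) (by decide)) (seg_mono X 1 (by norm_num) (s5 c p' u' b p u a))
  have s7 : ∀ d p'' u'' c p' u' b p u a,
      x7 d * (x6 p'' u'' * (x5 c * (x4 p' u' * (x3 b * (x2 p u * x1 a))))) ∈ seg X 1 7 :=
    fun d p'' u'' c p' u' b p u a =>
    mul_mem (ms (C.m7 d) 6 (by norm_num) (by decide)) (seg_mono X 1 (by norm_num) (s6 p'' u'' c p' u' b p u a))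
  obtain ⟨h8, e⟩ := step S (k := 7) (by norm_num) (xc (C.m8 _ _) (by decide)) (xc (C.m8 _ _) (by decide))
    (s7 _ _ _ _ _ _ _ _ _ _) (s7 _ _ _ _ _ _ _ _ _ _) e
  obtain ⟨h7, e⟩ := step S (k := 6) (by norm_num) (xc (C.m7 _) (by decide)) (xc (C.m7 _) (by decide))
    (s6 _ _ _ _ _ _ _ _ _) (s6 _ _ _ _ _ _ _ _ _) e
  obtain ⟨h6, e⟩ := step S (k := 5) (by norm_num) (xc (C.m6 _ _) (by decide)) (xc (C.m6 _ _) (by decide))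
    (s5 _ _ _ _ _ _ _) (s5 _ _ _ _ _ _ _) e
  obtain ⟨h5, e⟩ := step S (k := 4) (by norm_num) (xc (C.m5 _) (by decide)) (xc (C.m5 _) (by decide))
    (s4 _ _ _ _ _ _) (s4 _ _ _ _ _ _) e
  obtain ⟨h4, e⟩ := step S (k := 3) (by norm_num) (xc (C.m4 _ _) (by decide)) (xc (C.m4 _ _) (by decide))
    (s3 _ _ _ _) (s3 _ _ _ _) e
  obtain ⟨h3, e⟩ := step S (k := 2) (by norm_num) (xc (C.m3 _) (by decide)) (xc (C.m3 _) (by decide))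
    (s2 _ _ _) (s2 _ _ _) e
  obtain ⟨h2, e⟩ := step S (k := 1) (by norm_num) (xc (C.m2 _ _) (by decide)) (xc (C.m2 _ _) (by decide))
    (s1 _) (s1 _) e
  exact ⟨C.inj8 _ _ _ _ h8, C.inj7 _ _ h7, C.inj6 _ _ _ _ h6, C.inj5 _ _ h5, C.inj4 _ _ _ _ h4, C.inj3 _ _ h3,
    C.inj2 _ _ _ _ h2, C.inj1 _ _ e⟩

end Coord

end Cfsg.Agent.SplitTwo.OctMu
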