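import Cfsg.Agent.SplitTwo.OctMinOf
import Cfsg.Agent.SplitTwo.OctMu
import Cfsg.Agent.SplitTwo.OctLast
import Cfsg.Agent.Octagon.Par

/-!
# Moufang octagons: `Pre`, `Sym` and the coordinate maps give `OctPar` (S1144, `m = 8`)

The end of the G side: `OctParOf.octPar`.
-/

set_option autoImplicit false

namespace Cfsg.Agent.SplitTwo.OctParOf

open Cfsg.Agent.SplitTwo Cfsg.Agent.SplitTwo.OctCoordBDefs Cfsg.Agent.SplitTwo.OctCoordB Cfsg.Agent.SplitTwo.OctLast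
open Cfsg.Agent.SplitTwo.OctMu Cfsg.Agent.Octagon.Par Cfsg.Agent.Octagon.Pkg

universe u

variable {G : Type u} [Group G] {X : ZMod (2 * 8) → Subgroup G} {F : Type*} [Field F] {σ : F →+* F}
  {x1 x3 x5 x7 : F → G} {x2 x4 x6 x8 : F → F → G}

/-- **The G side of [8]**: all relations of the table. -/
theorem octPar [Finite F] (S : Sys 8 X) (C : Coord X x1 x3 x5 x7 x2 x4 x6 x8)
    (h : Pre σ x1 x3 x5 x7 x2 x4 x6 x8) {n1 n8 z k l : G} (s : Sym σ x1 x3 x5 x7 x2 x4 x6 x8 n1 n8 z k l)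
    (sq : ∀ x : F, σ (σ x) = x * x) (hn1 : n1 * n1 = 1) (hn8 : n8 * n8 = 1) (hr : Refl X 8 n8) :
    OctPar σ X x1 x3 x5 x7 x2 x4 x6 x8 where
  toOctRel := by
    have hm := OctMinOf.octMin h s sq hn1 hn8 (C.e28 S) (fun t q hq => C.muM S hr t q 0 (fun h8 => hq
      (C.inj8 q 0 0 0 (by rw [h8, zr8 h])).1))
    exact hm.octRel
  inj1 := C.inj1
  inj3 := C.inj3
  inj5 := C.inj5
  inj7 := C.inj7
  inj2 := C.inj2
  inj4 := C.inj4
  inj6 := C.inj6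
  inj8 := C.inj8
  mem1 := C.mem1
  mem3 := C.mem3
  mem5 := C.mem5
  mem7 := C.mem7
  mem2 := C.mem2
  mem4 := C.mem4
  mem6 := C.mem6
  mem8 := C.mem8

end Cfsg.Agent.SplitTwo.OctParOf
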