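import Cfsg.Agent.SplitTwo.OctTools
import Cfsg.Agent.SplitTwo.HexDefs

/-!
# Moufang octagons (S1144): the commutator skeleton (output of OctStruct, input of the coordinates)

`Skel X` : after the structure theory ((5)-(13) of bb #4725) all commutators of a finite Moufang octagon have the
shape of those of `²F₄`.
-/

set_option autoImplicit false

namespace Cfsg.Agent.SplitTwo.OctSkel

open Cfsg.Agent.SplitTwo Cfsg.Agent.SplitTwo.OctDefs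

universe u

variable {G : Type u} [Group G]

/-- The commutator skeleton. `kk a b = a⁻¹ b⁻¹ a b`. -/
structure Skel (X : ZMod (2 * 8) → Subgroup G) : Prop where
  A : OctA X
  o2 : ∀ i, ∀ a ∈ X (2 * i + 1), ∀ b ∈ X (2 * i + 3), a * b = b * a
  f4 : ∀ i, ∀ a ∈ X i, ∀ b ∈ X (i + 4), a * b = b * a
  t3 : ∀ i, ∀ a ∈ X (2 * i + 1), ∀ b ∈ X (2 * i + 4), kk a b ∈ Yc X (2 * i + 2)
  t3' : ∀ i, ∀ a ∈ X (2 * i), ∀ b ∈ X (2 * i + 3), kk a b ∈ Yc X (2 * i + 2)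
  v5 : ∀ i, ∀ a ∈ X (2 * i + 1), ∀ b ∈ X (2 * i + 6),
    ∃ p ∈ Yc X (2 * i + 2), ∃ q ∈ X (2 * i + 3), ∃ r ∈ Yc X (2 * i + 4), kk a b = p * q * r
  v5' : ∀ i, ∀ a ∈ X (2 * i), ∀ b ∈ X (2 * i + 5),
    ∃ p ∈ Yc X (2 * i + 2), ∃ q ∈ X (2 * i + 3), ∃ r ∈ Yc X (2 * i + 4), kk a b = p * q * r
  y6 : ∀ i, ∀ a ∈ Yc X (2 * i), ∀ b ∈ X (2 * i + 6),
    ∃ p ∈ X (2 * i + 1), ∃ q ∈ Yc X (2 * i + 2), ∃ r ∈ X (2 * i + 3), ∃ s ∈ Yc X (2 * i + 4),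
      kk a b = p * q * r * s
  y6' : ∀ i, ∀ a ∈ X (2 * i), ∀ b ∈ Yc X (2 * i + 6),
    ∃ q ∈ Yc X (2 * i + 2), ∃ p ∈ X (2 * i + 3), ∃ r ∈ Yc X (2 * i + 4), ∃ s ∈ X (2 * i + 5),
      kk a b = q * p * r * s
  s6 : ∀ i, ∀ a ∈ X (2 * i + 1), ∀ b ∈ X (2 * i + 7),
    ∃ p ∈ X (2 * i + 3), ∃ q ∈ Yc X (2 * i + 4), ∃ r ∈ X (2 * i + 5), kk a b = p * q * r
  cenL : ∀ i, ∀ a ∈ X (2 * i), (∀ b ∈ X (2 * i - 3), a * b = b * a) → a ∈ Yc X (2 * i)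
  cenE : ∀ i, ∀ a ∈ X (2 * i), (∀ b ∈ X (2 * i - 2), a * b = b * a) → a ∈ Yc X (2 * i)
  cY : ∀ i j, Nat.card (Yc X (2 * i)) = Nat.card (X (2 * j + 1))
  cX : ∀ i j, Nat.card (X (2 * i)) = Nat.card (X (2 * j + 1)) ^ 2

end Cfsg.Agent.SplitTwo.OctSkel
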