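import Cfsg.Agent.SplitTwo.OctDefs

/-!
# Moufang octagons, `m = 8` (S1144): output of the structure part (5)-(13)

`OctB X` is what OctStruct (helper788) delivers from `OctA X` and `Finite G`; input of the coordinates.
-/

set_option autoImplicit false

namespace Cfsg.Agent.SplitTwo.OctDefs

open scoped commutatorElement

universe u

variable {G : Type u} [Group G]

/-- Second structure theorem for a Moufang octagon. -/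
structure OctB (X : ZMod (2 * 8) → Subgroup G) : Prop where
  a : OctA X
  /-- `[X 1, X 3] = 1` -/
  odd2 : ∀ i, ∀ a ∈ X (2 * i + 1), ∀ b ∈ X (2 * i + 3), a * b = b * a
  /-- `[X k, X (k+4)] = 1` for all `k` -/
  four : ∀ k, ∀ a ∈ X k, ∀ b ∈ X (k + 4), a * b = b * a
  /-- `[X 1, X 4] ≤ Y 2` -/
  r14 : ∀ i, ∀ a ∈ X (2 * i + 1), ∀ b ∈ X (2 * i + 4), ⁅a, b⁆ ∈ Yc X (2 * i + 2)
  /-- `[X 0, X 3] ≤ Y 2` -/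
  r03 : ∀ i, ∀ a ∈ X (2 * i), ∀ b ∈ X (2 * i + 3), ⁅a, b⁆ ∈ Yc X (2 * i + 2)
  /-- `[X 1, X 6] ≤ Y 2 X 3 Y 4` -/
  r16 : ∀ i, ∀ a ∈ X (2 * i + 1), ∀ b ∈ X (2 * i + 6), ∃ c ∈ Yc X (2 * i + 2), ∃ d ∈ X (2 * i + 3),
    ∃ e ∈ Yc X (2 * i + 4), ⁅a, b⁆ = c * d * e
  /-- `[X 0, X 5] ≤ Y 2 X 3 Y 4` -/
  r05 : ∀ i, ∀ a ∈ X (2 * i), ∀ b ∈ X (2 * i + 5), ∃ c ∈ Yc X (2 * i + 2), ∃ d ∈ X (2 * i + 3),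
    ∃ e ∈ Yc X (2 * i + 4), ⁅a, b⁆ = c * d * e
  /-- `[X 1, X 7] ≤ X 3 Y 4 X 5` -/
  r17 : ∀ i, ∀ a ∈ X (2 * i + 1), ∀ b ∈ X (2 * i + 7), ∃ c ∈ X (2 * i + 3), ∃ d ∈ Yc X (2 * i + 4),
    ∃ e ∈ X (2 * i + 5), ⁅a, b⁆ = c * d * e
  /-- `[Y 0, X 6] ≤ X 1 Y 2 X 3 Y 4` -/
  ry06 : ∀ i, ∀ a ∈ Yc X (2 * i), ∀ b ∈ X (2 * i + 6), ∃ c ∈ X (2 * i + 1), ∃ d ∈ Yc X (2 * i + 2),
    ∃ e ∈ X (2 * i + 3), ∃ f ∈ Yc X (2 * i + 4), ⁅a, b⁆ = c * d * e * f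
  /-- `[X 0, Y 6] ≤ Y 2 X 3 Y 4 X 5` -/
  rx06 : ∀ i, ∀ a ∈ X (2 * i), ∀ b ∈ Yc X (2 * i + 6), ∃ c ∈ Yc X (2 * i + 2), ∃ d ∈ X (2 * i + 3),
    ∃ e ∈ Yc X (2 * i + 4), ∃ f ∈ X (2 * i + 5), ⁅a, b⁆ = c * d * e * f
  /-- centralisers in `X (2 i)` of `X (2 i ± 2)`, `X (2 i ± 3)` are `Y (2 i)` -/
  cp2 : ∀ i, ∀ a ∈ X (2 * i), (∀ b ∈ X (2 * i + 2), a * b = b * a) → a ∈ Yc X (2 * i)
  cm2 : ∀ i, ∀ a ∈ X (2 * i), (∀ b ∈ X (2 * i - 2), a * b = b * a) → a ∈ Yc X (2 * i)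
  cp3 : ∀ i, ∀ a ∈ X (2 * i), (∀ b ∈ X (2 * i + 3), a * b = b * a) → a ∈ Yc X (2 * i)
  cm3 : ∀ i, ∀ a ∈ X (2 * i), (∀ b ∈ X (2 * i - 3), a * b = b * a) → a ∈ Yc X (2 * i)
  cardY : ∀ i, Nat.card (Yc X (2 * i)) = Nat.card (X (2 * i + 1))
  cardX : ∀ i, Nat.card (X (2 * i)) = Nat.card (X (2 * i + 1)) * Nat.card (X (2 * i + 1))

end Cfsg.Agent.SplitTwo.OctDefs
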