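import Cfsg.Agent.SplitTwo.OctTen
import Cfsg.Agent.SplitTwo.OctDefsB

/-!
# Moufang octagons (S1144): steps (12) (`[X k, X (k+4)] = 1` for all `k`) and `[X 1, X 7] ≤ X 3 Y 4 X 5`
-/

set_option autoImplicit false

namespace Cfsg.Agent.SplitTwo.OctTwelve

open Cfsg.Agent.SplitTwo Cfsg.Agent.SplitTwo.OctDefs Cfsg.Agent.SplitTwo.OctTools
open Cfsg.Agent.SplitTwo.OctFive Cfsg.Agent.SplitTwo.TorMaps Cfsg.Agent.SplitTwo.OctSix
open Cfsg.Agent.SplitTwo.OctEight Cfsg.Agent.SplitTwo.OctNine Cfsg.Agent.SplitTwo.OctTen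
open scoped commutatorElement

universe u

variable {G : Type u} [Group G] {X : ZMod (2 * 8) → Subgroup G}

/-- Structure after step (11). -/
structure Oct11 (X : ZMod (2 * 8) → Subgroup G) : Prop where
  a : OctA X
  odd2 : ∀ i, ∀ a ∈ X (2 * i + 1), ∀ b ∈ X (2 * i + 3), a * b = b * a
  odd4 : ∀ i, ∀ a ∈ X (2 * i + 1), ∀ b ∈ X (2 * i + 5), a * b = b * a
  cp2 : ∀ i, ∀ a ∈ X (2 * i), (∀ b ∈ X (2 * i + 2), a * b = b * a) → a ∈ Yc X (2 * i)
  cm2 : ∀ i, ∀ a ∈ X (2 * i), (∀ b ∈ X (2 * i - 2), a * b = b * a) → a ∈ Yc X (2 * i)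
  cp3 : ∀ i, ∀ a ∈ X (2 * i), (∀ b ∈ X (2 * i + 3), a * b = b * a) → a ∈ Yc X (2 * i)
  cm3 : ∀ i, ∀ a ∈ X (2 * i), (∀ b ∈ X (2 * i - 3), a * b = b * a) → a ∈ Yc X (2 * i)
  cardY : ∀ i, Nat.card (Yc X (2 * i)) = Nat.card (X (2 * i + 1))

theorem Oct11.to7 (O : Oct11 X) : Oct7 X := ⟨O.a, O.odd2, O.odd4⟩

theorem Oct11.shift (O : Oct11 X) (c : ZMod (2 * 8)) : Oct11 (fun j => X (j + 2 * c)) where
  a := shiftA O.a c
  odd2 := (O.to7.shift c).odd2
  odd4 := (O.to7.shift c).odd4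
  cp2 := by
    intro i a ha h
    rw [Yc_shift]
    have e : 2 * i + 2 * c = 2 * (i + c) := by ring
    rw [e]
    exact O.cp2 (i + c) a (xc ha e) (fun b hb => h b (xc hb (by ring)))
  cm2 := by
    intro i a ha h
    rw [Yc_shift]
    have e : 2 * i + 2 * c = 2 * (i + c) := by ring
    rw [e]
    exact O.cm2 (i + c) a (xc ha e) (fun b hb => h b (xc hb (by ring)))
  cp3 := by
    intro i a ha h
    rw [Yc_shift]
    have e : 2 * i + 2 * c = 2 * (i + c) := by ring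
    rw [e]
    exact O.cp3 (i + c) a (xc ha e) (fun b hb => h b (xc hb (by ring)))
  cm3 := by
    intro i a ha h
    rw [Yc_shift]
    have e : 2 * i + 2 * c = 2 * (i + c) := by ring
    rw [e]
    exact O.cm3 (i + c) a (xc ha e) (fun b hb => h b (xc hb (by ring)))
  cardY := by
    intro i
    rw [Yc_shift]
    have e : 2 * i + 2 * c = 2 * (i + c) := by ring
    have e' : 2 * i + 1 + 2 * c = 2 * (i + c) + 1 := by ring
    change Nat.card _ = Nat.card (X (2 * i + 1 + 2 * c))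
    rw [e, e']
    exact O.cardY (i + c)

/-! ### Cardinalities -/

theorem card_refl {i j k : ZMod (2 * 8)} {n : G} (h : Refl X i n) (hk : 2 * i + ((8 : ℕ) : ZMod (2 * 8)) - j = k) :
    Nat.card (X j) = Nat.card (X k) := by
  subst hk
  refine Nat.card_congr ⟨fun x => ⟨n * x * n⁻¹, h.mem x.2⟩, fun x => ⟨n⁻¹ * x * n, ?_⟩, ?_, ?_⟩
  · have := h.mem' x.2
    have e : 2 * i + ((8 : ℕ) : ZMod (2 * 8)) - (2 * i + ((8 : ℕ) : ZMod (2 * 8)) - j) = j := by ring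
    rwa [e] at this
  · intro x; apply Subtype.ext; change n⁻¹ * (n * x * n⁻¹) * n = x; group
  · intro x; apply Subtype.ext; change n * (n⁻¹ * x * n) * n⁻¹ = x; group

/-- all odd root groups have the same order -/
theorem card_odd (S : Sys 8 X) (i j : ZMod (2 * 8)) : Nat.card (X (2 * i + 1)) = Nat.card (X (2 * j + 1)) := by
  obtain ⟨u, hu, hu1⟩ := S.exists_ne_one (i + j + 1 - 4)
  refine card_refl (S.refl hu hu1) ?_
  have h : ((8 : ℕ) : ZMod (2 * 8)) = 2 * 4 := by decide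
  rw [h]
  ring

theorem card_mir (O : Oct11 X) (i : ZMod (2 * 8)) :
    Nat.card (Yc (OctEight.mir X) (2 * i)) = Nat.card (OctEight.mir X (2 * i + 1)) := by
  rw [Yc_mir, mir_apply]
  have e : (8 : ZMod (2 * 8)) - 2 * i = 2 * (4 - i) := by ring
  have e' : (8 : ZMod (2 * 8)) - (2 * i + 1) = 2 * (3 - i) + 1 := by ring
  rw [e, e', O.cardY (4 - i)]
  exact card_odd O.a.sys _ _

theorem Oct11.mir (O : Oct11 X) : Oct11 (OctEight.mir X) where
  a := mirA O.a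
  odd2 := O.to7.mir.odd2
  odd4 := O.to7.mir.odd4
  cp2 := by
    intro i a ha h
    rw [Yc_mir]
    have e : (8 : ZMod (2 * 8)) - 2 * i = 2 * (4 - i) := by ring
    rw [e]
    exact O.cm2 (4 - i) a (xc ha e) (fun b hb => h b (xc (j := 8 - (2 * i + 2)) hb (by ring)))
  cm2 := by
    intro i a ha h
    rw [Yc_mir]
    have e : (8 : ZMod (2 * 8)) - 2 * i = 2 * (4 - i) := by ring
    rw [e]
    exact O.cp2 (4 - i) a (xc ha e) (fun b hb => h b (xc (j := 8 - (2 * i - 2)) hb (by ring)))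
  cp3 := by
    intro i a ha h
    rw [Yc_mir]
    have e : (8 : ZMod (2 * 8)) - 2 * i = 2 * (4 - i) := by ring
    rw [e]
    exact O.cm3 (4 - i) a (xc ha e) (fun b hb => h b (xc (j := 8 - (2 * i + 3)) hb (by ring)))
  cm3 := by
    intro i a ha h
    rw [Yc_mir]
    have e : (8 : ZMod (2 * 8)) - 2 * i = 2 * (4 - i) := by ring
    rw [e]
    exact O.cp3 (4 - i) a (xc ha e) (fun b hb => h b (xc (j := 8 - (2 * i - 3)) hb (by ring)))
  cardY := card_mir O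

/-! ### The torus of `⟨X 1, X 9⟩` is transitive on `Y 6` and centralises `X 5` -/

theorem mu_comm5 (O : Oct7 X) {x y : G} (hx : x ∈ X 1) (hx1 : x ≠ 1) (hy : y ∈ X 5) :
    muMap X 1 x * y * (muMap X 1 x)⁻¹ = y := by
  have S := O.a.sys
  have hk : kap X 1 x ∈ X 9 := xc (S.kap_mem hx hx1) (by decide)
  have hl : lam X 1 x ∈ X 9 := xc (S.lam_mem hx hx1) (by decide)
  have h1 : x * y = y * x := O.o4 hx hy 0 (by decide) (by decide)
  have h2 : y * kap X 1 x = kap X 1 x * y := O.o4 hy hk 2 (by decide) (by decide)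
  have h3 : y * lam X 1 x = lam X 1 x * y := O.o4 hy hl 2 (by decide) (by decide)
  apply conj_eq_self
  unfold muMap
  symm
  exact conj_comm_of (conj_comm_of h2 h1.symm) h3

theorem tor_trans [Finite G] (O : Oct11 X) {y z : G} (hy : y ∈ Yc X 6) (hy1 : y ≠ 1) (hz : z ∈ Yc X 6) (hz1 : z ≠ 1) :
    ∃ h, Tor X h ∧ h * y * h⁻¹ = z ∧ ∀ x ∈ X 5, h * x * h⁻¹ = x := by
  have A := O.a
  have S := A.sys
  obtain ⟨x1, hx1, hx11⟩ := S.exists_ne_one 1
  have hc : ⁅x1, y⁆ ∈ Yc X 4 := (aL' A hy hx1 3 (by decide) (by decide) (by decide)).1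
  -- the map `X 1 → Y 4`, `x ↦ ⁅x, z⁆`
  let f : X 1 → Yc X 4 := fun x => ⟨⁅(x : G), z⁆, (aL' A hz x.2 3 (by decide) (by decide) (by decide)).1⟩
  have hf : Function.Injective f := by
    intro a b hab
    have h1 : ⁅(a : G), z⁆ = ⁅(b : G), z⁆ := congrArg Subtype.val hab
    have h2 : ⁅(a : G) * (b : G)⁻¹, z⁆ = 1 := by
      rw [add_x A a.2 (inv_mem b.2) hz, inv_x A b.2 hz, h1, mul_inv_cancel]
    have h3 : (a : G) * (b : G)⁻¹ = 1 := by
      by_contra hne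
      exact hz1 (inj_y A (mul_mem a.2 (inv_mem b.2)) hne hz h2)
    exact Subtype.ext (mul_inv_eq_one.mp h3)
  have hcard : Nat.card (X 1) = Nat.card (Yc X 4) := by
    have h1 := O.cardY 2
    have h2 := card_odd S 0 2
    have e1 : (2 : ZMod (2 * 8)) * 2 = 4 := by decide
    have e2 : (2 : ZMod (2 * 8)) * 0 + 1 = 1 := by decide
    rw [e1] at h1 h2
    rw [e2] at h2
    rw [h1, h2]
  have hf2 : Function.Surjective f :=
    ((Nat.bijective_iff_injective_and_card f).mpr ⟨hf, hcard⟩).2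
  obtain ⟨⟨x2, hx2⟩, hx2'⟩ := hf2 ⟨⁅x1, y⁆, hc⟩
  have e : ⁅x2, z⁆ = ⁅x1, y⁆ := congrArg Subtype.val hx2'
  have hx21 : x2 ≠ 1 := by
    rintro rfl
    rw [commutatorElement_one_left] at e
    exact hy1 (inj_y A hx1 hx11 hy e.symm)
  refine ⟨(muMap X 1 x2)⁻¹ * ((muMap X 1 x1)⁻¹)⁻¹,
    tor_of_refl (S.refl hx2 hx21).inv (S.refl hx1 hx11).inv, ?_, ?_⟩
  · have h1 := mu_y6 A hx1 hx11 hy
    have h2 := mu_y6 A hx2 hx21 hz
    calc (muMap X 1 x2)⁻¹ * ((muMap X 1 x1)⁻¹)⁻¹ * y * ((muMap X 1 x2)⁻¹ * ((muMap X 1 x1)⁻¹)⁻¹)⁻¹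
        = (muMap X 1 x2)⁻¹ * (muMap X 1 x1 * y * (muMap X 1 x1)⁻¹) * muMap X 1 x2 := by group
      _ = (muMap X 1 x2)⁻¹ * (muMap X 1 x2 * z * (muMap X 1 x2)⁻¹) * muMap X 1 x2 := by rw [h1, h2, e]
      _ = z := by group
  · intro x hx
    have h1 := mu_comm5 O.to7 hx1 hx11 hx
    have h2 := mu_comm5 O.to7 hx2 hx21 hx
    calc (muMap X 1 x2)⁻¹ * ((muMap X 1 x1)⁻¹)⁻¹ * x * ((muMap X 1 x2)⁻¹ * ((muMap X 1 x1)⁻¹)⁻¹)⁻¹
        = (muMap X 1 x2)⁻¹ * (muMap X 1 x1 * x * (muMap X 1 x1)⁻¹) * muMap X 1 x2 := by group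
      _ = (muMap X 1 x2)⁻¹ * x * muMap X 1 x2 := by rw [h1]
      _ = (muMap X 1 x2)⁻¹ * (muMap X 1 x2 * x * (muMap X 1 x2)⁻¹) * muMap X 1 x2 := by rw [h2]
      _ = x := by group

theorem Tor.unmir {h : G} (hh : Tor (OctEight.mir X) h) : Tor X h := by
  intro j x
  have := hh (8 - j) x
  rw [mir_apply] at this
  have e : (8 : ZMod (2 * 8)) - (8 - j) = j := by ring
  rwa [e] at this

/-- mirror: transitive on `Y 2`, centralises `X 3` -/
theorem tor_trans' [Finite G] (O : Oct11 X) {y z : G} (hy : y ∈ Yc X 2) (hy1 : y ≠ 1) (hz : z ∈ Yc X 2)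
    (hz1 : z ≠ 1) : ∃ h, Tor X h ∧ h * y * h⁻¹ = z ∧ ∀ x ∈ X 3, h * x * h⁻¹ = x := by
  obtain ⟨h, h1, h2, h3⟩ := tor_trans O.mir (y := y) (z := z) (by rw [Yc_mir]; exact yc hy (by decide)) hy1
    (by rw [Yc_mir]; exact yc hz (by decide)) hz1
  exact ⟨h, Tor.unmir h1, h2, fun x hx => h3 x (by rw [mir_apply]; exact xc hx (by decide))⟩

/-! ### (11): `X 4 ∩ W = Y 4`, `W` commutes with `X 4` -/

theorem D_le (O : Oct11 X) {d : G} (hd : d ∈ X 4 ⊓ W X) : d ∈ Yc X 4 := by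
  obtain ⟨h1, h2⟩ := Subgroup.mem_inf.mp hd
  refine yc (O.cm3 2 d (xc h1 (by decide)) ?_) (by decide)
  intro b hb
  exact D_comm O.a h1 h2 (xc hb (by decide : _ = (1 : ZMod (2 * 8)))) (by decide)

theorem W_comm4 [Finite G] (O : Oct11 X) {w x : G} (hw : w ∈ W X) (hx : x ∈ X 4) : x * w = w * x := by
  have S := O.a.sys
  obtain ⟨a, ha, b, hb, d, hd, e, he, f, hf, rfl⟩ := W_dec O.a hw
  have h1 : a * x = x * a := ycomm ha hx 6 (by norm_num) (by decide)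
  have h2 : b * x = x * b := adj S hb hx (by decide)
  have h3 : d * x = x * d := ycomm (D_le O hd) hx 4 (by norm_num) (by decide)
  have h4 : x * e = e * x := adj S hx he (by decide)
  have h5 : f * x = x * f := ycomm hf hx 2 (by norm_num) (by decide)
  exact conj_comm_of h1.symm (conj_comm_of h2.symm (conj_comm_of h3.symm (conj_comm_of h4 h5.symm)))

/-! ### (12) -/

/-- `⁅x8, x4⁆` commutes with `W`. -/
theorem comm84_W [Finite G] (O : Oct11 X) {x y w : G} (hx : x ∈ X 8) (hy : y ∈ X 4) (hw : w ∈ W X) :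
    w * ⁅x, y⁆ = ⁅x, y⁆ * w := by
  have h1 : x⁻¹ * w * x ∈ W X := by
    have := W_conj8 O.a (inv_mem hx) hw
    rwa [inv_inv] at this
  have h2 := W_comm4 O h1 hy
  have h3 := W_comm4 O hw hy
  have e : ⁅x, y⁆ = (x * y * x⁻¹) * y⁻¹ := by rw [commutatorElement_def]
  rw [e]
  refine conj_comm_of ?_ (comm_inv_right h3.symm)
  calc w * (x * y * x⁻¹) = x * ((x⁻¹ * w * x) * y) * x⁻¹ := by group
    _ = x * (y * (x⁻¹ * w * x)) * x⁻¹ := by rw [h2]
    _ = _ := by group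

theorem comm84_a [Finite G] (O : Oct11 X) {x y : G} (hx : x ∈ X 8) (hy : y ∈ X 4) : ⁅x, y⁆ ∈ seg X 5 2 := by
  have S := O.a.sys
  have h1 : ⁅x, y⁆ ∈ seg X 5 3 := cm' S 3 (by norm_num) hy hx (by decide) (by decide)
  obtain ⟨r, hr, e, he, hre⟩ := (S.mem_seg_succ 5 (by norm_num : 2 < 8)).mp h1
  obtain ⟨z, hz, hz1⟩ := ne_even O.a (k := 2) 1 (by decide)
  have he7 : e ∈ X 7 := xc he (by decide)
  have h2 := comm84_W O hx hy (Y2_le_W hz)
  have h3 : z * r = r * z := ycomms hz hr 7 (by norm_num) (by decide)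
  have h4 : z * e = e * z := by
    have e1 : e = r⁻¹ * ⁅x, y⁆ := by rw [← hre]; group
    rw [e1]
    exact conj_comm_of (comm_inv_right h3) h2
  rcases never_commute S 5 (by norm_num) (by norm_num) (i := 2) (j := 7) (by decide) (yx hz) he7 h4 with h5 | h5
  · exact absurd h5 hz1
  · rw [← hre, h5, mul_one]; exact hr

/-- `[X 4, X 8] ≤ Y 6` -/
theorem comm84_b [Finite G] (O : Oct11 X) {x y : G} (hx : x ∈ X 8) (hy : y ∈ X 4) : ⁅x, y⁆ ∈ Yc X 6 := by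
  have S := O.a.sys
  have h1 := comm84_a O hx hy
  -- mirror `k ↦ 12 - k`
  have O' := (O.shift 2).mir
  have hm : ∀ j, OctEight.mir (fun j => X (j + 2 * 2)) j = X (12 - j) := by
    intro j
    change X (8 - j + 2 * 2) = _
    congr 1
    have h : (8 : ZMod (2 * 8)) + 2 * 2 = 12 := by decide
    linear_combination h
  have h2 : ⁅y, x⁆ ∈ seg (OctEight.mir (fun j => X (j + 2 * 2))) 5 2 := by
    refine comm84_a O' ?_ ?_
    · rw [hm]; exact xc hy (by decide)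
    · rw [hm]; exact xc hx (by decide)
  rw [seg_mir] at h2
  have h3 : ⁅y, x⁆ ∈ seg X 6 2 := by
    have := (seg_shift X (2 * 2) (8 - 5 - ((2 : ℕ) : ZMod (2 * 8)) + 1) 2) ▸ h2
    exact sc this (by decide)
  have h4 : ⁅x, y⁆ ∈ seg X 6 2 := by rw [← commutatorElement_inv]; exact inv_mem h3
  have h5 : ⁅x, y⁆ ∈ seg X 6 1 := si S 1 1 1 (by norm_num) (i := 5) (j := 6) h1 h4 (by decide)
  rw [seg_one] at h5
  refine yc (O.cm3 3 _ (xc h5 (by decide)) ?_) (by decide)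
  intro b hb
  exact (comm84_W O hx hy (X3_le_W O.a (xc hb (by decide)))).symm

/-- `λ(y0)` commutes with `X 4` for `1 ≠ y0 ∈ Y 0`. -/
theorem lam_comm4 [Finite G] (O : Oct11 X) {y0 x : G} (h0 : y0 ∈ Yc X 0) (h01 : y0 ≠ 1) (hx : x ∈ X 4) :
    lam X 0 y0 * x = x * lam X 0 y0 := by
  have S := O.a.sys
  have hk : kap X 0 y0 ∈ X 8 := xc (S.kap_mem (yx h0) h01) (by decide)
  have hl : lam X 0 y0 ∈ X 8 := xc (S.lam_mem (yx h0) h01) (by decide)
  have he := comm84_b O hl hx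
  rw [← comm_eq_one]
  by_contra hne
  obtain ⟨k, hkk⟩ : ∃ k, k = kap X 0 y0 := ⟨_, rfl⟩
  rw [← hkk] at hk
  have hm : muMap X 0 y0 * x * (muMap X 0 y0)⁻¹ ∈ X 4 := rx (S.refl (yx h0) h01) hx (by decide)
  obtain ⟨x', hx'⟩ : ∃ x', x' = muMap X 0 y0 * x * (muMap X 0 y0)⁻¹ := ⟨_, rfl⟩
  rw [← hx'] at hm
  obtain ⟨e, hee⟩ : ∃ e, e = ⁅lam X 0 y0, x⁆ := ⟨_, rfl⟩
  rw [← hee] at he hne
  have h0x : y0 * x = x * y0 := ycomm h0 hx 8 (by norm_num) (by decide)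
  -- `k⁻¹ x' k = ⁅y0, e⁆ e x`
  have e1 : k⁻¹ * x' * k = ⁅y0, e⁆ * e * x := by
    rw [hx']; unfold muMap
    rw [← hkk]
    calc k⁻¹ * (k * y0 * lam X 0 y0 * x * (k * y0 * lam X 0 y0)⁻¹) * k
        = y0 * (⁅lam X 0 y0, x⁆ * x) * y0⁻¹ := by rw [commutatorElement_def]; group
      _ = (y0 * e * y0⁻¹) * (y0 * x * y0⁻¹) := by rw [← hee]; group
      _ = (⁅y0, e⁆ * e) * x := by rw [conj_eq_self h0x, commutatorElement_def]; group
  have e2 : ⁅y0, e⁆ = ⁅k⁻¹, x'⁆ * x' * x⁻¹ * e⁻¹ := by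
    have : ⁅k⁻¹, x'⁆ * x' = k⁻¹ * x' * k := by rw [commutatorElement_def]; group
    rw [this, e1]; group
  have h1 : ⁅y0, e⁆ ∈ seg X 4 3 := by
    rw [e2]
    exact mul_mem (mul_mem (mul_mem (ms (yx (comm84_b O (inv_mem hk) hm)) 2 (by norm_num) (by decide))
      (ms hm 0 (by norm_num) (by decide))) (inv_mem (ms hx 0 (by norm_num) (by decide))))
      (inv_mem (ms (yx he) 2 (by norm_num) (by decide)))
  have hp2 := p2_mem S h0 he h01
  have hp4 := p4_mem S h0 he hne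
  have hc := c3_mem S h0 he h01 hne
  have hce := comm_eq (X := X) y0 e
  have h2 : (c3 X y0 e)⁻¹ * p2 X y0 e = 1 := by
    refine sd S 2 3 (by norm_num) (i := 2) (j := 4) ?_ ?_ (by decide)
    · exact mul_mem (inv_mem (ms hc 1 (by norm_num) (by decide))) (ms (yx hp2) 0 (by norm_num) (by decide))
    · have e3 : (c3 X y0 e)⁻¹ * p2 X y0 e = p4 X y0 e * ⁅y0, e⁆ := by
        rw [← commutatorElement_inv, hce]; group
      rw [e3]
      exact mul_mem (ms (yx hp4) 0 (by norm_num) (by decide)) h1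
  have h3 : p2 X y0 e = 1 := by
    refine sd S 1 1 (by norm_num) (i := 2) (j := 3) ?_ ?_ (by decide)
    · rw [seg_one]; exact yx hp2
    · rw [seg_one, ← inv_mul_eq_one.mp h2]; exact hc
  exact p2_ne hne h3

/-- **(12)**: `[X 4, X 8] = 1`. -/
theorem four4 [Finite G] (O : Oct11 X) {x y : G} (hx : x ∈ X 8) (hy : y ∈ X 4) : x * y = y * x := by
  have A := O.a
  have S := A.sys
  obtain ⟨y0, h0, y6, h6, h01, h61, hc⟩ := OctSixB.exists_c3 A
  have hk : kap X 0 y0 ∈ X 8 := xc (S.kap_mem (yx h0) h01) (by decide)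
  -- `k0 = κ(y0)` commutes with `X 4`
  have hk4 : ∀ z ∈ X 4, kap X 0 y0 * z = z * kap X 0 y0 := by
    intro z hz
    have h1 := lam_comm4 O (inv_mem h0) (inv_ne_one.mpr h01) hz
    rw [S.lam_inv (yx h0) h01] at h1
    have := comm_inv_left h1
    rwa [inv_inv] at this
  have hb := b3_kap A h0 h6 h01 h61
  have hp2 := p2_mem S h0 h6 h01
  rw [← hb] at hc
  obtain ⟨k, hkk⟩ : ∃ k, k = kap X 0 y0 := ⟨_, rfl⟩
  rw [← hkk] at hk hk4 hc
  -- elements of `Y 8` commute with `X 4`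
  have hY8 : ∀ z ∈ Yc X 8, z * y = y * z := fun z hz => ycomm hz hy 0 (by norm_num) (by decide)
  -- elements of `X 8` commuting with `X 6` are in `Y 8`
  have hC : ∀ z ∈ X 8, (∀ u ∈ X 6, z * u = u * z) → z ∈ Yc X 8 := fun z hz h =>
    yc (O.cm2 4 z (xc hz (by decide)) (fun u hu => h u (xc hu (by decide)))) (by decide)
  obtain ⟨y2, hy2, hy21⟩ := ne_even A (k := 2) 1 (by decide)
  by_cases h8 : b3 X x y2 = 1
  · exact hY8 x (hC x hx fun u hu => comm6_of_b3 O.to7 hx hy2 hy21 h8 hu)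
  -- the map `Y 2 → X 3`, `z ↦ b3 k z` is a bijection
  let f : Yc X 2 → X 3 := fun z => ⟨b3 X k z, b3_mem A hk z.2⟩
  have hf : Function.Injective f := by
    intro a b hab
    have h1 : b3 X k a = b3 X k b := congrArg Subtype.val hab
    have h2 : b3 X k ((a : G) * (b : G)⁻¹) = 1 := by
      rw [b3_mul_right A hk a.2 (inv_mem b.2), b3_inv_right A hk b.2, h1, mul_inv_cancel]
    have h3 : (a : G) * (b : G)⁻¹ = 1 := by
      by_contra hne
      exact hc (b3_of_comm6 O.to7 hk hp2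
        (fun u hu => comm6_of_b3 O.to7 hk (mul_mem a.2 (inv_mem b.2)) hne h2 hu))
    exact Subtype.ext (mul_inv_eq_one.mp h3)
  have hcard : Nat.card (Yc X 2) = Nat.card (X 3) := by
    have h1 := O.cardY 1
    have e1 : (2 : ZMod (2 * 8)) * 1 = 2 := by decide
    have e2 : (2 : ZMod (2 * 8)) + 1 = 3 := by decide
    rwa [e1, e2] at h1
  obtain ⟨⟨z, hz⟩, hz'⟩ := ((Nat.bijective_iff_injective_and_card f).mpr ⟨hf, hcard⟩).2 ⟨b3 X x y2, b3_mem A hx hy2⟩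
  have hz2 : b3 X k z = b3 X x y2 := congrArg Subtype.val hz'
  have hz1 : z ≠ 1 := by
    rintro rfl
    rw [b3_one_right A] at hz2
    exact h8 hz2.symm
  obtain ⟨h, hh, h1, h2⟩ := tor_trans' O hz hz1 hy2 hy21
  have h3 := b3_tor A hh hk hz
  rw [h1, h2 _ (b3_mem A hk hz), hz2] at h3
  have hk' : h * k * h⁻¹ ∈ X 8 := hh.mem hk
  have h4 : b3 X (x⁻¹ * (h * k * h⁻¹)) y2 = 1 := by
    rw [b3_mul_left A (inv_mem hx) hk' hy2, b3_inv_left A hx hy2, h3, inv_mul_cancel]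
  have h5 := hC _ (mul_mem (inv_mem hx) hk')
    fun u hu => comm6_of_b3 O.to7 (mul_mem (inv_mem hx) hk') hy2 hy21 h4 hu
  have h6' := hY8 _ h5
  have h7 : (h * k * h⁻¹) * y = y * (h * k * h⁻¹) := by
    have h8' := hk4 _ (hh.mem' hy)
    calc (h * k * h⁻¹) * y = h * (k * (h⁻¹ * y * h)) * h⁻¹ := by group
      _ = h * ((h⁻¹ * y * h) * k) * h⁻¹ := by rw [h8']
      _ = _ := by group
  have e1 : x = (h * k * h⁻¹) * (x⁻¹ * (h * k * h⁻¹))⁻¹ := by group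
  rw [e1]
  symm
  exact conj_comm_of h7.symm (comm_inv_right h6'.symm)

theorem zmod_cases : ∀ k : ZMod (2 * 8), ∃ i, k = 2 * i ∨ k = 2 * i + 1 := by decide

/-- **(7) + (12)**: `[X k, X (k + 4)] = 1` for all `k`. -/
theorem four [Finite G] (O : Oct11 X) : ∀ k, ∀ a ∈ X k, ∀ b ∈ X (k + 4), a * b = b * a := by
  intro k a ha b hb
  obtain ⟨i, rfl | rfl⟩ := zmod_cases k
  · symm
    refine four4 (O.shift (i - 2)) ?_ ?_
    · refine xc hb ?_
      have h : (8 : ZMod (2 * 8)) - 2 * 2 = 4 := by decide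
      linear_combination -h
    · refine xc ha ?_
      have h : (4 : ZMod (2 * 8)) - 2 * 2 = 0 := by decide
      linear_combination -h
  · exact O.odd4 i a ha b (xc hb (by ring))

end Cfsg.Agent.SplitTwo.OctTwelve
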