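import Cfsg.Agent.SplitTwo.OctDefsB
import Cfsg.Agent.SplitTwo.OctSkel
import Cfsg.Agent.SplitTwo.OctTwelve

/-!
# Moufang octagons (S1144): `OctB → Skel`
-/

set_option autoImplicit false

namespace Cfsg.Agent.SplitTwo.OctSkelOf

open Cfsg.Agent.SplitTwo Cfsg.Agent.SplitTwo.OctDefs Cfsg.Agent.SplitTwo.OctSkel
open scoped commutatorElement

universe u

variable {G : Type u} [Group G] {X : ZMod (2 * 8) → Subgroup G}

theorem kk_eq (a b : G) : kk a b = ⁅a⁻¹, b⁻¹⁆ := by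
  unfold kk; rw [commutatorElement_def]; group

theorem skel (O : OctB X) : Skel X where
  A := O.a
  o2 := O.odd2
  f4 := O.four
  t3 := fun i a ha b hb => by rw [kk_eq]; exact O.r14 i _ (inv_mem ha) _ (inv_mem hb)
  t3' := fun i a ha b hb => by rw [kk_eq]; exact O.r03 i _ (inv_mem ha) _ (inv_mem hb)
  v5 := fun i a ha b hb => by rw [kk_eq]; exact O.r16 i _ (inv_mem ha) _ (inv_mem hb)
  v5' := fun i a ha b hb => by rw [kk_eq]; exact O.r05 i _ (inv_mem ha) _ (inv_mem hb)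
  y6 := fun i a ha b hb => by rw [kk_eq]; exact O.ry06 i _ (inv_mem ha) _ (inv_mem hb)
  y6' := fun i a ha b hb => by rw [kk_eq]; exact O.rx06 i _ (inv_mem ha) _ (inv_mem hb)
  s6 := fun i a ha b hb => by rw [kk_eq]; exact O.r17 i _ (inv_mem ha) _ (inv_mem hb)
  cenL := O.cm3
  cenE := O.cm2
  cY := fun i j => by rw [O.cardY, OctTwelve.card_odd O.a.sys i j]
  cX := fun i j => by rw [O.cardX, OctTwelve.card_odd O.a.sys i j, sq]

end Cfsg.Agent.SplitTwo.OctSkelOf
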