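import Cfsg.Agent.SplitTwo.OctTwelve

/-!
# Moufang octagons (S1144): `[X 3, X 8] ≤ Y 4 X 5 Y 6` and `[X 1, X 7] ≤ X 3 Y 4 X 5`
-/

set_option autoImplicit false

namespace Cfsg.Agent.SplitTwo.OctR17

open Cfsg.Agent.SplitTwo Cfsg.Agent.SplitTwo.OctDefs Cfsg.Agent.SplitTwo.OctTools
open Cfsg.Agent.SplitTwo.OctFive Cfsg.Agent.SplitTwo.TorMaps Cfsg.Agent.SplitTwo.OctSix
open Cfsg.Agent.SplitTwo.OctEight Cfsg.Agent.SplitTwo.OctNine Cfsg.Agent.SplitTwo.OctTen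
open Cfsg.Agent.SplitTwo.OctTwelve
open scoped commutatorElement

universe u

variable {G : Type u} [Group G] {X : ZMod (2 * 8) → Subgroup G}

/-- elements of `W ∩ X 4 X 5 X 6 X 7` are in `Y 4 X 5 Y 6` -/
theorem W_dec4 [Finite G] (O : Oct11 X) {w : G} (hw : w ∈ W X) (hw' : w ∈ seg X 4 4) :
    ∃ d ∈ Yc X 4, ∃ e ∈ X 5, ∃ f ∈ Yc X 6, w = d * e * f := by
  have S := O.a.sys
  obtain ⟨a, ha, b, hb, d, hd, e, he, f, hf, h⟩ := W_dec O.a hw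
  refine ⟨d, D_le O hd, e, he, f, hf, ?_⟩
  have h1 : a * b = 1 := by
    refine sd S 2 4 (by norm_num) (i := 2) (j := 4) ?_ ?_ (by decide)
    · exact mul_mem (ms (yx ha) 0 (by norm_num) (by decide)) (ms hb 1 (by norm_num) (by decide))
    · have e1 : a * b = w * (d * (e * f))⁻¹ := by rw [h]; group
      rw [e1]
      exact mul_mem hw' (inv_mem (mul_mem (ms hd.1 0 (by norm_num) (by decide))
        (mul_mem (ms he 1 (by norm_num) (by decide)) (ms (yx hf) 2 (by norm_num) (by decide)))))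
  calc w = (a * b) * (d * e * f) := by rw [h]; group
    _ = _ := by rw [h1, one_mul]

theorem comm38 [Finite G] (O : Oct11 X) {x y : G} (hx : x ∈ X 3) (hy : y ∈ X 8) :
    ∃ d ∈ Yc X 4, ∃ e ∈ X 5, ∃ f ∈ Yc X 6, ⁅x, y⁆ = d * e * f := by
  have S := O.a.sys
  apply W_dec4 O
  · have hxW := X3_le_W O.a hx
    have e : ⁅x, y⁆ = x * (y * x * y⁻¹)⁻¹ := by rw [commutatorElement_def]; group
    rw [e]
    exact mul_mem hxW (inv_mem (W_conj8 O.a hy hxW))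
  · exact cm S 4 (by norm_num) hx hy (by decide) (by decide)

/-- `[X 1, X 6] ≤ Y 2 X 3 Y 4` -/
theorem comm16 [Finite G] (O : Oct11 X) {x y : G} (hx : x ∈ X 1) (hy : y ∈ X 6) :
    ∃ d ∈ Yc X 2, ∃ e ∈ X 3, ∃ f ∈ Yc X 4, ⁅x, y⁆ = d * e * f := by
  obtain ⟨d, hd, e, he, f, hf, h⟩ := comm38 (O.shift (-1)) (x := x) (y := y)
    (xc hx (by decide)) (xc hy (by decide))
  rw [Yc_shift] at hd hf
  have he' : e ∈ X (5 + 2 * (-1)) := he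
  exact ⟨d, yc hd (by decide), e, xc he' (by decide), f, yc hf (by decide), h⟩

/-- the `X 6`-component of `⁅x1, x7⁆` is trivial -/
theorem comm17_a (O : Oct7 X) {x y : G} (hx : x ∈ X 1) (hy : y ∈ X 7) : ⁅x, y⁆ ∈ seg X 2 4 := by
  have S := O.a.sys
  by_cases hy1 : y = 1
  · subst hy1; rw [commutatorElement_one_right]; exact one_mem _
  have h1 : ⁅x, y⁆ ∈ seg X 2 5 := cm S 5 (by norm_num) hx hy (by decide) (by decide)
  have hk : kap X 7 y ∈ X 15 := xc (S.kap_mem hy hy1) (by decide)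
  have hl : lam X 7 y ∈ X 15 := xc (S.lam_mem hy hy1) (by decide)
  have hm : muMap X 7 y * x * (muMap X 7 y)⁻¹ ∈ X 5 := rx (S.refl hy hy1) hx (by decide)
  have hlx : lam X 7 y * x = x * lam X 7 y := O.o2 hl hx 7 (by decide) (by decide)
  obtain ⟨z, hz⟩ : ∃ z, z = muMap X 7 y * x * (muMap X 7 y)⁻¹ := ⟨_, rfl⟩
  rw [← hz] at hm
  have e1 : y * x * y⁻¹ = (kap X 7 y)⁻¹ * z * kap X 7 y := by
    rw [hz]; unfold muMap
    calc y * x * y⁻¹ = y * (lam X 7 y * x * (lam X 7 y)⁻¹) * y⁻¹ := by rw [conj_eq_self hlx]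
      _ = _ := by group
  have e2 : ⁅x, y⁆ = x * (y * x * y⁻¹)⁻¹ := by rw [commutatorElement_def]; group
  have h2 : (kap X 7 y)⁻¹ * z * kap X 7 y ∈ seg X 0 6 :=
    cl' S 6 (by norm_num) hk (ms hm 5 (by norm_num) (by decide)) (by decide)
  have h3 : ⁅x, y⁆ ∈ seg X 0 6 := by
    rw [e2, e1]
    exact mul_mem (ms hx 1 (by norm_num) (by decide)) (inv_mem h2)
  exact si S 2 4 1 (by norm_num) (i := 0) (j := 2) h3 h1 (by decide)

theorem comm17_b (O : Oct7 X) {x y : G} (hx : x ∈ X 1) (hy : y ∈ X 7) : ⁅x, y⁆ ∈ seg X 3 3 := by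
  have S := O.a.sys
  have h1 := comm17_a O hx hy
  have h2 : ⁅y, x⁆ ∈ seg (OctEight.mir X) 2 4 :=
    comm17_a O.mir (by rw [mir_apply]; exact xc hy (by decide)) (by rw [mir_apply]; exact xc hx (by decide))
  rw [seg_mir] at h2
  have h3 : ⁅x, y⁆ ∈ seg X 3 4 := by
    rw [← commutatorElement_inv]; exact inv_mem (sc h2 (by decide))
  exact si S 1 3 1 (by norm_num) (i := 2) (j := 3) h1 h3 (by decide)

/-- `[X 1, X 7] ≤ X 3 Y 4 X 5` -/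
theorem comm17 [Finite G] (O : Oct11 X) {x y : G} (hx : x ∈ X 1) (hy : y ∈ X 7) :
    ∃ c ∈ X 3, ∃ d ∈ Yc X 4, ∃ e ∈ X 5, ⁅x, y⁆ = c * d * e := by
  have A := O.a
  have S := A.sys
  obtain ⟨r, hr, e, he, hre⟩ := (S.mem_seg_succ 3 (by norm_num : 2 < 8)).mp (comm17_b O.to7 hx hy)
  obtain ⟨c, hc, d, hd, rfl⟩ := (S.mem_seg_succ 3 (by norm_num : 1 < 8)).mp hr
  rw [seg_one] at hc
  have hd4 : d ∈ X 4 := xc hd (by decide)
  have he5 : e ∈ X 5 := xc he (by decide)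
  refine ⟨c, hc, d, ?_, e, he5, hre.symm⟩
  refine yc (O.cp2 2 d (xc hd4 (by decide)) ?_) (by decide)
  intro u hu'
  have hu : u ∈ X 6 := xc hu' (by decide)
  obtain ⟨f2, hf2, f3, hf3, f4, hf4, hf⟩ := comm16 O hx hu
  obtain ⟨z, hz⟩ : ∃ z, z = ⁅x, y⁆ := ⟨_, rfl⟩
  obtain ⟨f, hff⟩ : ∃ f, f = ⁅x, u⁆ := ⟨_, rfl⟩
  rw [← hz] at hre
  rw [← hff] at hf
  have hyu : y * u = u * y := (adj S hu hy (by decide)).symm
  have h1 : (z * y) * (f * u) = (f * u) * (z * y) := by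
    have e1 : z * y = x * y * x⁻¹ := by rw [hz, commutatorElement_def]; group
    have e2 : f * u = x * u * x⁻¹ := by rw [hff, commutatorElement_def]; group
    rw [e1, e2]
    calc x * y * x⁻¹ * (x * u * x⁻¹) = x * (y * u) * x⁻¹ := by group
      _ = x * (u * y) * x⁻¹ := by rw [hyu]
      _ = _ := by group
  -- `f ∈ W`, everything in `Q = X 1 ⋯ X 7`
  have hfW : f ∈ W X := by rw [hf]; exact mul_mem (mul_mem (Y2_le_W hf2) (X3_le_W A hf3)) (Y4_le_W hf4)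
  have hcW := X3_le_W A hc
  have heW := X5_le_W A he5
  have hyQ : y ∈ seg X 1 7 := ms hy 6 (by norm_num) (by decide)
  have huQ : u ∈ seg X 1 7 := ms hu 5 (by norm_num) (by decide)
  have hcQ : c ∈ seg X 1 7 := ms hc 2 (by norm_num) (by decide)
  have hdQ : d ∈ seg X 1 7 := ms hd4 3 (by norm_num) (by decide)
  have heQ : e ∈ seg X 1 7 := ms he5 4 (by norm_num) (by decide)
  have hzQ : z ∈ seg X 1 7 := by rw [← hre]; exact mul_mem (mul_mem hcQ hdQ) heQ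
  -- `Y 4` is central in `Q`
  have hZ : ∀ w ∈ Yc X 4, ∀ q ∈ seg X 1 7, q * w * q⁻¹ = w := fun w hw q hq =>
    conj_eq_self (ycomms hw hq 1 (by norm_num) (by decide)).symm
  -- `⁅z y, f⁆ ∈ Y 4`
  have h2 : ⁅f, z * y⁆ ∈ Yc X 4 := comm_W A hfW (mul_mem hzQ hyQ)
  have h2' : ⁅z * y, f⁆ ∈ Yc X 4 := by rw [← commutatorElement_inv]; exact inv_mem h2
  -- `1 = ⁅z y, f u⁆ = ⁅z y, f⁆ f ⁅z y, u⁆ f⁻¹`
  have e3 : ⁅z * y, f * u⁆ = ⁅z * y, f⁆ * (f * ⁅z * y, u⁆ * f⁻¹) := by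
    simp only [commutatorElement_def]; group
  rw [comm_eq_one.mpr h1] at e3
  have h3 : ⁅z * y, u⁆ ∈ Yc X 4 := by
    have h4 : f * ⁅z * y, u⁆ * f⁻¹ = (⁅z * y, f⁆)⁻¹ := eq_inv_of_mul_eq_one_right e3.symm
    have hfQ : f⁻¹ ∈ seg X 1 7 := inv_mem (ss (W_le A hfW) 1 (by norm_num) (by decide))
    have h5 : ⁅z * y, u⁆ = f⁻¹ * (⁅z * y, f⁆)⁻¹ * (f⁻¹)⁻¹ := by rw [← h4]; group
    rw [h5, hZ _ (inv_mem h2') _ hfQ]
    exact inv_mem h2'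
  -- `⁅z y, u⁆ = z ⁅y, u⁆ z⁻¹ ⁅z, u⁆ = ⁅z, u⁆`
  have h4 : ⁅z * y, u⁆ = ⁅z, u⁆ := by
    have : ⁅z * y, u⁆ = (z * ⁅y, u⁆ * z⁻¹) * ⁅z, u⁆ := by simp only [commutatorElement_def]; group
    rw [this, comm_eq_one.mpr hyu]; group
  rw [h4] at h3
  -- `⁅z, u⁆ = ⁅c, d e u ...⁆`: mod `Y 4` it is `⁅d, u⁆`
  have heu : ⁅e, u⁆ = 1 := comm_eq_one.mpr (adj S he5 hu (by decide))
  have h5 : ⁅z, u⁆ = (c * ⁅d, u⁆ * c⁻¹) * ⁅c, u⁆ := by
    have : ⁅c * d * e, u⁆ = ((c * d) * ⁅e, u⁆ * (c * d)⁻¹) * ((c * ⁅d, u⁆ * c⁻¹) * ⁅c, u⁆) := by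
      simp only [commutatorElement_def]; group
    rw [← hre, this, heu]; group
  have h6 : ⁅c, u⁆ ∈ Yc X 4 := comm_W A hcW huQ
  have h7 : ⁅d, u⁆ ∈ Yc X 4 := by
    have h8 : ⁅d, u⁆ = c⁻¹ * (⁅z, u⁆ * ⁅c, u⁆⁻¹) * (c⁻¹)⁻¹ := by rw [h5]; group
    have h9 : ⁅z, u⁆ * ⁅c, u⁆⁻¹ ∈ Yc X 4 := mul_mem h3 (inv_mem h6)
    rw [h8, hZ _ h9 _ (inv_mem hcQ)]
    exact h9
  have h8 : ⁅d, u⁆ ∈ seg X 5 1 := cm S 1 (by norm_num) hd4 hu (by decide) (by decide)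
  rw [← comm_eq_one]
  exact sd S 1 1 (by norm_num) (i := 4) (j := 5) (by rw [seg_one]; exact yx h7) h8 (by decide)

/-- verbatim the field `OctB.r17` -/
theorem r17 [Finite G] (O : Oct11 X) : ∀ i, ∀ a ∈ X (2 * i + 1), ∀ b ∈ X (2 * i + 7), ∃ c ∈ X (2 * i + 3),
    ∃ d ∈ Yc X (2 * i + 4), ∃ e ∈ X (2 * i + 5), ⁅a, b⁆ = c * d * e := by
  intro i a ha b hb
  obtain ⟨c, hc, d, hd, e, he, h⟩ := comm17 (O.shift i) (x := a) (y := b) (xc ha (by ring)) (xc hb (by ring))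
  rw [Yc_shift] at hd
  have hc' : c ∈ X (3 + 2 * i) := hc
  have he' : e ∈ X (5 + 2 * i) := he
  exact ⟨c, xc hc' (by ring), d, yc hd (by ring), e, xc he' (by ring), h⟩

end Cfsg.Agent.SplitTwo.OctR17
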