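import Cfsg.Agent.SplitTwo.OctRel788
import Cfsg.Agent.SplitTwo.OctTwelve
import Cfsg.Agent.SplitTwo.OctR17

/-!
# Moufang octagons (S1144): `OctA X → OctB X`, assembly
-/

set_option autoImplicit false

namespace Cfsg.Agent.SplitTwo.OctStruct

open Cfsg.Agent.SplitTwo Cfsg.Agent.SplitTwo.OctDefs Cfsg.Agent.SplitTwo.OctTwelve
open Cfsg.Agent.SplitTwo.OctTen788 Cfsg.Agent.SplitTwo.OctRel788
open scoped commutatorElement

universe u

variable {G : Type u} [Group G] {X : ZMod (2 * 8) → Subgroup G}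

theorem oct11 [Finite G] (O : OctA X) : Oct11 X where
  a := O
  odd2 := two_i O
  odd4 := four_odd O
  cp2 := fun i _ ha h => OctTen788.cp2 O i ha h
  cm2 := fun i _ ha h => OctTen788.cm2 O i ha h
  cp3 := fun i _ ha h => OctTen788.cp3 O i ha h
  cm3 := fun i _ ha h => OctTen788.cm3 O i ha h
  cardY := OctTen788.cardY O

theorem octB_of [Finite G] (O : OctA X)
    (r17 : ∀ i, ∀ a ∈ X (2 * i + 1), ∀ b ∈ X (2 * i + 7), ∃ c ∈ X (2 * i + 3), ∃ d ∈ Yc X (2 * i + 4),
      ∃ e ∈ X (2 * i + 5), ⁅a, b⁆ = c * d * e) : OctB X where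
  a := O
  odd2 := two_i O
  four := four (oct11 O)
  r14 := OctRel788.r14 O
  r03 := OctRel788.r03 O
  r16 := OctRel788.r16 O
  r05 := OctRel788.r05 O
  r17 := r17
  ry06 := OctRel788.ry06 O
  rx06 := OctRel788.rx06 O
  cp2 := fun i _ ha h => OctTen788.cp2 O i ha h
  cm2 := fun i _ ha h => OctTen788.cm2 O i ha h
  cp3 := fun i _ ha h => OctTen788.cp3 O i ha h
  cm3 := fun i _ ha h => OctTen788.cm3 O i ha h
  cardY := OctTen788.cardY O
  cardX := OctTen788.cardX O

/-- **Structure of a finite Moufang octagon**: `OctA X → OctB X`. -/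
theorem octB [Finite G] (O : OctA X) : OctB X := octB_of O (OctR17.r17 (oct11 O))

/-- The structure passes to the even shifts and to the reversal; in particular for a root system. -/
theorem octB_shift [Finite G] (O : OctA X) (c : ZMod (2 * 8)) : OctB (fun j => X (j + 2 * c)) :=
  octB (OctTools.shiftA O c)

theorem octB_rev [Finite G] (O : OctA X) (c : ZMod (2 * 8)) : OctB (fun j => X (2 * c - j)) :=
  octB (OctSeven.revA O c)

end Cfsg.Agent.SplitTwo.OctStruct
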