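import Cfsg.Agent.SplitTwo.OctSkel

/-!
# Moufang octagons (S1144): `p = 2`

`eq_two`: in a Moufang octagon whose root groups are `p`-groups, `p = 2`.

Let `1 ≠ e ∈ X 1` and `z = μ(e)²`.  Then `z` inverts `Y 4` and `Y 6`.  The commutator of `Y 0` and `Y 6` has
non-trivial components in `Y 2` and `Y 4`, so `z` centralises `Y 0`, hence also `Y 2` (conjugation by `μ(x₅)`), and
inverts the `Y 2`-component.
-/

set_option autoImplicit false

namespace Cfsg.Agent.SplitTwo.OctTwo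

open Cfsg.Agent.SplitTwo Cfsg.Agent.SplitTwo.OctDefs Cfsg.Agent.SplitTwo.OctTools Cfsg.Agent.SplitTwo.OctSkel
open scoped commutatorElement

universe u

variable {G : Type u} [Group G] {X : ZMod (2 * 8) → Subgroup G}

theorem kk_eq (a b : G) : kk a b = ⁅a⁻¹, b⁻¹⁆ := by
  rw [commutatorElement_def, inv_inv, inv_inv]; rfl

theorem conj_eq (a b : G) : b⁻¹ * a * b = a * kk a b := by
  unfold kk; group

/-- `μ(e)`, `e ∈ X 1`, on `Y 6`. -/
theorem mu_six (O : OctA X) {e : G} (he : e ∈ X 1) (he1 : e ≠ 1) {y : G} (hy : y ∈ Yc X 6) :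
    (muMap X 1 e)⁻¹ * y * muMap X 1 e = kk y e ∧ kk (kk y e) (lam X 1 e) = y⁻¹ ∧ kk y e ∈ Yc X 4 := by
  have S := O.sys
  have hkp : kap X 1 e ∈ X 9 := S.kap_mem he he1
  have hlm : lam X 1 e ∈ X 9 := S.lam_mem he he1
  have hr := S.refl he he1
  have h4 : kk y e ∈ Yc X 4 := by
    rw [kk_eq]
    exact O.aL 3 y⁻¹ (inv_mem hy) e⁻¹ (inv_mem he)
  have h6 : kk (kk y e) (lam X 1 e) ∈ Yc X 6 := by
    rw [kk_eq]
    exact O.aR 2 (kk y e)⁻¹ (inv_mem h4) (lam X 1 e)⁻¹ (inv_mem hlm)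
  have c1 : y * kap X 1 e = kap X 1 e * y := ycomm hy hkp 7 (by norm_num) (by decide)
  have c2 : y * lam X 1 e = lam X 1 e * y := ycomm hy hlm 7 (by norm_num) (by decide)
  have c3 : kk y e * kk (kk y e) (lam X 1 e) = kk (kk y e) (lam X 1 e) * kk y e :=
    ycomm h4 (yx h6) 6 (by norm_num) (by decide)
  have e1 : (muMap X 1 e)⁻¹ * y * muMap X 1 e = y * kk y e * kk (kk y e) (lam X 1 e) := by
    unfold muMap
    calc (kap X 1 e * e * lam X 1 e)⁻¹ * y * (kap X 1 e * e * lam X 1 e)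
        = (lam X 1 e)⁻¹ * (e⁻¹ * ((kap X 1 e)⁻¹ * (y * kap X 1 e)) * e) * lam X 1 e := by group
      _ = (lam X 1 e)⁻¹ * (e⁻¹ * y * e) * lam X 1 e := by rw [c1]; group
      _ = (lam X 1 e)⁻¹ * (y * kk y e) * lam X 1 e := by rw [conj_eq y e]
      _ = (lam X 1 e)⁻¹ * y * lam X 1 e * ((lam X 1 e)⁻¹ * kk y e * lam X 1 e) := by group
      _ = y * (kk y e * kk (kk y e) (lam X 1 e)) := by
          rw [conj_eq_self' c2.symm, conj_eq (kk y e) (lam X 1 e)]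
      _ = _ := by group
  have hm : (muMap X 1 e)⁻¹ * y * muMap X 1 e ∈ X 4 := hr.mem' (yx hy)
  have e2 : (muMap X 1 e)⁻¹ * y * muMap X 1 e * (kk y e)⁻¹ = y * kk (kk y e) (lam X 1 e) := by
    rw [e1, mul_assoc y, c3]; group
  have h1 : y * kk (kk y e) (lam X 1 e) = 1 := by
    have m6 : y * kk (kk y e) (lam X 1 e) ∈ X 6 := mul_mem (yx hy) (yx h6)
    have m4 : y * kk (kk y e) (lam X 1 e) ∈ X 4 := e2 ▸ mul_mem hm (inv_mem (yx h4))
    exact sd S (i := 4) (j := 6) 2 1 (by norm_num) (ms m4 0 (by norm_num) (by decide))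
      (ms m6 0 (by norm_num) (by decide)) (by decide)
  refine ⟨?_, (eq_inv_of_mul_eq_one_right h1), h4⟩
  rw [h1] at e2
  exact mul_inv_eq_one.mp e2

/-- `μ(e)`, `e ∈ X 1`, on `Y 4`. -/
theorem mu_four (O : OctA X) {e : G} (he : e ∈ X 1) (he1 : e ≠ 1) {y : G} (hy : y ∈ Yc X 4) :
    (muMap X 1 e)⁻¹ * y * muMap X 1 e = kk y (lam X 1 e) := by
  have S := O.sys
  have hkp : kap X 1 e ∈ X 9 := S.kap_mem he he1
  have hlm : lam X 1 e ∈ X 9 := S.lam_mem he he1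
  have hr := S.refl he he1
  set w := kk y (kap X 1 e) with hw
  have hw6 : w ∈ Yc X 6 := by
    rw [hw, kk_eq]
    exact O.aR 2 y⁻¹ (inv_mem hy) (kap X 1 e)⁻¹ (inv_mem hkp)
  have hl6 : kk y (lam X 1 e) ∈ Yc X 6 := by
    rw [kk_eq]
    exact O.aR 2 y⁻¹ (inv_mem hy) (lam X 1 e)⁻¹ (inv_mem hlm)
  obtain ⟨-, hw2, hw4⟩ := mu_six O he he1 hw6
  have c1 : y * e = e * y := ycomm hy he 1 (by norm_num) (by decide)
  have c2 : w * lam X 1 e = lam X 1 e * w := ycomm hw6 hlm 7 (by norm_num) (by decide)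
  have c3 : kk w e * w = w * kk w e := ycomm hw4 (yx hw6) 6 (by norm_num) (by decide)
  have c4 : kk w e * kk y (lam X 1 e) = kk y (lam X 1 e) * kk w e := ycomm hw4 (yx hl6) 6 (by norm_num) (by decide)
  have e1 : (muMap X 1 e)⁻¹ * y * muMap X 1 e = y * kk w e * kk y (lam X 1 e) := by
    unfold muMap
    calc (kap X 1 e * e * lam X 1 e)⁻¹ * y * (kap X 1 e * e * lam X 1 e)
        = (lam X 1 e)⁻¹ * (e⁻¹ * ((kap X 1 e)⁻¹ * y * kap X 1 e) * e) * lam X 1 e := by group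
      _ = (lam X 1 e)⁻¹ * (e⁻¹ * (y * w) * e) * lam X 1 e := by rw [conj_eq y (kap X 1 e)]
      _ = (lam X 1 e)⁻¹ * (e⁻¹ * y * e * (e⁻¹ * w * e)) * lam X 1 e := by group
      _ = (lam X 1 e)⁻¹ * (y * (w * kk w e)) * lam X 1 e := by rw [conj_eq_self' c1.symm, conj_eq w e]
      _ = (lam X 1 e)⁻¹ * y * lam X 1 e * ((lam X 1 e)⁻¹ * w * lam X 1 e) *
            ((lam X 1 e)⁻¹ * kk w e * lam X 1 e) := by group
      _ = y * kk y (lam X 1 e) * w * (kk w e * w⁻¹) := by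
          rw [conj_eq y (lam X 1 e), conj_eq_self' c2.symm, conj_eq (kk w e) (lam X 1 e), hw2]
      _ = y * (kk y (lam X 1 e) * (w * kk w e) * w⁻¹) := by group
      _ = y * (kk y (lam X 1 e) * kk w e) := by rw [← c3]; group
      _ = y * kk w e * kk y (lam X 1 e) := by rw [← c4]; group
  have hm : (muMap X 1 e)⁻¹ * y * muMap X 1 e ∈ X 6 := hr.mem' (yx hy)
  have h1 : y * kk w e = 1 := by
    have e2 : y * kk w e = (muMap X 1 e)⁻¹ * y * muMap X 1 e * (kk y (lam X 1 e))⁻¹ := by rw [e1]; group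
    have m4 : y * kk w e ∈ X 4 := mul_mem (yx hy) (yx hw4)
    have m6 : y * kk w e ∈ X 6 := e2 ▸ mul_mem hm (inv_mem (yx hl6))
    exact sd S (i := 4) (j := 6) 2 1 (by norm_num) (ms m4 0 (by norm_num) (by decide))
      (ms m6 0 (by norm_num) (by decide)) (by decide)
  rw [e1, h1, one_mul]

/-- `μ(e)²` inverts `Y 6`. -/
theorem inv_six (O : OctA X) {e : G} (he : e ∈ X 1) (he1 : e ≠ 1) {y : G} (hy : y ∈ Yc X 6) :
    (muMap X 1 e * muMap X 1 e)⁻¹ * y * (muMap X 1 e * muMap X 1 e) = y⁻¹ := by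
  obtain ⟨h1, h2, h3⟩ := mu_six O he he1 hy
  calc (muMap X 1 e * muMap X 1 e)⁻¹ * y * (muMap X 1 e * muMap X 1 e)
      = (muMap X 1 e)⁻¹ * ((muMap X 1 e)⁻¹ * y * muMap X 1 e) * muMap X 1 e := by group
    _ = y⁻¹ := by rw [h1, mu_four O he he1 h3, h2]

/-- `μ(e)²` inverts `Y 4`. -/
theorem inv_four (O : OctA X) {e : G} (he : e ∈ X 1) (he1 : e ≠ 1) {y : G} (hy : y ∈ Yc X 4) :
    (muMap X 1 e * muMap X 1 e)⁻¹ * y * (muMap X 1 e * muMap X 1 e) = y⁻¹ := by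
  have hr := O.sys.refl he he1
  have h1 : muMap X 1 e * y * (muMap X 1 e)⁻¹ ∈ Yc X 6 := Yc_refl hr hy (by decide)
  have h2 := inv_six O he he1 h1
  calc (muMap X 1 e * muMap X 1 e)⁻¹ * y * (muMap X 1 e * muMap X 1 e)
      = (muMap X 1 e)⁻¹ * ((muMap X 1 e * muMap X 1 e)⁻¹ * (muMap X 1 e * y * (muMap X 1 e)⁻¹) *
          (muMap X 1 e * muMap X 1 e)) * muMap X 1 e := by group
    _ = y⁻¹ := by rw [h2]; group

/-- The commutator of `Y 0` and `Y 6`. -/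
theorem kk_zero_six (K : Skel X) {a b : G} (ha : a ∈ Yc X 0) (hb : b ∈ Yc X 6) :
    ∃ q ∈ Yc X 2, ∃ r ∈ X 3, ∃ s ∈ Yc X 4, kk a b = q * r * s := by
  have S := K.A.sys
  obtain ⟨p, hp, q, hq, r, hr, s, hs, e⟩ := K.y6 0 a ha b (yx hb)
  obtain ⟨q', hq', p', hp', r', hr', s', hs', e'⟩ := K.y6' 0 a (yx ha) b hb
  have hp1 : p = 1 := by
    have h1 : p = (q' * p' * r' * s') * (q * r * s)⁻¹ := by rw [← e', e]; group
    have h2 : p ∈ seg X 2 4 := by
      rw [h1]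
      refine mul_mem (mul_mem (mul_mem (mul_mem ?_ ?_) ?_) ?_) (inv_mem (mul_mem (mul_mem ?_ ?_) ?_))
      · exact ms (yx hq') 0 (by norm_num) (by decide)
      · exact ms hp' 1 (by norm_num) (by decide)
      · exact ms (yx hr') 2 (by norm_num) (by decide)
      · exact ms hs' 3 (by norm_num) (by decide)
      · exact ms (yx hq) 0 (by norm_num) (by decide)
      · exact ms hr 1 (by norm_num) (by decide)
      · exact ms (yx hs) 2 (by norm_num) (by decide)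
    exact sd S (i := 1) (j := 2) 1 4 (by norm_num) (ms hp 0 (by norm_num) (by decide)) h2 (by decide)
  refine ⟨q, hq, r, hr, s, hs, ?_⟩
  rw [e, hp1, one_mul]

/-- the last component of `kk a b` -/
theorem comp_four (O : OctA X) {a b q r s : G} (ha : a ∈ Yc X 0) (hb : b ∈ Yc X 6) (hb1 : b ≠ 1)
    (hq : q ∈ X 2) (hr : r ∈ X 3) (hs : s ∈ X 4) (e : kk a b = q * r * s) :
    (muMap X 6 b)⁻¹ * a * muMap X 6 b = s := by
  have S := O.sys
  have hb6 := yx hb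
  have hkp : kap X 6 b ∈ X 14 := S.kap_mem hb6 hb1
  have hlm : lam X 6 b ∈ X 14 := S.lam_mem hb6 hb1
  have hrf := S.refl hb6 hb1
  have c1 : a * kap X 6 b = kap X 6 b * a := ycomm ha hkp 2 (by norm_num) (by decide)
  have e1 : (muMap X 6 b)⁻¹ * a * muMap X 6 b =
      ((lam X 6 b)⁻¹ * (a * (q * r)) * lam X 6 b) * (s * kk s (lam X 6 b)) := by
    unfold muMap
    calc (kap X 6 b * b * lam X 6 b)⁻¹ * a * (kap X 6 b * b * lam X 6 b)
        = (lam X 6 b)⁻¹ * (b⁻¹ * ((kap X 6 b)⁻¹ * (a * kap X 6 b)) * b) * lam X 6 b := by group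
      _ = (lam X 6 b)⁻¹ * (b⁻¹ * a * b) * lam X 6 b := by rw [c1]; group
      _ = (lam X 6 b)⁻¹ * (a * (q * r * s)) * lam X 6 b := by rw [conj_eq a b, e]
      _ = ((lam X 6 b)⁻¹ * (a * (q * r)) * lam X 6 b) * ((lam X 6 b)⁻¹ * s * lam X 6 b) := by group
      _ = _ := by rw [conj_eq s (lam X 6 b)]
  have m1 : (lam X 6 b)⁻¹ * (a * (q * r)) * lam X 6 b ∈ seg X 15 5 := by
    refine cl' S 5 (by norm_num) hlm ?_ (by decide)
    refine mul_mem (ms (yx ha) 1 (by norm_num) (by decide)) (mul_mem ?_ ?_)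
    · exact ms hq 3 (by norm_num) (by decide)
    · exact ms hr 4 (by norm_num) (by decide)
  have m2 : kk s (lam X 6 b) ∈ seg X 15 5 := by
    rw [kk_eq]
    exact cm' S (i := 14) (j := 4) 5 (by norm_num) (inv_mem hlm) (inv_mem hs) (by decide) (by decide)
  have hm : (muMap X 6 b)⁻¹ * a * muMap X 6 b ∈ X 4 := hrf.mem' (yx ha)
  have m3 : (muMap X 6 b)⁻¹ * a * muMap X 6 b * s⁻¹ ∈ seg X 15 5 := by
    rw [e1]
    have e2 : (lam X 6 b)⁻¹ * (a * (q * r)) * lam X 6 b * (s * kk s (lam X 6 b)) * s⁻¹ =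
        (lam X 6 b)⁻¹ * (a * (q * r)) * lam X 6 b * (s * kk s (lam X 6 b) * s⁻¹) := by group
    rw [e2]
    exact mul_mem m1 (cr S 5 (by norm_num) hs m2 (by decide))
  have h1 := sd S (i := 15) (j := 4) 5 1 (by norm_num) m3
    (ms (mul_mem hm (inv_mem hs)) 0 (by norm_num) (by decide)) (by decide)
  exact mul_inv_eq_one.mp h1

/-- the first component of `kk a b` -/
theorem comp_two (O : OctA X) {a b q r s : G} (ha : a ∈ Yc X 0) (ha1 : a ≠ 1) (hb : b ∈ Yc X 6)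
    (hq : q ∈ Yc X 2) (hr : r ∈ X 3) (hs : s ∈ Yc X 4) (e : kk a b = q * r * s) :
    (muMap X 0 a)⁻¹ * b * muMap X 0 a = q⁻¹ := by
  have S := O.sys
  have ha0 := yx ha
  have hkp : kap X 0 a ∈ X 8 := S.kap_mem ha0 ha1
  have hlm : lam X 0 a ∈ X 8 := S.lam_mem ha0 ha1
  have hrf := S.refl ha0 ha1
  have c1 : b * kap X 0 a = kap X 0 a * b := ycomm hb hkp 6 (by norm_num) (by decide)
  have c2 : q * r = r * q := ycomm hq hr 5 (by norm_num) (by decide)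
  have c3 : q * s = s * q := ycomm hq (yx hs) 6 (by norm_num) (by decide)
  have ek : kk b a = (s⁻¹ * r⁻¹) * q⁻¹ := by
    have : kk b a = (kk a b)⁻¹ := by unfold kk; group
    rw [this, e]; group
  have ek2 : kk b a = q⁻¹ * (s⁻¹ * r⁻¹) := by
    rw [ek]
    have h1 := conj_comm_of (comm_inv_right c3) (comm_inv_right c2)
    exact (comm_inv_left h1).symm
  have e1 : (muMap X 0 a)⁻¹ * b * muMap X 0 a =
      (q⁻¹ * kk q⁻¹ (lam X 0 a)) * ((lam X 0 a)⁻¹ * ((s⁻¹ * r⁻¹) * b) * lam X 0 a) := by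
    unfold muMap
    have c4 : b * kk b a = kk b a * b := by
      rw [ek2]
      refine conj_comm_of ?_ (conj_comm_of ?_ ?_)
      · exact comm_inv_right (ycomm hb (yx hq) 0 (by norm_num) (by decide))
      · exact comm_inv_right (ycomm hb (yx hs) 2 (by norm_num) (by decide))
      · exact comm_inv_right (ycomm hb hr 1 (by norm_num) (by decide))
    calc (kap X 0 a * a * lam X 0 a)⁻¹ * b * (kap X 0 a * a * lam X 0 a)
        = (lam X 0 a)⁻¹ * (a⁻¹ * ((kap X 0 a)⁻¹ * (b * kap X 0 a)) * a) * lam X 0 a := by group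
      _ = (lam X 0 a)⁻¹ * (a⁻¹ * b * a) * lam X 0 a := by rw [c1]; group
      _ = (lam X 0 a)⁻¹ * (q⁻¹ * (s⁻¹ * r⁻¹) * b) * lam X 0 a := by rw [conj_eq b a, c4, ek2]
      _ = ((lam X 0 a)⁻¹ * q⁻¹ * lam X 0 a) * ((lam X 0 a)⁻¹ * ((s⁻¹ * r⁻¹) * b) * lam X 0 a) := by group
      _ = _ := by rw [conj_eq q⁻¹ (lam X 0 a)]
  have m1 : (lam X 0 a)⁻¹ * ((s⁻¹ * r⁻¹) * b) * lam X 0 a ∈ seg X 3 5 := by
    refine cr' S 5 (by norm_num) hlm ?_ (by decide)
    refine mul_mem (mul_mem ?_ ?_) ?_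
    · exact ms (inv_mem (yx hs)) 1 (by norm_num) (by decide)
    · exact ms (inv_mem hr) 0 (by norm_num) (by decide)
    · exact ms (yx hb) 3 (by norm_num) (by decide)
  have m2 : kk q⁻¹ (lam X 0 a) ∈ seg X 3 5 := by
    rw [kk_eq, inv_inv]
    exact cm S (i := 2) (j := 8) 5 (by norm_num) (yx hq) (inv_mem hlm) (by decide) (by decide)
  have hm : (muMap X 0 a)⁻¹ * b * muMap X 0 a ∈ X 2 := hrf.mem' (yx hb)
  have m3 : q * ((muMap X 0 a)⁻¹ * b * muMap X 0 a) ∈ seg X 3 5 := by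
    rw [e1]
    have e2 : q * (q⁻¹ * kk q⁻¹ (lam X 0 a) * ((lam X 0 a)⁻¹ * ((s⁻¹ * r⁻¹) * b) * lam X 0 a)) =
        kk q⁻¹ (lam X 0 a) * ((lam X 0 a)⁻¹ * ((s⁻¹ * r⁻¹) * b) * lam X 0 a) := by group
    rw [e2]
    exact mul_mem m2 m1
  have h1 := sd S (i := 2) (j := 3) 1 5 (by norm_num)
    (ms (mul_mem (yx hq) hm) 0 (by norm_num) (by decide)) m3 (by decide)
  exact (inv_eq_of_mul_eq_one_right h1).symm

/-- uniqueness of the components -/
theorem uniq (S : Sys 8 X) {q r s q' r' s' : G} (hq : q ∈ X 2) (hr : r ∈ X 3) (hs : s ∈ X 4)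
    (hq' : q' ∈ X 2) (hr' : r' ∈ X 3) (hs' : s' ∈ X 4) (e : q * r * s = q' * r' * s') :
    q = q' ∧ r = r' ∧ s = s' := by
  have h1 : q'⁻¹ * q = r' * s' * (r * s)⁻¹ := by
    calc q'⁻¹ * q = q'⁻¹ * (q * r * s) * (r * s)⁻¹ := by group
      _ = _ := by rw [e]; group
  have h2 := sd S (i := 2) (j := 3) 1 2 (by norm_num)
    (ms (mul_mem (inv_mem hq') hq) 0 (by norm_num) (by decide)) (by
      rw [h1]
      exact mul_mem (mul_mem (ms hr' 0 (by norm_num) (by decide)) (ms hs' 1 (by norm_num) (by decide)))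
        (inv_mem (mul_mem (ms hr 0 (by norm_num) (by decide)) (ms hs 1 (by norm_num) (by decide))))) (by decide)
  have h3 : q' = q := inv_mul_eq_one.mp h2
  subst h3
  have h4 : r * s = r' * s' := by
    rw [mul_assoc, mul_assoc] at e
    exact mul_left_cancel e
  have h5 : r'⁻¹ * r = s' * s⁻¹ := by
    calc r'⁻¹ * r = r'⁻¹ * (r * s) * s⁻¹ := by group
      _ = _ := by rw [h4]; group
  have h6 := sd S (i := 3) (j := 4) 1 1 (by norm_num)
    (ms (mul_mem (inv_mem hr') hr) 0 (by norm_num) (by decide)) (by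
      rw [h5]; exact ms (mul_mem hs' (inv_mem hs)) 0 (by norm_num) (by decide)) (by decide)
  have h7 : r' = r := inv_mul_eq_one.mp h6
  subst h7
  exact ⟨rfl, rfl, mul_left_cancel h4⟩

theorem eq_two {X : ZMod (2 * 8) → Subgroup G} (K : Skel X) {p : ℕ} (hp : p.Prime)
    (h : ∀ i, IsPGroup p (X i)) : p = 2 := by
  have O := K.A
  have S := O.sys
  obtain ⟨e, he, he1⟩ := S.exists_ne_one 1
  obtain ⟨f, hf, hf1⟩ := S.exists_ne_one 5
  obtain ⟨a, ha, ha1⟩ := O.ne 0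
  obtain ⟨b, hb, hb1⟩ := O.ne 3
  have ha : a ∈ Yc X 0 := ha
  have hb : b ∈ Yc X 6 := hb
  set z := muMap X 1 e * muMap X 1 e with hz
  have hr := S.refl he he1
  have z6 : ∀ y ∈ Yc X 6, z⁻¹ * y * z = y⁻¹ := fun y hy => inv_six O he he1 hy
  have z4 : ∀ y ∈ Yc X 4, z⁻¹ * y * z = y⁻¹ := fun y hy => inv_four O he he1 hy
  have zc : ∀ y : G, z⁻¹ * y * z = (muMap X 1 e)⁻¹ * ((muMap X 1 e)⁻¹ * y * muMap X 1 e) * muMap X 1 e := by
    intro y; rw [hz]; group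
  have z0 : ∀ y ∈ Yc X 0, z⁻¹ * y * z ∈ Yc X 0 := by
    intro y hy
    rw [zc]
    exact Yc_refl' hr (Yc_refl' hr hy (j' := 10) (by decide)) (by decide)
  have z2 : ∀ y ∈ Yc X 2, z⁻¹ * y * z ∈ Yc X 2 := by
    intro y hy
    rw [zc]
    exact Yc_refl' hr (Yc_refl' hr hy (j' := 8) (by decide)) (by decide)
  have z3 : ∀ y ∈ X 3, z⁻¹ * y * z ∈ X 3 := by
    intro y hy
    rw [zc]
    exact rx' hr (rx' hr hy (j' := 7) (by decide)) (by decide)
  -- the main computation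
  have key : ∀ a' ∈ Yc X 0, a' ≠ 1 → z⁻¹ * a' * z = a' ∧
      ∃ q ∈ Yc X 2, q ≠ 1 ∧ z⁻¹ * q * z = q⁻¹ := by
    intro a' ha' ha1'
    obtain ⟨q, hq, r, hr3, s, hs, ek⟩ := kk_zero_six K ha' hb
    obtain ⟨q', hq', r', hr3', s', hs', ek'⟩ := kk_zero_six K (z0 a' ha') hb
    have es := comp_four O ha' hb hb1 (yx hq) hr3 (yx hs) ek
    have es' := comp_four O (z0 a' ha') hb hb1 (yx hq') hr3' (yx hs') ek'
    have e1 : kk (z⁻¹ * a' * z) b⁻¹ = (z⁻¹ * q * z) * (z⁻¹ * r * z) * s⁻¹ := by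
      have h1 : kk (z⁻¹ * a' * z) b⁻¹ = z⁻¹ * kk a' b * z := by
        rw [← z6 b hb]; unfold kk; group
      rw [h1, ek, ← z4 s hs]; group
    have cb : ∀ q ∈ Yc X 2, ∀ r ∈ X 3, ∀ s ∈ Yc X 4, b * (q * r * s) = q * r * s * b := by
      intro q hq r hr s hs
      refine conj_comm_of (conj_comm_of ?_ ?_) ?_
      · exact ycomm hb (yx hq) 0 (by norm_num) (by decide)
      · exact ycomm hb hr 1 (by norm_num) (by decide)
      · exact ycomm hb (yx hs) 2 (by norm_num) (by decide)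
    have e2 : kk (z⁻¹ * a' * z) b⁻¹ = (kk (z⁻¹ * a' * z) b)⁻¹ := by
      have h1 : kk (z⁻¹ * a' * z) b⁻¹ = b * (kk (z⁻¹ * a' * z) b)⁻¹ * b⁻¹ := by unfold kk; group
      have h2 := cb q' hq' r' hr3' s' hs'
      rw [← ek'] at h2
      rw [h1, comm_inv_right h2]; group
    have c23 : q' * r' = r' * q' := ycomm hq' hr3' 5 (by norm_num) (by decide)
    have c24 : q' * s' = s' * q' := ycomm hq' (yx hs') 6 (by norm_num) (by decide)
    have c34 : s' * r' = r' * s' := ycomm hs' hr3' 3 (by norm_num) (by decide)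
    have e3 : (kk (z⁻¹ * a' * z) b)⁻¹ = q'⁻¹ * r'⁻¹ * s'⁻¹ := by
      rw [ek']
      have h1 : (q' * r' * s')⁻¹ = (q' * (r' * s'))⁻¹ := by group
      have h2 : q' * (r' * s') = (s' * r') * q' := by rw [conj_comm_of c23 c24, c34]
      rw [h1, h2]; group
    have e4 := e1.symm.trans (e2.trans e3)
    obtain ⟨u1, u2, u3⟩ := uniq S (yx (z2 q hq)) (z3 r hr3) (inv_mem (yx hs)) (inv_mem (yx hq'))
      (inv_mem hr3') (inv_mem (yx hs')) e4
    have hss : s = s' := inv_injective u3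
    have hfix : z⁻¹ * a' * z = a' := by
      have h1 : (muMap X 6 b)⁻¹ * a' * muMap X 6 b = (muMap X 6 b)⁻¹ * (z⁻¹ * a' * z) * muMap X 6 b := by
        rw [es, es', hss]
      exact (mul_left_cancel (mul_right_cancel h1)).symm
    refine ⟨hfix, q, hq, ?_, ?_⟩
    · intro hq1
      have h2 := comp_two O ha' ha1' hb hq hr3 hs ek
      rw [hq1, inv_one] at h2
      apply hb1
      have h3 : b = muMap X 0 a' * ((muMap X 0 a')⁻¹ * b * muMap X 0 a') * (muMap X 0 a')⁻¹ := by group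
      rw [h3, h2]; group
    · rw [hfix] at ek'
      obtain ⟨v1, -, -⟩ := uniq S (yx hq) hr3 (yx hs) (yx hq') hr3' (yx hs') (ek.symm.trans ek')
      rw [u1, v1]
  -- `z` commutes with `μ(f)`
  have hzf : muMap X 5 f * z = z * muMap X 5 f := by
    have hkp : kap X 5 f ∈ X 13 := S.kap_mem hf hf1
    have hlm : lam X 5 f ∈ X 13 := S.lam_mem hf hf1
    have hkp1 : kap X 1 e ∈ X 9 := S.kap_mem he he1
    have hlm1 : lam X 1 e ∈ X 9 := S.lam_mem he he1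
    have k1 : ∀ g ∈ X 1, muMap X 5 f * g = g * muMap X 5 f := by
      intro g hg
      unfold muMap
      exact (conj_comm_of (conj_comm_of (K.f4 13 _ hkp g hg).symm (K.f4 1 g hg f hf))
        (K.f4 13 _ hlm g hg).symm).symm
    have k9 : ∀ g ∈ X 9, muMap X 5 f * g = g * muMap X 5 f := by
      intro g hg
      unfold muMap
      exact (conj_comm_of (conj_comm_of (K.f4 9 g hg _ hkp) (K.f4 5 f hf g hg).symm)
        (K.f4 9 g hg _ hlm)).symm
    have km : muMap X 5 f * muMap X 1 e = muMap X 1 e * muMap X 5 f := by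
      conv_lhs => rw [show muMap X 1 e = kap X 1 e * e * lam X 1 e from rfl]
      conv_rhs => rw [show muMap X 1 e = kap X 1 e * e * lam X 1 e from rfl]
      exact conj_comm_of (conj_comm_of (k9 _ hkp1) (k1 e he)) (k9 _ hlm1)
    exact conj_comm_of km km
  obtain ⟨-, q, hq, hq1, hqz⟩ := key a ha ha1
  -- `z` centralises `Y 2`
  have hrf := S.refl hf hf1
  have hq0 : muMap X 5 f * q * (muMap X 5 f)⁻¹ ∈ Yc X 0 := Yc_refl hrf hq (by decide)
  have hq01 : muMap X 5 f * q * (muMap X 5 f)⁻¹ ≠ 1 := by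
    intro h1
    exact hq1 (by simpa using h1)
  obtain ⟨h1, -⟩ := key _ hq0 hq01
  have h2 : z⁻¹ * q * z = q := by
    have h3 : z⁻¹ * q * z = (muMap X 5 f)⁻¹ * (z⁻¹ * (muMap X 5 f * q * (muMap X 5 f)⁻¹) * z) * muMap X 5 f := by
      have h4 : (muMap X 5 f)⁻¹ * z⁻¹ = z⁻¹ * (muMap X 5 f)⁻¹ := by
        rw [← mul_inv_rev, ← hzf, mul_inv_rev]
      have h5 : (muMap X 5 f)⁻¹ * z * muMap X 5 f = z := conj_eq_self' hzf
      calc z⁻¹ * q * z = z⁻¹ * (muMap X 5 f)⁻¹ * (muMap X 5 f * q * (muMap X 5 f)⁻¹) *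
            (muMap X 5 f * z) := by group
        _ = (muMap X 5 f)⁻¹ * z⁻¹ * (muMap X 5 f * q * (muMap X 5 f)⁻¹) * (z * muMap X 5 f) := by
            rw [h4, hzf]
        _ = _ := by group
    rw [h3, h1]; group
  have h3 : q = q⁻¹ := h2.symm.trans hqz
  have h4 : q ^ 2 = 1 := by
    rw [pow_two]
    nth_rewrite 2 [h3]
    exact mul_inv_cancel q
  have h5 : orderOf q = 2 := orderOf_eq_prime h4 hq1
  obtain ⟨k, hk⟩ := h 2 ⟨q, yx hq⟩
  have h6 : q ^ p ^ k = 1 := congrArg Subtype.val hk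
  have h7 : 2 ∣ p ^ k := h5 ▸ orderOf_dvd_of_pow_eq_one h6
  exact ((Nat.prime_dvd_prime_iff_eq Nat.prime_two hp).mp (Nat.prime_two.dvd_of_dvd_pow h7)).symm

end Cfsg.Agent.SplitTwo.OctTwo
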