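import Cfsg.Agent.SplitTwo.OctBase
import Cfsg.Agent.SplitTwo.OctStruct
import Cfsg.Agent.SplitTwo.OctSkelOf
import Cfsg.Agent.SplitTwo.OctTwo
import Cfsg.Agent.SplitTwo.OctCoordA4
import Cfsg.Agent.SplitTwo.OctCoordS
import Cfsg.Agent.SplitTwo.OctParOf

/-!
# Moufang octagons (S1144, [8]): the end of the group side

`exists_octPar` : a finite root system of type `I₂(8)` has, after a shift by one if necessary, coordinates `OctPar`
over a finite field of characteristic two with `σ² = 2`; the prime is `2`.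
-/

set_option autoImplicit false

namespace Cfsg.Agent.SplitTwo.OctEnd166

open Cfsg.Agent.SplitTwo Cfsg.Agent.SplitTwo.OctDefs Cfsg.Agent.SplitTwo.OctSkel
open Cfsg.Agent.SplitTwo.OctCoordN Cfsg.Agent.SplitTwo.OctTorus Cfsg.Agent.Octagon.Par Cfsg.Agent.Octagon.Pkg

universe u v

variable {G : Type u} [Group G] {X : ZMod (2 * 8) → Subgroup G}

section

variable {F : Type v} [Field F] {n1 n8 e1 e8 : G} {x1 x3 x5 x7 y2 y4 y6 y8 : F → G} {P B N E H : G → F}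
  {σ : F →+* F} {x2 x4 x6 x8 : F → F → G}
  (D : CN X n1 n8 e1 e8 x1 x3 x5 x7 y2 y4 y6 y8 P B N E H σ x2 x4 x6 x8)

include D

theorem coord : OctMu.Coord X x1 x3 x5 x7 x2 x4 x6 x8 where
  inj1 := fun _ _ h => D.M.A.p1.inj h
  inj3 := fun _ _ h => D.M.A.p3.inj h
  inj5 := fun _ _ h => D.M.A.p5.inj h
  inj7 := fun _ _ h => D.M.A.p7.inj h
  inj2 := fun _ _ _ _ h => inj2 D h
  inj4 := fun _ _ _ _ h => inj4 D h
  inj6 := fun _ _ _ _ h => inj6 D h
  inj8 := fun _ _ _ _ h => inj8 D h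
  mem1 := D.M.A.p1.mem
  mem3 := D.M.A.p3.mem
  mem5 := D.M.A.p5.mem
  mem7 := D.M.A.p7.mem
  mem2 := fun _ => ⟨fun h => surj2 D h, by rintro ⟨p, u, rfl⟩; exact m2 D p u⟩
  mem4 := fun _ => ⟨fun h => surj4 D h, by rintro ⟨p, u, rfl⟩; exact m4 D p u⟩
  mem6 := fun _ => ⟨fun h => surj6 D h, by rintro ⟨p, u, rfl⟩; exact m6 D p u⟩
  mem8 := fun _ => ⟨fun h => surj8 D h, by rintro ⟨p, u, rfl⟩; exact D.m8 p u⟩

theorem octPar [Finite F] : OctPar σ X x1 x3 x5 x7 x2 x4 x6 x8 := by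
  obtain ⟨z, k, l, s⟩ := OctCoordS.sym D
  exact OctParOf.octPar D.M.A.K.A.sys (coord D) (pre D) s (fun x => by rw [D.sq, sq]) D.M.A.n1s D.M.A.n8s
    (refl8 D.M.A)

end

/-- Coordinates exist. -/
def Has (X : ZMod (2 * 8) → Subgroup G) : Prop :=
  ∃ (F : Type) (_ : Field F) (_ : Finite F) (σ : F ≃+* F) (x1 x3 x5 x7 : F → G) (x2 x4 x6 x8 : F → F → G),
    (2 : F) = 0 ∧ (∀ x, σ (σ x) = x ^ 2) ∧ OctPar (σ : F →+* F) X x1 x3 x5 x7 x2 x4 x6 x8

theorem has_of_octA [Finite G] (O : OctA X) {p : ℕ} (hp : p.Prime) (hX : ∀ i, IsPGroup p (X i)) :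
    p = 2 ∧ Has X := by
  have K : Skel X := OctSkelOf.skel (OctStruct.octB O)
  have h2 := OctTwo.eq_two K hp hX
  subst h2
  obtain ⟨F, iF, iFin, n1, n8, e1, e8, x1, x3, x5, x7, y2, y4, y6, y8, C⟩ := OctCoordA.exists_CA K hX
  obtain ⟨P, B, N, E, H, M⟩ := OctCoordA4.exists_CM C
  obtain ⟨σ, x2, x4, x6, x8, D⟩ := exists_CN M
  exact ⟨rfl, F, iF, iFin, σ, x1, x3, x5, x7, x2, x4, x6, x8, C.two, D.sq, octPar D⟩

/-- **The end of the group side of [8].** -/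
theorem exists_octPar [Finite G] (R : RootSys 8 G) : R.p = 2 ∧ (Has R.X ∨ Has (fun i => R.X (i + 1))) := by
  rcases OctBase.octA R with h | h
  · obtain ⟨h1, h2⟩ := has_of_octA h R.prime R.isPGroup
    exact ⟨h1, Or.inl h2⟩
  · obtain ⟨h1, h2⟩ := has_of_octA h R.prime (fun i => R.isPGroup (i + 1))
    exact ⟨h1, Or.inr h2⟩

end Cfsg.Agent.SplitTwo.OctEnd166
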