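import Cfsg.Agent.SplitTwo.ExcEnd

/-!
S1144, [N], the exceptional panel: the case where the other panels have three chambers, and the final
theorem `Hyp.false`.
-/

set_option autoImplicit false
set_option linter.unusedSectionVars false
set_option linter.style.haveILetI false

namespace Cfsg.Agent.SplitTwo.Exc

open Cfsg.Agent.Tits.Core Cfsg.Agent.Tits.Core.Bldg

variable {I : Type*} {M : CoxeterMatrix I} {W : Type*} [Group W] {cs : CoxeterSystem M W}
variable {C : Type*} {Δ : Bldg cs C} {G : Type*} [Group G] [MulAction G C]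

/-- Counting with a dual basis. -/
theorem card_ge {G : Type*} [Group G] [Finite G] {n : ℕ} (N K : Subgroup G)
    (ψ : Fin n → G → ZMod 2)
    (hadd : ∀ l, ∀ g ∈ N, ∀ h ∈ N, ψ l (g * h) = ψ l g + ψ l h) (hKN : K ≤ N)
    (hK : ∀ g ∈ K, ∀ l, ψ l g = 0) (e : Fin n → G) (he : ∀ l, e l ∈ N)
    (hψ : ∀ m l, ψ m (e l) = if m = l then 1 else 0) : 2 ^ n * Nat.card K ≤ Nat.card N := by
  classical
  let A : AddSubgroup (Fin n → ZMod 2) :=
    { carrier := {v | ∃ g ∈ N, ∀ l, ψ l g = v l}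
      zero_mem' := by
        refine ⟨1, one_mem _, fun l => ?_⟩
        have h := hadd l 1 (one_mem _) 1 (one_mem _)
        rw [mul_one] at h
        change _ = (0 : ZMod 2)
        linear_combination (-1 : ZMod 2) * h
      add_mem' := by
        rintro v w ⟨g, hg, h1⟩ ⟨g', hg', h1'⟩
        exact ⟨g * g', mul_mem hg hg', fun l => by rw [hadd l g hg g' hg', h1, h1']; rfl⟩
      neg_mem' := by
        rintro v ⟨g, hg, h1⟩
        refine ⟨g, hg, fun l => ?_⟩
        rw [h1, Pi.neg_apply]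
        have := CharTwo.add_self_eq_zero (v l)
        linear_combination this }
  have hA : ∀ v, v ∈ A := by
    intro v
    rw [← Finset.univ_sum_single v]
    refine sum_mem fun l _ => ?_
    have h1 : ∀ z : ZMod 2, z = 0 ∨ z = 1 := by decide
    rcases h1 (v l) with h | h
    · rw [h, Pi.single_zero]
      exact zero_mem _
    · rw [h]
      refine ⟨e l, he l, fun m => ?_⟩
      rw [hψ, Pi.single_apply]
  choose g hg hgv using hA
  have hcard : Nat.card (Fin n → ZMod 2) = 2 ^ n := by simp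
  rw [← hcard, ← Nat.card_prod]
  refine Nat.card_le_card_of_injective
    (fun z : (Fin n → ZMod 2) × K => (⟨g z.1 * z.2, mul_mem (hg _) (hKN z.2.2)⟩ : N)) ?_
  rintro ⟨v, k⟩ ⟨w, k'⟩ h
  have h1 : g v * (k : G) = g w * (k' : G) := congrArg (fun x : N => (x : G)) h
  have h2 : v = w := by
    funext l
    have h3 := congrArg (ψ l) h1
    rw [hadd l _ (hg v) _ (hKN k.2), hadd l _ (hg w) _ (hKN k'.2), hK _ k.2, hK _ k'.2, hgv, hgv,
      add_zero, add_zero] at h3
    exact h3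
  subst h2
  rw [Subtype.ext (mul_left_cancel h1)]

namespace Hyp

variable {F : Fam Δ G} {i j : I} {t : ℕ} (H : Hyp F i j t)

open Classical in
/-- The sign of the action on the `j`-panel of `p`. -/
noncomputable def sg (Δ : Bldg cs C) (j : I) (p : C) (g : G) : ZMod 2 :=
  if ∀ x ∈ Δ.Pan j p, g • x = x then 0 else 1

theorem sg_eq_zero {p : C} {g : G} : sg Δ j p g = 0 ↔ ∀ x ∈ Δ.Pan j p, g • x = x := by
  unfold sg
  split_ifs with h
  · exact ⟨fun _ => h, fun _ => rfl⟩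
  · exact ⟨fun h1 => absurd h1 (by decide), fun h1 => absurd h1 h⟩

theorem sg_eq_one {p : C} {g : G} : sg Δ j p g = 1 ↔ ¬ ∀ x ∈ Δ.Pan j p, g • x = x := by
  unfold sg
  split_ifs with h
  · exact ⟨fun h1 => absurd h1 (by decide), fun h1 => absurd h h1⟩
  · exact ⟨fun _ => h, fun _ => rfl⟩

theorem sg_congr {p : C} {g h : G} (e : ∀ x ∈ Δ.Pan j p, g • x = h • x) :
    sg Δ j p g = sg Δ j p h := by
  unfold sg
  congr 1
  rw [eq_iff_iff]
  exact ⟨fun h1 x hx => by rw [← e x hx]; exact h1 x hx,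
    fun h1 x hx => by rw [e x hx]; exact h1 x hx⟩

section

include F in
theorem sg_conj (k : G) (p : C) (g : G) : sg Δ j (k • p) (k * g * k⁻¹) = sg Δ j p g := by
  unfold sg
  congr 1
  rw [eq_iff_iff]
  constructor
  · intro h x hx
    have h1 := h (k • x) (F.smul_Pan k hx)
    rw [mul_smul, mul_smul, inv_smul_smul] at h1
    exact smul_left_cancel k h1
  · intro h x hx
    have h1 : k⁻¹ • x ∈ Δ.Pan j p := by
      rw [← F.smul_Pan_iff k, smul_inv_smul]
      exact hx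
    rw [mul_smul, mul_smul, h _ h1, smul_inv_smul]

end

theorem mem_of_card_three {S : Set C} (hS : Nat.card S = 3) {a b c : C} (ha : a ∈ S) (hb : b ∈ S)
    (hc : c ∈ S) (hab : a ≠ b) (hac : a ≠ c) (hbc : b ≠ c) {y : C} (hy : y ∈ S) :
    y = a ∨ y = b ∨ y = c := by
  classical
  by_contra hcon
  push Not at hcon
  have hfin : S.Finite := by
    by_contra h
    have h1 := Set.Infinite.to_subtype h
    rw [Nat.card_eq_zero_of_infinite] at hS
    omega
  have h1 : (({a, b, c, y} : Finset C) : Set C) ⊆ S := by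
    intro x hx
    simp only [Finset.coe_insert, Finset.coe_singleton, Set.mem_insert_iff,
      Set.mem_singleton_iff] at hx
    rcases hx with rfl | rfl | rfl | rfl <;> assumption
  have h2 := Set.ncard_le_ncard h1 hfin
  rw [Set.ncard_coe_finset, ← Nat.card_coe_set_eq, hS] at h2
  have h3 : ({a, b, c, y} : Finset C).card = 4 := by
    rw [Finset.card_insert_of_notMem, Finset.card_insert_of_notMem, Finset.card_pair]
    · exact fun h => hcon.2.2 h.symm
    · simp only [Finset.mem_insert, Finset.mem_singleton, not_or]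
      exact ⟨hbc, fun h => hcon.2.1 h.symm⟩
    · simp only [Finset.mem_insert, Finset.mem_singleton, not_or]
      exact ⟨hab, hac, fun h => hcon.1 h.symm⟩
  omega

section two

variable [Finite G] [Finite C] (ht : t = 2)

include H ht

theorem card_three (c : C) : Nat.card (Δ.Pan j c) = 3 := by rw [H.card_j c, ht]

theorem sg_mul {p : C} {g h : G} (hg : g • p = p) (hh : h • p = p) :
    sg Δ j p (g * h) = sg Δ j p g + sg Δ j p h := by
  by_cases h1 : ∀ x ∈ Δ.Pan j p, g • x = x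
  · rw [sg_eq_zero.2 h1, zero_add]
    refine sg_congr fun x hx => ?_
    have h2 := F.smul_Pan h hx
    rw [hh] at h2
    rw [mul_smul, h1 _ h2]
  by_cases h2 : ∀ x ∈ Δ.Pan j p, h • x = x
  · rw [sg_eq_zero.2 h2, add_zero]
    refine sg_congr fun x hx => ?_
    rw [mul_smul, h2 x hx]
  rw [sg_eq_one.2 h1, sg_eq_one.2 h2]
  change _ = (0 : ZMod 2)
  rw [sg_eq_zero]
  push Not at h1 h2
  obtain ⟨x, hx, hgx⟩ := h1
  have hxp : x ≠ p := by
    rintro rfl
    exact hgx hg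
  have hstab : ∀ {g : G} {x : C}, g • p = p → x ∈ Δ.Pan j p → g • x ∈ Δ.Pan j p := by
    intro g x hg hx
    have := F.smul_Pan g hx
    rwa [hg] at this
  have hgxp : g • x ≠ p := fun h => hxp (smul_left_cancel g (h.trans hg.symm))
  have hall : ∀ y ∈ Δ.Pan j p, y = p ∨ y = x ∨ y = g • x := fun y hy =>
    mem_of_card_three (H.card_three ht p) (Δ.self_mem_Pan j p) hx (hstab hg hx) (Ne.symm hxp)
      (Ne.symm hgxp) (Ne.symm hgx) hy
  have hg2 : g • (g • x) = x := by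
    rcases hall _ (hstab hg (hstab hg hx)) with h3 | h3 | h3
    · exact absurd (smul_left_cancel g (h3.trans hg.symm)) hgxp
    · exact h3
    · exact absurd (smul_left_cancel g h3) hgx
  have hhx : h • x = g • x := by
    rcases hall _ (hstab hh hx) with h3 | h3 | h3
    · exact absurd (smul_left_cancel h (h3.trans hh.symm)) hxp
    · exfalso
      obtain ⟨y, hy, hhy⟩ := h2
      apply hhy
      rcases hall y hy with rfl | rfl | rfl
      · exact hh
      · exact h3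
      · rcases hall _ (hstab hh (hstab hg hx)) with h4 | h4 | h4
        · exact absurd (smul_left_cancel h (h4.trans hh.symm)) hgxp
        · exact absurd (smul_left_cancel h (h4.trans h3.symm)) hgx
        · exact h4
    · exact h3
  have hhgx : h • g • x = x := by
    rcases hall _ (hstab hh (hstab hg hx)) with h4 | h4 | h4
    · exact absurd (smul_left_cancel h (h4.trans hh.symm)) hgxp
    · exact h4
    · exact absurd (smul_left_cancel h (h4.trans hhx.symm)) hgx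
  intro y hy
  rcases hall y hy with rfl | rfl | rfl
  · rw [mul_smul, hh, hg]
  · rw [mul_smul, hhx, hg2]
  · rw [mul_smul, hhgx]

theorem sg_inv {p : C} {g : G} (hg : g • p = p) : sg Δ j p g⁻¹ = sg Δ j p g := by
  have h1 := H.sg_mul ht hg (inv_smul_eq_iff.2 hg.symm)
  rw [mul_inv_cancel, sg_eq_zero.2 fun x _ => one_smul _ x] at h1
  have h2 := CharTwo.add_self_eq_zero (sg Δ j p g)
  linear_combination (-1 : ZMod 2) * h1 - h2

/-- There is an element of `U p` with non-trivial sign. -/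
theorem exists_sg (p : C) : ∃ u ∈ F.U p, sg Δ j p u = 1 := by
  obtain ⟨y, z, hyz, hy, hz⟩ := F.thick p j
  obtain ⟨u, hu, huy⟩ := F.sphere p y z (hy.trans hz.symm)
  refine ⟨u, hu, sg_eq_one.2 fun h => hyz ?_⟩
  rw [← huy]
  exact (h y (Or.inr hy)).symm

theorem full_j (c : C) (g : G) (hg : g • c = c) :
    ∃ u ∈ F.U c, ∀ x ∈ Δ.Pan j c, (u⁻¹ * g) • x = x := by
  by_cases h : ∀ x ∈ Δ.Pan j c, g • x = x
  · exact ⟨1, one_mem _, fun x hx => by rw [inv_one, one_mul, h x hx]⟩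
  · obtain ⟨u, hu, hu1⟩ := H.exists_sg ht c
    have huc := F.fix c u hu
    refine ⟨u, hu, sg_eq_zero.1 ?_⟩
    rw [H.sg_mul ht (inv_smul_eq_iff.2 huc.symm) hg, H.sg_inv ht huc, hu1, sg_eq_one.2 h]
    rfl

/-- The elements `n_p` of `N2`. -/
theorem exists_n {c p : C} {ζ : G} {f : G} (hf : f ∈ Fc F i j c) (hfx : ∀ x ∈ Δ.Pan i c, f • x = ζ • x)
    (hp : p ∈ Δ.Pan i c) (hpc : p ≠ c) (hζ : ζ • p ≠ p) :
    ∃ n ∈ N2 F i j c, ∀ x ∈ Δ.Pan i c, x ≠ c → (sg Δ j x n = 1 ↔ (x = p ∨ x = ζ • p)) := by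
  classical
  obtain ⟨u, hu, hu1⟩ := H.exists_sg ht p
  obtain ⟨q, hq, hqx, hqs⟩ := F.surj H.hG H.hodd H.hI (H.full_j ht) c
    (fun e => if e = p then u else 1) (by
      intro e _
      by_cases hep : e = p
      · rw [if_pos hep, hep, F.fix p u hu]
      · rw [if_neg hep, one_smul])
  have hfc : f • c = c := F.fix c f hf.1
  have hfc' : f⁻¹ • c = c := inv_smul_eq_iff.2 hfc.symm
  have hstab : ∀ {g : G} {x : C}, g • c = c → x ∈ Δ.Pan i c → g • x ∈ Δ.Pan i c := by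
    intro g x hg hx
    have := F.smul_Pan g hx
    rwa [hg] at this
  have hqval : ∀ x ∈ Δ.Pan i c, x ≠ c → sg Δ j x q = if x = p then 1 else 0 := by
    intro x hx hxc
    rw [sg_congr (h := if x = p then u else 1) (hqs x hx hxc)]
    by_cases hxp : x = p
    · rw [if_pos hxp, if_pos hxp, hxp]
      exact hu1
    · rw [if_neg hxp, if_neg hxp]
      exact sg_eq_zero.2 fun y _ => one_smul _ y
  refine ⟨q * f * q⁻¹ * f⁻¹, comm_mem_N2 hq hqx hf, fun x hx hxc => ?_⟩
  have hx1 : f⁻¹ • x ∈ Δ.Pan i c := hstab hfc' hx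
  have hx1c : f⁻¹ • x ≠ c := by
    intro h
    apply hxc
    rw [← hfc'] at h
    exact smul_left_cancel _ h
  have e1 : q * f * q⁻¹ * f⁻¹ = q * (f * q⁻¹ * f⁻¹) := by group
  have e2 : (f * q⁻¹ * f⁻¹) • x = x := by
    rw [mul_smul, mul_smul, inv_smul_eq_iff.2 (hqx _ hx1).symm, smul_inv_smul]
  have e3 : sg Δ j x (f * q⁻¹ * f⁻¹) = sg Δ j (f⁻¹ • x) q⁻¹ := by
    have := sg_conj (F := F) (j := j) f (f⁻¹ • x) q⁻¹
    rwa [smul_inv_smul] at this
  rw [e1, H.sg_mul ht (hqx x hx) e2, e3, H.sg_inv ht (hqx _ hx1), hqval x hx hxc, hqval _ hx1 hx1c]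
  have e4 : f⁻¹ • x = p ↔ x = ζ • p := by
    rw [inv_smul_eq_iff, hfx p hp]
  by_cases hxp : x = p
  · rw [if_pos hxp]
    have h5 : ¬ f⁻¹ • x = p := by
      rw [e4, hxp]
      exact Ne.symm hζ
    rw [if_neg h5, add_zero]
    exact ⟨fun _ => Or.inl hxp, fun _ => rfl⟩
  · rw [if_neg hxp, zero_add]
    by_cases hxz : x = ζ • p
    · rw [if_pos (e4.2 hxz)]
      exact ⟨fun _ => Or.inr hxz, fun _ => rfl⟩
    · rw [if_neg (mt e4.1 hxz)]
      exact ⟨fun h => absurd h (by decide), fun h => absurd h (by rintro (h | h); exact hxp h; exact hxz h)⟩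

/-- Representatives of the orbits of `ζ`. -/
theorem exists_reps (c : C) {ζ : C → C} (h2 : ∀ x ∈ Δ.Pan i c, ζ (ζ x) = x) :
    ∃ p : Fin 4 → C, (∀ l, p l ∈ Δ.Pan i c ∧ p l ≠ c) ∧
      ∀ l m, l ≠ m → p l ≠ p m ∧ p l ≠ ζ (p m) := by
  classical
  have hL : ∀ L : List C, L.length < 9 → ∃ x ∈ Δ.Pan i c, x ∉ L := by
    intro L hL
    by_contra hcon
    push Not at hcon
    have h1 : Δ.Pan i c ⊆ (L.toFinset : Set C) := by
      intro x hx
      rw [Finset.mem_coe, List.mem_toFinset]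
      exact hcon x hx
    have h3 := Set.ncard_le_ncard h1 (Finset.finite_toSet _)
    rw [Set.ncard_coe_finset, ← Nat.card_coe_set_eq, H.card_i c] at h3
    have h4 := List.toFinset_card_le L
    omega
  obtain ⟨p0, h0, h0'⟩ := hL [c] (by simp)
  obtain ⟨p1, h1, h1'⟩ := hL [c, p0, ζ p0] (by simp)
  obtain ⟨p2, h2', h2''⟩ := hL [c, p0, ζ p0, p1, ζ p1] (by simp)
  obtain ⟨p3, h3, h3'⟩ := hL [c, p0, ζ p0, p1, ζ p1, p2, ζ p2] (by simp)
  simp only [List.mem_cons, List.not_mem_nil, or_false, not_or] at h0' h1' h2'' h3'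
  have hsym : ∀ x y, x ∈ Δ.Pan i c → y ∈ Δ.Pan i c → y ≠ ζ x → x ≠ ζ y := by
    intro x y hx hy hne h
    apply hne
    rw [h, h2 y hy]
  refine ⟨![p0, p1, p2, p3], ?_, ?_⟩
  · intro l
    fin_cases l
    · exact ⟨h0, h0'⟩
    · exact ⟨h1, h1'.1⟩
    · exact ⟨h2', h2''.1⟩
    · exact ⟨h3, h3'.1⟩
  · have key : ∀ l m, l < m → (![p0, p1, p2, p3] : Fin 4 → C) l ≠ (![p0, p1, p2, p3] : Fin 4 → C) m ∧
        (![p0, p1, p2, p3] : Fin 4 → C) l ≠ ζ ((![p0, p1, p2, p3] : Fin 4 → C) m) ∧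
        (![p0, p1, p2, p3] : Fin 4 → C) m ≠ ζ ((![p0, p1, p2, p3] : Fin 4 → C) l) := by
      intro l m hlm
      fin_cases l <;> fin_cases m
      all_goals first
        | exact absurd hlm (by decide)
        | skip
      · exact ⟨Ne.symm h1'.2.1, hsym p0 p1 h0 h1 h1'.2.2, h1'.2.2⟩
      · exact ⟨Ne.symm h2''.2.1, hsym p0 p2 h0 h2' h2''.2.2.1, h2''.2.2.1⟩
      · exact ⟨Ne.symm h3'.2.1, hsym p0 p3 h0 h3 h3'.2.2.1, h3'.2.2.1⟩
      · exact ⟨Ne.symm h2''.2.2.2.1, hsym p1 p2 h1 h2' h2''.2.2.2.2, h2''.2.2.2.2⟩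
      · exact ⟨Ne.symm h3'.2.2.2.1, hsym p1 p3 h1 h3 h3'.2.2.2.2.1, h3'.2.2.2.2.1⟩
      · exact ⟨Ne.symm h3'.2.2.2.2.2.1, hsym p2 p3 h2' h3 h3'.2.2.2.2.2.2, h3'.2.2.2.2.2.2⟩
    intro l m hlm
    rcases lt_or_gt_of_ne hlm with h | h
    · exact ⟨(key l m h).1, (key l m h).2.1⟩
    · exact ⟨(key m l h).1.symm, (key m l h).2.2⟩

/-- The data at a chamber. -/
theorem exists_data (c : C) : ∃ (ζ : G) (p : Fin 4 → C), ζ • c = c ∧
    (∀ m ∈ F.U c, ∀ x ∈ Δ.Pan i c, m • ζ • x = ζ • m • x) ∧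
    (∀ l, p l ∈ Δ.Pan i c ∧ p l ≠ c) ∧ (∀ l m, l ≠ m → p l ≠ p m ∧ p l ≠ ζ • p m) ∧
    ∃ n : Fin 4 → G, ∀ l, n l ∈ N2 F i j c ∧
      ∀ x ∈ Δ.Pan i c, x ≠ c → (sg Δ j x (n l) = 1 ↔ (x = p l ∨ x = ζ • p l)) := by
  obtain ⟨g, hg, h, hh, h4, h2, h3⟩ := H.sig c
  obtain ⟨f, hf, hfx⟩ := H.exists_comm c hg hh
  set σ := g * h * g⁻¹ * h⁻¹ with hσ
  have hσc : σ • c = c := F.fix c _
    (mul_mem (mul_mem (mul_mem hg hh) (inv_mem hg)) (inv_mem hh))
  obtain ⟨p, hp1, hp2⟩ := H.exists_reps ht c (ζ := fun x => (σ ^ 2) • x) (fun x hx => by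
    rw [← mul_smul, ← pow_add]
    exact h4 x hx)
  have hf2x : ∀ x ∈ Δ.Pan i c, (f ^ 2) • x = (σ ^ 2) • x := by
    have e1 : F.Eqv i c f σ := hfx
    intro x hx
    rw [pow_two, pow_two]
    exact e1.mul F e1 hσc x hx
  have hn : ∀ l, ∃ n ∈ N2 F i j c, ∀ x ∈ Δ.Pan i c, x ≠ c →
      (sg Δ j x n = 1 ↔ (x = p l ∨ x = (σ ^ 2) • p l)) := fun l =>
    H.exists_n ht (pow_mem hf 2) hf2x (hp1 l).1 (hp1 l).2 (h2 _ (hp1 l).1 (hp1 l).2)
  choose n hn1 hn2 using hn
  exact ⟨σ ^ 2, p, by rw [pow_two, mul_smul, hσc, hσc], h3, hp1, hp2, n, fun l => ⟨hn1 l, hn2 l⟩⟩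

theorem sg_one (p : C) : sg Δ j p (1 : G) = 0 := sg_eq_zero.2 fun x _ => one_smul _ x

theorem false_of_two (c : C) (hN : Nat.card (N2 F i j c) ≤ 64) : False := by
  classical
  obtain ⟨d1, d2, hd12, hd1, hd2⟩ := F.thick c j
  have hd1c : d1 ≠ c := (Δ.ne_of_δ_simple hd1).symm
  have hd2c : d2 ≠ c := (Δ.ne_of_δ_simple hd2).symm
  have hd1P : d1 ∈ Δ.Pan j c := Or.inr hd1
  have hd2P : d2 ∈ Δ.Pan j c := Or.inr hd2
  have hz : ∀ z : ZMod 2, z ≠ 1 → z = 0 := by decide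
  -- the elements of `N2` trivial on the stars at `d2`
  let K : Subgroup G :=
    { carrier := {n | n ∈ N2 F i j c ∧ ∀ p ∈ Δ.Pan i d2, ∀ x ∈ Δ.Pan j p, n • x = x}
      mul_mem' := by
        rintro g h ⟨hg, hg'⟩ ⟨hh, hh'⟩
        refine ⟨mul_mem hg hh, fun d hd x hx => ?_⟩
        rw [mul_smul, hh' d hd x hx, hg' d hd x hx]
      one_mem' := ⟨one_mem _, fun d _ x _ => one_smul _ x⟩
      inv_mem' := by
        rintro g ⟨hg, hg'⟩
        refine ⟨inv_mem hg, fun d hd x hx => ?_⟩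
        rw [inv_smul_eq_iff, hg' d hd x hx] }
  have hKm : ∀ n, n ∈ K ↔ n ∈ N2 F i j c ∧ ∀ p ∈ Δ.Pan i d2, ∀ x ∈ Δ.Pan j p, n • x = x :=
    fun n => Iff.rfl
  have hKN : K ≤ N2 F i j c := fun n hn => ((hKm n).1 hn).1
  -- step 1
  have step1 : 2 ^ 4 * Nat.card K ≤ Nat.card (N2 F i j c) := by
    obtain ⟨ζ, p, -, -, hp1, hp2, n, hn⟩ := H.exists_data ht d2
    rw [N2_eq hd2P] at hn
    refine card_ge (N2 F i j c) K (fun l => sg Δ j (p l)) ?_ hKN ?_ n (fun l => (hn l).1) ?_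
    · intro l g hg h hh
      have h1 : ∀ g ∈ N2 F i j c, g • p l = p l := fun g hg =>
        (mem_N2.1 hg).2 d2 hd2P (p l) (hp1 l).1
      exact H.sg_mul ht (h1 g hg) (h1 h hh)
    · intro g hg l
      exact sg_eq_zero.2 (((hKm g).1 hg).2 _ (hp1 l).1)
    · intro m l
      have h1 := (hn l).2 (p m) (hp1 m).1 (hp1 m).2
      by_cases hml : m = l
      · rw [if_pos hml]
        exact h1.2 (Or.inl (by rw [hml]))
      · rw [if_neg hml]
        refine hz _ fun h => ?_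
        rcases h1.1 h with h3 | h3
        · exact (hp2 m l hml).1 h3
        · exact (hp2 m l hml).2 h3
  -- step 2
  have step2 : 2 ^ 3 * Nat.card (⊥ : Subgroup G) ≤ Nat.card K := by
    obtain ⟨ζ, p, hζc, hζ, hp1, hp2, n, hn⟩ := H.exists_data ht c
    have hg : ∀ l : Fin 3, ∃ g ∈ F.U c, (∀ x ∈ Δ.Pan j c, g • x = x) ∧
        (∀ x ∈ Δ.Pan i d2, g • x = x) ∧ g • p 3 = p l.castSucc ∧ g • ζ • p 3 = ζ • p l.castSucc := by
      intro l
      obtain ⟨u, hu, hup⟩ := F.tr_Pan (hp1 3).1 (hp1 l.castSucc).1 (hp1 3).2 (hp1 l.castSucc).2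
      obtain ⟨q, hq, hqx, hqs⟩ := H.surj_j d1 (fun e => if e = c then u else 1) (by
        intro e _
        by_cases hec : e = c
        · rw [if_pos hec, hec, F.fix c u hu]
        · rw [if_neg hec, one_smul])
      rw [Δ.Pan_eq_of_mem hd1P] at hqx hqs
      have hqc : ∀ x ∈ Δ.Pan i c, q • x = u • x := by
        intro x hx
        rw [hqs c (Δ.self_mem_Pan j c) (Ne.symm hd1c) x hx, if_pos rfl]
      refine ⟨q, F.mem_of_fix hq (hqx c (Δ.self_mem_Pan j c)), hqx, fun x hx => ?_, ?_, ?_⟩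
      · rw [hqs d2 hd2P (Ne.symm hd12) x hx, if_neg hd2c, one_smul]
      · rw [hqc _ (hp1 3).1, hup]
      · have h1 : ζ • p 3 ∈ Δ.Pan i c := by
          have := F.smul_Pan ζ (hp1 3).1
          rwa [hζc] at this
        rw [hqc _ h1, hζ u hu _ (hp1 3).1, hup]
    choose g hg1 hg2 hg3 hg4 hg5 using hg
    have hn3 : n 3 ∈ N2 F i j c := (hn 3).1
    have hgc : ∀ l, g l • c = c := fun l => F.fix c _ (hg1 l)
    have hNfix : ∀ m ∈ N2 F i j c, ∀ d ∈ Δ.Pan j c, ∀ x ∈ Δ.Pan i d, m • x = x :=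
      fun m hm => (mem_N2.1 hm).2
    refine card_ge K ⊥ (fun l => sg Δ j (p l.castSucc)) ?_ bot_le ?_
      (fun l => g l * n 3 * (g l)⁻¹ * (n 3)⁻¹) ?_ ?_
    · intro l a ha b hb
      have h1 : ∀ a ∈ K, a • p l.castSucc = p l.castSucc := fun a ha =>
        hNfix a (hKN ha) c (Δ.self_mem_Pan j c) _ (hp1 _).1
      exact H.sg_mul ht (h1 a ha) (h1 b hb)
    · intro a ha l
      rw [Subgroup.mem_bot.1 ha]
      exact H.sg_one ht _
    · intro l
      have h1 : g l * n 3 * (g l)⁻¹ ∈ N2 F i j c :=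
        N2_conj (by rw [hgc l]; exact Δ.self_mem_Pan j c) hn3
      refine (hKm _).2 ⟨mul_mem h1 (inv_mem hn3), fun q hq => ?_⟩
      rw [← sg_eq_zero]
      have e1 : g l • q = q := hg3 l q hq
      have e2 : n 3 • q = q := hNfix _ hn3 d2 hd2P q hq
      have e1' : (g l)⁻¹ • q = q := inv_smul_eq_iff.2 e1.symm
      have e2' : (n 3)⁻¹ • q = q := inv_smul_eq_iff.2 e2.symm
      rw [H.sg_mul ht (by rw [mul_smul, mul_smul, e1', e2, e1]) e2',
        H.sg_mul ht (by rw [mul_smul, e2, e1]) e1', H.sg_mul ht e1 e2, H.sg_inv ht e1,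
        H.sg_inv ht e2]
      have h3 := CharTwo.add_self_eq_zero (sg Δ j q (g l))
      have h5 := CharTwo.add_self_eq_zero (sg Δ j q (n 3))
      linear_combination h3 + h5
    · intro m l
      have hm := hp1 m.castSucc
      have h1 : (g l)⁻¹ • p m.castSucc ∈ Δ.Pan i c := by
        have := F.smul_Pan (g l)⁻¹ hm.1
        rwa [inv_smul_eq_iff.2 (hgc l).symm] at this
      have h1c : (g l)⁻¹ • p m.castSucc ≠ c := by
        intro h
        rw [inv_smul_eq_iff, hgc l] at h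
        exact hm.2 h
      have e2 : n 3 • p m.castSucc = p m.castSucc :=
        hNfix _ hn3 c (Δ.self_mem_Pan j c) _ hm.1
      have e2' : (n 3)⁻¹ • p m.castSucc = p m.castSucc := inv_smul_eq_iff.2 e2.symm
      have e3 : (g l * n 3 * (g l)⁻¹) • p m.castSucc = p m.castSucc := by
        rw [mul_smul, mul_smul, hNfix _ hn3 c (Δ.self_mem_Pan j c) _ h1, smul_inv_smul]
      have e4 : sg Δ j (p m.castSucc) (g l * n 3 * (g l)⁻¹) = sg Δ j ((g l)⁻¹ • p m.castSucc) (n 3) := by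
        have := sg_conj (F := F) (j := j) (g l) ((g l)⁻¹ • p m.castSucc) (n 3)
        rwa [smul_inv_smul] at this
      have hm3 : m.castSucc ≠ 3 := by
        intro h
        have := congrArg Fin.val h
        simp at this
        omega
      have e5 : sg Δ j (p m.castSucc) (n 3) = 0 := by
        refine hz _ fun h => ?_
        rcases ((hn 3).2 _ hm.1 hm.2).1 h with h3 | h3
        · exact (hp2 _ _ hm3).1 h3
        · exact (hp2 _ _ hm3).2 h3
      rw [H.sg_mul ht e3 e2', e4, H.sg_inv ht e2, e5, add_zero]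
      have h3 := (hn 3).2 _ h1 h1c
      rw [inv_smul_eq_iff, inv_smul_eq_iff, hg4 l, hg5 l] at h3
      by_cases hml : m = l
      · rw [if_pos hml]
        exact h3.2 (Or.inl (by rw [hml]))
      · rw [if_neg hml]
        have hml' : m.castSucc ≠ l.castSucc := fun h => hml (Fin.castSucc_injective _ h)
        refine hz _ fun h => ?_
        rcases h3.1 h with h5 | h5
        · exact (hp2 _ _ hml').1 h5
        · exact (hp2 _ _ hml').2 h5
  rw [Subgroup.card_bot] at step2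
  omega

end two

/-- The exceptional case does not occur. -/
theorem false [Finite G] [Finite C] [Nonempty C] (H : Hyp F i j t) : False := by
  obtain ⟨c⟩ := ‹Nonempty C›
  have h1 := H.card_ineq c
  have h0 : 0 < Nat.card (N2 F i j c) := Nat.card_pos
  rcases H.t_le c with ht | ht
  · refine H.false_of_two ht c ?_
    have h2 := H.ord2 (by omega) c
    rw [ht] at h1 h2
    omega
  · refine H.false_of_le_two c ?_ (by omega)
    have h2 := H.ord2 (by omega) c
    rw [ht] at h1 h2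
    omega

end Hyp

end Cfsg.Agent.SplitTwo.Exc
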