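import Cfsg.Agent.Tits.Chart
import Cfsg.Agent.Tits.Generic
/-!
S1144, [M]: the elements of a finite dihedral Coxeter group in cyclic order.

`w cs a b j`, `j : ℤ`, is the alternating product `s_a s_b s_a ⋯` of `j` factors (for `j < 0` the product
`s_b s_a s_b ⋯` of `-j` factors).
-/

set_option autoImplicit false

namespace Cfsg.Agent.SplitTwo.DihPath

open Cfsg.Agent.Tits.Core

variable {I : Type*} {M : CoxeterMatrix I} {W : Type*} [Group W] (cs : CoxeterSystem M W) (a b : I)

local notation "ℓ" => cs.length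

/-- The type of the panel between the chambers `j` and `j+1`. -/
def ty (j : ℤ) : I := if Even j then a else b

/-- The elements of the dihedral group in cyclic order. -/
def w (j : ℤ) : W :=
  (cs.simple a * cs.simple b) ^ (j / 2) * (if Even j then 1 else cs.simple a)

theorem w_even (k : ℤ) : w cs a b (2 * k) = (cs.simple a * cs.simple b) ^ k := by
  have h : Even (2 * k) := even_two_mul k
  rw [w, if_pos h, mul_one]
  congr 1
  omega

theorem w_odd (k : ℤ) : w cs a b (2 * k + 1) = (cs.simple a * cs.simple b) ^ k * cs.simple a := by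
  have h : ¬ Even (2 * k + 1) := by
    rw [Int.not_even_iff_odd]
    exact ⟨k, rfl⟩
  rw [w, if_neg h]
  congr 2
  omega

theorem w_zero : w cs a b 0 = 1 := by
  have := w_even cs a b 0
  rwa [mul_zero, zpow_zero] at this

theorem conj_p (k : ℤ) : cs.simple a * (cs.simple a * cs.simple b) ^ k =
    (cs.simple a * cs.simple b) ^ (-k) * cs.simple a := by
  have h : cs.simple a * (cs.simple a * cs.simple b) * (cs.simple a)⁻¹ =
      (cs.simple a * cs.simple b)⁻¹ := by
    rw [mul_inv_rev, cs.inv_simple, cs.inv_simple, cs.simple_mul_simple_cancel_left]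
  have h2 := conj_zpow (a := cs.simple a) (b := cs.simple a * cs.simple b) (i := k)
  rw [h, inv_zpow'] at h2
  rw [h2, inv_mul_cancel_right]

variable {a b}

theorem w_succ (j : ℤ) : w cs a b (j + 1) = w cs a b j * cs.simple (ty a b j) := by
  rcases Int.even_or_odd' j with ⟨k, rfl | rfl⟩
  · rw [w_odd, w_even, ty, if_pos (even_two_mul k)]
  · have h : ¬ Even (2 * k + 1) := by
      rw [Int.not_even_iff_odd]
      exact ⟨k, rfl⟩
    have e : 2 * k + 1 + 1 = 2 * (k + 1) := by ring
    rw [e, w_odd, w_even, ty, if_neg h, zpow_add_one, mul_assoc]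

theorem w_pred (j : ℤ) : w cs a b (j - 1) = w cs a b j * cs.simple (ty a b (j - 1)) := by
  have h := w_succ (a := a) (b := b) cs (j - 1)
  rw [sub_add_cancel] at h
  rw [h, cs.simple_mul_simple_cancel_right]

/-- The reflection `w_i ↔ w_{i-1}`. -/
theorem w_refl (i j : ℤ) : w cs a b (i - 1) * (w cs a b i)⁻¹ * w cs a b j =
    w cs a b (2 * i - 1 - j) := by
  have ht : w cs a b (i - 1) * (w cs a b i)⁻¹ =
      (cs.simple a * cs.simple b) ^ (i - 1) * cs.simple a := by
    rcases Int.even_or_odd' i with ⟨k, rfl | rfl⟩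
    · have e : 2 * k - 1 = 2 * (k - 1) + 1 := by ring
      rw [e, w_odd, w_even, ← zpow_neg, mul_assoc, conj_p, neg_neg, ← mul_assoc, ← zpow_add]
      congr 2
      ring
    · have e : 2 * k + 1 - 1 = 2 * k := by ring
      rw [e, w_odd, w_even, mul_inv_rev, cs.inv_simple, ← zpow_neg, conj_p, neg_neg, ← mul_assoc,
        ← zpow_add]
      congr 2
      ring
  rw [ht]
  rcases Int.even_or_odd' j with ⟨k, rfl | rfl⟩
  · have e : 2 * i - 1 - 2 * k = 2 * (i - 1 - k) + 1 := by ring
    rw [e, w_odd, w_even, mul_assoc, conj_p, ← mul_assoc, ← zpow_add]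
    rfl
  · have e : 2 * i - 1 - (2 * k + 1) = 2 * (i - 1 - k) := by ring
    rw [e, w_odd, w_even, mul_assoc, ← mul_assoc (cs.simple a), conj_p, ← mul_assoc, ← mul_assoc,
      ← zpow_add, cs.simple_mul_simple_cancel_right]
    rfl

theorem w_inv_mul (j k : ℤ) : (w cs a b j)⁻¹ * w cs a b (j + k) =
    w cs a b (if Even j then k else -k) := by
  rcases Int.even_or_odd' j with ⟨l, rfl | rfl⟩
  · rw [if_pos (even_two_mul l), w_even, inv_mul_eq_iff_eq_mul]
    rcases Int.even_or_odd' k with ⟨r, rfl | rfl⟩
    · rw [← mul_add, w_even, w_even, zpow_add]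
    · have e : 2 * l + (2 * r + 1) = 2 * (l + r) + 1 := by ring
      rw [e, w_odd, w_odd, zpow_add, mul_assoc]
  · have h : ¬ Even (2 * l + 1) := by
      rw [Int.not_even_iff_odd]
      exact ⟨l, rfl⟩
    rw [if_neg h, w_odd, mul_inv_rev, cs.inv_simple, ← zpow_neg, conj_p, neg_neg]
    rcases Int.even_or_odd' k with ⟨r, rfl | rfl⟩
    · have e : 2 * l + 1 + 2 * r = 2 * (l + r) + 1 := by ring
      have e2 : -(2 * r) = 2 * (-r) := by ring
      rw [e, e2, w_odd, w_even, mul_assoc, ← mul_assoc (cs.simple a), conj_p, ← mul_assoc,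
        ← mul_assoc, ← zpow_add, cs.simple_mul_simple_cancel_right]
      congr 1
      ring
    · have e : 2 * l + 1 + (2 * r + 1) = 2 * (l + r + 1) := by ring
      have e2 : -(2 * r + 1) = 2 * (-r - 1) + 1 := by ring
      rw [e, e2, w_odd, w_even, mul_assoc, conj_p, ← mul_assoc, ← zpow_add]
      congr 2
      ring

section finite

variable [Finite W] (hI : ∀ i, i = a ∨ i = b) {m : ℕ} (hm : M a b = m)

include hI in
theorem finI : Finite I := by
  classical
  have : Function.Surjective (fun x : Bool => if x then a else b) := by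
    intro i
    rcases hI i with h | h
    · exact ⟨true, by simp [h]⟩
    · exact ⟨false, by simp [h]⟩
  exact Finite.of_surjective _ this

include hI hm in
theorem orderOf_p : orderOf (cs.simple a * cs.simple b) = m := by
  have := finI hI
  rw [← hm]
  exact Cfsg.Agent.Tits.Generic.orderOf_eq cs a b

include hI hm in
theorem w_eq_iff {j k : ℤ} : w cs a b j = w cs a b k ↔ ((2 * m : ℕ) : ℤ) ∣ j - k := by
  have hord := orderOf_p cs hI hm
  have hpar : ∀ r l : ℤ, (cs.simple a * cs.simple b) ^ r * cs.simple a ≠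
      (cs.simple a * cs.simple b) ^ l := by
    intro r l h
    have h1 := congrArg cs.lengthParity h
    rw [map_mul, map_zpow, map_zpow, map_mul, cs.lengthParity_simple, cs.lengthParity_simple] at h1
    have h2 : (Multiplicative.ofAdd (1 : ZMod 2)) * Multiplicative.ofAdd (1 : ZMod 2) = 1 := by
      decide
    rw [h2, one_zpow, one_zpow, one_mul] at h1
    exact absurd h1 (by decide)
  have hpow : ∀ r l : ℤ, (cs.simple a * cs.simple b) ^ r = (cs.simple a * cs.simple b) ^ l ↔
      (m : ℤ) ∣ r - l := by
    intro r l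
    rw [← hord, orderOf_dvd_iff_zpow_eq_one, zpow_sub, mul_inv_eq_one]
  have hpow2 : ∀ r l : ℤ, (m : ℤ) ∣ r - l ↔ ((2 * m : ℕ) : ℤ) ∣ 2 * (r - l) := by
    intro r l
    push_cast
    exact (mul_dvd_mul_iff_left two_ne_zero).symm
  have h2m : (2 : ℤ) ∣ ((2 * m : ℕ) : ℤ) := by
    push_cast
    exact Dvd.intro _ rfl
  rcases Int.even_or_odd' j with ⟨r, rfl | rfl⟩ <;> rcases Int.even_or_odd' k with ⟨l, rfl | rfl⟩
  · rw [w_even, w_even, hpow, hpow2, mul_sub]
  · rw [w_even, w_odd]
    constructor
    · intro h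
      exact absurd h.symm (hpar l r)
    · intro h
      have := h2m.trans h
      omega
  · rw [w_even, w_odd]
    constructor
    · intro h
      exact absurd h (hpar r l)
    · intro h
      have := h2m.trans h
      omega
  · rw [w_odd, w_odd, mul_left_inj, hpow, hpow2]
    have e : 2 * r + 1 - (2 * l + 1) = 2 * (r - l) := by ring
    rw [e]

include hI in
omit [Finite W] in
/-- Every element of `W` is some `w_j` with `|j| ≤ ℓ`. -/
theorem exists_w (v : W) : ∃ j : ℤ, w cs a b j = v ∧ j.natAbs ≤ ℓ v := by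
  induction hn : ℓ v generalizing v with
  | zero =>
    refine ⟨0, ?_, by simp⟩
    rw [w_zero]
    exact (cs.length_eq_zero_iff.1 hn).symm
  | succ n ih =>
    have hne : v ≠ 1 := by
      rintro rfl
      rw [cs.length_one] at hn
      omega
    obtain ⟨i, hi⟩ := cs.exists_rightDescent_of_ne_one hne
    have hi' := cs.isRightDescent_iff.1 hi
    obtain ⟨j, hj, hjn⟩ := ih (v * cs.simple i) (by omega)
    have e : v = w cs a b j * cs.simple i := by rw [hj, cs.simple_mul_simple_cancel_right]
    by_cases hti : i = ty a b j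
    · exact ⟨j + 1, by rw [w_succ, e, hti], by omega⟩
    · refine ⟨j - 1, ?_, by omega⟩
      rw [w_pred, e]
      congr 2
      rcases Int.even_or_odd j with h | h
      · have h' : ¬ Even (j - 1) := by
          rw [Int.not_even_iff_odd]
          exact h.sub_odd odd_one
        rw [ty, if_pos h] at hti
        rw [ty, if_neg h']
        exact ((hI i).resolve_left hti).symm
      · have h' : Even (j - 1) := h.sub_odd odd_one
        rw [ty, if_neg (Int.not_even_iff_odd.2 h)] at hti
        rw [ty, if_pos h']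
        exact ((hI i).resolve_right hti).symm

omit [Finite W] in
theorem length_w_le (j : ℤ) : ℓ (w cs a b j) ≤ j.natAbs := by
  have h1 : ∀ n : ℕ, ℓ (w cs a b n) ≤ n ∧ ℓ (w cs a b (-n)) ≤ n := by
    intro n
    induction n with
    | zero => simp [w_zero]
    | succ n ih =>
      constructor
      · push_cast
        rw [w_succ]
        have := cs.length_mul_le (w cs a b n) (cs.simple (ty a b n))
        rw [cs.length_simple] at this
        omega
      · have e : (-((n + 1 : ℕ) : ℤ)) = -(n : ℤ) - 1 := by push_cast; ring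
        rw [e, w_pred]
        have := cs.length_mul_le (w cs a b (-n)) (cs.simple (ty a b (-n - 1)))
        rw [cs.length_simple] at this
        omega
  generalize hn : j.natAbs = n
  rcases Int.natAbs_eq j with h | h
  · rw [h, hn]
    exact (h1 n).1
  · rw [h, hn]
    exact (h1 n).2

include hI hm in
theorem length_w {j : ℤ} (hj : j.natAbs ≤ m) : ℓ (w cs a b j) = j.natAbs := by
  refine le_antisymm (length_w_le cs j) ?_
  obtain ⟨k, hk, hkl⟩ := exists_w cs hI (w cs a b j)
  rw [w_eq_iff cs hI hm] at hk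
  obtain ⟨r, hr⟩ := hk
  have hle := length_w_le cs (a := a) (b := b) j
  push_cast at hr
  rcases lt_trichotomy r 0 with h | h | h
  · have : (m : ℤ) * r ≤ -m := by nlinarith
    have : k - j ≤ -(2 * m) := by
      rw [hr]
      nlinarith
    omega
  · subst h
    rw [mul_zero] at hr
    have : k = j := by omega
    rw [this] at hkl
    exact hkl
  · have : (m : ℤ) ≤ m * r := by nlinarith
    have : 2 * m ≤ k - j := by
      rw [hr]
      nlinarith
    omega

include hI hm in
/-- The distance of two chambers in the apartment. -/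
theorem length_delta (j : ℤ) {k : ℤ} (hk : k.natAbs ≤ m) :
    ℓ ((w cs a b j)⁻¹ * w cs a b (j + k)) = k.natAbs := by
  rw [w_inv_mul, length_w cs hI hm (by split_ifs <;> simpa using hk)]
  split_ifs <;> simp

include cs hI hm in
theorem m_pos : 0 < m := by
  have := orderOf_p cs hI hm
  rw [← this]
  exact orderOf_pos _

include hI hm in
/-- Every element of `W` is some `w_j` with `|j| ≤ m`. -/
theorem exists_w' (v : W) : ∃ j : ℤ, w cs a b j = v ∧ j.natAbs ≤ m := by
  obtain ⟨j, hj, -⟩ := exists_w cs hI v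
  have hpos := m_pos cs hI hm
  refine ⟨(j + m) % (2 * m : ℕ) - m, ?_, ?_⟩
  · rw [← hj, w_eq_iff cs hI hm]
    have h1 := Int.emod_def (j + m) (2 * m : ℕ)
    refine ⟨-((j + m) / (2 * m : ℕ)), ?_⟩
    rw [h1]
    ring
  · have h1 := Int.emod_nonneg (j + m) (b := ((2 * m : ℕ) : ℤ)) (by push_cast; omega)
    have h2 := Int.emod_lt_of_pos (j + m) (b := ((2 * m : ℕ) : ℤ)) (by push_cast; omega)
    push_cast at h1 h2 ⊢
    omega

include hI hm in
theorem length_w0 : ℓ (w0 cs) = m := by
  have := finI hI
  apply le_antisymm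
  · obtain ⟨j, hj, hjm⟩ := exists_w' cs hI hm (w0 cs)
    rw [← hj]
    exact (length_w_le cs j).trans hjm
  · have h1 := length_w cs hI hm (j := m) (by simp)
    rw [Int.natAbs_natCast] at h1
    rw [← h1]
    exact Cfsg.Agent.Tits.Exchange.length_le_w0 cs _

include hI hm in
theorem w_inv_mul_m (j : ℤ) : (w cs a b j)⁻¹ * w cs a b (j + m) = w0 cs := by
  apply Cfsg.Agent.Tits.Exchange.eq_w0_of_length
  rw [length_w0 cs hI hm, length_delta cs hI hm j (k := m) (by simp)]
  simp

include hI hm in
theorem w_add_m (j : ℤ) : w cs a b (j + m) = w cs a b j * w0 cs := by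
  rw [← w_inv_mul_m cs hI hm j, mul_inv_cancel_left]

include hI hm in
theorem w_add_two_m (j : ℤ) : w cs a b (j + 2 * m) = w cs a b j := by
  rw [w_eq_iff cs hI hm]
  refine ⟨1, by push_cast; ring⟩

end finite

end Cfsg.Agent.SplitTwo.DihPath
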