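import Cfsg.Agent.Tits.Chart
import Cfsg.Agent.Tits.Opp
import Cfsg.Agent.Tits.Rigid
/-!
S1144, [M]: regular families of unipotent subgroups of a group acting on a building.

`RegFam Δ G`: a `G`-equivariant family `U c ≤ G_c` of subgroups, `U c` transitive on the chambers opposite
`c`, such that an element of `U c` fixing a chamber `d ≠ c` in a panel of `c` fixes the whole panel and lies in
`U e` for every chamber `e` of the panel.
-/

set_option autoImplicit false
set_option linter.unusedSectionVars false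

namespace Cfsg.Agent.SplitTwo

open Cfsg.Agent.Tits.Core Cfsg.Agent.Tits.Core.Bldg

/-- A regular family of unipotent subgroups. -/
structure RegFam {I : Type*} {M : CoxeterMatrix I} {W : Type*} [Group W] {cs : CoxeterSystem M W}
    {C : Type*} (Δ : Bldg cs C) (G : Type*) [Group G] [MulAction G C] where
  iso : ∀ (g : G) x y, Δ.δ (g • x) (g • y) = Δ.δ x y
  faithful : ∀ g : G, (∀ x : C, g • x = x) → g = 1
  thick : Δ.Thick
  U : C → Subgroup G
  fix : ∀ c, ∀ u ∈ U c, u • c = c
  conj : ∀ (g : G) c, ∀ u ∈ U c, g * u * g⁻¹ ∈ U (g • c)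
  trans : ∀ c d d', Δ.Opp c d → Δ.Opp c d' → ∃ u ∈ U c, u • d = d'
  reg : ∀ c d i, Δ.δ c d = cs.simple i → ∀ u ∈ U c, u • d = d → ∀ e ∈ Δ.Pan i c, u • e = e ∧ u ∈ U e

namespace RegFam

variable {I : Type*} {M : CoxeterMatrix I} {W : Type*} [Group W] {cs : CoxeterSystem M W}
variable {C : Type*} {Δ : Bldg cs C} {G : Type*} [Group G] [MulAction G C]

local notation "ℓ" => cs.length

variable (R : RegFam Δ G)

include R in
theorem opp_smul (g : G) {c d : C} (h : Δ.Opp c d) : Δ.Opp (g • c) (g • d) := by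
  rw [Opp, R.iso]
  exact h

include R in
theorem smul_mem_Pan (g : G) {i : I} {c d : C} (h : d ∈ Δ.Pan i c) : g • d ∈ Δ.Pan i (g • c) := by
  rcases h with rfl | h
  · exact Or.inl rfl
  · right
    rw [R.iso]
    exact h

include R in
theorem smul_mem_Pan' {g : G} {i : I} {c d : C} (hg : g • c = c) (h : d ∈ Δ.Pan i c) :
    g • d ∈ Δ.Pan i c := by
  have := R.smul_mem_Pan g h
  rwa [hg] at this

theorem conj_mem_iff (g : G) (c : C) (u : G) : g * u * g⁻¹ ∈ R.U (g • c) ↔ u ∈ R.U c := by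
  refine ⟨fun h => ?_, R.conj g c u⟩
  have h1 := R.conj g⁻¹ _ _ h
  rw [inv_smul_smul] at h1
  have e : g⁻¹ * (g * u * g⁻¹) * g⁻¹⁻¹ = u := by group
  rwa [e] at h1

include R in
/-- An isometry fixing two chambers fixes the chambers between them. -/
theorem fix_between {g : G} {x y z : C} (hx : g • x = x) (hz : g • z = z)
    (hl : ℓ (Δ.δ x y * Δ.δ y z) = ℓ (Δ.δ x y) + ℓ (Δ.δ y z)) : g • y = y := by
  refine Δ.between_unique hl (x := x) (z := z) ?_ ?_ rfl rfl
  · conv_lhs => rw [← hx]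
    exact R.iso g x y
  · conv_lhs => rw [← hz]
    exact R.iso g y z

/-- An element of `U c` fixing `d` is in `U d`. -/
theorem walk {c d : C} {u : G} (hu : u ∈ R.U c) (hd : u • d = d) : u ∈ R.U d := by
  induction hn : ℓ (Δ.δ c d) generalizing d with
  | zero =>
    have h1 : c = d := Δ.eq_of_δ_eq_one (cs.length_eq_zero_iff.1 hn)
    rwa [← h1]
  | succ n ih =>
    have hne : Δ.δ c d ≠ 1 := by
      intro h1
      rw [h1, cs.length_one] at hn
      omega
    obtain ⟨i, hi⟩ := cs.exists_rightDescent_of_ne_one hne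
    have hi' := cs.isRightDescent_iff.1 hi
    obtain ⟨d', hd1, hd2⟩ := Δ.exists_step c d i
    have hd3 : Δ.δ d' d = cs.simple i := Δ.δ_symm_simple hd1
    have hfix : u • d' = d' := by
      refine R.fix_between (x := c) (z := d) (R.fix c u hu) hd ?_
      rw [hd2, hd3, mul_assoc, cs.simple_mul_simple_self, mul_one, cs.length_simple]
      omega
    have h1 := ih hfix (by rw [hd2]; omega)
    exact (R.reg d' d i hd3 u h1 hd d (Or.inr hd3)).2

theorem mem_iff {c d : C} {u : G} (hu : u ∈ R.U c) : u ∈ R.U d ↔ u • d = d :=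
  ⟨R.fix d u, R.walk hu⟩

/-- An element of `U c ∩ U d`, `c` and `d` adjacent, fixes their panel pointwise. -/
theorem fix_pan {c d : C} {i : I} (hcd : Δ.δ c d = cs.simple i) {u : G} (hu : u ∈ R.U c)
    (hd : u • d = d) : ∀ e ∈ Δ.Pan i c, u • e = e :=
  fun e he => (R.reg c d i hcd u hu hd e he).1

section finite

variable [Finite W]

/-- `U c` is regular on the chambers opposite `c`. -/
theorem eq_one [Finite I] {c d : C} (h : Δ.Opp c d) {u : G} (hu : u ∈ R.U c) (hd : u • d = d) :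
    u = 1 := by
  apply R.faithful
  intro x
  refine Cfsg.Agent.Tits.Rigid.rigid (Δ := Δ) (Δ' := Δ) R.thick (J := Set.univ) (c := c) (d := d)
    (φ := fun y => u • y) (ψ := fun y => y) (fun a _ b _ => R.iso u a b) (fun a _ b _ => rfl)
    ?_ h hd x ?_
  · intro i _ y hy
    have h1 : Δ.δ c d = cs.simple i * (cs.simple i * w0 cs) := by
      rw [cs.simple_mul_simple_cancel_left]
      exact h
    have h2 := Cfsg.Agent.Tits.Exchange.length_mul_w0 cs (cs.simple i)
    rw [cs.length_simple] at h2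
    have h3 : ℓ (cs.simple i * (cs.simple i * w0 cs)) =
        ℓ (cs.simple i) + ℓ (cs.simple i * w0 cs) := by
      rw [cs.simple_mul_simple_cancel_left, cs.length_simple]
      omega
    obtain ⟨e, he1, he2⟩ := Δ.exists_between h1 h3
    refine R.fix_pan he1 hu ?_ y hy
    exact R.fix_between (R.fix c u hu) hd (by rw [he1, he2, h3])
  · rw [Δ.Res_univ]
    trivial

/-- `U c ∩ U d` is transitive on the chambers of a panel of `d` pointing away from `c`. -/
theorem trans_pan {c d e e' : C} {i : I} (hl : ℓ (Δ.δ c d) < ℓ (Δ.δ c d * cs.simple i))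
    (he : Δ.δ d e = cs.simple i) (he' : Δ.δ d e' = cs.simple i) :
    ∃ u ∈ R.U c, u ∈ R.U d ∧ u • e = e' := by
  set v := Δ.δ c d with hv
  have hl1 : ℓ (v * cs.simple i) = ℓ v + 1 := by
    rcases cs.length_mul_simple v i with h | h
    · exact h
    · omega
  have hw1 := Cfsg.Agent.Tits.Exchange.length_mul_w0 cs (v * cs.simple i)⁻¹
  have hw2 := Cfsg.Agent.Tits.Exchange.length_mul_w0 cs v⁻¹
  rw [cs.length_inv] at hw1 hw2
  have key : ∀ e, Δ.δ d e = cs.simple i → ∃ f, Δ.δ c e = v * cs.simple i ∧ Δ.Opp c f ∧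
      Δ.δ e f = (v * cs.simple i)⁻¹ * w0 cs ∧ Δ.δ d f = v⁻¹ * w0 cs := by
    intro e he
    have h1 : Δ.δ c e = v * cs.simple i := Δ.step_lt c d e i he hl
    obtain ⟨f, hf1, hf2⟩ := Cfsg.Agent.Tits.Opp.exists_mul Δ c e ((v * cs.simple i)⁻¹ * w0 cs)
    rw [h1, mul_inv_cancel_left] at hf2
    have e1 : cs.simple i * ((v * cs.simple i)⁻¹ * w0 cs) = v⁻¹ * w0 cs := by
      rw [mul_inv_rev, cs.inv_simple, mul_assoc, cs.simple_mul_simple_cancel_left]
    refine ⟨f, h1, hf2, hf1, ?_⟩
    have h2 := Δ.δ_mul_of he hf1 (by rw [e1, cs.length_simple]; omega)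
    rw [h2, e1]
  obtain ⟨f, h1, h2, h3, h4⟩ := key e he
  obtain ⟨f', h1', h2', h3', h4'⟩ := key e' he'
  obtain ⟨u, hu, huf⟩ := R.trans c f f' h2 h2'
  have huc := R.fix c u hu
  have hd : u • d = d := by
    refine Δ.between_unique (x := c) (z := f') (v := v) (w := v⁻¹ * w0 cs) ?_ ?_ ?_ rfl h4'
    · rw [mul_inv_cancel_left]
      omega
    · conv_lhs => rw [← huc]
      exact R.iso u c d
    · rw [← huf, R.iso]
      exact h4
  refine ⟨u, hu, R.walk hu hd, ?_⟩
  refine Δ.between_unique (x := c) (z := f') (v := v * cs.simple i)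
    (w := (v * cs.simple i)⁻¹ * w0 cs) ?_ ?_ ?_ h1' h3'
  · rw [mul_inv_cancel_left]
    omega
  · conv_lhs => rw [← huc]
    rw [R.iso, h1]
  · rw [← huf, R.iso]
    exact h3

end finite

end RegFam

end Cfsg.Agent.SplitTwo
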