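import Cfsg.Agent.SplitTwo.RootSys
import Cfsg.Agent.SplitTwo.RegFam605
import Cfsg.Agent.SplitTwo.DihPath605
/-!
S1144, [M]: a regular family of unipotent subgroups on a building of rank two (of type `I₂(m)`) gives a
Moufang root group system `RootSys m G`.
-/

set_option autoImplicit false
set_option linter.unusedSectionVars false

namespace Cfsg.Agent.SplitTwo.RegFam

open Cfsg.Agent.Tits.Core Cfsg.Agent.Tits.Core.Bldg Cfsg.Agent.SplitTwo.DihPath
open Cfsg.Agent.Tits.Chart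
open scoped commutatorElement

variable {I : Type*} {M : CoxeterMatrix I} {W : Type*} [Group W] {cs : CoxeterSystem M W}
variable {C : Type*} {Δ : Bldg cs C} {G : Type*} [Group G] [MulAction G C]

local notation "ℓ" => cs.length

variable (R : RegFam Δ G) [Finite W]
variable {a b : I} (hI : ∀ i, i = a ∨ i = b) {m : ℕ} (hm : M a b = m) (σ : Chart Δ)

/-- The chambers of the apartment in cyclic order. -/
def ch (cs : CoxeterSystem M W) (a b : I) {Δ : Bldg cs C} (σ : Chart Δ) (j : ℤ) : C :=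
  σ (w cs a b j)

theorem adj (j : ℤ) : Δ.δ (ch cs a b σ j) (ch cs a b σ (j + 1)) = cs.simple (ty a b j) := by
  rw [ch, ch, σ.iso, w_succ, inv_mul_cancel_left]

theorem adj' (j : ℤ) : Δ.δ (ch cs a b σ (j + 1)) (ch cs a b σ j) = cs.simple (ty a b j) :=
  Δ.δ_symm_simple (adj σ j)

include hI hm in
theorem len_ch (j : ℤ) {k : ℤ} (hk : k.natAbs ≤ m) :
    ℓ (Δ.δ (ch cs a b σ j) (ch cs a b σ (j + k))) = k.natAbs := by
  rw [ch, ch, σ.iso, length_delta cs hI hm j hk]

include hI hm in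
theorem len_ch' {j k : ℤ} (h1 : j ≤ k) (h2 : k ≤ j + m) :
    ℓ (Δ.δ (ch cs a b σ j) (ch cs a b σ k)) = (k - j).natAbs := by
  have := len_ch hI hm σ j (k := k - j) (by omega)
  rwa [add_sub_cancel] at this

include hI hm in
theorem opp_ch (j : ℤ) : Δ.Opp (ch cs a b σ j) (ch cs a b σ (j + m)) := by
  rw [Opp, ch, ch, σ.iso, w_inv_mul_m cs hI hm]

include hI hm in
theorem ch_add (j : ℤ) : ch cs a b σ (j + 2 * m) = ch cs a b σ j := by
  rw [ch, w_add_two_m cs hI hm, ch]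

/-- The subgroup `U (c_s) ∩ U (c_t)`. -/
def V (s t : ℤ) : Subgroup G := R.U (ch cs a b σ s) ⊓ R.U (ch cs a b σ t)

include hI hm in
theorem V_le {s t j : ℤ} (h1 : s ≤ j) (h2 : j ≤ t) (h3 : t ≤ s + m) :
    R.V (a := a) (b := b) σ s t ≤ R.U (ch cs a b σ j) := by
  rintro u ⟨hu1, hu2⟩
  refine R.walk hu1 (R.fix_between (R.fix _ u hu1) (R.fix _ u hu2) ?_)
  have h5 : Δ.δ (ch cs a b σ s) (ch cs a b σ j) * Δ.δ (ch cs a b σ j) (ch cs a b σ t) =
      Δ.δ (ch cs a b σ s) (ch cs a b σ t) := by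
    rw [ch, ch, ch, σ.iso, σ.iso, σ.iso]
    group
  rw [h5, len_ch' hI hm σ h1 (by omega), len_ch' hI hm σ h2 (by omega),
    len_ch' hI hm σ (h1.trans h2) h3]
  omega

include hI hm in
theorem V_fix {s t j : ℤ} (h1 : s ≤ j) (h2 : j ≤ t) (h3 : t ≤ s + m) {u : G}
    (hu : u ∈ R.V (a := a) (b := b) σ s t) : u • ch cs a b σ j = ch cs a b σ j :=
  R.fix _ u (R.V_le hI hm σ h1 h2 h3 hu)

include hI hm in
/-- An element of `V s t` fixes the inner panels. -/
theorem V_pan {s t j : ℤ} (h1 : s ≤ j) (h2 : j + 1 ≤ t) (h3 : t ≤ s + m) {u : G}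
    (hu : u ∈ R.V (a := a) (b := b) σ s t) :
    ∀ e ∈ Δ.Pan (ty a b j) (ch cs a b σ j), u • e = e :=
  R.fix_pan (adj σ j) (R.V_le hI hm σ h1 (by omega) h3 hu)
    (R.V_fix hI hm σ (by omega) h2 h3 hu)

include hI hm in
theorem V_opp (s : ℤ) : R.V (a := a) (b := b) σ s (s + m) = ⊥ := by
  have := finI hI
  rw [eq_bot_iff]
  rintro u ⟨hu1, hu2⟩
  rw [Subgroup.mem_bot]
  exact R.eq_one (opp_ch hI hm σ s) hu1 (R.fix _ u hu2)

/-- The root groups. -/
def XZ (m : ℕ) (j : ℤ) : Subgroup G := R.V (a := a) (b := b) σ j (j + m - 1)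

include hI hm in
theorem XZ_le_V {s t r : ℤ} (h1 : r ≤ s) (h2 : s ≤ t) (h3 : t ≤ r + m - 1) :
    R.XZ (a := a) (b := b) σ m r ≤ R.V (a := a) (b := b) σ s t :=
  le_inf (R.V_le hI hm σ h1 (by omega) (by omega)) (R.V_le hI hm σ (by omega) h3 (by omega))

include hI hm in
theorem XZ_le_U {s r : ℤ} (h1 : r ≤ s) (h3 : s ≤ r + m - 1) :
    R.XZ (a := a) (b := b) σ m r ≤ R.U (ch cs a b σ s) :=
  R.V_le hI hm σ h1 (by omega) (by omega)

include hI hm in
/-- `X_r` is transitive on the chambers of the panel at its end. -/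
theorem XZ_trans {r : ℤ} {e e' : C}
    (he : Δ.δ (ch cs a b σ (r + m - 1)) e = cs.simple (ty a b (r + m - 1)))
    (he' : Δ.δ (ch cs a b σ (r + m - 1)) e' = cs.simple (ty a b (r + m - 1))) :
    ∃ u ∈ R.XZ (a := a) (b := b) σ m r, u • e = e' := by
  have hpos := m_pos cs hI hm
  have h1 : Δ.δ (ch cs a b σ r) (ch cs a b σ (r + m - 1)) * cs.simple (ty a b (r + m - 1)) =
      Δ.δ (ch cs a b σ r) (ch cs a b σ (r + m)) := by
    have e1 : r + (m : ℤ) = r + m - 1 + 1 := by ring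
    have h := w_succ (a := a) (b := b) cs (r + m - 1)
    rw [ch, ch, ch, σ.iso, σ.iso, mul_assoc, ← h, ← e1]
  obtain ⟨u, hu1, hu2, hu3⟩ := R.trans_pan (c := ch cs a b σ r) (d := ch cs a b σ (r + m - 1))
    (i := ty a b (r + m - 1)) (by
      rw [h1, len_ch' hI hm σ (by omega) (by omega), len_ch' hI hm σ (by omega) (by omega)]
      omega) he he'
  exact ⟨u, ⟨hu1, hu2⟩, hu3⟩

include hI hm in
/-- `X_r` is transitive on the chambers of the panel at its beginning. -/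
theorem XZ_trans' {r : ℤ} {e e' : C}
    (he : Δ.δ (ch cs a b σ r) e = cs.simple (ty a b (r - 1)))
    (he' : Δ.δ (ch cs a b σ r) e' = cs.simple (ty a b (r - 1))) :
    ∃ u ∈ R.XZ (a := a) (b := b) σ m r, u • e = e' := by
  have hpos := m_pos cs hI hm
  have h1 : Δ.δ (ch cs a b σ (r + m - 1)) (ch cs a b σ r) * cs.simple (ty a b (r - 1)) =
      Δ.δ (ch cs a b σ (r + m - 1)) (ch cs a b σ (r - 1)) := by
    have h := w_pred (a := a) (b := b) cs r
    rw [ch, ch, ch, σ.iso, σ.iso, mul_assoc, ← h]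
  have h2 := Δ.length_δ_comm (ch cs a b σ r) (ch cs a b σ (r + m - 1))
  have h3 := Δ.length_δ_comm (ch cs a b σ (r - 1)) (ch cs a b σ (r + m - 1))
  rw [len_ch' hI hm σ (j := r) (k := r + m - 1) (by omega) (by omega)] at h2
  rw [len_ch' hI hm σ (j := r - 1) (k := r + m - 1) (by omega) (by omega)] at h3
  obtain ⟨u, hu1, hu2, hu3⟩ := R.trans_pan (c := ch cs a b σ (r + m - 1)) (d := ch cs a b σ r)
    (i := ty a b (r - 1)) (by rw [h1, h2, h3]; omega) he he'
  exact ⟨u, ⟨hu2, hu1⟩, hu3⟩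

include hI hm in
theorem V_step {s t : ℤ} (h1 : s ≤ t) (h2 : t < s + m) :
    R.V (a := a) (b := b) σ s t ≤ R.V (a := a) (b := b) σ s (t + 1) ⊔
      R.XZ (a := a) (b := b) σ m (t + 1 - m) := by
  intro u hu
  have e1 : t + 1 - m + m - 1 = t := by ring
  have h3 : Δ.δ (ch cs a b σ t) (u • ch cs a b σ (t + 1)) = cs.simple (ty a b t) := by
    conv_lhs => rw [← R.V_fix hI hm σ h1 le_rfl (by omega) hu]
    rw [R.iso]
    exact adj σ t
  obtain ⟨v, hv, hv2⟩ := R.XZ_trans hI hm σ (r := t + 1 - m) (e := ch cs a b σ (t + 1))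
    (e' := u • ch cs a b σ (t + 1)) (by rw [e1]; exact adj σ t) (by rw [e1]; exact h3)
  have hvs := R.XZ_le_U hI hm σ (s := s) (by omega) (by omega) hv
  have h4 : v⁻¹ * u ∈ R.U (ch cs a b σ s) := mul_mem (inv_mem hvs) hu.1
  have h5 : (v⁻¹ * u) • ch cs a b σ (t + 1) = ch cs a b σ (t + 1) := by
    rw [mul_smul, ← hv2, inv_smul_smul]
  have h6 : v⁻¹ * u ∈ R.V (a := a) (b := b) σ s (t + 1) := ⟨h4, R.walk h4 h5⟩
  have h7 : u = v * (v⁻¹ * u) := by group
  rw [h7]
  exact mul_mem ((le_sup_right : R.XZ (a := a) (b := b) σ m (t + 1 - m) ≤ _) hv)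
    ((le_sup_left : R.V (a := a) (b := b) σ s (t + 1) ≤ _) h6)

include hI hm in
/-- Product decomposition. -/
theorem V_eq {s t : ℤ} (h1 : s ≤ t) (h2 : t ≤ s + m) :
    R.V (a := a) (b := b) σ s t =
      ⨆ r ∈ Set.Icc (t - m + 1) s, R.XZ (a := a) (b := b) σ m r := by
  apply le_antisymm
  · obtain ⟨n, hn⟩ := Int.eq_ofNat_of_zero_le (show 0 ≤ s + m - t by omega)
    induction n generalizing t with
    | zero =>
      have e : t = s + m := by omega
      rw [e, R.V_opp hI hm σ s]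
      exact bot_le
    | succ n ih =>
      push_cast at hn
      refine (R.V_step hI hm σ h1 (by omega)).trans (sup_le ?_ ?_)
      · refine (ih (t := t + 1) (by omega) (by omega) (by omega)).trans ?_
        refine iSup₂_le fun r hr => le_iSup₂_of_le r ⟨?_, hr.2⟩ le_rfl
        have := hr.1
        omega
      · refine le_iSup₂_of_le (t + 1 - m) ⟨?_, ?_⟩ le_rfl <;> omega
  · refine iSup₂_le fun r hr => ?_
    have := hr.1
    exact R.XZ_le_V hI hm σ hr.2 h1 (by omega)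

include hI hm in
theorem XZ_comm (i : ℤ) {k : ℕ} (h1 : 1 ≤ k) (h2 : k < m) :
    ⁅R.XZ (a := a) (b := b) σ m i, R.XZ (a := a) (b := b) σ m (i + k)⁆ ≤
      ⨆ r ∈ Set.Ioo 0 k, R.XZ (a := a) (b := b) σ m (i + (r : ℕ)) := by
  rw [Subgroup.commutator_le]
  intro x hx y hy
  have hxU : ∀ j : ℤ, i ≤ j → j ≤ i + m - 1 → x ∈ R.U (ch cs a b σ j) := fun j hj hj' =>
    R.XZ_le_U hI hm σ hj hj' hx
  have hyU : ∀ j : ℤ, i + k ≤ j → j ≤ i + k + m - 1 → y ∈ R.U (ch cs a b σ j) := fun j hj hj' =>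
    R.XZ_le_U hI hm σ hj hj' hy
  have hxp : ∀ j : ℤ, i ≤ j → j + 1 ≤ i + m - 1 →
      ∀ e ∈ Δ.Pan (ty a b j) (ch cs a b σ j), x • e = e := fun j hj hj' =>
    R.V_pan hI hm σ hj hj' (by omega) hx
  have hyp : ∀ j : ℤ, i + k ≤ j → j + 1 ≤ i + k + m - 1 →
      ∀ e ∈ Δ.Pan (ty a b j) (ch cs a b σ j), y • e = e := fun j hj hj' =>
    R.V_pan hI hm σ hj hj' (by omega) hy
  have hinv : ∀ {g : G} {e : C}, g • e = e → g⁻¹ • e = e := fun {g e} h => by
    rw [inv_smul_eq_iff, h]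
  -- the commutator fixes `c_{i+k-1}`
  have hA : ⁅x, y⁆ ∈ R.U (ch cs a b σ (i + k)) := by
    have h3 := hxU (i + k) (by omega) (by omega)
    have h4 := hyU (i + k) (by omega) (by omega)
    rw [commutatorElement_def]
    exact mul_mem (mul_mem (mul_mem h3 h4) (inv_mem h3)) (inv_mem h4)
  have hA' : ⁅x, y⁆ • ch cs a b σ (i + k - 1) = ch cs a b σ (i + k - 1) := by
    have e1 : i + (k : ℤ) - 1 + 1 = i + k := by ring
    have h5 : ch cs a b σ (i + k - 1) ∈ Δ.Pan (ty a b (i + k - 1)) (ch cs a b σ (i + k)) := by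
      right
      have := adj' (a := a) (b := b) σ (i + k - 1)
      rwa [e1] at this
    have h6 : y⁻¹ • ch cs a b σ (i + k - 1) ∈ Δ.Pan (ty a b (i + k - 1)) (ch cs a b σ (i + k)) :=
      R.smul_mem_Pan' (hinv (R.fix _ _ (hyU (i + k) (by omega) (by omega)))) h5
    have h7 : y⁻¹ • ch cs a b σ (i + k - 1) ∈
        Δ.Pan (ty a b (i + k - 1)) (ch cs a b σ (i + k - 1)) :=
      Δ.mem_Pan_trans (Δ.mem_Pan_symm h5) h6
    have h8 := hxp (i + k - 1) (by omega) (by omega)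
    rw [commutatorElement_def, mul_smul, mul_smul, mul_smul, hinv (h8 _ h7), smul_inv_smul]
    exact h8 _ (Or.inl rfl)
  -- the commutator fixes `c_{i+m}`
  have hB : ⁅x, y⁆ ∈ R.U (ch cs a b σ (i + m - 1)) := by
    have h3 := hxU (i + m - 1) (by omega) (by omega)
    have h4 := hyU (i + m - 1) (by omega) (by omega)
    rw [commutatorElement_def]
    exact mul_mem (mul_mem (mul_mem h3 h4) (inv_mem h3)) (inv_mem h4)
  have hB' : ⁅x, y⁆ • ch cs a b σ (i + m) = ch cs a b σ (i + m) := by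
    have e1 : i + (m : ℤ) - 1 + 1 = i + m := by ring
    have h5 : ch cs a b σ (i + m) ∈ Δ.Pan (ty a b (i + m - 1)) (ch cs a b σ (i + m - 1)) := by
      right
      have := adj (a := a) (b := b) σ (i + m - 1)
      rwa [e1] at this
    have h6 : x⁻¹ • ch cs a b σ (i + m) ∈ Δ.Pan (ty a b (i + m - 1)) (ch cs a b σ (i + m - 1)) :=
      R.smul_mem_Pan' (hinv (R.fix _ _ (hxU (i + m - 1) (by omega) (by omega)))) h5
    have h8 := hyp (i + m - 1) (by omega) (by omega)
    rw [commutatorElement_def, mul_smul, mul_smul, mul_smul, hinv (h8 _ h5), h8 _ h6,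
      smul_inv_smul]
  have hV : ⁅x, y⁆ ∈ R.V (a := a) (b := b) σ (i + k - 1) (i + m) :=
    ⟨R.walk hA hA', R.walk hB hB'⟩
  rw [R.V_eq hI hm σ (by omega) (by omega)] at hV
  have hle : (⨆ r ∈ Set.Icc (i + m - m + 1 : ℤ) (i + k - 1), R.XZ (a := a) (b := b) σ m r) ≤
      ⨆ r ∈ Set.Ioo 0 k, R.XZ (a := a) (b := b) σ m (i + (r : ℕ)) := ?_
  · exact hle hV
  refine iSup₂_le fun r hr => ?_
  obtain ⟨n, hn⟩ := Int.eq_ofNat_of_zero_le (show 0 ≤ r - i by have := hr.1; omega)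
  have e : r = i + (n : ℕ) := by omega
  rw [e]
  refine le_iSup₂_of_le n ⟨?_, ?_⟩ le_rfl
  · have := hr.1
    omega
  · have := hr.2
    omega

include hI hm in
theorem XZ_inter (i : ℤ) : R.XZ (a := a) (b := b) σ m i ⊓
    (⨆ r ∈ Set.Ioo 0 m, R.XZ (a := a) (b := b) σ m (i + (r : ℕ))) = ⊥ := by
  have hpos := m_pos cs hI hm
  rw [eq_bot_iff, ← R.V_opp hI hm σ i]
  refine inf_le_inf (R.XZ_le_U hI hm σ le_rfl (by omega)) (iSup₂_le fun r hr => ?_)
  have h1 : 0 < r := hr.1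
  have h2 : r < m := hr.2
  exact R.XZ_le_U hI hm σ (by omega) (by omega)

include hI hm in
theorem XZ_ne_bot (i : ℤ) : R.XZ (a := a) (b := b) σ m i ≠ ⊥ := by
  intro h
  obtain ⟨y, z, hyz, hy, hz⟩ := R.thick (ch cs a b σ (i + m - 1)) (ty a b (i + m - 1))
  obtain ⟨u, hu, huyz⟩ := R.XZ_trans hI hm σ hy hz
  rw [h, Subgroup.mem_bot] at hu
  rw [hu, one_smul] at huyz
  exact hyz huyz

include hI hm in
/-- Two chambers of a panel containing a chamber farther away. -/
theorem eq_of_panel {x y z o : C} {i : I} (hy : y ∈ Δ.Pan i o) (hz : z ∈ Δ.Pan i o)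
    (h1 : ℓ (Δ.δ x y) = m - 1) (h2 : ℓ (Δ.δ x z) = m - 1) (h3 : Δ.Opp x o) : y = z := by
  have := finI hI
  have hpos := m_pos cs hI hm
  have h0 := length_w0 cs hI hm
  by_contra hne
  have h4 : Δ.δ y z = cs.simple i := Δ.δ_eq_of_mem_Pan hy hz hne
  have hyo : y ≠ o := by
    rintro rfl
    rw [h3, h0] at h1
    omega
  have h5 : Δ.δ y o = cs.simple i := Δ.δ_eq_of_mem_Pan hy (Δ.self_mem_Pan i o) hyo
  have h6 : Δ.δ x o = Δ.δ x y * cs.simple i := by
    rcases Δ.step x y o i h5 with h | h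
    · exact h
    · rw [h3] at h
      rw [← h, h0] at h1
      omega
  have h7 := Δ.step_lt x y z i h4 (by rw [← h6, h1, h3, h0]; omega)
  rw [h7, ← h6, h3, h0] at h2
  omega

include hI hm in
/-- The `μ`-elements. -/
theorem XZ_mu (i : ℤ) {u : G} (hu : u ∈ R.XZ (a := a) (b := b) σ m i) (hu1 : u ≠ 1) :
    ∃ v ∈ R.XZ (a := a) (b := b) σ m (i + m), ∃ v' ∈ R.XZ (a := a) (b := b) σ m (i + m),
      ∀ j, (v * u * v') • ch cs a b σ j = ch cs a b σ (2 * i - 1 - j) := by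
  have := finI hI
  have hpos := m_pos cs hI hm
  have h0 := length_w0 cs hI hm
  -- the chambers `c_{i-1}` and `c_i`
  have e1 : i - 1 + 1 = i := by ring
  have hp : Δ.δ (ch cs a b σ (i - 1)) (ch cs a b σ i) = cs.simple (ty a b (i - 1)) := by
    have := adj (a := a) (b := b) σ (i - 1)
    rwa [e1] at this
  have hp' := Δ.δ_symm_simple hp
  have hui : u • ch cs a b σ i = ch cs a b σ i := R.fix _ _ hu.1
  have huU : u ∈ R.U (ch cs a b σ i) := hu.1
  have hum : u • ch cs a b σ (i + m - 1) = ch cs a b σ (i + m - 1) := R.fix _ _ hu.2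
  have hopp : Δ.Opp (ch cs a b σ (i - 1)) (ch cs a b σ (i + m - 1)) := by
    have := opp_ch (a := a) (b := b) hI hm σ (i - 1)
    have e : i - 1 + (m : ℤ) = i + m - 1 := by ring
    rwa [e] at this
  have hmove : u • ch cs a b σ (i - 1) ≠ ch cs a b σ (i - 1) := fun h =>
    hu1 (R.eq_one hopp (R.walk huU h) hum)
  have hmove' : u⁻¹ • ch cs a b σ (i - 1) ≠ ch cs a b σ (i - 1) := by
    intro h
    apply hmove
    rw [inv_smul_eq_iff] at h
    exact h.symm
  have hmem : ∀ g : G, g • ch cs a b σ i = ch cs a b σ i → g • ch cs a b σ (i - 1) ≠ ch cs a b σ (i - 1) →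
      Δ.δ (ch cs a b σ (i - 1)) (g • ch cs a b σ (i - 1)) = cs.simple (ty a b (i - 1)) := by
    intro g hg hne
    refine Δ.δ_eq_of_mem_Pan (Or.inr hp') (R.smul_mem_Pan' hg (Or.inr hp')) (Ne.symm hne)
  -- the root group `X_{i+m}`
  have e2 : i + (m : ℤ) + m - 1 = i - 1 + 2 * m := by ring
  have hch : ch cs a b σ (i + m + m - 1) = ch cs a b σ (i - 1) := by
    rw [e2, ch_add hI hm σ]
  have hty : ty a b (i + m + m - 1) = ty a b (i - 1) := by
    rw [e2, ty, ty]
    have : Even (i - 1 + 2 * (m : ℤ)) ↔ Even (i - 1) := by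
      rw [Int.even_add]
      exact iff_true_right (even_two_mul _)
    simp only [this]
  have htr : ∀ e e' : C, Δ.δ (ch cs a b σ (i - 1)) e = cs.simple (ty a b (i - 1)) →
      Δ.δ (ch cs a b σ (i - 1)) e' = cs.simple (ty a b (i - 1)) →
      ∃ v ∈ R.XZ (a := a) (b := b) σ m (i + m), v • e = e' := by
    intro e e' he he'
    exact R.XZ_trans hI hm σ (by rw [hch, hty]; exact he) (by rw [hch, hty]; exact he')
  obtain ⟨v, hv, hv1⟩ := htr _ _ (hmem u hui hmove) hp
  obtain ⟨v', hv', hv1'⟩ := htr _ _ hp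
    (hmem u⁻¹ (by rw [inv_smul_eq_iff, hui]) hmove')
  refine ⟨v, hv, v', hv', ?_⟩
  have hVfix : ∀ x ∈ R.XZ (a := a) (b := b) σ m (i + m), x • ch cs a b σ (i - 1) = ch cs a b σ (i - 1) ∧
      x • ch cs a b σ (i + m) = ch cs a b σ (i + m) := by
    intro x hx
    refine ⟨?_, R.fix _ _ hx.1⟩
    have := R.fix _ _ hx.2
    rwa [hch] at this
  set μ := v * u * v' with hμ
  have hμ1 : μ • ch cs a b σ i = ch cs a b σ (i - 1) := by
    rw [hμ, mul_smul, mul_smul, hv1', smul_inv_smul, (hVfix v hv).1]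
  have hμ2 : μ • ch cs a b σ (i - 1) = ch cs a b σ i := by
    rw [hμ, mul_smul, mul_smul, (hVfix v' hv').1, hv1]
  -- the other panel
  have e3 : i + (m : ℤ) - 1 + 1 = i + m := by ring
  have hq : ch cs a b σ (i + m - 1) ∈ Δ.Pan (ty a b (i + m - 1)) (ch cs a b σ (i + m)) := by
    right
    have := adj' (a := a) (b := b) σ (i + m - 1)
    rwa [e3] at this
  have hstab : ∀ x ∈ Δ.Pan (ty a b (i + m - 1)) (ch cs a b σ (i + m)),
      μ • x ∈ Δ.Pan (ty a b (i + m - 1)) (ch cs a b σ (i + m)) := by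
    intro x hx
    rw [hμ, mul_smul, mul_smul]
    have h1 := R.smul_mem_Pan' (hVfix v' hv').2 hx
    have h2 : v' • x ∈ Δ.Pan (ty a b (i + m - 1)) (ch cs a b σ (i + m - 1)) :=
      Δ.mem_Pan_trans (Δ.mem_Pan_symm hq) h1
    have h3 := R.smul_mem_Pan' hum h2
    have h4 := Δ.mem_Pan_trans hq h3
    exact R.smul_mem_Pan' (hVfix v hv).2 h4
  have hoppi : Δ.Opp (ch cs a b σ i) (ch cs a b σ (i + m)) := opp_ch hI hm σ i
  have hμ3 : μ • ch cs a b σ (i + m - 1) = ch cs a b σ (i + m) := by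
    refine eq_of_panel hI hm (x := ch cs a b σ (i - 1)) (o := ch cs a b σ (i + m - 1))
      (i := ty a b (i + m - 1)) (Δ.mem_Pan_trans (Δ.mem_Pan_symm hq) (hstab _ hq))
      (Δ.mem_Pan_symm hq) ?_ ?_ hopp
    · rw [← hμ1, R.iso, len_ch' hI hm σ (by omega) (by omega)]
      omega
    · have h5 := len_ch (a := a) (b := b) hI hm σ (i - 1) (k := -(m - 1)) (by omega)
      have e4 : i - 1 + -((m : ℤ) - 1) = i + m - 2 * m := by ring
      have e5 : ch cs a b σ (i + m) = ch cs a b σ (i + m - 2 * m) := by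
        have := ch_add (a := a) (b := b) hI hm σ (i + m - 2 * m)
        rw [sub_add_cancel] at this
        exact this
      rw [e5, ← e4, h5]
      omega
  have hμ4 : μ • ch cs a b σ (i + m) = ch cs a b σ (i + m - 1) := by
    refine eq_of_panel hI hm (x := ch cs a b σ i) (o := ch cs a b σ (i + m))
      (i := ty a b (i + m - 1)) (hstab _ (Δ.self_mem_Pan _ _)) hq ?_ ?_ hoppi
    · have h5 := len_ch (a := a) (b := b) hI hm σ (i - 1) (k := -(m - 1)) (by omega)
      have e4 : i - 1 + -((m : ℤ) - 1) = i + m - 2 * m := by ring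
      have e5 : ch cs a b σ (i + m) = ch cs a b σ (i + m - 2 * m) := by
        have := ch_add (a := a) (b := b) hI hm σ (i + m - 2 * m)
        rw [sub_add_cancel] at this
        exact this
      rw [← hμ2, R.iso, e5, ← e4, h5]
      omega
    · rw [len_ch' hI hm σ (by omega) (by omega)]
      omega
  -- the two charts
  have hw : ∀ j, ch cs a b σ (2 * i - 1 - j) =
      σ (w cs a b (i - 1) * (w cs a b i)⁻¹ * w cs a b j) := by
    intro j
    rw [w_refl]
    rfl
  have key : σ.map (fun x => μ • x) (R.iso μ) = σ.lmul (w cs a b (i - 1) * (w cs a b i)⁻¹) := by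
    refine Cfsg.Agent.Tits.Chart.Chart.eq_of_opp (v := w cs a b i) ?_ ?_
    · rw [Chart.map_apply, Chart.lmul_apply, ← hw]
      have e : 2 * i - 1 - i = i - 1 := by ring
      rw [e]
      exact hμ1
    · rw [← w_add_m cs hI hm, Chart.map_apply, Chart.lmul_apply, ← hw]
      have h6 : ch cs a b σ (2 * i - 1 - (i + m)) = ch cs a b σ (i + m - 1) := by
        have e4 : i + m - 1 = 2 * i - 1 - (i + m) + 2 * (m : ℤ) := by ring
        rw [e4, ch_add hI hm σ]
      rw [h6]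
      exact hμ4
  intro j
  have h7 := congrArg (fun τ : Chart Δ => τ (w cs a b j)) key
  simp only [Chart.map_apply, Chart.lmul_apply] at h7
  rw [hw, ← h7]
  rfl

include hI hm in
/-- The action of an element reflecting the apartment. -/
theorem conj_XZ {μ : G} {i : ℤ} (hμ : ∀ j, μ • ch cs a b σ j = ch cs a b σ (2 * i - 1 - j)) (j : ℤ)
    (x : G) : μ * x * μ⁻¹ ∈ R.XZ (a := a) (b := b) σ m (2 * i + m - j) ↔
      x ∈ R.XZ (a := a) (b := b) σ m j := by
  have h1 := R.conj_mem_iff μ (ch cs a b σ j) x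
  have h2 := R.conj_mem_iff μ (ch cs a b σ (j + m - 1)) x
  rw [hμ] at h1 h2
  have e1 : ch cs a b σ (2 * i - 1 - j) = ch cs a b σ (2 * i + m - j + m - 1) := by
    have e : 2 * i + m - j + m - 1 = 2 * i - 1 - j + 2 * (m : ℤ) := by ring
    rw [e, ch_add hI hm σ]
  have e2 : ch cs a b σ (2 * i - 1 - (j + m - 1)) = ch cs a b σ (2 * i + m - j) := by
    have e : 2 * i + m - j = 2 * i - 1 - (j + m - 1) + 2 * (m : ℤ) := by ring
    rw [e, ch_add hI hm σ]
  rw [e1] at h1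
  rw [e2] at h2
  change _ ∈ R.U _ ⊓ R.U _ ↔ x ∈ R.U _ ⊓ R.U _
  rw [Subgroup.mem_inf, Subgroup.mem_inf, h1, h2, and_comm]

include hI hm in
theorem U_le_gen (x : C) : R.U x ≤ ⨆ j, R.XZ (a := a) (b := b) σ m j := by
  have := finI hI
  set Y := ⨆ j, R.XZ (a := a) (b := b) σ m j with hY
  have hch : ∀ j, R.U (ch cs a b σ j) ≤ Y := by
    intro j
    have h1 := R.V_eq hI hm σ (s := j) (t := j) le_rfl (by omega)
    rw [V, inf_idem] at h1
    rw [h1]
    exact iSup₂_le fun r _ => le_iSup (fun j => R.XZ (a := a) (b := b) σ m j) r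
  have hc0 : ch cs a b σ 0 = σ 1 := by rw [ch, w_zero]
  set v := Δ.δ (σ 1) x with hv
  obtain ⟨f, hf1, hf2⟩ := Cfsg.Agent.Tits.Opp.exists_mul Δ (σ 1) x (v⁻¹ * w0 cs)
  rw [← hv, mul_inv_cancel_left] at hf2
  obtain ⟨u, hu, huf⟩ := R.trans (σ 1) f (σ (1 * w0 cs)) hf2 (σ.opp 1)
  have hux : u • x = σ v := by
    refine σ.eq_of_δ (v := 1) ?_ ?_
    · conv_lhs => rw [← R.fix _ u hu]
      rw [R.iso, inv_one, one_mul]
    · rw [← huf, R.iso, hf1, one_mul]
  obtain ⟨j, hj, -⟩ := exists_w cs hI v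
  have hux' : u • x = ch cs a b σ j := by rw [hux, ch, hj]
  have huY : u ∈ Y := hch 0 (by rw [hc0]; exact hu)
  intro y hy
  have h1 := R.conj u x y hy
  rw [hux'] at h1
  have h2 := mul_mem (mul_mem (inv_mem huY) (hch j h1)) huY
  have e : u⁻¹ * (u * y * u⁻¹) * u = y := by group
  rwa [e] at h2

include hI hm in
theorem XZ_gen [IsSimpleGroup G] : (⨆ j, R.XZ (a := a) (b := b) σ m j) = ⊤ := by
  set N : Subgroup G := ⨆ x : C, R.U x with hN
  have hnormal : N.Normal := by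
    refine ⟨fun n hn g => ?_⟩
    have h1 : N ≤ N.comap (MulAut.conj g).toMonoidHom := by
      rw [hN]
      refine iSup_le fun x y hy => ?_
      exact (le_iSup (fun x => R.U x) (g • x)) (R.conj g x y hy)
    exact h1 hn
  have hne : N ≠ ⊥ := by
    intro h
    apply R.XZ_ne_bot hI hm σ 0
    rw [eq_bot_iff, ← h]
    exact (inf_le_left : R.XZ (a := a) (b := b) σ m 0 ≤ _).trans (le_iSup (fun x => R.U x) _)
  have htop : N = ⊤ := (IsSimpleGroup.eq_bot_or_eq_top_of_normal N hnormal).resolve_left hne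
  rw [eq_top_iff, ← htop]
  exact iSup_le fun x => R.U_le_gen hI hm σ x

include hI hm in
theorem XZ_add (j : ℤ) : R.XZ (a := a) (b := b) σ m (j + 2 * m) =
    R.XZ (a := a) (b := b) σ m j := by
  have e : j + 2 * (m : ℤ) + m - 1 = j + m - 1 + 2 * m := by ring
  rw [XZ, XZ, V, V, e, ch_add hI hm σ, ch_add hI hm σ]

include hI hm in
theorem XZ_add_mul (j k : ℤ) : R.XZ (a := a) (b := b) σ m (j + (2 * m) * k) =
    R.XZ (a := a) (b := b) σ m j := by
  induction k using Int.induction_on with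
  | zero => simp
  | succ k ih =>
    have e : j + 2 * (m : ℤ) * (k + 1) = j + 2 * m * k + 2 * m := by ring
    rw [e, R.XZ_add hI hm σ, ih]
  | pred k ih =>
    have e : j + 2 * (m : ℤ) * (-k) = j + 2 * m * (-k - 1) + 2 * m := by ring
    rw [e, R.XZ_add hI hm σ] at ih
    exact ih

/-- The root groups, indexed by `ZMod (2m)`. -/
def X (m : ℕ) (j : ZMod (2 * m)) : Subgroup G := R.XZ (a := a) (b := b) σ m (j.cast : ℤ)

include hI hm in
theorem X_int (j : ℤ) : R.X (a := a) (b := b) σ m (j : ZMod (2 * m)) =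
    R.XZ (a := a) (b := b) σ m j := by
  have hpos := m_pos cs hI hm
  have : NeZero (2 * m) := ⟨by omega⟩
  rw [X, ZMod.coe_intCast]
  have h1 := Int.emod_def j (2 * m : ℕ)
  have h2 := R.XZ_add_mul hI hm σ j (-(j / (2 * m : ℕ)))
  rw [← h2, h1]
  congr 1
  push_cast
  ring

/-- **[M]**: the root group system of a regular family. -/
def rootSys [IsSimpleGroup G] (h2m : 2 < m) {p : ℕ} (hp : p.Prime)
    (hU : ∀ c, IsPGroup p (R.U c)) : RootSys m G where
  X := R.X (a := a) (b := b) σ m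
  H := ⨅ j : ℤ, MulAction.stabilizer G (ch cs a b σ j)
  two_lt := h2m
  ne_bot := fun i => R.XZ_ne_bot hI hm σ _
  comm := by
    intro i k h1 h2
    obtain ⟨i, rfl⟩ := ZMod.intCast_surjective i
    have e : ∀ r : ℕ, (i : ZMod (2 * m)) + (r : ZMod (2 * m)) = ((i + r : ℤ) : ZMod (2 * m)) := by
      intro r
      push_cast
      rfl
    simp only [e, R.X_int hI hm σ]
    exact R.XZ_comm hI hm σ i h1 h2
  inter := by
    intro i
    obtain ⟨i, rfl⟩ := ZMod.intCast_surjective i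
    have e : ∀ r : ℕ, (i : ZMod (2 * m)) + (r : ZMod (2 * m)) = ((i + r : ℤ) : ZMod (2 * m)) := by
      intro r
      push_cast
      rfl
    simp only [e, R.X_int hI hm σ]
    exact R.XZ_inter hI hm σ i
  mu := by
    intro i u hu hu1
    obtain ⟨i, rfl⟩ := ZMod.intCast_surjective i
    rw [R.X_int hI hm σ] at hu
    have e : (i : ZMod (2 * m)) + (m : ZMod (2 * m)) = ((i + m : ℤ) : ZMod (2 * m)) := by
      push_cast
      rfl
    rw [e, R.X_int hI hm σ]
    obtain ⟨v, hv, v', hv', h⟩ := R.XZ_mu hI hm σ i hu hu1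
    refine ⟨v, hv, v', hv', fun j x => ?_⟩
    obtain ⟨j, rfl⟩ := ZMod.intCast_surjective j
    have e' : 2 * (i : ZMod (2 * m)) + (m : ZMod (2 * m)) - (j : ZMod (2 * m)) =
        ((2 * i + m - j : ℤ) : ZMod (2 * m)) := by
      push_cast
      rfl
    rw [e', R.X_int hI hm σ, R.X_int hI hm σ]
    exact R.conj_XZ hI hm σ h j x
  gen := by
    rw [eq_top_iff, ← R.XZ_gen hI hm σ]
    refine iSup_le fun j => ?_
    rw [← R.X_int hI hm σ]
    exact le_iSup (fun i => R.X (a := a) (b := b) σ m i) _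
  p := p
  prime := hp
  isPGroup := fun i => (hU _).to_le inf_le_left
  H_conj := by
    intro h hh i x hx
    have hfix : ∀ j, h • ch cs a b σ j = ch cs a b σ j := fun j => by
      rw [Subgroup.mem_iInf] at hh
      exact hh j
    obtain ⟨h1, h2⟩ := hx
    refine ⟨?_, ?_⟩
    · have := R.conj h _ x h1
      rwa [hfix] at this
    · have := R.conj h _ x h2
      rwa [hfix] at this

end Cfsg.Agent.SplitTwo.RegFam
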