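import Cfsg.Agent.SplitTwo.Glue
import Cfsg.Agent.SplitTwo.Moufang605

/-!
S1144, rank two: a finite simple group with a split (B,N)-pair of rank two has a root group system
`RootSys m G`, `m = 3, 4, 6, 8`, modulo

* `RankOneR` : the rank one fact (helper866's text);
* `NMain` : the output of [N] and the exception (helper168, helper17): the Fitting subgroups of the chamber
  stabilisers are `p`-groups, and they act regularly on the panels.
-/

set_option autoImplicit false
set_option linter.unusedSectionVars false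

namespace Cfsg.Agent.SplitTwo.Final

open Cfsg Cfsg.Agent.Tits.Core Cfsg.Agent.Tits.OppRes Cfsg.Agent.Tits.Rigid
open Cfsg.Agent.SplitTwo.Reducible Cfsg.Agent.SplitTwo.Glue MulAction Subgroup

universe u

/-- The output of [N] for one building. -/
structure Out {I : Type u} {M : CoxeterMatrix I} {W : Type u} [Group W] {cs : CoxeterSystem M W}
    {C : Type u} (Δ : Bldg cs C) (G : Type u) [Group G] [MulAction G C] : Prop where
  /-- the Fitting subgroups of the chamber stabilisers are `p`-groups -/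
  pgroup : ∃ p : ℕ, p.Prime ∧ ∀ c : C, IsPGroup p (fit G c)
  /-- they act regularly on the panels -/
  reg : ∀ (c : C) (s : I) (b : C), b ∈ Δ.Pan s c → b ≠ c → ∀ u ∈ fit G c, u • b = b →
    ∀ x ∈ Δ.Pan s c, u • x = x

/-- [N]. -/
def NMain : Prop :=
  ∀ (I : Type u) (M : CoxeterMatrix I) (W : Type u) [Group W] (cs : CoxeterSystem M W) (C : Type u)
    (Δ : Bldg cs C) (G : Type u) [Group G] [MulAction G C] [Finite I] [Finite W] [Finite C]
    [Finite G] [IsSimpleGroup G] (a b : I), a ≠ b → (∀ i, i = a ∨ i = b) → 2 < M a b →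
    M a b ≤ 8 →
    (∀ g : G, (∀ x : C, g • x = x) → g = 1) → (∀ c : C, Split Δ c (fit G c)) → Out Δ G

section Bldg

variable {I : Type u} {M : CoxeterMatrix I} {W : Type u} [Group W] {cs : CoxeterSystem M W}
variable {C : Type u} {Δ : Bldg cs C} [F : Cox cs] {G : Type u} [Group G] [Finite G] [MulAction G C]

omit [Finite G] in
theorem split_opp {c : C} {U : Subgroup G} (H : Split Δ c U) {d d' : C} (hd : Δ.Opp c d)
    (hd' : Δ.Opp c d') : ∃ u ∈ U, u • d = d' := H.sphere d d' (hd.trans hd'.symm)

/-- The regular family of the Fitting subgroups. -/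
def regFam (hf : ∀ g : G, (∀ x : C, g • x = x) → g = 1) (H : ∀ c : C, Split Δ c (fit G c))
    (O : Out Δ G) (c₀ : C) : RegFam Δ G where
  iso := (H c₀).iso
  faithful := hf
  thick := (H c₀).thick
  U := fit G
  fix := fun c u hu => smul_of_mem_fit G hu
  conj := fun g c u hu => conj_mem_fit G hu
  trans := fun c d d' hd hd' => split_opp (H c) hd hd'
  reg := fun c d i hd u hu hud e he => by
    have hdc : d ≠ c := by
      rintro rfl
      rw [(Δ.eq_one d d).2 rfl] at hd
      have := congrArg cs.length hd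
      rw [cs.length_one, cs.length_simple] at this
      omega
    have h1 := Glue.reg (H c₀).iso O.reg (c := c) (b := d) (s := i) (Or.inr hd) hdc hu hud
    exact ⟨h1.1 e he, h1.2 e he⟩

end Bldg

section BN

open Cfsg.Agent.LieExceptional.BNPairCore Cfsg.Agent.Tits.OfBN

/-- **[M] + glue**: the root group system of a simple group with a split (B,N)-pair of rank two. -/
theorem exists_rootSys (hN : NMain.{u}) {G : Type u} [Group G] [Finite G] [IsSimpleGroup G]
    (P : Cfsg.BNPair G) (hP : P.IsSplit) (hirr : P.Irreducible) (h2 : P.rank = 2) :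
    ∃ m : ℕ, (m = 3 ∨ m = 4 ∨ m = 6 ∨ m = 8) ∧ Nonempty (RootSys m G) := by
  obtain ⟨U, hUB, hUn, hUnil, hUT⟩ := hP
  obtain ⟨M, hBN⟩ := Tits.Labels.exists_bnType P
  have hlab := fun {i j : P.S} (hij : i ≠ j) => Tits.Labels.labels hBN hij
  obtain ⟨hNn, cs, hcs⟩ := hBN
  have hfin : Finite P.S := Nat.finite_of_card_ne_zero (by
    have : Nat.card P.S = 2 := h2
    omega)
  obtain ⟨a, b, hab, hS⟩ : ∃ a b : P.S, a ≠ b ∧ ∀ i, i = a ∨ i = b := by
    have h3 : Nat.card P.S = 2 := h2
    obtain ⟨a, b, hab, h4⟩ := Nat.card_eq_two_iff.mp h3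
    refine ⟨a, b, hab, fun i => ?_⟩
    have : i ∈ ({a, b} : Set P.S) := by rw [h4]; trivial
    simpa using this
  -- the label is not two
  have hM2 : M a b ≠ 2 := by
    intro h3
    obtain ⟨s, hs, s', hs', hss⟩ := hirr {(a : G)} (by
        rintro _ rfl
        exact a.2) ⟨a, rfl⟩ ⟨b, b.2, fun h => hab (Subtype.ext (by
        rw [Set.mem_singleton_iff] at h
        exact h.symm))⟩
    rw [Set.mem_singleton_iff] at hs
    subst hs
    have hs'b : s' = b := by
      rcases hS ⟨s', hs'.1⟩ with h4 | h4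
      · exact absurd (congrArg Subtype.val h4) hs'.2
      · exact congrArg Subtype.val h4
    subst hs'b
    apply hss
    have h4 : (cs.simple a * cs.simple b) ^ 2 = 1 := by
      have := cs.simple_mul_simple_pow a b
      rwa [h3] at this
    have ha2 := cs.simple_mul_simple_self a
    have hb2 := cs.simple_mul_simple_self b
    have h5 : cs.simple a * cs.simple b * (cs.simple a)⁻¹ * (cs.simple b)⁻¹ = 1 := by
      rw [cs.inv_simple, cs.inv_simple, ← h4, pow_two]
      group
    rw [hcs, hcs, ← QuotientGroup.mk_inv, ← QuotientGroup.mk_inv, ← QuotientGroup.mk_mul,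
      ← QuotientGroup.mk_mul, ← QuotientGroup.mk_mul, QuotientGroup.eq_one_iff,
      Subgroup.mem_subgroupOf] at h5
    exact h5.1
  have hlab' := hlab hab
  have hm : 2 < M a b := by omega
  -- the building
  set Δ := bldg P (Equiv.refl P.S) cs hcs with hΔ
  have hfinW : Finite (P.N ⧸ (P.B ⊓ P.N).subgroupOf P.N) := inferInstance
  have H := split_fit (split_of_bn P hUB hUn hUnil hUT (Equiv.refl P.S) cs hcs)
  have hcore := normalCore_eq_bot P ⟨a, a.2⟩
  have hf : ∀ g : G, (∀ x : G ⧸ P.B, g • x = x) → g = 1 := by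
    intro g hg
    have := faithful P hcore
    exact FaithfulSMul.eq_of_smul_eq_smul (α := G ⧸ P.B) fun x => by rw [hg x, one_smul]
  have O := hN P.S M _ cs (G ⧸ P.B) Δ G a b hab hS hm (by omega) hf H
  obtain ⟨p, hp, hpU⟩ := O.pgroup
  let c₀ : G ⧸ P.B := QuotientGroup.mk (1 : G)
  let R := regFam hf H O c₀
  obtain ⟨d, hd⟩ : ∃ d, Δ.Opp c₀ d := exists_delta Δ c₀ (w0 cs)
  obtain ⟨σ, -, -⟩ := Tits.Chart.exists_chart hd 1
  exact ⟨M a b, by omega, ⟨R.rootSys hS rfl σ hm hp hpU⟩⟩

end BN

end Cfsg.Agent.SplitTwo.Final
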