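import Cfsg.Agent.SplitTwo.ExcHyp168
import Cfsg.Agent.SplitTwo.ExcTwo
import Cfsg.Agent.SplitTwo.Final

/-!
S1144, [N]: `NMain` modulo the rank one fact `RankOneR`.
-/

set_option autoImplicit false
set_option linter.unusedSectionVars false

namespace Cfsg.Agent.SplitTwo.NMain168

open Cfsg Cfsg.Agent.Tits.Core Cfsg.Agent.Tits.OppRes Cfsg.Agent.Tits.Rigid
open Cfsg.Agent.SplitTwo.Reducible Cfsg.Agent.SplitTwo.Glue MulAction
open Cfsg.Agent.SplitTwo.N168 Cfsg.Agent.SplitTwo.Final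

universe u

/-- **[N]**. -/
theorem nMain (hR : RankOneR.{u}) : NMain.{u} := by
  intro I M W _ cs C Δ G _ _ _ _ _ _ _ a b hab hI hm3 hm8 hf H
  by_cases hC : Nonempty C
  · obtain ⟨c₀⟩ := hC
    obtain ⟨p, hp, hU, -⟩ := all hR hI hm3 hf H c₀
    refine ⟨⟨p, hp, hU⟩, ?_⟩
    intro c s d hd hdc w hw hwd x hx
    by_contra hne
    obtain rfl := two_of_ne hR hp (H c) (hU c) hd hdc hw hwd hx hne
    have hb : Bad Δ G s c := ⟨d, hd, hdc, w, hw, hwd, x, hx, hne⟩
    have : Nonempty C := ⟨c⟩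
    rcases hI s with rfl | rfl
    · exact (ExcHyp168.hyp hR hI hm3 hm8 hf H hU c hb).false
    · exact (ExcHyp168.hyp hR (fun k => (hI k).symm) (by
        rw [M.symmetric]
        exact hm3) (by
        rw [M.symmetric]
        exact hm8) hf H hU c hb).false
  · refine ⟨⟨2, Nat.prime_two, fun c => absurd ⟨c⟩ hC⟩, fun c => absurd ⟨c⟩ hC⟩

end Cfsg.Agent.SplitTwo.NMain168
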