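import Cfsg.Agent.SplitTwo.RankOneAll
import Cfsg.Agent.S1174

/-!
# The rank one fact `RankOneR` from the Hering–Kantor–Seitz theorem in even degree
-/

set_option autoImplicit false

namespace Cfsg.Agent.SplitTwo.RankOneCrit

universe v

/-- S1174 for all simple groups. -/
theorem critAll : RankOneAll.CritAll.{v} := fun _ _ _ _ S T hT hcl hC =>
  Cfsg.Agent.S1174.result S T hT hcl hC

/-- The odd degree case of the Kantor–Seitz theorem. -/
theorem oddConcl : KantorSeitz.OddConcl.{v} := RankOneAll.odd_concl critAll

/-- The rank one fact, from the Kantor–Seitz theorem in even degree. -/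
theorem rankOneR (hE : ∀ n, KantorSeitz.EvenHyp.{v} n) : Reducible.RankOneR.{v} :=
  RankOneAll.rankOneR hE critAll

/-- The rank one fact, from the Hering–Kantor–Seitz theorem in even degree. -/
theorem rankOneR_of_HKS (H : KantorSeitz.HKSEven.{v}) : Reducible.RankOneR.{v} :=
  rankOneR (KantorSeitz.evenHyp_of_HKSEven H)

end Cfsg.Agent.SplitTwo.RankOneCrit
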