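import Cfsg.Agent.SplitTwo.Assembly880
import Cfsg.Agent.SplitTwo.NMain168
import Cfsg.Agent.SplitTwo.RankOneCrit
import Cfsg.Agent.Hexagon.Final
import Cfsg.Agent.Octagon.Final171
import Cfsg.Agent.S1143

/-!
S1144 from the Hering–Kantor–Seitz theorem: every other ingredient plugged in.
-/

set_option autoImplicit false

namespace Cfsg.Agent.SplitTwo.Ready880

open Cfsg.Agent Cfsg.Agent.SplitTwo
open Cfsg.Agent.TitsThree.Top (LieConcl)

universe u

/-- S1144 from HKS (even degree, permutation form) and S1146. -/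
theorem main (hK : KantorSeitz.HKSEven.{u})
    (hA : ∀ (G : Type u) [Group G] [Finite G] [IsSimpleGroup G] (P : Cfsg.BNPair G),
      P.rank = 1 → P.IsSplit → Assembly880.RankOneConcl G)
    {G : Type u} [Group G] [Finite G] [IsSimpleGroup G]
    (P : Cfsg.BNPair G) (h1 : 1 ≤ P.rank) (hsplit : P.IsSplit) : LieConcl G := by
  have hR : Reducible.RankOneR.{u} := RankOneCrit.rankOneR_of_HKS hK
  exact Assembly880.main hR (NMain168.nMain hR)
    (fun G _ _ _ R => Cfsg.Agent.Hexagon.Final.lieConcl R)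
    (fun G _ _ _ R => Cfsg.Agent.Octagon.Final171.lieConcl G R)
    hA (fun G _ _ _ P h hi => Cfsg.Agent.S1143.result P h hi) P h1 hsplit

end Cfsg.Agent.SplitTwo.Ready880
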