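import Mathlib
import Cfsg.Prelude.Def_LieRecognition
import Cfsg.Prelude.Def_Classification2
import Cfsg.Agent.S0276
import Cfsg.Agent.S0144
import Cfsg.Agent.S0282

/-!
S1144: glue for the rank one case, and non-commutativity of a group with a (B,N)-pair of rank at least one.
-/

set_option autoImplicit false
open Cfsg

namespace Cfsg.Agent.SplitTwo.Assemble880

/-- A group with a (B,N)-pair of positive rank is not commutative. -/
theorem not_comm {G : Type*} [Group G] (P : Cfsg.BNPair G) (h : 1 ≤ P.rank) :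
    ¬ ∀ a b : G, a * b = b * a := by
  intro hc
  have hne : P.S.Nonempty := by
    rw [Set.nonempty_iff_ne_empty]
    intro h0
    have : P.rank = 0 := by
      unfold Cfsg.BNPair.rank
      rw [h0]
      simp
    omega
  obtain ⟨s, hs⟩ := hne
  have hss := P.sq_mem s hs
  refine P.conj_ne s hs ?_
  ext x
  constructor
  · rintro ⟨b, hb, rfl⟩
    have : s * b * s = b * (s * s) := by rw [hc s b, mul_assoc]
    change s * b * s ∈ P.B
    rw [this]
    exact P.B.mul_mem hb hss
  · intro hx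
    refine ⟨x * (s * s)⁻¹, P.B.mul_mem hx (P.B.inv_mem hss), ?_⟩
    change s * (x * (s * s)⁻¹) * s = x
    rw [hc s (x * (s * s)⁻¹)]
    group

/-- A non-commutative simple group is not solvable. -/
theorem not_solvable {G : Type*} [Group G] [IsSimpleGroup G] (h : ¬ ∀ a b : G, a * b = b * a) :
    ¬ Group.IsSolvable G := fun hs => h (IsSimpleGroup.comm_iff_isSolvable.mpr hs)

theorem isSolvable_of_dvd {G : Type*} [Group G] [Finite G] (h : Nat.card G ∣ 24) : Group.IsSolvable G := by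
  have h1 : Nat.card G ∈ Nat.divisors 24 := Nat.mem_divisors.mpr ⟨h, by norm_num⟩
  have h2 : ∀ n ∈ Nat.divisors 24, ∃ a < 4, ∃ b < 2, n = 2 ^ a * 3 ^ b := by decide
  obtain ⟨a, -, b, -, hab⟩ := h2 _ h1
  exact Cfsg.Agent.S0144.result 2 3 a b Nat.prime_two Nat.prime_three hab

/-- The conclusion of S1146 implies the conclusion of S1144. -/
theorem lie_of_rankOne {G : Type*} [Group G] [Finite G] [IsSimpleGroup G]
    (hna : ¬ ∀ a b : G, a * b = b * a)
    (h : (∃ (F : Type) (_ : Field F) (_ : Fintype F),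
        Nonempty (G ≃* Matrix.ProjectiveSpecialLinearGroup (Fin 2) F)) ∨
      (∃ (F : Type) (_ : Field F) (_ : Fintype F) (q : ℕ), Fintype.card F = q ^ 2 ∧
        Nonempty (G ≃* Cfsg.PSU 3 F q)) ∨ Cfsg.Lie.IsoSuzuki G ∨ Cfsg.Lie.IsoRee G) :
    Cfsg.IsPSL G ∨ Cfsg.IsPSp G ∨ Cfsg.IsPSU G ∨ Cfsg.IsPOmegaOdd G ∨ Cfsg.IsPOmegaPlus G ∨ Cfsg.IsPOmegaMinus G ∨
      Cfsg.IsExceptionalLieType G := by
  have hns := not_solvable hna
  rcases h with ⟨F, i1, i2, ⟨e⟩⟩ | ⟨F, i1, i2, q, hq, ⟨e⟩⟩ | h | h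
  · left
    refine ⟨F, i1, i2, 2, le_rfl, fun _ => ?_, ⟨e⟩⟩
    by_contra h4
    have hF : 2 ≤ Fintype.card F := Fintype.one_lt_card
    apply hns
    apply isSolvable_of_dvd
    rw [Nat.card_congr e.toEquiv]
    have h5 : Nat.card (Matrix.ProjectiveSpecialLinearGroup (Fin 2) F) ∣
        Nat.card (Matrix.SpecialLinearGroup (Fin 2) F) :=
      Subgroup.card_quotient_dvd_card _
    refine h5.trans ?_
    rw [Cfsg.Agent.S0276.card_sl_two (F := F) rfl]
    have : Fintype.card F = 2 ∨ Fintype.card F = 3 := by omega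
    rcases this with h6 | h6 <;> rw [h6] <;> norm_num
  · right; right; left
    refine ⟨F, i1, i2, 3, q, hq, le_rfl, ?_, ⟨e⟩⟩
    rintro ⟨-, rfl⟩
    obtain ⟨-, h6⟩ := Cfsg.Agent.S0282.result (F := F) (by rw [hq]; norm_num)
    have : Group.IsSolvable G := Group.isSolvable_of_surjective (f := e.symm.toMonoidHom) e.symm.surjective
    exact hns this
  · exact Or.inr (Or.inr (Or.inr (Or.inr (Or.inr (Or.inr
      (Or.inr (Or.inr (Or.inr (Or.inr (Or.inr (Or.inr (Or.inr (Or.inl h)))))))))))))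
  · exact Or.inr (Or.inr (Or.inr (Or.inr (Or.inr (Or.inr
      (Or.inr (Or.inr (Or.inr (Or.inr (Or.inr (Or.inr (Or.inr (Or.inr (Or.inl h))))))))))))))

end Cfsg.Agent.SplitTwo.Assemble880
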