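import Mathlib.Algebra.Group.Subgroup.Basic
import Mathlib.Algebra.Group.Commute.Basic
import Mathlib.Tactic.Group
import Mathlib.Tactic.ByContra

/-!
# Abstract Moufang quadrangles: the four positive root groups

`U1, U2, U3, U4` are subgroups of a group `G`, `m a` (`1 ≠ a ∈ U1`) and `n x` (`1 ≠ x ∈ U4`) are
elements of `G` (`m a = μ(a)⁻¹`, `n x = μ(x)`).  Everything is written with left conjugation
`g ↦ m g m⁻¹` and the commutator `κ u v = u⁻¹ v u v⁻¹`.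

The structure is stable under reversal `(U4, U3, U2, U1)`.
-/

set_option autoImplicit false

namespace Cfsg.Agent.SplitTwo.QuadBase

variable {G : Type*} [Group G]

/-- The commutator `u⁻¹ v u v⁻¹`. -/
def κ (u v : G) : G := u⁻¹ * v * u * v⁻¹

/-- Four positive root groups of a Moufang quadrangle with the elements `m a = μ(a)⁻¹`
(`a ∈ U1`) and `n x = μ(x)` (`x ∈ U4`). -/
structure Quad (U1 U2 U3 U4 : Subgroup G) (m n : G → G) : Prop where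
  c12 : ∀ a ∈ U1, ∀ b ∈ U2, Commute a b
  c23 : ∀ b ∈ U2, ∀ c ∈ U3, Commute b c
  c34 : ∀ c ∈ U3, ∀ x ∈ U4, Commute c x
  inf23 : ∀ b ∈ U2, b ∈ U3 → b = 1
  k13 : ∀ a ∈ U1, ∀ c ∈ U3, κ a c ∈ U2
  k24 : ∀ b ∈ U2, ∀ x ∈ U4, κ b x ∈ U3
  k14 : ∀ a ∈ U1, a ≠ 1 → ∀ x ∈ U4, x ≠ 1 →
    κ a x = (m a * x * (m a)⁻¹) * (n x * a * (n x)⁻¹)
  m_inv : ∀ a ∈ U1, a ≠ 1 → m a⁻¹ = (m a)⁻¹
  n_inv : ∀ x ∈ U4, x ≠ 1 → n x⁻¹ = (n x)⁻¹
  m4 : ∀ a ∈ U1, a ≠ 1 → ∀ x ∈ U4, m a * x * (m a)⁻¹ ∈ U2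
  m2 : ∀ a ∈ U1, a ≠ 1 → ∀ b ∈ U2, m a * b * (m a)⁻¹ ∈ U4
  m3 : ∀ a ∈ U1, a ≠ 1 → ∀ c ∈ U3, m a * c * (m a)⁻¹ ∈ U3
  n1 : ∀ x ∈ U4, x ≠ 1 → ∀ a ∈ U1, n x * a * (n x)⁻¹ ∈ U3
  n3 : ∀ x ∈ U4, x ≠ 1 → ∀ c ∈ U3, n x * c * (n x)⁻¹ ∈ U1
  n2 : ∀ x ∈ U4, x ≠ 1 → ∀ b ∈ U2, n x * b * (n x)⁻¹ ∈ U2
  /-- `(m b)⁻¹ * m a` normalises `U1` (hence all four groups). -/
  mm1 : ∀ a ∈ U1, a ≠ 1 → ∀ b ∈ U1, b ≠ 1 → ∀ c ∈ U1,
    ((m b)⁻¹ * m a) * c * ((m b)⁻¹ * m a)⁻¹ ∈ U1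
  /-- `(n y)⁻¹ * n x` normalises `U4` (hence all four groups). -/
  nn4 : ∀ x ∈ U4, x ≠ 1 → ∀ y ∈ U4, y ≠ 1 → ∀ z ∈ U4,
    ((n y)⁻¹ * n x) * z * ((n y)⁻¹ * n x)⁻¹ ∈ U4
  fix3 : ∀ a ∈ U1, a ≠ 1 → ∀ c ∈ U3, (∀ a' ∈ U1, Commute a' c) → m a * c * (m a)⁻¹ = c
  fix2 : ∀ x ∈ U4, x ≠ 1 → ∀ b ∈ U2, (∀ x' ∈ U4, Commute x' b) → n x * b * (n x)⁻¹ = b

theorem κ_inv_inv (u v : G) : (κ u⁻¹ v⁻¹)⁻¹ = κ v u := by unfold κ; group

theorem κ_one_left (v : G) : κ 1 v = 1 := by unfold κ; group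

theorem κ_one_right (u : G) : κ u 1 = 1 := by unfold κ; group

theorem κ_eq_one_iff {u v : G} : κ u v = 1 ↔ Commute u v := by
  unfold κ
  constructor
  · intro h
    have h1 : v * u = u * v := by
      have h2 : u⁻¹ * v * u = v := by
        have := mul_eq_one_iff_eq_inv.1 h
        rw [inv_inv] at this
        exact this
      calc v * u = u * (u⁻¹ * v * u) := by group
        _ = u * v := by rw [h2]
    exact h1.symm
  · intro h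
    rw [mul_assoc u⁻¹ v u, h.eq.symm]
    group

theorem κ_conj (g u v : G) : g * κ u v * g⁻¹ = κ (g * u * g⁻¹) (g * v * g⁻¹) := by
  unfold κ; group

namespace Quad

variable {U1 U2 U3 U4 : Subgroup G} {m n : G → G}

/-- Reversal. -/
theorem rev (h : Quad U1 U2 U3 U4 m n) :
    Quad U4 U3 U2 U1 (fun x => (n x)⁻¹) (fun a => (m a)⁻¹) where
  c12 x hx c hc := (h.c34 c hc x hx).symm
  c23 c hc b hb := (h.c23 b hb c hc).symm
  c34 b hb a ha := (h.c12 a ha b hb).symm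
  inf23 c hc hb := h.inf23 c hb hc
  k13 x hx b hb := by
    rw [← κ_inv_inv]
    exact U3.inv_mem (h.k24 _ (U2.inv_mem hb) _ (U4.inv_mem hx))
  k24 c hc a ha := by
    rw [← κ_inv_inv]
    exact U2.inv_mem (h.k13 _ (U1.inv_mem ha) _ (U3.inv_mem hc))
  k14 x hx hx1 a ha ha1 := by
    have h1 := h.k14 a⁻¹ (U1.inv_mem ha) (inv_ne_one.2 ha1) x⁻¹ (U4.inv_mem hx) (inv_ne_one.2 hx1)
    rw [← κ_inv_inv, h1, h.m_inv a ha ha1, h.n_inv x hx hx1, mul_inv_rev]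
    group
  m_inv x hx hx1 := by rw [h.n_inv x hx hx1]
  n_inv a ha ha1 := by rw [h.m_inv a ha ha1]
  m4 x hx hx1 a ha := by
    rw [← h.n_inv x hx hx1]
    exact h.n1 _ (U4.inv_mem hx) (inv_ne_one.2 hx1) a ha
  m2 x hx hx1 c hc := by
    rw [← h.n_inv x hx hx1]
    exact h.n3 _ (U4.inv_mem hx) (inv_ne_one.2 hx1) c hc
  m3 x hx hx1 b hb := by
    rw [← h.n_inv x hx hx1]
    exact h.n2 _ (U4.inv_mem hx) (inv_ne_one.2 hx1) b hb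
  n1 a ha ha1 x hx := by
    rw [← h.m_inv a ha ha1]
    exact h.m4 _ (U1.inv_mem ha) (inv_ne_one.2 ha1) x hx
  n3 a ha ha1 b hb := by
    rw [← h.m_inv a ha ha1]
    exact h.m2 _ (U1.inv_mem ha) (inv_ne_one.2 ha1) b hb
  n2 a ha ha1 c hc := by
    rw [← h.m_inv a ha ha1]
    exact h.m3 _ (U1.inv_mem ha) (inv_ne_one.2 ha1) c hc
  mm1 x hx hx1 y hy hy1 z hz := by
    rw [← h.n_inv x hx hx1, ← h.n_inv y hy hy1]
    exact h.nn4 _ (U4.inv_mem hx) (inv_ne_one.2 hx1) _ (U4.inv_mem hy) (inv_ne_one.2 hy1) z hz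
  nn4 a ha ha1 b hb hb1 c hc := by
    rw [← h.m_inv a ha ha1, ← h.m_inv b hb hb1]
    exact h.mm1 _ (U1.inv_mem ha) (inv_ne_one.2 ha1) _ (U1.inv_mem hb) (inv_ne_one.2 hb1) c hc
  fix3 x hx hx1 b hb hc := by
    rw [← h.n_inv x hx hx1]
    exact h.fix2 _ (U4.inv_mem hx) (inv_ne_one.2 hx1) b hb hc
  fix2 a ha ha1 c hc hcc := by
    rw [← h.m_inv a ha ha1]
    exact h.fix3 _ (U1.inv_mem ha) (inv_ne_one.2 ha1) c hc hcc

end Quad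

/-! ### The maps `Φ` -/

open Classical in
/-- `Φ m a x = m a * x * (m a)⁻¹`, and `1` if `a = 1`. -/
noncomputable def Φ (m : G → G) (a x : G) : G := if a = 1 then 1 else m a * x * (m a)⁻¹

theorem Φ_ne (m : G → G) {a : G} (ha : a ≠ 1) (x : G) : Φ m a x = m a * x * (m a)⁻¹ :=
  if_neg ha

@[simp] theorem Φ_one_left (m : G → G) (x : G) : Φ m 1 x = 1 := if_pos rfl

@[simp] theorem Φ_one_right (m : G → G) (a : G) : Φ m a 1 = 1 := by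
  by_cases h : a = 1
  · rw [h, Φ_one_left]
  · rw [Φ_ne m h]; group

theorem Φ_mul (m : G → G) (a x y : G) : Φ m a (x * y) = Φ m a x * Φ m a y := by
  by_cases h : a = 1
  · simp [h]
  · simp only [Φ_ne m h]; group

theorem Φ_inv (m : G → G) (a x : G) : Φ m a x⁻¹ = (Φ m a x)⁻¹ := by
  by_cases h : a = 1
  · simp [h]
  · simp only [Φ_ne m h]; group

theorem Φ_inj (m : G → G) {a : G} (ha : a ≠ 1) {x y : G} (h : Φ m a x = Φ m a y) : x = y := by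
  rw [Φ_ne m ha, Φ_ne m ha] at h
  exact mul_left_cancel (mul_right_cancel h)

/-- Conjugation by `g` maps each of the four groups into itself. -/
structure Nrm (U1 U2 U3 U4 : Subgroup G) (g : G) : Prop where
  u1 : ∀ a ∈ U1, g * a * g⁻¹ ∈ U1
  u2 : ∀ b ∈ U2, g * b * g⁻¹ ∈ U2
  u3 : ∀ c ∈ U3, g * c * g⁻¹ ∈ U3
  u4 : ∀ x ∈ U4, g * x * g⁻¹ ∈ U4

theorem Nrm.rev {U1 U2 U3 U4 : Subgroup G} {g : G} (h : Nrm U1 U2 U3 U4 g) :
    Nrm U4 U3 U2 U1 g := ⟨h.u4, h.u3, h.u2, h.u1⟩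

namespace Quad

variable {U1 U2 U3 U4 : Subgroup G} {m n : G → G} (h : Quad U1 U2 U3 U4 m n)
include h

theorem Φ_mem {a : G} (ha : a ∈ U1) {x : G} (hx : x ∈ U4) : Φ m a x ∈ U2 := by
  by_cases h1 : a = 1
  · rw [h1, Φ_one_left]; exact U2.one_mem
  · rw [Φ_ne m h1]; exact h.m4 a ha h1 x hx

theorem Ψ_mem {x : G} (hx : x ∈ U4) {a : G} (ha : a ∈ U1) : Φ n x a ∈ U3 := by
  by_cases h1 : x = 1
  · rw [h1, Φ_one_left]; exact U3.one_mem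
  · rw [Φ_ne n h1]; exact h.n1 x hx h1 a ha

theorem Φ_surj {a : G} (ha : a ∈ U1) (h1 : a ≠ 1) {b : G} (hb : b ∈ U2) :
    ∃ x ∈ U4, Φ m a x = b := by
  refine ⟨(m a)⁻¹ * b * m a, ?_, ?_⟩
  · have := h.m2 a⁻¹ (U1.inv_mem ha) (inv_ne_one.2 h1) b hb
    rwa [h.m_inv a ha h1, inv_inv] at this
  · rw [Φ_ne m h1]; group

theorem Ψ_surj {x : G} (hx : x ∈ U4) (h1 : x ≠ 1) {c : G} (hc : c ∈ U3) :
    ∃ a ∈ U1, Φ n x a = c := by
  refine ⟨(n x)⁻¹ * c * n x, ?_, ?_⟩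
  · have := h.n3 x⁻¹ (U4.inv_mem hx) (inv_ne_one.2 h1) c hc
    rwa [h.n_inv x hx h1, inv_inv] at this
  · rw [Φ_ne n h1]; group

/-- The commutator of `U1` and `U4`, without exceptions. -/
theorem k {a : G} (ha : a ∈ U1) {x : G} (hx : x ∈ U4) : κ a x = Φ m a x * Φ n x a := by
  by_cases ha1 : a = 1
  · rw [ha1, κ_one_left, Φ_one_left, Φ_one_right, one_mul]
  by_cases hx1 : x = 1
  · rw [hx1, κ_one_right, Φ_one_left, Φ_one_right, one_mul]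
  rw [Φ_ne m ha1, Φ_ne n hx1]
  exact h.k14 a ha ha1 x hx hx1

/-- Uniqueness of the decomposition in `U2 U3`. -/
theorem uniq {b b' c c' : G} (hb : b ∈ U2) (hb' : b' ∈ U2) (hc : c ∈ U3) (hc' : c' ∈ U3)
    (e : b * c = b' * c') : b = b' ∧ c = c' := by
  have h1 : b'⁻¹ * b = c' * c⁻¹ := by
    calc b'⁻¹ * b = b'⁻¹ * (b * c) * c⁻¹ := by group
      _ = c' * c⁻¹ := by rw [e]; group
  have h2 : b'⁻¹ * b = 1 :=
    h.inf23 _ (U2.mul_mem (U2.inv_mem hb') hb) (h1 ▸ U3.mul_mem hc' (U3.inv_mem hc))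
  have h3 : b = b' := (inv_mul_eq_one.1 h2).symm
  subst h3
  exact ⟨rfl, mul_left_cancel e⟩

/-! ### `κ` on `U1 × U3` and `U2 × U4` -/

theorem κ13_comm2 {a c b : G} (ha : a ∈ U1) (hc : c ∈ U3) (hb : b ∈ U2) : Commute (κ a c) b := by
  have h1 := h.c12 a ha b hb
  have h2 := (h.c23 b hb c hc).symm
  unfold κ
  exact ((h1.inv_left.mul_left h2).mul_left h1).mul_left h2.inv_left

theorem κ13_comm1 {a c a' : G} (ha : a ∈ U1) (hc : c ∈ U3) (ha' : a' ∈ U1) :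
    Commute (κ a c) a' := (h.c12 a' ha' _ (h.k13 a ha c hc)).symm

theorem κ13_comm3 {a c c' : G} (ha : a ∈ U1) (hc : c ∈ U3) (hc' : c' ∈ U3) :
    Commute (κ a c) c' := h.c23 _ (h.k13 a ha c hc) c' hc'

theorem κ13_mul_left {a a' c : G} (ha : a ∈ U1) (ha' : a' ∈ U1) (hc : c ∈ U3) :
    κ (a * a') c = κ a c * κ a' c := by
  have h1 : κ (a * a') c = a'⁻¹ * κ a c * a' * κ a' c := by unfold κ; group
  have h2 : a'⁻¹ * κ a c * a' = κ a c := by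
    rw [mul_assoc, (h.κ13_comm1 ha hc ha').eq]; group
  rw [h1, h2]

theorem κ13_mul_right {a c c' : G} (ha : a ∈ U1) (hc : c ∈ U3) (hc' : c' ∈ U3) :
    κ a (c * c') = κ a c * κ a c' := by
  have h1 : κ a (c * c') = κ a c * (c * κ a c' * c⁻¹) := by unfold κ; group
  have h2 : c * κ a c' * c⁻¹ = κ a c' := by
    rw [(h.κ13_comm3 ha hc' hc).eq.symm]; group
  rw [h1, h2]

theorem κ24_mul_left {b b' x : G} (hb : b ∈ U2) (hb' : b' ∈ U2) (hx : x ∈ U4) :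
    κ (b * b') x = κ b x * κ b' x := by
  have h1 : κ (b * b') x = b'⁻¹ * κ b x * b' * κ b' x := by unfold κ; group
  have h2 : b'⁻¹ * κ b x * b' = κ b x := by
    rw [mul_assoc, ((h.c23 b' hb' _ (h.k24 b hb x hx)).symm).eq]; group
  rw [h1, h2]

theorem κ24_mul_right {b x x' : G} (hb : b ∈ U2) (hx : x ∈ U4) (hx' : x' ∈ U4) :
    κ b (x * x') = κ b x * κ b x' := by
  have h1 : κ b (x * x') = κ b x * (x * κ b x' * x⁻¹) := by unfold κ; group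
  have h2 : x * κ b x' * x⁻¹ = κ b x' := by
    rw [((h.c34 _ (h.k24 b hb x' hx') x hx)).eq.symm]; group
  rw [h1, h2]

theorem κ24_comm3 {b x c : G} (hb : b ∈ U2) (hx : x ∈ U4) (hc : c ∈ U3) : Commute (κ b x) c := by
  have h1 := h.c23 b hb c hc
  have h2 := (h.c34 c hc x hx).symm
  unfold κ
  exact ((h1.inv_left.mul_left h2).mul_left h1).mul_left h2.inv_left

/-! ### The two expansion formulas -/

/-- `(*)` -/
theorem star {a b x : G} (ha : a ∈ U1) (hb : b ∈ U1) (hx : x ∈ U4) :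
    Φ m (a * b) x = Φ m a x * κ b (Φ n x a) * Φ m b x := by
  have hab := U1.mul_mem ha hb
  have e1 : κ (a * b) x = b⁻¹ * κ a x * b * κ b x := by unfold κ; group
  rw [h.k hab hx, h.k ha hx, h.k hb hx] at e1
  have c1 : Commute b (Φ m a x) := h.c12 b hb _ (h.Φ_mem ha hx)
  have c2 : Commute (Φ n x a) (Φ m b x) := (h.c23 _ (h.Φ_mem hb hx) _ (h.Ψ_mem hx ha)).symm
  have e2 : b⁻¹ * (Φ m a x * Φ n x a) * b * (Φ m b x * Φ n x b) =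
      (Φ m a x * κ b (Φ n x a) * Φ m b x) * (Φ n x (a * b)) := by
    rw [Φ_mul]
    calc b⁻¹ * (Φ m a x * Φ n x a) * b * (Φ m b x * Φ n x b)
        = (b⁻¹ * Φ m a x * b) * (κ b (Φ n x a)) * (Φ n x a * Φ m b x) * Φ n x b := by
          unfold κ; group
      _ = Φ m a x * κ b (Φ n x a) * Φ m b x * (Φ n x a * Φ n x b) := by
          rw [c2.eq, show b⁻¹ * Φ m a x * b = Φ m a x by rw [mul_assoc, c1.eq.symm]; group]
          group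
  rw [e2] at e1
  exact (h.uniq (h.Φ_mem hab hx)
    (U2.mul_mem (U2.mul_mem (h.Φ_mem ha hx) (h.k13 b hb _ (h.Ψ_mem hx ha))) (h.Φ_mem hb hx))
    (h.Ψ_mem hx hab) (h.Ψ_mem hx hab) e1).1

/-- `(**)` -/
theorem star' {a x y : G} (ha : a ∈ U1) (hx : x ∈ U4) (hy : y ∈ U4) :
    Φ n (x * y) a = Φ n x a * κ (Φ m a y) x * Φ n y a := by
  have hxy := U4.mul_mem hx hy
  have e1 : κ a (x * y) = κ a x * (x * κ a y * x⁻¹) := by unfold κ; group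
  rw [h.k ha hxy, h.k ha hx, h.k ha hy] at e1
  have c1 : Commute (Φ n y a) x := h.c34 _ (h.Ψ_mem hy ha) x hx
  have c2 : Commute (Φ m a y) (Φ n x a) := h.c23 _ (h.Φ_mem ha hy) _ (h.Ψ_mem hx ha)
  have e2 : (Φ m a x * Φ n x a) * (x * (Φ m a y * Φ n y a) * x⁻¹) =
      Φ m a (x * y) * (Φ n x a * κ (Φ m a y) x * Φ n y a) := by
    rw [Φ_mul]
    calc (Φ m a x * Φ n x a) * (x * (Φ m a y * Φ n y a) * x⁻¹)
        = Φ m a x * (Φ n x a * Φ m a y) * κ (Φ m a y) x * (x * Φ n y a * x⁻¹) := by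
          unfold κ; group
      _ = Φ m a x * Φ m a y * (Φ n x a * κ (Φ m a y) x * Φ n y a) := by
          rw [c2.eq.symm, c1.eq.symm]; group
  rw [e2] at e1
  exact (h.uniq (h.Φ_mem ha hxy) (h.Φ_mem ha hxy) (h.Ψ_mem hxy ha)
    (U3.mul_mem (U3.mul_mem (h.Ψ_mem hx ha) (h.k24 _ (h.Φ_mem ha hy) x hx)) (h.Ψ_mem hy ha))
    e1).2

/-! ### Equivariance -/

theorem equiv {g : G} (hg : Nrm U1 U2 U3 U4 g) {a x : G} (ha : a ∈ U1) (hx : x ∈ U4) :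
    Φ m (g * a * g⁻¹) (g * x * g⁻¹) = g * Φ m a x * g⁻¹ ∧
      Φ n (g * x * g⁻¹) (g * a * g⁻¹) = g * Φ n x a * g⁻¹ := by
  have e := κ_conj g a x
  rw [h.k ha hx, h.k (hg.u1 a ha) (hg.u4 x hx)] at e
  have e' : g * (Φ m a x * Φ n x a) * g⁻¹ = (g * Φ m a x * g⁻¹) * (g * Φ n x a * g⁻¹) := by group
  rw [e'] at e
  have := h.uniq (hg.u2 _ (h.Φ_mem ha hx)) (h.Φ_mem (hg.u1 a ha) (hg.u4 x hx))
    (hg.u3 _ (h.Ψ_mem hx ha)) (h.Ψ_mem (hg.u4 x hx) (hg.u1 a ha)) e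
  exact ⟨this.1.symm, this.2.symm⟩

theorem nrm_m {a b : G} (ha : a ∈ U1) (ha1 : a ≠ 1) (hb : b ∈ U1) (hb1 : b ≠ 1) :
    Nrm U1 U2 U3 U4 ((m b)⁻¹ * m a) where
  u1 c hc := h.mm1 a ha ha1 b hb hb1 c hc
  u2 y hy := by
    have h1 := h.m4 b⁻¹ (U1.inv_mem hb) (inv_ne_one.2 hb1) _ (h.m2 a ha ha1 y hy)
    rw [h.m_inv b hb hb1] at h1
    convert h1 using 1; group
  u3 y hy := by
    have h1 := h.m3 b⁻¹ (U1.inv_mem hb) (inv_ne_one.2 hb1) _ (h.m3 a ha ha1 y hy)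
    rw [h.m_inv b hb hb1] at h1
    convert h1 using 1; group
  u4 y hy := by
    have h1 := h.m2 b⁻¹ (U1.inv_mem hb) (inv_ne_one.2 hb1) _ (h.m4 a ha ha1 y hy)
    rw [h.m_inv b hb hb1] at h1
    convert h1 using 1; group

theorem nrm_n {x y : G} (hx : x ∈ U4) (hx1 : x ≠ 1) (hy : y ∈ U4) (hy1 : y ≠ 1) :
    Nrm U1 U2 U3 U4 ((n y)⁻¹ * n x) where
  u4 c hc := h.nn4 x hx hx1 y hy hy1 c hc
  u2 b hb := by
    have h1 := h.n2 y⁻¹ (U4.inv_mem hy) (inv_ne_one.2 hy1) _ (h.n2 x hx hx1 b hb)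
    rw [h.n_inv y hy hy1] at h1
    convert h1 using 1; group
  u3 b hb := by
    have h1 := h.n1 y⁻¹ (U4.inv_mem hy) (inv_ne_one.2 hy1) _ (h.n3 x hx hx1 b hb)
    rw [h.n_inv y hy hy1] at h1
    convert h1 using 1; group
  u1 b hb := by
    have h1 := h.n3 y⁻¹ (U4.inv_mem hy) (inv_ne_one.2 hy1) _ (h.n1 x hx hx1 b hb)
    rw [h.n_inv y hy hy1] at h1
    convert h1 using 1; group

omit h in
/-- the action of `(m b)⁻¹ * m a` on `U4` -/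
theorem Φ_nrm_m (m : G → G) {a b : G} (ha1 : a ≠ 1) (hb1 : b ≠ 1) (x : G) :
    Φ m b (((m b)⁻¹ * m a) * x * ((m b)⁻¹ * m a)⁻¹) = Φ m a x := by
  rw [Φ_ne m hb1, Φ_ne m ha1]; group

/-- the action of `(m b)⁻¹ * m a` on `U2` -/
theorem nrm_m_Φ {a b : G} (ha : a ∈ U1) (ha1 : a ≠ 1) (hb : b ∈ U1) (hb1 : b ≠ 1) (x : G) :
    ((m b)⁻¹ * m a) * Φ m a⁻¹ x * ((m b)⁻¹ * m a)⁻¹ = Φ m b⁻¹ x := by
  rw [Φ_ne m (inv_ne_one.2 hb1), Φ_ne m (inv_ne_one.2 ha1), h.m_inv a ha ha1, h.m_inv b hb hb1]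
  group

/-- the action of `(n y)⁻¹ * n x` on `U3` -/
theorem nrm_n_Ψ {x y : G} (hx : x ∈ U4) (hx1 : x ≠ 1) (hy : y ∈ U4) (hy1 : y ≠ 1) (a : G) :
    ((n y)⁻¹ * n x) * Φ n x⁻¹ a * ((n y)⁻¹ * n x)⁻¹ = Φ n y⁻¹ a := by
  rw [Φ_ne n (inv_ne_one.2 hx1), Φ_ne n (inv_ne_one.2 hy1), h.n_inv x hx hx1, h.n_inv y hy hy1]
  group

/-! ### Abelian root groups -/

/-- If a nontrivial element of `U1` centralises `U3` then `U2` is abelian. -/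
theorem comm2_of_Y1 {a : G} (ha : a ∈ U1) (ha1 : a ≠ 1) (hc : ∀ c ∈ U3, Commute a c) :
    ∀ b ∈ U2, ∀ b' ∈ U2, Commute b b' := by
  have hsq : ∀ x ∈ U4, Φ m (a * a) x = Φ m a x * Φ m a x := by
    intro x hx
    rw [h.star ha ha hx, κ_eq_one_iff.2 (hc _ (h.Ψ_mem hx ha)), mul_one]
  intro b hb b' hb'
  obtain ⟨x, hx, rfl⟩ := h.Φ_surj ha ha1 hb
  obtain ⟨y, hy, rfl⟩ := h.Φ_surj ha ha1 hb'
  have e := Φ_mul m (a * a) x y
  rw [hsq _ (U4.mul_mem hx hy), hsq x hx, hsq y hy, Φ_mul] at e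
  have e2 : Φ m a y * Φ m a x = Φ m a x * Φ m a y := by
    have : Φ m a x * (Φ m a y * Φ m a x) * Φ m a y = Φ m a x * (Φ m a x * Φ m a y) * Φ m a y := by
      calc Φ m a x * (Φ m a y * Φ m a x) * Φ m a y
          = Φ m a x * Φ m a y * (Φ m a x * Φ m a y) := by group
        _ = Φ m a x * Φ m a x * (Φ m a y * Φ m a y) := e
        _ = Φ m a x * (Φ m a x * Φ m a y) * Φ m a y := by group
    exact mul_left_cancel (mul_right_cancel this)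
  exact e2.symm

/-- If `U2` is abelian then `U4` is abelian. -/
theorem comm4_of_comm2 {a : G} (ha : a ∈ U1) (ha1 : a ≠ 1)
    (hc : ∀ b ∈ U2, ∀ b' ∈ U2, Commute b b') : ∀ x ∈ U4, ∀ y ∈ U4, Commute x y := by
  intro x hx y hy
  have := (hc _ (h.Φ_mem ha hx) _ (h.Φ_mem ha hy)).eq
  rw [← Φ_mul, ← Φ_mul] at this
  exact Φ_inj m ha1 this

/-- If `U3` is abelian then `U1` is abelian. -/
theorem comm1_of_comm3 {x : G} (hx : x ∈ U4) (hx1 : x ≠ 1)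
    (hc : ∀ b ∈ U3, ∀ b' ∈ U3, Commute b b') : ∀ a ∈ U1, ∀ b ∈ U1, Commute a b := by
  intro a ha b hb
  have := (hc _ (h.Ψ_mem hx ha) _ (h.Ψ_mem hx hb)).eq
  rw [← Φ_mul, ← Φ_mul] at this
  exact Φ_inj n hx1 this

/-- Commutators of `U1` centralise `U3`. -/
theorem comm1_mem_Y1 {a b c : G} (ha : a ∈ U1) (hb : b ∈ U1) (hc : c ∈ U3) :
    Commute (a⁻¹ * b⁻¹ * a * b) c := by
  rw [← κ_eq_one_iff]
  have ha' := U1.inv_mem ha
  have hb' := U1.inv_mem hb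
  rw [h.κ13_mul_left (U1.mul_mem (U1.mul_mem ha' hb') ha) hb hc,
    h.κ13_mul_left (U1.mul_mem ha' hb') ha hc, h.κ13_mul_left ha' hb' hc]
  have hcomm : Commute (κ b⁻¹ c) (κ a c) := h.κ13_comm2 hb' hc (h.k13 a ha c hc)
  calc κ a⁻¹ c * κ b⁻¹ c * κ a c * κ b c
      = κ a⁻¹ c * (κ b⁻¹ c * κ a c) * κ b c := by group
    _ = (κ a⁻¹ c * κ a c) * (κ b⁻¹ c * κ b c) := by rw [hcomm.eq]; group
    _ = 1 := by
      rw [← h.κ13_mul_left ha' ha hc, ← h.κ13_mul_left hb' hb hc, inv_mul_cancel, inv_mul_cancel,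
        κ_one_left, one_mul]

/-- Hall-Witt: if `U3` is abelian, then `[U1, U3]` centralises `U4`. -/
theorem hall_witt (hc3 : ∀ c ∈ U3, ∀ c' ∈ U3, Commute c c') {a c x : G} (ha : a ∈ U1)
    (hc : c ∈ U3) (hx : x ∈ U4) : Commute (κ a c) x := by
  have e := κ_conj x a c
  have e1 : x * c * x⁻¹ = c := by rw [(h.c34 c hc x hx).eq.symm]; group
  obtain ⟨b, hb, d, hd, hbd⟩ : ∃ b ∈ U2, ∃ d ∈ U3, x * a * x⁻¹ = a * (b * d) :=
    ⟨_, h.Φ_mem ha hx, _, h.Ψ_mem hx ha, by rw [← h.k ha hx]; unfold κ; group⟩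
  have e2 : κ (a * (b * d)) c = κ a c := by
    have h1 : κ (a * (b * d)) c = d⁻¹ * (b⁻¹ * (κ a c * c) * b) * d * c⁻¹ := by unfold κ; group
    have c1 : Commute (κ a c * c) b := (h.κ13_comm2 ha hc hb).mul_left (h.c23 b hb c hc).symm
    have c2 : Commute (κ a c * c) d := (h.κ13_comm3 ha hc hd).mul_left (hc3 c hc d hd)
    rw [h1, mul_assoc b⁻¹, c1.eq, inv_mul_cancel_left, mul_assoc d⁻¹, c2.eq, inv_mul_cancel_left]
    group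
  rw [e1, hbd, e2] at e
  have : x * κ a c = κ a c * x := by
    calc x * κ a c = (x * κ a c * x⁻¹) * x := by group
      _ = κ a c * x := by rw [e]
  exact this.symm

end Quad

end Cfsg.Agent.SplitTwo.QuadBase
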