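import Cfsg.Agent.SplitTwo.MuMaps
import Cfsg.Agent.SplitTwo.QuadBase

/-!
# Root group systems with `m = 4` satisfy the hypotheses of `QuadBase.Quad` (S1144)
-/

set_option autoImplicit false

namespace Cfsg.Agent.SplitTwo.QuadOfRoot788

open Cfsg.Agent.SplitTwo

universe u

variable {G : Type u} [Group G] {X : ZMod (2 * 4) → Subgroup G}

theorem seg_two {i : ZMod (2 * 4)} (S : Sys 4 X) {x : G} (hx : x ∈ seg X i 2) :
    ∃ b ∈ X i, ∃ c ∈ X (i + 1), b * c = x := by
  obtain ⟨b, hb, c, hc, e⟩ := (S.mem_seg_succ_left i (k := 1) (by norm_num)).mp hx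
  rw [seg_one] at hc
  exact ⟨b, hb, c, hc, e⟩

/-- `a⁻¹ x a x⁻¹ = (μ(a)⁻¹ x μ(a)) (μ(x) a μ(x)⁻¹)`. -/
theorem k14 (S : Sys 4 X) {a x : G} (ha : a ∈ X 1) (ha1 : a ≠ 1) (hx : x ∈ X 4) (hx1 : x ≠ 1) :
    a⁻¹ * x * a * x⁻¹ = ((muMap X 1 a)⁻¹ * x * muMap X 1 a) * (muMap X 4 x * a * (muMap X 4 x)⁻¹) := by
  have h4 : (4 : ZMod (2 * 4)) = 1 + (((4 - 1 : ℕ)) : ZMod (2 * 4)) := by decide
  have h4' : (4 : ZMod (2 * 4)) = 1 + ((2 + 1 : ℕ) : ZMod (2 * 4)) := by decide
  have h1 := S.comm 1 2 (by norm_num) a⁻¹ (inv_mem ha) x (by rw [← h4']; exact hx)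
  rw [commutatorElement_def, inv_inv] at h1
  obtain ⟨c, hc, d, hd, e⟩ := seg_two S h1
  have e1 := S.tw_left (i := 1) ha ha1 (by rw [← h4]; exact hx) hc (d := d) (by rw [seg_one]; exact hd) e.symm
  have e2 := S.tw_right (i := 1) (a := a) (x := x) (c := d) (d := c) ha (by rw [← h4]; exact hx) hx1
    (by
      have : (1 : ZMod (2 * 4)) + ((4 - 2 : ℕ) : ZMod (2 * 4)) = 1 + 1 + 1 := by decide
      rw [this]; exact hd)
    (by rw [seg_one]; exact hc) e.symm
  rw [← h4] at e2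
  rw [e1, e2, e]

/-- An element of `X (i + 2)` centralising `X i` is centralised by the mu-elements of `X i`. -/
theorem fix_right (S : Sys 4 X) {i : ZMod (2 * 4)} {a c : G} (ha : a ∈ X i) (ha1 : a ≠ 1)
    (hc : c ∈ X (i + 1 + 1)) (hcomm : ∀ a' ∈ X i, a' * c = c * a') :
    muMap X i a * c * (muMap X i a)⁻¹ = c := by
  have hk := S.kap_mem ha ha1
  have hl := S.lam_mem ha ha1
  have hr := S.refl ha ha1
  have hi4 : i + ((4 : ℕ) : ZMod (2 * 4)) = i + 1 + 1 + 1 + 1 := by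
    have : ((4 : ℕ) : ZMod (2 * 4)) = 1 + 1 + 1 + 1 := by decide
    rw [this]; ring
  rw [hi4] at hk hl
  set k := kap X i a with hkd
  set l := lam X i a with hld
  -- first `λ c λ⁻¹ = c`
  have hu : l * c * l⁻¹ * c⁻¹ ∈ X (i + 1 + 1 + 1) := by
    have h1 := S.comm (i + 1 + 1) 1 (by norm_num) c hc l
      (by
        have : i + 1 + 1 + ((1 + 1 : ℕ) : ZMod (2 * 4)) = i + 1 + 1 + 1 + 1 := by push_cast; ring
        rw [this]; exact hl)
    rw [seg_one, commutatorElement_def] at h1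
    have e : l * c * l⁻¹ * c⁻¹ = (c * l * c⁻¹ * l⁻¹)⁻¹ := by group
    rw [e]
    exact inv_mem h1
  set u := l * c * l⁻¹ * c⁻¹ with hud
  have hlc : l * c * l⁻¹ = u * c := by rw [hud]; group
  have hmem := hr.mem hc
  have e1 : 2 * i + ((4 : ℕ) : ZMod (2 * 4)) - (i + 1 + 1) = i + 1 + 1 := by
    have : ((4 : ℕ) : ZMod (2 * 4)) = 1 + 1 + 1 + 1 := by decide
    rw [this]; ring
  rw [e1] at hmem
  have e2 : muMap X i a * c * (muMap X i a)⁻¹ = k * (a * u * a⁻¹ * c) * k⁻¹ := by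
    unfold muMap
    rw [← hkd, ← hld]
    calc k * a * l * c * (k * a * l)⁻¹ = k * (a * (l * c * l⁻¹) * a⁻¹) * k⁻¹ := by group
      _ = k * (a * (u * c) * a⁻¹) * k⁻¹ := by rw [hlc]
      _ = k * (a * u * (c * a⁻¹)) * k⁻¹ := by group
      _ = k * (a * u * (a⁻¹ * c)) * k⁻¹ := by rw [hcomm a⁻¹ (inv_mem ha)]
      _ = k * (a * u * a⁻¹ * c) * k⁻¹ := by group
  -- `a u a⁻¹ u⁻¹ = p q`, `p ∈ X (i+1)`, `q ∈ X (i+2)`
  have h4' : i + 1 + 1 + 1 = i + ((2 + 1 : ℕ) : ZMod (2 * 4)) := by push_cast; ring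
  have h3 := S.comm i 2 (by norm_num) a ha u (by rw [← h4']; exact hu)
  rw [commutatorElement_def] at h3
  obtain ⟨p, hp, q, hq, epq⟩ := seg_two S h3
  -- `p = 1`
  have hp1 : p = 1 := by
    have h5 : k⁻¹ * (muMap X i a * c * (muMap X i a)⁻¹) * k = p * (q * u * c) := by
      rw [e2]
      have h6 : p * (q * u * c) = (p * q) * u * c := by group
      rw [h6, epq]; group
    have h7 : k⁻¹ * (muMap X i a * c * (muMap X i a)⁻¹) * k ∈ seg X (i + 1 + 1) 2 := by
      have h8 := S.conj_seg_right (i + 1 + 1) (k := 1) (l := 2) (by norm_num) (by norm_num) (b := k⁻¹)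
        (by
          have : i + 1 + 1 + ((2 : ℕ) : ZMod (2 * 4)) = i + 1 + 1 + 1 + 1 := by push_cast; ring
          rw [this]; exact inv_mem hk) (x := muMap X i a * c * (muMap X i a)⁻¹)
        (by rw [seg_one]; exact hmem)
      rwa [inv_inv] at h8
    rw [h5] at h7
    have h9 : q * u * c ∈ seg X (i + 1 + 1) 2 := by
      refine mul_mem (mul_mem ?_ ?_) ?_
      · have := le_seg X (i + 1 + 1) (k := 2) (r := 0) (by norm_num)
        rw [Nat.cast_zero, add_zero] at this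
        exact this hq
      · have := le_seg X (i + 1 + 1) (k := 2) (r := 1) (by norm_num)
        rw [Nat.cast_one] at this
        exact this hu
      · have := le_seg X (i + 1 + 1) (k := 2) (r := 0) (by norm_num)
        rw [Nat.cast_zero, add_zero] at this
        exact this hc
    apply S.inter_left (i + 1) (k := 2) (by norm_num) hp
    have h10 : p = (p * (q * u * c)) * (q * u * c)⁻¹ := by group
    rw [h10]
    exact mul_mem h7 (inv_mem h9)
  -- `u = 1`
  have hu1 : u = 1 := by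
    by_contra hne
    have ha' := inv_mem ha
    have e3 : (a⁻¹)⁻¹ * u * a⁻¹ * u⁻¹ = 1 * q := by
      rw [inv_inv, one_mul, ← epq, hp1, one_mul]
    have h11 := S.tw_left (i := i) (a := a⁻¹) (x := u) (c := 1) (d := q) ha' (inv_ne_one.mpr ha1)
      (by
        have : i + ((4 - 1 : ℕ) : ZMod (2 * 4)) = i + 1 + 1 + 1 := by push_cast; ring
        rw [this]; exact hu)
      (one_mem _) (by rw [seg_one]; exact hq) e3
    apply hne
    have h12 : u = muMap X i a⁻¹ * ((muMap X i a⁻¹)⁻¹ * u * muMap X i a⁻¹) * (muMap X i a⁻¹)⁻¹ := by group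
    rw [h12, h11]; group
  -- conclude
  have e4 : muMap X i a * c * (muMap X i a)⁻¹ = k * c * k⁻¹ := by
    rw [e2, hu1]
    group
  have h13 : (muMap X i a * c * (muMap X i a)⁻¹) * c⁻¹ ∈ X (i + 1 + 1 + 1) := by
    rw [e4]
    have h1 := S.comm (i + 1 + 1) 1 (by norm_num) c hc k
      (by
        have : i + 1 + 1 + ((1 + 1 : ℕ) : ZMod (2 * 4)) = i + 1 + 1 + 1 + 1 := by push_cast; ring
        rw [this]; exact hk)
    rw [seg_one, commutatorElement_def] at h1
    have e : k * c * k⁻¹ * c⁻¹ = (c * k * c⁻¹ * k⁻¹)⁻¹ := by group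
    rw [e]
    exact inv_mem h1
  have h14 := S.inter_left (i + 1 + 1) (k := 1) (by norm_num) (mul_mem hmem (inv_mem hc))
    (by rw [seg_one]; exact h13)
  exact mul_inv_eq_one.mp h14

/-- An element of `X (i - 2)` centralising `X i` is centralised by the mu-elements of `X i`. -/
theorem fix_left (S : Sys 4 X) {i : ZMod (2 * 4)} {a c : G} (ha : a ∈ X i) (ha1 : a ≠ 1)
    (hc : c ∈ X (i - 1 - 1)) (hcomm : ∀ a' ∈ X i, a' * c = c * a') :
    muMap X i a * c * (muMap X i a)⁻¹ = c := by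
  have e : -(-i) = i := neg_neg i
  have ha' : a ∈ (fun j => X (-j)) (-i) := by
    change a ∈ X (-(-i)); rw [e]; exact ha
  have h := fix_right S.neg (i := -i) (a := a) (c := c) ha' ha1
    (by
      change c ∈ X (-(-i + 1 + 1))
      have e2 : -(-i + 1 + 1) = i - 1 - 1 := by ring
      rw [e2]; exact hc)
    (by
      intro a' h'
      change a' ∈ X (-(-i)) at h'
      rw [e] at h'
      exact hcomm a' h')
  rw [S.muMap_neg (i := -i) (by rw [e]; exact ha) ha1, e] at h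
  exact h

/-- **The four positive root groups of a root group system with `m = 4` form a `Quad`.** -/
theorem quad (S : Sys 4 X) :
    QuadBase.Quad (X 1) (X 2) (X 3) (X 4) (fun a => (muMap X 1 a)⁻¹) (fun x => muMap X 4 x) where
  c12 a ha b hb := S.comm_one 1 ha (by
    have : (1 : ZMod (2 * 4)) + 1 = 2 := by decide
    rw [this]; exact hb)
  c23 a ha b hb := S.comm_one 2 ha (by
    have : (2 : ZMod (2 * 4)) + 1 = 3 := by decide
    rw [this]; exact hb)
  c34 a ha b hb := S.comm_one 3 ha (by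
    have : (3 : ZMod (2 * 4)) + 1 = 4 := by decide
    rw [this]; exact hb)
  inf23 b hb hb' := by
    refine S.inter_left 2 (k := 1) (by norm_num) hb ?_
    rw [seg_one]
    have : (2 : ZMod (2 * 4)) + 1 = 3 := by decide
    rw [this]; exact hb'
  k13 a ha c hc := by
    have h := S.comm 1 1 (by norm_num) a⁻¹ (inv_mem ha) c (by
      have : (1 : ZMod (2 * 4)) + ((1 + 1 : ℕ) : ZMod (2 * 4)) = 3 := by decide
      rw [this]; exact hc)
    rw [seg_one, commutatorElement_def, inv_inv] at h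
    have : (1 : ZMod (2 * 4)) + 1 = 2 := by decide
    rw [this] at h
    exact h
  k24 b hb x hx := by
    have h := S.comm 2 1 (by norm_num) b⁻¹ (inv_mem hb) x (by
      have : (2 : ZMod (2 * 4)) + ((1 + 1 : ℕ) : ZMod (2 * 4)) = 4 := by decide
      rw [this]; exact hx)
    rw [seg_one, commutatorElement_def, inv_inv] at h
    have : (2 : ZMod (2 * 4)) + 1 = 3 := by decide
    rw [this] at h
    exact h
  k14 a ha ha1 x hx hx1 := by
    rw [inv_inv]
    exact k14 S ha ha1 hx hx1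
  m_inv a ha ha1 := by rw [S.muMap_inv ha ha1]
  n_inv x hx hx1 := by rw [S.muMap_inv hx hx1]
  m4 a ha ha1 x hx := by
    rw [inv_inv]
    have h := (S.refl ha ha1).mem' hx
    have : 2 * (1 : ZMod (2 * 4)) + ((4 : ℕ) : ZMod (2 * 4)) - 4 = 2 := by decide
    rwa [this] at h
  m2 a ha ha1 x hx := by
    rw [inv_inv]
    have h := (S.refl ha ha1).mem' hx
    have : 2 * (1 : ZMod (2 * 4)) + ((4 : ℕ) : ZMod (2 * 4)) - 2 = 4 := by decide
    rwa [this] at h
  m3 a ha ha1 x hx := by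
    rw [inv_inv]
    have h := (S.refl ha ha1).mem' hx
    have : 2 * (1 : ZMod (2 * 4)) + ((4 : ℕ) : ZMod (2 * 4)) - 3 = 3 := by decide
    rwa [this] at h
  n1 a ha ha1 x hx := by
    have h := (S.refl ha ha1).mem hx
    have : 2 * (4 : ZMod (2 * 4)) + ((4 : ℕ) : ZMod (2 * 4)) - 1 = 3 := by decide
    rwa [this] at h
  n3 a ha ha1 x hx := by
    have h := (S.refl ha ha1).mem hx
    have : 2 * (4 : ZMod (2 * 4)) + ((4 : ℕ) : ZMod (2 * 4)) - 3 = 1 := by decide
    rwa [this] at h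
  n2 a ha ha1 x hx := by
    have h := (S.refl ha ha1).mem hx
    have : 2 * (4 : ZMod (2 * 4)) + ((4 : ℕ) : ZMod (2 * 4)) - 2 = 2 := by decide
    rwa [this] at h
  mm1 a ha ha1 b hb hb1 c hc := by
    have h1 := (S.refl ha ha1).mem' hc
    have h2 := (S.refl hb hb1).mem h1
    have e : 2 * (1 : ZMod (2 * 4)) + ((4 : ℕ) : ZMod (2 * 4)) - (2 * 1 + ((4 : ℕ) : ZMod (2 * 4)) - 1) = 1 := by
      decide
    rw [e] at h2
    have e2 : ((muMap X 1 b)⁻¹)⁻¹ * (muMap X 1 a)⁻¹ * c * (((muMap X 1 b)⁻¹)⁻¹ * (muMap X 1 a)⁻¹)⁻¹ =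
        muMap X 1 b * ((muMap X 1 a)⁻¹ * c * muMap X 1 a) * (muMap X 1 b)⁻¹ := by group
    rw [e2]
    exact h2
  nn4 x hx hx1 y hy hy1 z hz := by
    have h1 := (S.refl hx hx1).mem hz
    have h2 := (S.refl hy hy1).mem' h1
    have e : 2 * (4 : ZMod (2 * 4)) + ((4 : ℕ) : ZMod (2 * 4)) - (2 * 4 + ((4 : ℕ) : ZMod (2 * 4)) - 4) = 4 := by
      decide
    rw [e] at h2
    have e2 : (muMap X 4 y)⁻¹ * muMap X 4 x * z * ((muMap X 4 y)⁻¹ * muMap X 4 x)⁻¹ =
        (muMap X 4 y)⁻¹ * (muMap X 4 x * z * (muMap X 4 x)⁻¹) * muMap X 4 y := by group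
    rw [e2]
    exact h2
  fix3 a ha ha1 c hc hcc := by
    have h := fix_right S ha ha1 (c := c)
      (by
        have : (1 : ZMod (2 * 4)) + 1 + 1 = 3 := by decide
        rw [this]; exact hc) (fun a' h' => hcc a' h')
    rw [inv_inv]
    conv_lhs => rw [← h]
    group
  fix2 x hx hx1 b hb hbb := by
    exact fix_left S hx hx1 (c := b)
      (by
        have : (4 : ZMod (2 * 4)) - 1 - 1 = 2 := by decide
        rw [this]; exact hb) (fun a' h' => hbb a' h')

/-- `RootSys 4 G` gives a `Quad`. -/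
theorem quad_of_rootSys (R : RootSys 4 G) :
    QuadBase.Quad (R.X 1) (R.X 2) (R.X 3) (R.X 4) (fun a => (muMap R.X 1 a)⁻¹)
      (fun x => muMap R.X 4 x) :=
  quad R.toSys

end Cfsg.Agent.SplitTwo.QuadOfRoot788
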