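import Cfsg.Agent.SplitTwo.QuadPos

/-!
# Reduced Moufang quadrangles (orthogonal groups in dimension five and six)

`[U1, U3] = 1`.
-/

set_option autoImplicit false

universe u

namespace Cfsg.Agent.SplitTwo.QuadRed

open Cfsg.Agent.SplitTwo.QuadBase Cfsg.Agent.SplitTwo.QuadField Cfsg.Agent.SplitTwo.QuadCoord
open Cfsg.Agent.SplitTwo.QuadPos Cfsg.Agent.TitsThree.PQAbs
open scoped commutatorElement

/-! ### Independence of few field endomorphisms -/

theorem three {K : Type*} [Field K] (t s₁ s₂ : K →+* K) (hs : s₁ ≠ s₂) (α β γ : K) (hγ : γ ≠ 0)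
    (h : ∀ k, α * t k + β * s₁ k + γ * s₂ k = 0) : t = s₂ := by
  by_contra hne
  obtain ⟨l, hl⟩ : ∃ l, t l ≠ s₂ l := by
    by_contra hcon
    push Not at hcon
    exact hne (RingHom.ext hcon)
  have h1 : ∀ k, β * (s₁ l - t l) * s₁ k + γ * (s₂ l - t l) * s₂ k = 0 := by
    intro k
    have e1 := h (l * k)
    have e2 := h k
    simp only [map_mul] at e1
    linear_combination e1 - t l * e2
  have h2 := h1 1
  rw [map_one, map_one, mul_one, mul_one] at h2
  have h3 : γ * (s₂ l - t l) ≠ 0 := mul_ne_zero hγ (sub_ne_zero.2 (Ne.symm hl))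
  apply hs
  ext k
  have h4 : γ * (s₂ l - t l) * (s₂ k - s₁ k) = 0 := by
    linear_combination h1 k - s₁ k * h2
  rcases mul_eq_zero.1 h4 with h5 | h5
  · exact absurd h5 h3
  · exact (sub_eq_zero.1 h5).symm

theorem four {K : Type*} [Field K] (s₁ s₂ s : K →+* K) (hs : s ≠ RingHom.id K)
    (α β γ δ : K) (hγ : γ ≠ 0) (hδ : δ ≠ 0)
    (h : ∀ k, α * s₁ k + β * s₂ k + γ * s k + δ * k = 0) :
    (s₁ = RingHom.id K ∧ s₂ = s) ∨ (s₁ = s ∧ s₂ = RingHom.id K) := by
  have h1 : ∀ l k, β * (s₂ l - s₁ l) * s₂ k + γ * (s l - s₁ l) * s k + δ * (l - s₁ l) * k = 0 := by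
    intro l k
    have e1 := h (l * k)
    have e2 := h k
    simp only [map_mul] at e1
    linear_combination e1 - s₁ l * e2
  have h2 : s₁ = RingHom.id K ∨ s₂ = RingHom.id K := by
    by_cases hne : s₁ = RingHom.id K
    · exact Or.inl hne
    · obtain ⟨l, hl⟩ : ∃ l, s₁ l ≠ l := by
        by_contra hcon
        push Not at hcon
        exact hne (RingHom.ext hcon)
      right
      exact three s₂ s (RingHom.id K) hs _ _ _ (mul_ne_zero hδ (sub_ne_zero.2 (Ne.symm hl)))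
        (h1 l)
  have h3 : s₁ = s ∨ s₂ = s := by
    by_cases hne : s₁ = s
    · exact Or.inl hne
    · obtain ⟨l, hl⟩ : ∃ l, s₁ l ≠ s l := by
        by_contra hcon
        push Not at hcon
        exact hne (RingHom.ext hcon)
      right
      refine three s₂ (RingHom.id K) s (Ne.symm hs) (β * (s₂ l - s₁ l)) (δ * (l - s₁ l)) _
        (mul_ne_zero hγ (sub_ne_zero.2 (Ne.symm hl))) (fun k => ?_)
      have := h1 l k
      rw [RingHom.id_apply]
      linear_combination this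
  rcases h2 with h2 | h2
  · rcases h3 with h3 | h3
    · exact absurd (h3.symm.trans h2) hs
    · exact Or.inl ⟨h2, h3⟩
  · rcases h3 with h3 | h3
    · exact Or.inr ⟨h3, h2⟩
    · exact absurd (h3.symm.trans h2) hs

/-- The crucial algebraic fact of the reduced case. -/
theorem eq_id {K : Type*} [Field K] (s : K →+* K) (q : K) (hq : q ≠ 0) (A : K → K)
    (S : K → (K →+* K)) (Gx : K → K)
    (h : ∀ l, l ≠ 0 → ∀ k, A l * S l k = q * s k + Gx (l * k) + l ^ 2 * k) : s = RingHom.id K := by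
  by_contra hs
  have key : ∀ l m, l ≠ 0 → m ≠ 0 → l ≠ m →
      (S l = RingHom.id K ∧ S m = s) ∨ (S l = s ∧ S m = RingHom.id K) := by
    intro l m hl hm hlm
    have hsl : s l ≠ 0 := (map_ne_zero s).2 hl
    have hsm : s m ≠ 0 := (map_ne_zero s).2 hm
    have hSl : S l l ≠ 0 := (map_ne_zero (S l)).2 hl
    have hSm : S m m ≠ 0 := (map_ne_zero (S m)).2 hm
    have hslm : s l ≠ s m := fun h0 => hlm (s.injective h0)
    refine four (S l) (S m) s hs (A l / S l l) (-(A m / S m m)) (q / s m - q / s l) (m - l) ?_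
      (sub_ne_zero.2 (Ne.symm hlm)) ?_
    · rw [sub_ne_zero]
      intro h0
      rw [div_eq_div_iff hsm hsl] at h0
      exact hslm (mul_left_cancel₀ hq h0)
    · intro k
      have e1 := h l hl (k / l)
      have e2 := h m hm (k / m)
      rw [mul_div_cancel₀ _ hl] at e1
      rw [mul_div_cancel₀ _ hm] at e2
      rw [map_div₀, map_div₀] at e1 e2
      have e3 : l ^ 2 * (k / l) = l * k := by field_simp
      have e4 : m ^ 2 * (k / m) = m * k := by field_simp
      rw [e3] at e1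
      rw [e4] at e2
      have e5 : A l * (S l k / S l l) = A l / S l l * S l k := by ring
      have e6 : A m * (S m k / S m m) = A m / S m m * S m k := by ring
      rw [e5] at e1
      rw [e6] at e2
      linear_combination e1 - e2
  obtain ⟨k, hk⟩ : ∃ k, s k ≠ k := by
    by_contra hcon
    push Not at hcon
    exact hs (RingHom.ext hcon)
  have hk0 : k ≠ 0 := by
    rintro rfl; exact hk (map_zero s)
  have hk1 : k ≠ 1 := by
    rintro rfl; exact hk (map_one s)
  have hs0 : s k ≠ 0 := (map_ne_zero s).2 hk0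
  have hs1 : s k ≠ 1 := fun h1 => hk1 (s.injective (h1.trans (map_one s).symm))
  rcases key 1 k one_ne_zero hk0 (Ne.symm hk1) with ⟨a1, a2⟩ | ⟨a1, a2⟩
  · rcases key 1 (s k) one_ne_zero hs0 (Ne.symm hs1) with ⟨b1, b2⟩ | ⟨b1, b2⟩
    · rcases key k (s k) hk0 hs0 (Ne.symm hk) with ⟨c1, c2⟩ | ⟨c1, c2⟩
      · exact hs (a2.symm.trans c1)
      · exact hs (b2.symm.trans c2)
    · exact hs (b1.symm.trans a1)
  · rcases key 1 (s k) one_ne_zero hs0 (Ne.symm hs1) with ⟨b1, b2⟩ | ⟨b1, b2⟩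
    · exact hs (a1.symm.trans b1)
    · rcases key k (s k) hk0 hs0 (Ne.symm hk) with ⟨c1, c2⟩ | ⟨c1, c2⟩
      · exact hs (c2.symm.trans b2)
      · exact hs (c1.symm.trans a2)

variable {G : Type u} [Group G] {U1 U2 U3 U4 : Subgroup G} {m n : G → G}

/-- The trivial layer, in the reduced case. -/
theorem lay (h : Quad U1 U2 U3 U4 m n) (hred : ∀ a ∈ U1, ∀ c ∈ U3, Commute a c) {e : G}
    (he : e ∈ U1) (he1 : e ≠ 1) (hne : ∃ x ∈ U4, x ≠ 1) :
    Lay U1 U2 U3 U4 ⊥ ⊥ m where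
  le2 := bot_le
  le4 := bot_le
  Φ_iff a ha ha1 x hx := by
    rw [Subgroup.mem_bot, Subgroup.mem_bot]
    constructor
    · intro h1
      exact Φ_inj m ha1 (h1.trans (Φ_one_right m a).symm)
    · rintro rfl
      exact Φ_one_right m a
  v2 a ha c hc := by rw [Subgroup.mem_bot]; exact κ_eq_one_iff.2 (hred a ha c hc)
  c4 x hx y hy := by
    rw [Subgroup.mem_bot]
    have h2 := h.comm2_of_Y1 he he1 (hred e he)
    have h4 := h.comm4_of_comm2 he he1 h2 x hx y hy
    calc x⁻¹ * y⁻¹ * x * y = x⁻¹ * y⁻¹ * (x * y) := by group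
      _ = 1 := by rw [h4.eq]; group
  ne := by
    obtain ⟨x, hx, hx1⟩ := hne
    exact ⟨x, hx, by rwa [Subgroup.mem_bot]⟩
  nrm4 g _ z hz := by
    rw [Subgroup.mem_bot] at hz ⊢
    rw [hz]; group
  nrm2 g _ z hz := by
    rw [Subgroup.mem_bot] at hz ⊢
    rw [hz]; group

/-- The reduced case. -/
theorem exists_pos [Finite G] (h : Quad U1 U2 U3 U4 m n)
    (hred : ∀ a ∈ U1, ∀ c ∈ U3, Commute a c) {e : G} (he : e ∈ U1) (he1 : e ≠ 1) {f : G}
    (hf : f ∈ U4) (hf1 : f ≠ 1) :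
    ∃ (K : Type u) (_ : Field K) (S : Sys K U4) (x y : K → G) (z₁ z₂ : U4 → G), Finite K ∧
      Pos S U1 U2 U3 U4 x y z₁ z₂ := by
  classical
  have L := lay h hred he he1 ⟨f, hf, hf1⟩
  have comm4 : ∀ x ∈ U4, ∀ y ∈ U4, Commute x y :=
    h.comm4_of_comm2 he he1 (h.comm2_of_Y1 he he1 (hred e he))
  obtain ⟨K, _, ι, hKf, ι_mul, ι_inj, ι_surj, ι_e, ι_K1, ι_E, ι_T⟩ := coord h L he he1
  choose jot jot_mem jot_ι using ι_surj
  have ι_jot : ∀ a ∈ U1, jot (ι a) = a := fun a ha => ι_inj _ (jot_mem _) _ ha (jot_ι _)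
  have ι_one : ι 1 = 0 := by
    have := ι_mul 1 U1.one_mem 1 U1.one_mem
    rw [mul_one] at this
    simpa using this
  have ι_inv : ∀ a ∈ U1, ι a⁻¹ = -ι a := by
    intro a ha
    have := ι_mul a⁻¹ (U1.inv_mem ha) a ha
    rw [inv_mul_cancel, ι_one] at this
    exact (neg_eq_of_add_eq_zero_left this.symm).symm
  have ι_ne : ∀ a ∈ U1, a ≠ 1 → ι a ≠ 0 := fun a ha ha1 h0 =>
    ha1 (ι_inj a ha 1 U1.one_mem (h0.trans ι_one.symm))
  have jot_mul : ∀ k l, jot (k + l) = jot k * jot l := by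
    intro k l
    apply ι_inj _ (jot_mem _) _ (U1.mul_mem (jot_mem _) (jot_mem _))
    rw [jot_ι, ι_mul _ (jot_mem _) _ (jot_mem _), jot_ι, jot_ι]
  have jot_ne : ∀ k, k ≠ 0 → jot k ≠ 1 := by
    intro k hk h1
    apply hk
    rw [← jot_ι k, h1, ι_one]
  -- coordinates on `U3`
  obtain ⟨P, hP⟩ : ∃ P : G → K, P = fun c => ι ((n f)⁻¹ * c * n f) := ⟨_, rfl⟩
  have hPc : ∀ c, P c = ι ((n f)⁻¹ * c * n f) := fun c => by rw [hP]
  have hP1 : ∀ c ∈ U3, (n f)⁻¹ * c * n f ∈ U1 := by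
    intro c hc
    have := h.n3 f⁻¹ (U4.inv_mem hf) (inv_ne_one.2 hf1) c hc
    rwa [h.n_inv f hf hf1, inv_inv] at this
  have P_f : ∀ a ∈ U1, P (Φ n f a) = ι a := by
    intro a ha
    rw [hPc, Φ_ne n hf1]
    congr 1; group
  have P_mul : ∀ c ∈ U3, ∀ d ∈ U3, P (c * d) = P c + P d := by
    intro c hc d hd
    rw [hPc, hPc, hPc, ← ι_mul _ (hP1 c hc) _ (hP1 d hd)]
    congr 1; group
  have P_one : P 1 = 0 := by
    rw [hPc, mul_one, inv_mul_cancel, ι_one]
  have P_inj : ∀ c ∈ U3, ∀ d ∈ U3, P c = P d → c = d := by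
    intro c hc d hd hcd
    rw [hPc, hPc] at hcd
    have := ι_inj _ (hP1 c hc) _ (hP1 d hd) hcd
    exact mul_left_cancel (mul_right_cancel this)
  have P_gen : ∀ x, x ≠ 1 → ∀ a, P (Φ n x a) = ι (((n f)⁻¹ * n x) * a * ((n f)⁻¹ * n x)⁻¹) := by
    intro x hx1 a
    rw [hPc, Φ_ne n hx1]
    congr 1; group
  -- the function `q`
  obtain ⟨q, hq⟩ : ∃ q : G → K, q = fun x => P (Φ n x e) := ⟨_, rfl⟩
  have hqx : ∀ x, q x = P (Φ n x e) := fun x => by rw [hq]
  have q_f : q f = 1 := by rw [hqx, P_f e he, ι_e]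
  have q_one : q 1 = 0 := by rw [hqx, Φ_one_left, P_one]
  have q_ne : ∀ x ∈ U4, x ≠ 1 → q x ≠ 0 := by
    intro x hx hx1
    rw [hqx, P_gen x hx1]
    have hg := h.nrm_n hx hx1 hf hf1
    apply ι_ne _ (hg.u1 e he)
    intro h1
    exact he1 (conj_eq_one_iff.1 h1)
  -- scaling
  have st_mem : ∀ a ∈ U1, ∀ x ∈ U4, st m e a x ∈ U4 := fun a ha x hx => h.st_mem he he1 ha hx
  have st_add : ∀ a ∈ U1, ∀ b ∈ U1, ∀ x ∈ U4, st m e (a * b) x = st m e a x * st m e b x := by
    intro a ha b hb x hx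
    have e1 := h.star ha hb hx
    rw [κ_eq_one_iff.2 (hred b hb _ (h.Ψ_mem hx ha)), mul_one, ← Φ_st m he1 a x,
      ← Φ_st m he1 b x, ← Φ_st m he1 (a * b) x, ← Φ_mul] at e1
    exact Φ_inj m he1 e1
  have st_st : ∀ a ∈ U1, ∀ b ∈ U1, ∀ x ∈ U4, st m e a (st m e b x) = st m e (jot (ι a * ι b)) x := by
    intro a ha b hb x hx
    have := ι_K1 a ha b hb _ (jot_mem (ι a * ι b)) (jot_ι _) x hx
    rw [Subgroup.mem_bot] at this
    exact (inv_mul_eq_one.1 this).symm
  -- torus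
  have ι_tor : ∀ a ∈ U1, a ≠ 1 → ∀ c ∈ U1,
      ι (((m e)⁻¹ * m a) * c * ((m e)⁻¹ * m a)⁻¹) = ι c / ι a ^ 2 := by
    intro a ha ha1 c hc
    have := ι_T a ha ha1 e he he1 c hc
    rw [ι_e, one_pow, one_mul] at this
    rw [← this]
    have := ι_ne a ha ha1
    field_simp
  have fix3 : ∀ a ∈ U1, a ≠ 1 → ∀ c ∈ U3, ((m e)⁻¹ * m a) * c * ((m e)⁻¹ * m a)⁻¹ = c := by
    intro a ha ha1 c hc
    have e1 := h.fix3 a ha ha1 c hc (fun a' ha' => hred a' ha' c hc)
    have e2 := h.fix3 e he he1 c hc (fun a' ha' => hred a' ha' c hc)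
    calc (m e)⁻¹ * m a * c * ((m e)⁻¹ * m a)⁻¹ = (m e)⁻¹ * (m a * c * (m a)⁻¹) * m e := by group
      _ = (m e)⁻¹ * (m e * c * (m e)⁻¹) * m e := by rw [e1, e2]
      _ = c := by group
  have tor : ∀ a ∈ U1, a ≠ 1 → ∀ x ∈ U4, ∀ k,
      P (Φ n (st m e a x) (jot k)) = P (Φ n x (jot (ι a ^ 2 * k))) := by
    intro a ha ha1 x hx k
    have hg := h.nrm_m ha ha1 he he1
    have e1 := (h.equiv hg (jot_mem (ι a ^ 2 * k)) hx).2
    rw [fix3 a ha ha1 _ (h.Ψ_mem hx (jot_mem _)), ← st_eq_nrm m ha1] at e1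
    rw [← e1]
    congr 2
    apply ι_inj _ (jot_mem _) _ (hg.u1 _ (jot_mem _))
    rw [ι_tor a ha ha1 _ (jot_mem _), jot_ι, jot_ι]
    have := ι_ne a ha ha1
    field_simp
  have exp : ∀ x ∈ U4, ∀ y ∈ U4, ∀ c ∈ U1,
      P (Φ n (x * y) c) = P (Φ n x c) + P (κ (Φ m c y) x) + P (Φ n y c) := by
    intro x hx y hy c hc
    rw [h.star' hc hx hy, P_mul _ (U3.mul_mem (h.Ψ_mem hx hc) (h.k24 _ (h.Φ_mem hc hy) x hx))
      _ (h.Ψ_mem hy hc), P_mul _ (h.Ψ_mem hx hc) _ (h.k24 _ (h.Φ_mem hc hy) x hx)]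
  have P_st_f : ∀ a ∈ U1, ∀ c ∈ U1, P (Φ n (st m e a f) c) = ι a ^ 2 * ι c := by
    intro a ha c hc
    by_cases ha1 : a = 1
    · rw [ha1, st_one_left, Φ_one_left, P_one, ι_one]; ring
    · have e1 := tor a ha ha1 f hf (ι c)
      rw [ι_jot c hc, P_f _ (jot_mem _), jot_ι] at e1
      exact e1
  -- `(C2)`
  have C2 : ∀ x ∈ U4, ∀ a ∈ U1, P (Φ n x a) = q x * ι a := by
    intro x hx
    by_cases hx1 : x = 1
    · intro a ha
      rw [hx1, Φ_one_left, P_one, q_one, zero_mul]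
    by_cases hcase : ∃ b ∈ U1, x * st m e b f = 1
    · obtain ⟨b, hb, hxb⟩ := hcase
      have e1 : x = st m e b⁻¹ f := by
        have e2 := st_add b⁻¹ (U1.inv_mem hb) b hb f hf
        rw [inv_mul_cancel, st_one_left] at e2
        exact mul_right_cancel (hxb.trans e2)
      intro a ha
      rw [hqx, e1, P_st_f _ (U1.inv_mem hb) a ha, P_st_f _ (U1.inv_mem hb) e he, ι_e, mul_one]
    · push Not at hcase
      obtain ⟨s, hs⟩ := ι_E _ (h.nrm_n hx hx1 hf hf1)
      have hs' : ∀ b ∈ U1, P (Φ n x b) = q x * s (ι b) := by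
        intro b hb
        rw [P_gen x hx1, hs b hb, hqx, P_gen x hx1]
      have hS : ∀ l : K, ∃ t : K →+* K, ∀ b ∈ U1,
          P (Φ n (x * st m e (jot l) f) b) = q (x * st m e (jot l) f) * t (ι b) := by
        intro l
        have hx' : x * st m e (jot l) f ≠ 1 := hcase _ (jot_mem l)
        obtain ⟨t, ht⟩ := ι_E _ (h.nrm_n (U4.mul_mem hx (st_mem _ (jot_mem l) f hf)) hx' hf hf1)
        refine ⟨t, fun b hb => ?_⟩
        rw [P_gen _ hx', ht b hb, hqx, P_gen _ hx']
      choose S hS using hS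
      have hid : s = RingHom.id K := by
        refine eq_id s (q x) (q_ne x hx hx1) (fun l => q (x * st m e (jot l) f)) S
          (fun k => P (κ (Φ m (jot k) f) x)) ?_
        intro l _ k
        have e1 := hS l (jot k) (jot_mem k)
        have hlf := st_mem _ (jot_mem l) f hf
        rw [jot_ι] at e1
        rw [← e1, exp x hx _ hlf _ (jot_mem k), hs' _ (jot_mem k), P_st_f _ (jot_mem l) _
          (jot_mem k), jot_ι, jot_ι]
        have e2 : Φ m (jot k) (st m e (jot l) f) = Φ m (jot (l * k)) f := by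
          rw [← Φ_st m he1, st_st _ (jot_mem k) _ (jot_mem l) f hf, Φ_st m he1, jot_ι, jot_ι,
            mul_comm]
        rw [e2]
      intro a ha
      rw [hs' a ha, hid, RingHom.id_apply]
  have q_st : ∀ a ∈ U1, ∀ x ∈ U4, q (st m e a x) = ι a ^ 2 * q x := by
    intro a ha x hx
    by_cases ha1 : a = 1
    · rw [ha1, st_one_left, q_one, ι_one]; ring
    have e1 := tor a ha ha1 x hx 1
    rw [C2 _ (st_mem a ha x hx) _ (jot_mem _), C2 _ hx _ (jot_mem _), jot_ι, jot_ι] at e1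
    linear_combination e1
  -- the form `g`
  obtain ⟨gg, hgg⟩ : ∃ gg : G → G → K, gg = fun y x => P (κ (Φ m e y) x) := ⟨_, rfl⟩
  have hgg' : ∀ y x, gg y x = P (κ (Φ m e y) x) := fun y x => by rw [hgg]
  have C4 : ∀ x ∈ U4, ∀ y ∈ U4, ∀ c ∈ U1,
      P (κ (Φ m c y) x) = (q (x * y) - q x - q y) * ι c := by
    intro x hx y hy c hc
    have h1 := C2 (x * y) (U4.mul_mem hx hy) c hc
    rw [exp x hx y hy c hc, C2 x hx c hc, C2 y hy c hc] at h1
    linear_combination h1
  have q_mul : ∀ x ∈ U4, ∀ y ∈ U4, q (x * y) = q x + q y + gg y x := by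
    intro x hx y hy
    have h1 := C4 x hx y hy e he
    rw [← hgg', ι_e] at h1
    linear_combination -h1
  have P_κ : ∀ x ∈ U4, ∀ y ∈ U4, ∀ c ∈ U1, P (κ (Φ m c y) x) = ι c * gg y x := by
    intro x hx y hy c hc
    rw [C4 x hx y hy c hc, q_mul x hx y hy]; ring
  have gg_st : ∀ x ∈ U4, ∀ y ∈ U4, ∀ c ∈ U1, gg (st m e c y) x = ι c * gg y x := by
    intro x hx y hy c hc
    rw [hgg', Φ_st m he1, P_κ x hx y hy c hc]
  have gg_mul : ∀ x ∈ U4, ∀ y ∈ U4, ∀ y' ∈ U4, gg (y * y') x = gg y x + gg y' x := by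
    intro x hx y hy y' hy'
    rw [hgg', hgg', hgg', Φ_mul, h.κ24_mul_left (h.Φ_mem he hy) (h.Φ_mem he hy') hx,
      P_mul _ (h.k24 _ (h.Φ_mem he hy) x hx) _ (h.k24 _ (h.Φ_mem he hy') x hx)]
  have gg_one : ∀ x ∈ U4, gg 1 x = 0 := by
    intro x hx
    rw [hgg', Φ_one_right, κ_one_left, P_one]
  have gg_symm : ∀ x ∈ U4, ∀ y ∈ U4, gg x y = gg y x := by
    intro x hx y hy
    have h1 := q_mul x hx y hy
    have h2 := q_mul y hy x hx
    rw [(comm4 x hx y hy).eq] at h1
    linear_combination h1 - h2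
  have gg_self : ∀ x ∈ U4, gg x x = 2 * q x := by
    intro x hx
    have h1 := q_mul x hx x hx
    have h2 := st_add e he e he x hx
    rw [st_self m he1] at h2
    rw [← h2, q_st _ (U1.mul_mem he he) x hx, ι_mul e he e he, ι_e] at h1
    linear_combination -h1
  -- the system
  let S : Sys K U4 :=
    { σ := RingEquiv.refl K
      σσ := fun k => rfl
      ε := 1
      ε_mul := by simp
      c := fun p => -q p
      h := fun p r => gg p r
      smul := fun k p => ⟨st m e (jot k) p, st_mem _ (jot_mem _) _ p.2⟩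
      tr := fun _ => 1
      h_mul := fun p r s => gg_mul s s.2 p p.2 r r.2
      h_swap := by
        intro p r
        rw [gg_symm r r.2 p p.2, one_mul]; rfl
      c_mul := by
        intro p r
        rw [Subgroup.coe_mul, q_mul p p.2 r r.2]; ring
      c_herm := by
        intro p
        rw [gg_self p p.2]
        change -q p + 1 * (-q p) = _
        ring
      h_smul := by
        intro a p r
        change gg (st m e (jot a) p) r = a * gg p r
        rw [gg_st r r.2 p p.2 _ (jot_mem _), jot_ι]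
      c_smul := by
        intro a p
        change -q (st m e (jot a) p) = a * a * -q p
        rw [q_st _ (jot_mem _) p p.2, jot_ι]; ring
      h_tr := by
        intro k p
        exact gg_one p p.2
      c_tr := by
        intro k
        change -q 1 = k - 1 * k
        rw [q_one]; ring
      eq_one := by
        intro p hp
        by_contra hp1
        have h1 : (p : G) ≠ 1 := fun h2 => hp1 (Subtype.ext h2)
        exact q_ne p p.2 h1 (neg_eq_zero.1 hp) }
  have y_ex : ∀ k : K, ∃ c ∈ U3, P c = k := fun k =>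
    ⟨Φ n f (jot k), h.Ψ_mem hf (jot_mem k), by rw [P_f _ (jot_mem k), jot_ι]⟩
  choose yy yy_mem P_yy using y_ex
  have κ_x : ∀ a (v : G), ⁅(jot (-a) : G), v⁆ = κ (jot a) v := by
    intro a v
    have : jot (-a) = (jot a)⁻¹ := by
      apply ι_inj _ (jot_mem _) _ (U1.inv_mem (jot_mem _))
      rw [jot_ι, ι_inv _ (jot_mem _), jot_ι]
    rw [this, brk_inv_eq]
  refine ⟨K, inferInstance, S, fun a => jot (-a), yy, fun p => Φ m e p, fun p => (p : G), hKf, ?_⟩
  exact
    { x_add := fun a b => by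
        change jot (-(a + b)) = jot (-a) * jot (-b)
        rw [neg_add, jot_mul]
      y_add := fun a b => by
        apply P_inj _ (yy_mem _) _ (U3.mul_mem (yy_mem _) (yy_mem _))
        rw [P_mul _ (yy_mem _) _ (yy_mem _), P_yy, P_yy, P_yy]
      z₁_mul := fun p r => by
        change Φ m e ((p * r : U4) : G) = _
        rw [Subgroup.coe_mul, Φ_mul]
      z₂_mul := fun p r => Subgroup.coe_mul U4 p r
      x_inj := fun a b hab => by
        have h1 : jot (-a) = jot (-b) := hab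
        have h2 := congrArg ι h1
        rw [jot_ι, jot_ι] at h2
        exact neg_injective h2
      y_inj := fun a b hab => by rw [← P_yy a, hab, P_yy]
      z₁_inj := fun p r hpr => Subtype.ext (Φ_inj m he1 hpr)
      z₂_inj := Subtype.val_injective
      x_mem := fun g => by
        constructor
        · intro hg
          refine ⟨-ι g, ?_⟩
          change jot (- -ι g) = g
          rw [neg_neg, ι_jot g hg]
        · rintro ⟨a, rfl⟩
          exact jot_mem _
      z₁_mem := fun g => by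
        constructor
        · intro hg
          obtain ⟨x, hx, hx'⟩ := h.Φ_surj he he1 hg
          exact ⟨⟨x, hx⟩, hx'⟩
        · rintro ⟨p, rfl⟩
          exact h.Φ_mem he p.2
      y_mem := fun g => by
        constructor
        · intro hg
          exact ⟨P g, P_inj _ (yy_mem _) _ hg (P_yy _)⟩
        · rintro ⟨a, rfl⟩
          exact yy_mem _
      z₂_mem := fun g => by
        constructor
        · intro hg
          exact ⟨⟨g, hg⟩, rfl⟩
        · rintro ⟨p, rfl⟩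
          exact p.2
      x_z₂ := fun a p => by
        change ⁅jot (-a), (p : G)⁆ = Φ m e (st m e (jot a) p) * yy (-(1 * a * -q p))
        rw [κ_x, h.k (jot_mem a) p.2, Φ_st m he1]
        congr 1
        apply P_inj _ (h.Ψ_mem p.2 (jot_mem a)) _ (yy_mem _)
        rw [P_yy, C2 p p.2 _ (jot_mem a), jot_ι]; ring
      z₁_z₂ := fun p r => by
        change ⁅Φ m e p, (r : G)⁆ = yy (-gg r p)
        have h1 : ⁅Φ m e p, (r : G)⁆ = κ (Φ m e (p : G)⁻¹) r := by rw [brk_eq, Φ_inv]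
        rw [h1]
        have hpi := U4.inv_mem p.2
        apply P_inj _ (h.k24 _ (h.Φ_mem he hpi) r r.2) _ (yy_mem _)
        rw [P_yy, ← hgg']
        have h2 : gg (p : G)⁻¹ r = -gg p r := by
          have := gg_mul r r.2 (p : G)⁻¹ hpi p p.2
          rw [inv_mul_cancel, gg_one r r.2] at this
          exact (neg_eq_of_add_eq_zero_left this.symm).symm
        rw [h2, gg_symm p p.2 r r.2]
      x_y := fun a b => by
        change ⁅jot (-a), yy b⁆ = Φ m e ((1 : U4) : G)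
        rw [κ_x, κ_eq_one_iff.2 (hred _ (jot_mem a) _ (yy_mem b)), Subgroup.coe_one, Φ_one_right]
      x_z₁ := fun a p => h.c12 _ (jot_mem _) _ (h.Φ_mem he p.2)
      y_z₁ := fun b p => (h.c23 _ (h.Φ_mem he p.2) _ (yy_mem b)).symm
      y_z₂ := fun b p => h.c34 _ (yy_mem b) _ p.2 }

end Cfsg.Agent.SplitTwo.QuadRed
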