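import Cfsg.Agent.SplitTwo.QuadNonred
import Cfsg.Agent.SplitTwo.QuadRed
import Cfsg.Agent.SplitTwo.QuadOfRoot788

/-!
# Finite Moufang quadrangles: coordinates

`exists_pos`: the four positive root groups of a finite Moufang quadrangle, in this order or in the
reversed order, are parametrised by a pseudo-quadratic system over a finite field, with the
positive relations of type `B₂`.
-/

set_option autoImplicit false

universe u

namespace Cfsg.Agent.SplitTwo.QuadMain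

open Cfsg.Agent.SplitTwo.QuadBase Cfsg.Agent.SplitTwo.QuadCoord Cfsg.Agent.SplitTwo.QuadNonred
open Cfsg.Agent.SplitTwo.QuadPos Cfsg.Agent.TitsThree.PQAbs

variable {G : Type u} [Group G] {U1 U2 U3 U4 : Subgroup G} {m n : G → G}

/-- Coordinates for the four groups in the given order. -/
def HasPos (U1 U2 U3 U4 : Subgroup G) : Prop :=
  ∃ (K : Type u) (_ : Field K) (S : Cfsg.Agent.TitsThree.PQAbs.Sys K U4) (x y : K → G)
    (z₁ z₂ : U4 → G), Finite K ∧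
    Pos S U1 U2 U3 U4 x y z₁ z₂

theorem of_quad [Finite G] (h : Quad U1 U2 U3 U4 m n) {e : G} (he : e ∈ U1) (he1 : e ≠ 1) {f : G}
    (hf : f ∈ U4) (hf1 : f ≠ 1) : HasPos U1 U2 U3 U4 ∨ HasPos U4 U3 U2 U1 := by
  by_cases h13 : ∀ a ∈ U1, ∀ c ∈ U3, Commute a c
  · exact Or.inl (QuadRed.exists_pos h h13 he he1 hf hf1)
  by_cases h42 : ∀ x ∈ U4, ∀ b ∈ U2, Commute x b
  · exact Or.inr (QuadRed.exists_pos h.rev h42 hf hf1 he he1)
  by_cases hY4 : ∃ s ∈ Y U4 U2, s ≠ 1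
  · refine Or.inl (QuadNonred.exists_pos h he he1 hY4 ?_)
    push Not at h42
    obtain ⟨x, hx, b, hb, hxb⟩ := h42
    exact ⟨x, hx, fun hY => hxb ((mem_Y.1 hY).2 b hb)⟩
  by_cases hY1 : ∃ s ∈ Y U1 U3, s ≠ 1
  · refine Or.inr (QuadNonred.exists_pos h.rev hf hf1 hY1 ?_)
    push Not at h13
    obtain ⟨x, hx, b, hb, hxb⟩ := h13
    exact ⟨x, hx, fun hY => hxb ((mem_Y.1 hY).2 b hb)⟩
  exfalso
  push Not at hY4 hY1
  apply h13
  -- `U1` and `U3` are abelian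
  have c1 : ∀ a ∈ U1, ∀ b ∈ U1, Commute a b := by
    intro a ha b hb
    have h1 : a⁻¹ * b⁻¹ * a * b = 1 := by
      apply hY1
      rw [mem_Y]
      exact ⟨U1.mul_mem (U1.mul_mem (U1.mul_mem (U1.inv_mem ha) (U1.inv_mem hb)) ha) hb,
        fun c hc => h.comm1_mem_Y1 ha hb hc⟩
    change a * b = b * a
    calc a * b = b * a * (a⁻¹ * b⁻¹ * a * b) := by group
      _ = b * a := by rw [h1, mul_one]
  have c3 : ∀ c ∈ U3, ∀ d ∈ U3, Commute c d := by
    intro c hc d hd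
    obtain ⟨a, ha, rfl⟩ := h.Ψ_surj hf hf1 hc
    obtain ⟨b, hb, rfl⟩ := h.Ψ_surj hf hf1 hd
    change _ = _
    rw [← Φ_mul, ← Φ_mul, (c1 a ha b hb).eq]
  intro a ha c hc
  rw [← κ_eq_one_iff]
  obtain ⟨z, hz, hz'⟩ := h.Φ_surj he he1 (h.k13 a ha c hc)
  have hzY : z ∈ Y U4 U2 := by
    rw [mem_Y]
    refine ⟨hz, fun b hb => ?_⟩
    have h3 := (h.hall_witt c3 ha hc (h.m2 e he he1 b hb)).eq
    rw [← hz', Φ_ne m he1] at h3
    have h4 : m e * (z * b) * (m e)⁻¹ = m e * (b * z) * (m e)⁻¹ := by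
      calc m e * (z * b) * (m e)⁻¹ = (m e * z * (m e)⁻¹) * (m e * b * (m e)⁻¹) := by group
        _ = (m e * b * (m e)⁻¹) * (m e * z * (m e)⁻¹) := h3
        _ = m e * (b * z) * (m e)⁻¹ := by group
    exact mul_left_cancel (mul_right_cancel h4)
  rw [← hz', hY4 z hzY, Φ_one_right]

/-- Finite Moufang quadrangles. -/
theorem of_rootSys [Finite G] (R : RootSys 4 G) :
    HasPos (R.X 1) (R.X 2) (R.X 3) (R.X 4) ∨ HasPos (R.X 4) (R.X 3) (R.X 2) (R.X 1) := by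
  obtain ⟨e, he, he1⟩ := (Subgroup.ne_bot_iff_exists_ne_one).1 (R.ne_bot 1) |>.elim
    fun a ha => (⟨a, a.2, fun h => ha (Subtype.ext h)⟩ : ∃ e ∈ R.X 1, e ≠ 1)
  obtain ⟨f, hf, hf1⟩ := (Subgroup.ne_bot_iff_exists_ne_one).1 (R.ne_bot 4) |>.elim
    fun a ha => (⟨a, a.2, fun h => ha (Subtype.ext h)⟩ : ∃ f ∈ R.X 4, f ≠ 1)
  exact of_quad (QuadOfRoot788.quad_of_rootSys R) he he1 hf hf1

end Cfsg.Agent.SplitTwo.QuadMain
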