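import Cfsg.Agent.SplitTwo.QuadB2Final
import Cfsg.Agent.SplitTwo.QuadMain

/-!
# The case `m = 4` of S1144
-/

set_option autoImplicit false

namespace Cfsg.Agent.SplitTwo.QuadEnd

open Cfsg.Agent.TitsThree.Top

universe u

/-- **Case `m = 4`**: a finite simple group with a root group system of type `B₂` is of Lie type. -/
theorem lieConcl {G : Type u} [Group G] [Finite G] [IsSimpleGroup G] (R : RootSys 4 G) : LieConcl G := by
  rcases QuadMain.of_rootSys R with ⟨K, i1, S, x, y, z₁, z₂, i2, h⟩ | ⟨K, i1, S, x, y, z₁, z₂, i2, h⟩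
  · exact QuadB2Final.lieConcl_of_pos R h
  · exact QuadB2Final.lieConcl_of_pos' R h

end Cfsg.Agent.SplitTwo.QuadEnd
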