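import Mathlib
import Cfsg.Prelude.Def_Classical
import Cfsg.Agent.TitsThree.A2Field
import Cfsg.Agent.SplitTwo.RootSys

/-!
# Finite Moufang triangles (the case `m = 3` of S1144)

`X : ZMod 6 → Subgroup G`: the six root groups in cyclic order (`X (i + 3)` opposite to `X i`).  A finite
simple group generated by them is `PSL₃(F)`.
-/

set_option autoImplicit false

namespace Cfsg.Agent.SplitTwo.Three

open scoped commutatorElement
open Cfsg.Agent.AGraded Cfsg.Agent.TitsThree.A2Refl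

universe u

variable {G : Type u} [Group G] {X : ZMod 6 → Subgroup G}

/-- the hypotheses: root groups of a Moufang triangle -/
structure Tri (X : ZMod 6 → Subgroup G) : Prop where
  ne_bot : ∀ i, X i ≠ ⊥
  comm : ∀ i, ∀ a ∈ X i, ∀ b ∈ X (i + 1), a * b = b * a
  br : ∀ i, ∀ a ∈ X i, ∀ b ∈ X (i + 2), ⁅a, b⁆ ∈ X (i + 1)
  inter : ∀ i, ∀ c ∈ X i, c ∈ X (i + 1) → c = 1
  mu : ∀ i, ∀ u ∈ X i, u ≠ 1 → ∃ v ∈ X (i + 3), ∃ v' ∈ X (i + 3), ∀ j, ∀ c ∈ X j,
    (v * u * v') * c * (v * u * v')⁻¹ ∈ X (2 * i + 3 - j)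

namespace Tri

variable (h : Tri X)
include h

theorem comm' {i : ZMod 6} {a b : G} (ha : a ∈ X (i + 1)) (hb : b ∈ X i) : a * b = b * a :=
  (h.comm i b hb a ha).symm

theorem br' (i : ZMod 6) {a b : G} (ha : a ∈ X (i + 2)) (hb : b ∈ X i) : ⁅a, b⁆ ∈ X (i + 1) := by
  rw [← commutatorElement_inv]
  exact (X (i + 1)).inv_mem (h.br i b hb a ha)

/-- `μ(a)` acts on `X (i + 2)` as `b ↦ [a, b]` -/
theorem mu_eq {i : ZMod 6} {a v v' : G} (ha : a ∈ X i) (hv : v ∈ X (i + 3)) (hv' : v' ∈ X (i + 3))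
    (hn : ∀ j, ∀ c ∈ X j, (v * a * v') * c * (v * a * v')⁻¹ ∈ X (2 * i + 3 - j)) {b : G} (hb : b ∈ X (i + 2)) :
    (v * a * v') * b * (v * a * v')⁻¹ = ⁅a, b⁆ := by
  have e3 : i + 2 + 1 = i + 3 := by ring
  have c1 : v' * b * v'⁻¹ = b := by
    rw [h.comm' (i := i + 2) (by rw [e3]; exact hv') hb, mul_inv_cancel_right]
  have c2 : v * b * v⁻¹ = b := by
    rw [h.comm' (i := i + 2) (by rw [e3]; exact hv) hb, mul_inv_cancel_right]
  have hab : ⁅a, b⁆ ∈ X (i + 1) := h.br i a ha b hb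
  have hvab : ⁅v, ⁅a, b⁆⁆ ∈ X (i + 2) := by
    have := h.br' (i + 1) (a := v) (b := ⁅a, b⁆) (by rw [show i + 1 + 2 = i + 3 by ring]; exact hv) hab
    rwa [show i + 1 + 1 = i + 2 by ring] at this
  have hc : ⁅a, b⁆ * ⁅v, ⁅a, b⁆⁆ = ⁅v, ⁅a, b⁆⁆ * ⁅a, b⁆ :=
    h.comm (i + 1) _ hab _ (by rw [show i + 1 + 1 = i + 2 by ring]; exact hvab)
  have e : (v * a * v') * b * (v * a * v')⁻¹ = ⁅a, b⁆ * (⁅v, ⁅a, b⁆⁆ * b) := by
    calc (v * a * v') * b * (v * a * v')⁻¹ = v * (a * (v' * b * v'⁻¹) * a⁻¹) * v⁻¹ := by group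
      _ = v * (a * b * a⁻¹) * v⁻¹ := by rw [c1]
      _ = (v * ⁅a, b⁆ * v⁻¹) * (v * b * v⁻¹) := by simp only [commutatorElement_def]; group
      _ = (⁅v, ⁅a, b⁆⁆ * ⁅a, b⁆) * b := by rw [c2]; simp only [commutatorElement_def]; group
      _ = ⁅a, b⁆ * (⁅v, ⁅a, b⁆⁆ * b) := by rw [← hc, mul_assoc]
  have hn1 := hn (i + 2) b hb
  rw [show 2 * i + 3 - (i + 2) = i + 1 by ring] at hn1
  have h1 : ⁅v, ⁅a, b⁆⁆ * b = 1 := by
    apply h.inter (i + 1)
    · have : ⁅v, ⁅a, b⁆⁆ * b = ⁅a, b⁆⁻¹ * ((v * a * v') * b * (v * a * v')⁻¹) := by rw [e]; group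
      rw [this]
      exact (X (i + 1)).mul_mem ((X (i + 1)).inv_mem hab) hn1
    · rw [show i + 1 + 1 = i + 2 by ring]
      exact (X (i + 2)).mul_mem hvab hb
  rw [e, h1, mul_one]

theorem br_ne {i : ZMod 6} {a b : G} (ha : a ∈ X i) (ha1 : a ≠ 1) (hb : b ∈ X (i + 2)) (hb1 : b ≠ 1) :
    ⁅a, b⁆ ≠ 1 := by
  obtain ⟨v, hv, v', hv', hn⟩ := h.mu i a ha ha1
  rw [← h.mu_eq ha hv hv' hn hb]
  intro h1
  apply hb1
  have := congrArg (fun x => (v * a * v')⁻¹ * x * (v * a * v')) h1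
  simpa [mul_assoc] using this

theorem br_surj [Finite G] {i : ZMod 6} {a : G} (ha : a ∈ X i) (ha1 : a ≠ 1) {c : G} (hc : c ∈ X (i + 1)) :
    ∃ b ∈ X (i + 2), ⁅a, b⁆ = c := by
  obtain ⟨v, hv, v', hv', hn⟩ := h.mu i a ha ha1
  set n := v * a * v' with hn_def
  let f : X (i + 2) → X (i + 1) := fun b => ⟨n * b * n⁻¹, by
    have := hn (i + 2) b b.2
    rwa [show 2 * i + 3 - (i + 2) = i + 1 by ring] at this⟩
  let g : X (i + 1) → X (i + 2) := fun b => ⟨n * b * n⁻¹, by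
    have := hn (i + 1) b b.2
    rwa [show 2 * i + 3 - (i + 1) = i + 2 by ring] at this⟩
  have hf : Function.Injective f := by
    intro b b' hbb
    have : n * b * n⁻¹ = n * b' * n⁻¹ := congrArg Subtype.val hbb
    exact Subtype.ext (by simpa using this)
  have hg : Function.Injective g := by
    intro b b' hbb
    have : n * b * n⁻¹ = n * b' * n⁻¹ := congrArg Subtype.val hbb
    exact Subtype.ext (by simpa using this)
  have hfg : Function.Surjective (f ∘ g) := Finite.surjective_of_injective (hf.comp hg)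
  obtain ⟨b, hb⟩ := hfg ⟨c, hc⟩
  refine ⟨g b, (g b).2, ?_⟩
  rw [← h.mu_eq ha hv hv' hn (g b).2]
  exact congrArg Subtype.val hb

theorem abelian [Finite G] {i : ZMod 6} {a b : G} (ha : a ∈ X i) (hb : b ∈ X i) : a * b = b * a := by
  obtain ⟨e, he, he1⟩ := (X (i - 1)).bot_or_exists_ne_one.resolve_left (h.ne_bot (i - 1))
  have h1 : i - 1 + 1 = i := by ring
  obtain ⟨d, hd, rfl⟩ := h.br_surj he he1 (c := a) (by rw [h1]; exact ha)
  have c1 : Commute e b := h.comm (i - 1) e he b (by rw [h1]; exact hb)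
  have c2 : Commute d b :=
    h.comm' (i := i) (by rw [show i + 1 = i - 1 + 2 by ring]; exact hd) hb
  rw [commutatorElement_def]
  exact ((((c1.mul_left c2).mul_left c1.inv_left).mul_left c2.inv_left)).eq

end Tri

/-- the position of the root `e_i - e_j` -/
def pos : Fin 3 → Fin 3 → ZMod 6
  | 0, 1 => 0
  | 0, 2 => 1
  | 1, 2 => 2
  | 1, 0 => 3
  | 2, 0 => 4
  | 2, 1 => 5
  | _, _ => 0

theorem pos_comm : ∀ i j k l : Fin 3, i ≠ j → k ≠ l → j ≠ k → i ≠ l →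
    pos k l = pos i j ∨ pos k l = pos i j + 1 ∨ pos i j = pos k l + 1 := by
  intro i j
  fin_cases i <;> fin_cases j <;> decide

theorem pos_br : ∀ i j k : Fin 3, i ≠ j → j ≠ k → i ≠ k →
    (pos j k = pos i j + 2 ∧ pos i k = pos i j + 1) ∨ (pos i j = pos j k + 2 ∧ pos i k = pos j k + 1) := by decide

theorem pos_opp : ∀ i j : Fin 3, i ≠ j → pos j i = pos i j + 3 := by decide

theorem pos_ij : ∀ i j : Fin 3, i ≠ j → 2 * pos i j + 3 - pos i j = pos j i := by decide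

theorem pos_ji : ∀ i j : Fin 3, i ≠ j → 2 * pos i j + 3 - pos j i = pos i j := by decide

theorem pos_ik : ∀ i j : Fin 3, i ≠ j → ∀ k, k ≠ i → k ≠ j → 2 * pos i j + 3 - pos i k = pos j k := by decide

theorem pos_jk : ∀ i j : Fin 3, i ≠ j → ∀ k, k ≠ i → k ≠ j → 2 * pos i j + 3 - pos j k = pos i k := by decide

theorem pos_ki : ∀ i j : Fin 3, i ≠ j → ∀ k, k ≠ i → k ≠ j → 2 * pos i j + 3 - pos k i = pos k j := by decide

theorem pos_kj : ∀ i j : Fin 3, i ≠ j → ∀ k, k ≠ i → k ≠ j → 2 * pos i j + 3 - pos k j = pos k i := by decide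

theorem pos_surj : ∀ q : ZMod 6, ∃ i j : Fin 3, i ≠ j ∧ pos i j = q := by decide

theorem Tri.graded [Finite G] (h : Tri X) : Graded (fun i j : Fin 3 => X (pos i j)) where
  comm := by
    intro i j k l hij hkl hjk hil a ha b hb
    rcases pos_comm i j k l hij hkl hjk hil with e | e | e
    · simp only [e] at hb
      exact h.abelian ha hb
    · simp only [e] at hb
      exact h.comm _ a ha b hb
    · simp only [e] at ha
      exact h.comm' ha hb
  br_mem := by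
    intro i j k hij hjk hik a ha b hb
    rcases pos_br i j k hij hjk hik with ⟨e, e'⟩ | ⟨e, e'⟩
    · simp only [e] at hb
      show ⁅a, b⁆ ∈ X (pos i k)
      rw [e']
      exact h.br _ a ha b hb
    · simp only [e] at ha
      show ⁅a, b⁆ ∈ X (pos i k)
      rw [e']
      exact h.br' _ ha hb
  br_ne := by
    intro i j k hij hjk hik a ha b hb ha1 hb1
    rcases pos_br i j k hij hjk hik with ⟨e, e'⟩ | ⟨e, e'⟩
    · simp only [e] at hb
      exact h.br_ne ha ha1 hb hb1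
    · simp only [e] at ha
      intro h0
      apply h.br_ne hb hb1 ha ha1
      rw [← commutatorElement_inv, h0, inv_one]
  ne_bot := by
    intro i j hij
    exact (X (pos i j)).bot_or_exists_ne_one.resolve_left (h.ne_bot _)

theorem Tri.rgd (h : Tri X) : Rgd (fun i j : Fin 3 => X (pos i j)) := by
  intro i j hij a ha ha1
  obtain ⟨v, hv, v', hv', hn⟩ := h.mu _ a ha ha1
  have hv1 : v ∈ X (pos j i) := by rw [pos_opp i j hij]; exact hv
  have hv1' : v' ∈ X (pos j i) := by rw [pos_opp i j hij]; exact hv'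
  refine ⟨v, hv1, v', hv1', ⟨?_, ?_, ?_, ?_, ?_, ?_⟩⟩
  · intro c hc
    have := hn _ c hc
    rwa [pos_ij i j hij] at this
  · intro c hc
    have := hn _ c hc
    rwa [pos_ji i j hij] at this
  · intro k hki hkj c hc
    have := hn _ c hc
    rwa [pos_ik i j hij k hki hkj] at this
  · intro k hki hkj c hc
    have := hn _ c hc
    rwa [pos_jk i j hij k hki hkj] at this
  · intro k hki hkj c hc
    have := hn _ c hc
    rwa [pos_ki i j hij k hki hkj] at this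
  · intro k hki hkj c hc
    have := hn _ c hc
    rwa [pos_kj i j hij k hki hkj] at this

/-- **The case `m = 3`.** -/
theorem nonempty_psl [Finite G] [IsSimpleGroup G] (h : Tri X) (hgen : ∀ K : Subgroup G, (∀ i, X i ≤ K) → K = ⊤) :
    ∃ (F : Type) (_ : Field F) (_ : Fintype F), Nonempty (G ≃* Matrix.ProjectiveSpecialLinearGroup (Fin 3) F) := by
  obtain ⟨F, _, _, x, hx, hX⟩ := TitsThree.A2Field.exists_field h.graded h.rgd
  refine ⟨F, inferInstance, inferInstance, Cfsg.Agent.AGraded.nonempty_psl hx (by simp) ?_⟩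
  apply hgen
  intro q y hy
  obtain ⟨i, j, hij, rfl⟩ := pos_surj q
  obtain ⟨a, rfl, -⟩ := (hX i j hij).2 y hy
  exact Subgroup.subset_closure ⟨i, j, hij, a, rfl⟩

theorem isPSL [Finite G] [IsSimpleGroup G] (h : Tri X) (hgen : ∀ K : Subgroup G, (∀ i, X i ≤ K) → K = ⊤) :
    Cfsg.IsPSL G := by
  obtain ⟨F, i1, i2, e⟩ := nonempty_psl h hgen
  exact ⟨F, i1, i2, 3, by norm_num, by norm_num, e⟩

/-- the root groups of a `RootSys 3` -/
theorem tri_of_rootSys (R : RootSys 3 G) : Tri (X := (R.X : ZMod 6 → Subgroup G)) where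
  ne_bot := R.ne_bot
  comm := by
    intro i a ha b hb
    have h1 : ⁅R.X i, R.X (i + ((1 : ℕ) : ZMod (2 * 3)))⁆ ≤
        ⨆ r ∈ Set.Ioo 0 1, R.X (i + ((r : ℕ) : ZMod (2 * 3))) := R.comm i 1 le_rfl (by norm_num)
    have h2 : (⨆ r ∈ Set.Ioo 0 1, R.X (i + ((r : ℕ) : ZMod (2 * 3)))) = ⊥ := by
      rw [eq_bot_iff]
      refine iSup₂_le fun r hr => ?_
      have := Set.mem_Ioo.1 hr
      omega
    rw [h2] at h1
    have h3 : ⁅a, b⁆ ∈ (⊥ : Subgroup G) := h1 (Subgroup.commutator_mem_commutator ha (by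
      have e : (i + ((1 : ℕ) : ZMod (2 * 3)) : ZMod (2 * 3)) = i + 1 := by norm_num
      rw [e]; exact hb))
    exact commutatorElement_eq_one_iff_mul_comm.1 (Subgroup.mem_bot.1 h3)
  br := by
    intro i a ha b hb
    have h1 : ⁅R.X i, R.X (i + ((2 : ℕ) : ZMod (2 * 3)))⁆ ≤
        ⨆ r ∈ Set.Ioo 0 2, R.X (i + ((r : ℕ) : ZMod (2 * 3))) := R.comm i 2 (by norm_num) (by norm_num)
    have h2 : (⨆ r ∈ Set.Ioo 0 2, R.X (i + ((r : ℕ) : ZMod (2 * 3)))) ≤ R.X (i + 1) := by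
      refine iSup₂_le fun r hr => ?_
      have := Set.mem_Ioo.1 hr
      have e : r = 1 := by omega
      subst e
      have e : (i + ((1 : ℕ) : ZMod (2 * 3)) : ZMod (2 * 3)) = i + 1 := by norm_num
      rw [e]
    refine h2 (h1 (Subgroup.commutator_mem_commutator ha ?_))
    have e : (i + ((2 : ℕ) : ZMod (2 * 3)) : ZMod (2 * 3)) = i + 2 := by norm_num
    rw [e]; exact hb
  inter := by
    intro i c hc hc'
    have h1 := R.inter i
    have h2 : R.X (i + 1) ≤ ⨆ r ∈ Set.Ioo 0 3, R.X (i + ((r : ℕ) : ZMod (2 * 3))) := by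
      have e : (i + ((1 : ℕ) : ZMod (2 * 3)) : ZMod (2 * 3)) = i + 1 := by norm_num
      rw [← e]
      exact le_iSup₂_of_le 1 (by norm_num) le_rfl
    have h3 : c ∈ (⊥ : Subgroup G) := by
      rw [← h1]
      exact Subgroup.mem_inf.2 ⟨hc, h2 hc'⟩
    exact Subgroup.mem_bot.1 h3
  mu := by
    intro i u hu hu1
    obtain ⟨v, hv, v', hv', hn⟩ := R.mu i u hu hu1
    exact ⟨v, hv, v', hv', fun j c hc => (hn j c).2 hc⟩

/-- **Finite Moufang triangles**, final form. -/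
theorem isPSL_of_rootSys [Finite G] [IsSimpleGroup G] (R : RootSys 3 G) : Cfsg.IsPSL G := by
  refine isPSL (tri_of_rootSys R) fun K hK => ?_
  rw [eq_top_iff, ← R.gen]
  exact iSup_le hK

end Cfsg.Agent.SplitTwo.Three
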