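import Cfsg.Agent.SplitTwo.Assemble880
import Cfsg.Agent.SplitTwo.Final
import Cfsg.Agent.SplitTwo.Three
import Cfsg.Agent.SplitTwo.QuadEnd
import Cfsg.Agent.TitsThree.Top

/-!
S1144, assembly: everything as arguments (rank one fact, [N], hexagons, octagons, S1143, S1146).
-/

set_option autoImplicit false

namespace Cfsg.Agent.SplitTwo.Assembly880

open Cfsg.Agent.SplitTwo.Reducible Cfsg.Agent.SplitTwo.Final
open Cfsg.Agent.TitsThree.Top (LieConcl)

universe u

/-- The conclusion of S1146. -/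
def RankOneConcl (G : Type*) [Group G] : Prop :=
  (∃ (F : Type) (_ : Field F) (_ : Fintype F), Nonempty (G ≃* Matrix.ProjectiveSpecialLinearGroup (Fin 2) F)) ∨
    (∃ (F : Type) (_ : Field F) (_ : Fintype F) (q : ℕ), Fintype.card F = q ^ 2 ∧ Nonempty (G ≃* Cfsg.PSU 3 F q)) ∨
    Cfsg.Lie.IsoSuzuki G ∨ Cfsg.Lie.IsoRee G

/-- S1144 from its ingredients. -/
theorem main (hR : RankOneR.{u}) (hN : NMain.{u})
    (h6 : ∀ (G : Type u) [Group G] [Finite G] [IsSimpleGroup G], RootSys 6 G → LieConcl G)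
    (h8 : ∀ (G : Type u) [Group G] [Finite G] [IsSimpleGroup G], RootSys 8 G → LieConcl G)
    (hA : ∀ (G : Type u) [Group G] [Finite G] [IsSimpleGroup G] (P : Cfsg.BNPair G),
      P.rank = 1 → P.IsSplit → RankOneConcl G)
    (hB : ∀ (G : Type u) [Group G] [Finite G] [IsSimpleGroup G] (P : Cfsg.BNPair G),
      3 ≤ P.rank → P.Irreducible → LieConcl G)
    {G : Type u} [Group G] [Finite G] [IsSimpleGroup G]
    (P : Cfsg.BNPair G) (h1 : 1 ≤ P.rank) (hsplit : P.IsSplit) : LieConcl G := by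
  rcases Nat.lt_or_ge P.rank 3 with h3 | h3
  · rcases (show P.rank = 1 ∨ P.rank = 2 by omega) with h | h
    · exact Assemble880.lie_of_rankOne (Assemble880.not_comm P h1) (hA G P h hsplit)
    · obtain ⟨m, hm, ⟨R⟩⟩ := exists_rootSys hN P hsplit (irreducible_of_split hR P hsplit) h
      rcases hm with rfl | rfl | rfl | rfl
      · exact Or.inl (Three.isPSL_of_rootSys R)
      · exact QuadEnd.lieConcl R
      · exact h6 G R
      · exact h8 G R
  · exact hB G P h3 (irreducible_of_split hR P hsplit)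

end Cfsg.Agent.SplitTwo.Assembly880
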