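import Cfsg.Agent.SplitTwo.Reducible

/-!
Consequences of the rank one fact `RankOneR` used in part [N] of S1144: the order of the nilpotent normal
subgroup `M` of the point stabiliser is `q` or `2 q` (`q + 1` the degree), in the second case `4 ∣ q`, and if
moreover `M` is a `2`-group, then the degree is `9`.
-/

set_option autoImplicit false
set_option linter.unusedSectionVars false

namespace Cfsg.Agent.SplitTwo.Eps168

universe u

open Cfsg.Agent.SplitTwo.Reducible

/-- The data of `RankOneR`. -/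
structure Data {Ω : Type u} (R M : Subgroup (Equiv.Perm Ω)) (a : Ω) : Prop where
  two : ∀ x y x' y' : Ω, x ≠ y → x' ≠ y' → ∃ g ∈ R, g x = x' ∧ g y = y'
  le : M ≤ R
  fix : ∀ m ∈ M, m a = a
  norm : ∀ r ∈ R, r a = a → ∀ m ∈ M, r * m * r⁻¹ ∈ M
  nil : Group.IsNilpotent M
  trans : ∀ x y : Ω, x ≠ a → y ≠ a → ∃ m ∈ M, m x = y

/-- A regular normal abelian subgroup. -/
structure Aff {Ω : Type u} (R A : Subgroup (Equiv.Perm Ω)) : Prop where
  le : A ≤ R
  norm : ∀ r ∈ R, ∀ x ∈ A, r * x * r⁻¹ ∈ A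
  comm : ∀ x ∈ A, ∀ y ∈ A, x * y = y * x
  trans : ∀ x y : Ω, ∃ g ∈ A, g x = y

section

variable {Ω : Type u} {R M A : Subgroup (Equiv.Perm Ω)} {a b : Ω}

theorem Data.unique (hR : RankOneR.{u}) [Finite Ω] (D : Data R M a) (hb : b ≠ a) :
    ∀ m ∈ M, ∀ m' ∈ M, m b = b → m' b = b → m ≠ 1 → m' ≠ 1 → m = m' :=
  (hR Ω R M a b hb D.two D.le D.fix D.norm D.nil D.trans).1

theorem Data.aff (hR : RankOneR.{u}) [Finite Ω] (D : Data R M a) (hb : b ≠ a)
    (h : ∃ m ∈ M, m b = b ∧ m ≠ 1) : ∃ A, Aff R A := by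
  obtain ⟨A, h1, h2, h3, h4⟩ := (hR Ω R M a b hb D.two D.le D.fix D.norm D.nil D.trans).2 h
  exact ⟨A, h1, h2, h3, h4⟩

theorem Aff.free (hA : Aff R A) {x : Equiv.Perm Ω} (hx : x ∈ A) {c : Ω} (hc : x c = c) : x = 1 := by
  ext y
  obtain ⟨g, hg, rfl⟩ := hA.trans c y
  rw [Equiv.Perm.one_apply, ← Equiv.Perm.mul_apply, hA.comm x hx g hg, Equiv.Perm.mul_apply, hc]

/-- `A` is in bijection with `Ω`. -/
noncomputable def Aff.equiv (hA : Aff R A) (a : Ω) : A ≃ Ω :=
  Equiv.ofBijective (fun x => (x : Equiv.Perm Ω) a)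
    ⟨by
      intro x y hxy
      have h1 : ((x⁻¹ * y : A) : Equiv.Perm Ω) a = a := by
        change (x : Equiv.Perm Ω)⁻¹ ((y : Equiv.Perm Ω) a) = a
        rw [← show (x : Equiv.Perm Ω) a = (y : Equiv.Perm Ω) a from hxy]
        exact Equiv.Perm.inv_eq_iff_eq.2 rfl
      have h2 := hA.free (x⁻¹ * y : A).2 h1
      have h3 : x⁻¹ * y = 1 := Subtype.ext h2
      exact inv_mul_eq_one.1 h3,
    by
      intro y
      obtain ⟨g, hg, hgy⟩ := hA.trans a y
      exact ⟨⟨g, hg⟩, hgy⟩⟩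

theorem Aff.equiv_apply (hA : Aff R A) (a : Ω) (x : A) : hA.equiv a x = (x : Equiv.Perm Ω) a := rfl

/-- The centraliser of `t` in `A`. -/
def cen (A : Subgroup (Equiv.Perm Ω)) (t : Equiv.Perm Ω) : Subgroup A where
  carrier := {x | t * x = x * t}
  mul_mem' := by
    intro x y hx hy
    change t * (x * y) = x * y * t
    rw [← mul_assoc, show t * x = x * t from hx, mul_assoc, show t * y = y * t from hy, mul_assoc]
  one_mem' := by
    change t * 1 = 1 * t
    rw [mul_one, one_mul]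
  inv_mem' := by
    intro x hx
    change t * (x : Equiv.Perm Ω)⁻¹ = (x : Equiv.Perm Ω)⁻¹ * t
    exact (Commute.inv_right (show Commute t (x : Equiv.Perm Ω) from hx)).eq

theorem mem_cen {t : Equiv.Perm Ω} {x : A} : x ∈ cen A t ↔ t * x = x * t := Iff.rfl

theorem Aff.mem_cen_iff (hA : Aff R A) {t : Equiv.Perm Ω} (ht : t ∈ R) (hta : t a = a) (x : A) :
    x ∈ cen A t ↔ t (hA.equiv a x) = hA.equiv a x := by
  rw [hA.equiv_apply, mem_cen]
  constructor
  · intro h
    rw [← Equiv.Perm.mul_apply, h, Equiv.Perm.mul_apply, hta]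
  · intro h
    have h1 : ((x : Equiv.Perm Ω)⁻¹ * (t * x * t⁻¹)) a = a := by
      rw [Equiv.Perm.mul_apply, Equiv.Perm.mul_apply, Equiv.Perm.mul_apply]
      have h2 : t⁻¹ a = a := by rw [Equiv.Perm.inv_eq_iff_eq, hta]
      rw [h2, h]
      exact Equiv.Perm.inv_eq_iff_eq.2 rfl
    have h3 := hA.free (mul_mem (inv_mem x.2) (hA.norm t ht x x.2)) h1
    rw [inv_mul_eq_one, eq_mul_inv_iff_mul_eq] at h3
    exact h3.symm

theorem Aff.card_fix (hA : Aff R A) {t : Equiv.Perm Ω} (ht : t ∈ R) (hta : t a = a) :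
    Nat.card (cen A t) = Nat.card {x // t x = x} := by
  refine Nat.card_congr ((hA.equiv a).subtypeEquiv fun x => ?_)
  exact hA.mem_cen_iff ht hta x

theorem Aff.card_eq (hA : Aff R A) (a : Ω) : Nat.card A = Nat.card Ω := Nat.card_congr (hA.equiv a)

/-- The number of fixed points divides the degree. -/
theorem Aff.card_mul_index (hA : Aff R A) {t : Equiv.Perm Ω} (ht : t ∈ R) (hta : t a = a) :
    Nat.card {x // t x = x} * (cen A t).index = Nat.card Ω := by
  rw [← hA.card_fix ht hta, ← hA.card_eq a]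
  exact Subgroup.card_mul_index _

theorem Aff.cen_ne_top (hA : Aff R A) {t : Equiv.Perm Ω} (ht : t ∈ R) (hta : t a = a) (ht1 : t ≠ 1) :
    cen A t ≠ ⊤ := by
  intro h
  apply ht1
  ext y
  have h1 := (hA.mem_cen_iff ht hta ((hA.equiv a).symm y)).1 (by rw [h]; trivial)
  rw [Equiv.apply_symm_apply] at h1
  exact h1

variable [Finite Ω]

theorem Aff.fix_le (hA : Aff R A) {t : Equiv.Perm Ω} (ht : t ∈ R) (hta : t a = a) (ht1 : t ≠ 1)
    (hodd : Odd (Nat.card Ω)) : 3 * Nat.card {x // t x = x} ≤ Nat.card Ω := by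
  have h1 := hA.card_mul_index ht hta
  have h2 : (cen A t).index ≠ 1 := fun h => hA.cen_ne_top ht hta ht1 (Subgroup.index_eq_one.1 h)
  have h3 : Odd (cen A t).index := by
    rw [← h1] at hodd
    exact (Nat.odd_mul.1 hodd).2
  obtain ⟨k, hk⟩ := h3
  have h4 : 3 ≤ (cen A t).index := by omega
  calc 3 * Nat.card {x // t x = x} ≤ (cen A t).index * Nat.card {x // t x = x} :=
        Nat.mul_le_mul_right _ h4
    _ = Nat.card Ω := by rw [mul_comm]; exact h1

/-- The stabiliser of `b` in `M`. -/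
theorem Data.card_eq (D : Data R M a) (hb : b ≠ a) :
    Nat.card M = (Nat.card Ω - 1) * Nat.card (MulAction.stabilizer M b) := by
  have h1 := MulAction.index_stabilizer M b
  have h2 : MulAction.orbit M b = {a}ᶜ := by
    ext x
    rw [MulAction.mem_orbit_iff, Set.mem_compl_iff, Set.mem_singleton_iff]
    constructor
    · rintro ⟨m, rfl⟩ h
      apply hb
      have h3 : (m : Equiv.Perm Ω) b = (m : Equiv.Perm Ω) a := h.trans (D.fix m m.2).symm
      exact (m : Equiv.Perm Ω).injective h3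
    · intro hx
      obtain ⟨m, hm, hmx⟩ := D.trans b x hb hx
      exact ⟨⟨m, hm⟩, hmx⟩
  rw [h2, Set.ncard_compl, Set.ncard_singleton] at h1
  rw [← h1, mul_comm]
  exact (Subgroup.card_mul_index _).symm

theorem mem_stab {m : M} : m ∈ MulAction.stabilizer M b ↔ (m : Equiv.Perm Ω) b = b := Iff.rfl

/-- The order of the stabiliser of `b` in `M` is one or two. -/
theorem Data.card_stab (hR : RankOneR.{u}) (D : Data R M a) (hb : b ≠ a) :
    Nat.card (MulAction.stabilizer M b) = 1 ∨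
      (Nat.card (MulAction.stabilizer M b) = 2 ∧ ∃ f ∈ M, f b = b ∧ f ≠ 1 ∧ f * f = 1) := by
  have hu := D.unique hR hb
  by_cases h : ∃ f ∈ M, f b = b ∧ f ≠ 1
  · right
    obtain ⟨f, hf, hfb, hf1⟩ := h
    have hff : f * f = 1 := by
      have h2 : f⁻¹ b = b := by rw [Equiv.Perm.inv_eq_iff_eq, hfb]
      have h3 := hu f hf f⁻¹ (inv_mem hf) hfb h2 hf1 (inv_ne_one.2 hf1)
      rw [eq_inv_iff_mul_eq_one] at h3
      exact h3
    refine ⟨?_, f, hf, hfb, hf1, hff⟩
    have h4 : MulAction.stabilizer M b = Subgroup.zpowers (⟨f, hf⟩ : M) := by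
      apply le_antisymm
      · intro m hm
        rw [mem_stab] at hm
        by_cases hm1 : (m : Equiv.Perm Ω) = 1
        · have : m = 1 := Subtype.ext hm1
          rw [this]
          exact one_mem _
        · have h5 := hu m m.2 f hf hm hfb hm1 hf1
          have : m = ⟨f, hf⟩ := Subtype.ext h5
          rw [this]
          exact Subgroup.mem_zpowers _
      · rw [Subgroup.zpowers_le, mem_stab]
        exact hfb
    rw [h4, Nat.card_zpowers]
    apply orderOf_eq_prime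
    · rw [pow_two]
      exact Subtype.ext hff
    · intro h
      exact hf1 (congrArg Subtype.val h)
  · left
    push Not at h
    rw [Subgroup.card_eq_one, Subgroup.eq_bot_iff_forall]
    intro m hm
    exact Subtype.ext (h m m.2 hm)

/-- In a nilpotent subgroup, a Sylow 2-subgroup contains all involutions. -/
theorem invol_mem {f : M} (hf : f * f = 1) (hnil : Group.IsNilpotent M) (E : Sylow 2 M) : f ∈ E := by
  have h1 : IsPGroup 2 (Subgroup.zpowers f) := by
    rintro ⟨x, n, rfl⟩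
    refine ⟨1, Subtype.ext ?_⟩
    have h2 : f ^ 2 = 1 := by rw [pow_two, hf]
    change (f ^ n) ^ (2 ^ 1) = 1
    rw [pow_one, ← zpow_natCast, ← zpow_mul, mul_comm, zpow_mul, zpow_natCast, h2, one_zpow]
  obtain ⟨Q, hQ⟩ := h1.exists_le_sylow
  have hn : (E : Subgroup M).Normal :=
    (Group.isNilpotent_of_finite_tfae.out 0 3 rfl rfl).1 hnil 2 inferInstance E
  obtain ⟨g, hg⟩ := MulAction.exists_smul_eq M E Q
  rw [Sylow.smul_eq_of_normal] at hg
  rw [← hg] at hQ
  exact hQ (Subgroup.mem_zpowers _)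

theorem Data.eps (hR : RankOneR.{u}) (D : Data R M a) (hb : b ≠ a) :
    ∃ ε, Nat.card M = (Nat.card Ω - 1) * ε ∧ (ε = 1 ∨ (ε = 2 ∧ 4 ∣ Nat.card Ω - 1)) := by
  classical
  refine ⟨_, D.card_eq hb, ?_⟩
  rcases D.card_stab hR hb with h | ⟨h, f, hf, hfb, hf1, hff⟩
  · exact Or.inl h
  right
  refine ⟨h, ?_⟩
  obtain ⟨A, hA⟩ := D.aff hR hb ⟨f, hf, hfb, hf1⟩
  have hcard := D.card_eq hb
  rw [h] at hcard
  by_contra h4
  set q := Nat.card Ω - 1 with hq
  set E : Sylow 2 M := default with hE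
  have hEn : (E : Subgroup M).Normal :=
    (Group.isNilpotent_of_finite_tfae.out 0 3 rfl rfl).1 D.nil 2 inferInstance E
  have hfE : (⟨f, hf⟩ : M) ∈ E := invol_mem (Subtype.ext hff) D.nil E
  -- every point is fixed by a nontrivial element of `E`
  have hcov : ∀ x : Ω, x ≠ a → ∃ e : E, (e : M) ≠ 1 ∧ ((e : M) : Equiv.Perm Ω) x = x := by
    intro x hx
    obtain ⟨m, hm, hmx⟩ := D.trans b x hb hx
    refine ⟨⟨⟨m, hm⟩ * ⟨f, hf⟩ * ⟨m, hm⟩⁻¹, hEn.conj_mem _ hfE _⟩, ?_, ?_⟩
    · intro h1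
      have h2 : (⟨m, hm⟩ * ⟨f, hf⟩ * ⟨m, hm⟩⁻¹ : M) = 1 := h1
      rw [conj_eq_one_iff] at h2
      exact hf1 (congrArg Subtype.val h2)
    · change (m * f * m⁻¹) x = x
      rw [Equiv.Perm.mul_apply, Equiv.Perm.mul_apply]
      have h2 : m⁻¹ x = b := by rw [Equiv.Perm.inv_eq_iff_eq, hmx]
      rw [h2, hfb, hmx]
  have hcE : Nat.card E = 2 ^ (Nat.card M).factorization 2 := E.card_eq_multiplicity
  have hΩ : 2 ≤ Nat.card Ω := by
    have := Fintype.ofFinite Ω
    rw [Nat.card_eq_fintype_card]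
    exact Fintype.one_lt_card_iff.2 ⟨b, a, hb⟩
  have hq0 : q ≠ 0 := by omega
  have hfac : (Nat.card M).factorization 2 = q.factorization 2 + 1 := by
    rw [hcard, Nat.factorization_mul hq0 (by norm_num), Finsupp.add_apply,
      Nat.Prime.factorization Nat.prime_two]
    simp
  have hf2 : q.factorization 2 < 2 := by
    by_contra hcon
    apply h4
    have := (Nat.prime_two.pow_dvd_iff_le_factorization hq0 (k := 2)).2 (by omega)
    norm_num at this
    exact this
  -- the count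
  have hFint := Fintype.ofFinite Ω
  have hFE := Fintype.ofFinite E
  set E' : Finset E := Finset.univ.filter (fun e => (e : M) ≠ 1) with hE'
  have hE'c : E'.card + 1 = Nat.card E := by
    rw [Nat.card_eq_fintype_card, ← Finset.card_univ]
    have h1 : E' = Finset.univ.erase (1 : E) := by
      ext e
      rw [hE', Finset.mem_filter, Finset.mem_erase]
      constructor
      · rintro ⟨_, h2⟩
        exact ⟨fun h3 => h2 (by rw [h3]; rfl), Finset.mem_univ _⟩
      · rintro ⟨h2, _⟩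
        exact ⟨Finset.mem_univ _, fun h3 => h2 (Subtype.ext h3)⟩
    rw [h1, Finset.card_erase_add_one (Finset.mem_univ _)]
  have hsub : (Finset.univ.erase a : Finset Ω) ⊆
      E'.biUnion (fun e => (Finset.univ.filter (fun x => ((e : M) : Equiv.Perm Ω) x = x)).erase a) := by
    intro x hx
    have hxa := Finset.ne_of_mem_erase hx
    obtain ⟨e, he1, he2⟩ := hcov x hxa
    rw [Finset.mem_biUnion]
    exact ⟨e, Finset.mem_filter.2 ⟨Finset.mem_univ _, he1⟩,
      Finset.mem_erase.2 ⟨hxa, Finset.mem_filter.2 ⟨Finset.mem_univ _, he2⟩⟩⟩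
  have hle := (Finset.card_le_card hsub).trans Finset.card_biUnion_le
  rw [Finset.card_erase_of_mem (Finset.mem_univ _), Finset.card_univ, ← Nat.card_eq_fintype_card,
    ← hq] at hle
  have hfixc : ∀ e ∈ E', ((Finset.univ.filter
      (fun x => ((e : M) : Equiv.Perm Ω) x = x)).erase a).card + 1 =
      Nat.card {x // ((e : M) : Equiv.Perm Ω) x = x} := by
    intro e _
    have hm : a ∈ (Finset.univ.filter (fun x => ((e : M) : Equiv.Perm Ω) x = x)) :=
      Finset.mem_filter.2 ⟨Finset.mem_univ _, D.fix _ (e : M).2⟩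
    rw [Finset.card_erase_add_one hm, Nat.card_eq_fintype_card, Fintype.card_subtype]
  rcases Nat.even_or_odd q with hev | hod
  · -- `q` even
    have hodd : Odd (Nat.card Ω) := by
      obtain ⟨k, hk⟩ := hev
      exact ⟨k, by omega⟩
    have hE4 : E'.card ≤ 3 := by
      have h1 : (Nat.card M).factorization 2 ≤ 2 := by omega
      have h2 : Nat.card E ≤ 2 ^ 2 := by
        rw [hcE]
        exact Nat.pow_le_pow_right (by norm_num) h1
      omega
    have hb3 : ∀ e ∈ E', 3 * ((Finset.univ.filter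
        (fun x => ((e : M) : Equiv.Perm Ω) x = x)).erase a).card + 3 ≤ q + 1 := by
      intro e he
      have h1 := hA.fix_le (D.le (e : M).2) (D.fix _ (e : M).2)
        (fun h2 => (Finset.mem_filter.1 he).2 (Subtype.ext h2)) hodd
      have h2 := hfixc e he
      omega
    have h5 : ∑ e ∈ E', ((Finset.univ.filter
        (fun x => ((e : M) : Equiv.Perm Ω) x = x)).erase a).card * 3 ≤ ∑ e ∈ E', (q - 2) := by
      apply Finset.sum_le_sum
      intro e he
      have := hb3 e he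
      omega
    rw [← Finset.sum_mul, Finset.sum_const, smul_eq_mul] at h5
    have h6 : E'.card * (q - 2) ≤ 3 * (q - 2) := Nat.mul_le_mul_right _ hE4
    omega
  · -- `q` odd
    have h1 : q.factorization 2 = 0 := by
      rw [Nat.factorization_eq_zero_iff]
      right; left
      intro h2
      obtain ⟨k, hk⟩ := h2
      obtain ⟨j, hj⟩ := hod
      omega
    rw [hfac, h1, zero_add, pow_one] at hcE
    have hE1 : E'.card = 1 := by omega
    obtain ⟨e, he⟩ := Finset.card_eq_one.1 hE1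
    rw [he, Finset.sum_singleton] at hle
    have he' : e ∈ E' := by rw [he]; exact Finset.mem_singleton_self _
    have h2 := hfixc e he'
    have h3 := hA.card_mul_index (D.le (e : M).2) (D.fix _ (e : M).2)
    have h4 : (cen A ((e : M) : Equiv.Perm Ω)).index ≠ 1 := fun h =>
      hA.cen_ne_top (D.le (e : M).2) (D.fix _ (e : M).2)
        (fun h5 => (Finset.mem_filter.1 he').2 (Subtype.ext h5)) (Subgroup.index_eq_one.1 h)
    have h5 : (cen A ((e : M) : Equiv.Perm Ω)).index ≠ 0 := Subgroup.index_ne_zero_of_finite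
    have h6 : Nat.card {x // ((e : M) : Equiv.Perm Ω) x = x} * 2 ≤ Nat.card Ω := by
      rw [← h3]
      exact Nat.mul_le_mul_left _ (by omega)
    omega

theorem two_powers {f₀ i j : ℕ} (h1 : f₀ - 1 = 2 ^ i) (h2 : f₀ + 1 = 2 ^ j) (h3 : Odd f₀) : f₀ = 3 := by
  obtain ⟨k, hk⟩ := h3
  have hi : 0 < 2 ^ i := by positivity
  rcases i with _ | _ | i
  · rw [pow_zero] at h1
    omega
  · omega
  · rcases j with _ | _ | j
    · omega
    · omega
    · rw [pow_succ, pow_succ] at h1 h2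
      omega

/-- If `M` is a `2`-group and not regular, then the degree is nine. -/
theorem Data.nine (hR : RankOneR.{u}) (D : Data R M a) (hb : b ≠ a) (hM : IsPGroup 2 M)
    {f : Equiv.Perm Ω} (hf : f ∈ M) (hfb : f b = b) (hf1 : f ≠ 1) :
    Nat.card Ω = 9 ∧ Nat.card M = 16 ∧ Nat.card {x // f x = x} = 3 ∧ f * f = 1 ∧
      ∃ z ∈ M, z ≠ 1 ∧ z * z = 1 ∧ (∀ m ∈ M, z * m = m * z) ∧ ∃ A, Aff R A ∧ ∀ x ∈ A, z * x * z⁻¹ = x⁻¹ := by
  classical
  have huniq : ∀ x, x ≠ a → ∀ m ∈ M, ∀ m' ∈ M, m x = x → m' x = x → m ≠ 1 → m' ≠ 1 → m = m' :=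
    fun x hx => D.unique hR hx
  have hcard := D.card_eq hb
  obtain ⟨hst, hff⟩ : Nat.card (MulAction.stabilizer M b) = 2 ∧ f * f = 1 := by
    rcases D.card_stab hR hb with h | ⟨h, g, hg, hgb, hg1, hgg⟩
    · exfalso
      rw [Subgroup.card_eq_one, Subgroup.eq_bot_iff_forall] at h
      exact hf1 (congrArg Subtype.val (h ⟨f, hf⟩ hfb))
    · rw [huniq b hb f hf g hg hfb hgb hf1 hg1]
      exact ⟨h, hgg⟩
  rw [hst] at hcard
  obtain ⟨A, hA⟩ := D.aff hR hb ⟨f, hf, hfb, hf1⟩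
  have hΩ : 2 ≤ Nat.card Ω := by
    have := Fintype.ofFinite Ω
    rw [Nat.card_eq_fintype_card]
    exact Fintype.one_lt_card_iff.2 ⟨b, a, hb⟩
  have hq4 : 4 ∣ Nat.card Ω - 1 := by
    obtain ⟨ε, h1, h2⟩ := D.eps hR hb
    rcases h2 with rfl | ⟨rfl, h2⟩
    · omega
    · exact h2
  have hodd : Odd (Nat.card Ω) := by
    obtain ⟨k, hk⟩ := hq4
    exact ⟨2 * k, by omega⟩
  have hAodd : Odd (Nat.card A) := by rw [hA.card_eq a]; exact hodd
  -- a central involution
  have hnt : Nontrivial M := ⟨⟨f, hf⟩, 1, fun h => hf1 (congrArg Subtype.val h)⟩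
  have hcn : Nontrivial (Subgroup.center M) := hM.center_nontrivial
  have hcp : IsPGroup 2 (Subgroup.center M) := hM.to_subgroup _
  obtain ⟨n, hn⟩ := (IsPGroup.iff_card).1 hcp
  have h2dvd : 2 ∣ Nat.card (Subgroup.center M) := by
    rw [hn]
    rcases n with _ | n
    · rw [pow_zero] at hn
      have := Finite.one_lt_card (α := Subgroup.center M)
      omega
    · exact dvd_pow_self 2 (Nat.succ_ne_zero n)
  obtain ⟨z, hz⟩ := exists_prime_orderOf_dvd_card' 2 h2dvd
  have hz1 : ((z : M) : Equiv.Perm Ω) ≠ 1 := by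
    intro h
    have : z = 1 := Subtype.ext (Subtype.ext h)
    rw [this, orderOf_one] at hz
    omega
  have hzz : ((z : M) : Equiv.Perm Ω) * ((z : M) : Equiv.Perm Ω) = 1 := by
    have h := pow_orderOf_eq_one z
    rw [hz, pow_two] at h
    exact congrArg (fun x : Subgroup.center M => ((x : M) : Equiv.Perm Ω)) h
  have hzc : ∀ m ∈ M, ((z : M) : Equiv.Perm Ω) * m = m * ((z : M) : Equiv.Perm Ω) := by
    intro m hm
    have h := (Subgroup.mem_center_iff.1 z.2) ⟨m, hm⟩
    exact (congrArg Subtype.val h).symm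
  set ζ : Equiv.Perm Ω := ((z : M) : Equiv.Perm Ω) with hζ
  have hζM : ζ ∈ M := (z : M).2
  have hζfree : ∀ x, x ≠ a → ζ x ≠ x := by
    intro x hx hzx
    apply hz1
    ext y
    rw [Equiv.Perm.one_apply]
    by_cases hy : y = a
    · rw [hy, D.fix _ hζM]
    · obtain ⟨m, hm, rfl⟩ := D.trans x y hx hy
      rw [← Equiv.Perm.mul_apply, hzc m hm, Equiv.Perm.mul_apply, hzx]
  have hinv : ∀ x ∈ A, ζ * x * ζ⁻¹ = x⁻¹ := by
    intro x hx
    have hx' := hA.norm ζ (D.le hζM) x hx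
    have hw : x * (ζ * x * ζ⁻¹) ∈ A := mul_mem hx hx'
    have h1 : ζ * (x * (ζ * x * ζ⁻¹)) = (x * (ζ * x * ζ⁻¹)) * ζ := by
      have h2 : ζ * (x * (ζ * x * ζ⁻¹)) = ((ζ * x * ζ⁻¹) * ((ζ * ζ) * x * (ζ * ζ)⁻¹)) * ζ := by
        group
      rw [h2, hzz, one_mul, inv_one, mul_one, hA.comm _ hx' _ hx]
    have h3 : ζ ((x * (ζ * x * ζ⁻¹)) a) = (x * (ζ * x * ζ⁻¹)) a := by
      rw [← Equiv.Perm.mul_apply, h1, Equiv.Perm.mul_apply, D.fix _ hζM]
    have h4 : (x * (ζ * x * ζ⁻¹)) a = a := by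
      by_contra hne
      exact hζfree _ hne h3
    exact eq_inv_of_mul_eq_one_right (hA.free hw h4)
  -- `f ζ` is conjugate to `f`
  set g := f * ζ with hg
  have hgM : g ∈ M := mul_mem hf hζM
  have hg1 : g ≠ 1 := by
    intro h
    have h1 : f = ζ⁻¹ := eq_inv_of_mul_eq_one_left h
    have h2 : ζ⁻¹ b = b := by rw [← h1, hfb]
    rw [Equiv.Perm.inv_eq_iff_eq] at h2
    exact hζfree b hb h2.symm
  have hcomp : Nat.card (cen A f) * Nat.card (cen A g) = Nat.card A := by
    apply Subgroup.IsComplement'.card_mul_card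
    apply Subgroup.isComplement'_of_disjoint_and_mul_eq_univ
    · rw [Subgroup.disjoint_def]
      intro x hx1 hx2
      rw [mem_cen] at hx1 hx2
      have h1 : ζ * (x : Equiv.Perm Ω) = x * ζ := by
        have h2 : f * (ζ * x) = f * (x * ζ) := by
          rw [← mul_assoc, ← mul_assoc, hx1, mul_assoc (x : Equiv.Perm Ω)]
          exact hx2
        exact mul_left_cancel h2
      have h3 := hinv x x.2
      rw [h1, mul_inv_cancel_right] at h3
      have h4 : (x : Equiv.Perm Ω) * x = 1 := mul_eq_one_iff_eq_inv.2 h3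
      have h5 : x ^ 2 = 1 := by
        rw [pow_two]
        exact Subtype.ext h4
      have h6 : orderOf x ∣ 2 := orderOf_dvd_of_pow_eq_one h5
      have h7 : orderOf x ∣ Nat.card A := orderOf_dvd_natCard x
      rcases (Nat.dvd_prime Nat.prime_two).1 h6 with h8 | h8
      · exact orderOf_eq_one_iff.1 h8
      · exfalso
        rw [h8] at h7
        rw [← Nat.not_even_iff_odd] at hAodd
        exact hAodd (even_iff_two_dvd.2 h7)
    · rw [Set.eq_univ_iff_forall]
      intro α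
      -- `α = β ^ 2`
      obtain ⟨k, hk⟩ := hAodd
      set β : A := α ^ (k + 1) with hβ
      have hβα : β * β = α := by
        rw [hβ, ← pow_add]
        have : k + 1 + (k + 1) = Nat.card A + 1 := by omega
        rw [this, pow_succ, pow_card_eq_one', one_mul]
      have hγ : f * (β : Equiv.Perm Ω) * f⁻¹ ∈ A := hA.norm f (D.le hf) β β.2
      set γ : A := ⟨f * (β : Equiv.Perm Ω) * f⁻¹, hγ⟩ with hγ'
      have hfinv : f⁻¹ = f := (eq_inv_of_mul_eq_one_left hff).symm
      have hζinv : ζ⁻¹ = ζ := (eq_inv_of_mul_eq_one_left hzz).symm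
      have hγv : (γ : Equiv.Perm Ω) = f * (β : Equiv.Perm Ω) * f := by
        rw [hγ']
        change f * (β : Equiv.Perm Ω) * f⁻¹ = _
        rw [hfinv]
      have hcβγ : (β : Equiv.Perm Ω) * γ = γ * β := hA.comm _ β.2 _ γ.2
      refine ⟨β * γ, ?_, β * γ⁻¹, ?_, ?_⟩
      · change f * ((β : Equiv.Perm Ω) * γ) = ((β : Equiv.Perm Ω) * γ) * f
        calc f * ((β : Equiv.Perm Ω) * γ) = (f * β * f) * (β * f) := by rw [hγv]; simp only [mul_assoc]
          _ = (β * γ) * f := by rw [← hγv, ← mul_assoc, hcβγ]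
      · change g * ((β : Equiv.Perm Ω) * (γ : Equiv.Perm Ω)⁻¹) = ((β : Equiv.Perm Ω) * (γ : Equiv.Perm Ω)⁻¹) * g
        have hy : ζ * ((β : Equiv.Perm Ω) * (γ : Equiv.Perm Ω)⁻¹) =
            ((β : Equiv.Perm Ω) * (γ : Equiv.Perm Ω)⁻¹)⁻¹ * ζ := by
          have h1 := hinv ((β : Equiv.Perm Ω) * (γ : Equiv.Perm Ω)⁻¹) (mul_mem β.2 (inv_mem γ.2))
          rw [mul_inv_eq_iff_eq_mul] at h1
          exact h1
        have h2 : f * ((β : Equiv.Perm Ω) * (γ : Equiv.Perm Ω)⁻¹)⁻¹ =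
            ((β : Equiv.Perm Ω) * (γ : Equiv.Perm Ω)⁻¹) * f := by
          rw [mul_inv_rev, inv_inv]
          have h3 : f * (γ : Equiv.Perm Ω) = β * f := by
            rw [hγv, ← mul_assoc, ← mul_assoc, hff, one_mul]
          have h4 : f * (β : Equiv.Perm Ω) = γ * f := by
            rw [hγv, mul_assoc, hff, mul_one]
          have h5 : f * (β : Equiv.Perm Ω)⁻¹ = (γ : Equiv.Perm Ω)⁻¹ * f := by
            rw [eq_inv_mul_iff_mul_eq, ← mul_assoc, ← h4, mul_assoc, mul_inv_cancel, mul_one]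
          rw [← mul_assoc, h3, mul_assoc, h5, ← mul_assoc]
        calc g * ((β : Equiv.Perm Ω) * (γ : Equiv.Perm Ω)⁻¹)
            = f * (ζ * ((β : Equiv.Perm Ω) * (γ : Equiv.Perm Ω)⁻¹)) := by rw [hg, mul_assoc]
          _ = (f * ((β : Equiv.Perm Ω) * (γ : Equiv.Perm Ω)⁻¹)⁻¹) * ζ := by rw [hy, mul_assoc]
          _ = _ := by rw [h2, hg, mul_assoc]
      · change β * γ * (β * γ⁻¹) = α
        have h1 : β * γ = γ * β := Subtype.ext hcβγ
        rw [h1, mul_assoc γ, ← mul_assoc β β, hβα]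
        have h2 : γ * (α * γ⁻¹) = α * (γ * γ⁻¹) := by
          rw [← mul_assoc, ← mul_assoc]
          congr 1
          exact Subtype.ext (hA.comm _ γ.2 _ α.2)
        rw [h2, mul_inv_cancel, mul_one]
  have hfR := D.le hf
  have hgR := D.le hgM
  have hfa := D.fix f hf
  have hga := D.fix g hgM
  have hgfix : ∃ x, x ≠ a ∧ g x = x := by
    by_contra hcon
    push Not at hcon
    have h1 : cen A g = ⊥ := by
      rw [Subgroup.eq_bot_iff_forall]
      intro x hx
      rw [hA.mem_cen_iff hgR hga] at hx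
      have h2 : hA.equiv a x = a := by
        by_contra hne
        exact hcon _ hne hx
      exact Subtype.ext (hA.free x.2 h2)
    rw [h1, Subgroup.card_bot, mul_one] at hcomp
    exact hA.cen_ne_top hfR hfa hf1 (Subgroup.eq_top_of_card_eq _ hcomp)
  obtain ⟨x, hxa, hgx⟩ := hgfix
  obtain ⟨m, hm, hmx⟩ := D.trans b x hb hxa
  have hconj : g = m * f * m⁻¹ := by
    refine huniq x hxa g hgM _ (mul_mem (mul_mem hm hf) (inv_mem hm)) hgx ?_ hg1 ?_
    · rw [Equiv.Perm.mul_apply, Equiv.Perm.mul_apply]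
      have h2 : m⁻¹ x = b := by rw [Equiv.Perm.inv_eq_iff_eq, hmx]
      rw [h2, hfb, hmx]
    · rw [Ne, conj_eq_one_iff]
      exact hf1
  have hcfg : Nat.card (cen A g) = Nat.card (cen A f) := by
    rw [hA.card_fix hgR hga, hA.card_fix hfR hfa]
    refine Nat.card_congr (m⁻¹.subtypeEquiv fun y => ?_)
    rw [hconj, Equiv.Perm.mul_apply, Equiv.Perm.mul_apply, eq_comm, ← Equiv.Perm.inv_eq_iff_eq, eq_comm]
  rw [hcfg, hA.card_eq a] at hcomp
  set f₀ := Nat.card (cen A f) with hf₀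
  have hf₀odd : Odd f₀ := by
    rw [← hcomp] at hodd
    exact (Nat.odd_mul.1 hodd).1
  obtain ⟨k, hk⟩ := (IsPGroup.iff_card).1 hM
  have h16 : (f₀ - 1) * (f₀ + 1) * 2 = 2 ^ k := by
    rw [← hk, hcard, ← hcomp]
    congr 1
    rw [mul_comm]
    have := Nat.sq_sub_sq f₀ 1
    rw [← this]
    ring_nf
  have h17 : (f₀ - 1) ∣ 2 ^ k := ⟨(f₀ + 1) * 2, by rw [← h16, mul_assoc]⟩
  have h18 : (f₀ + 1) ∣ 2 ^ k := ⟨(f₀ - 1) * 2, by rw [← h16]; ring⟩
  obtain ⟨i, _, hi⟩ := (Nat.dvd_prime_pow Nat.prime_two).1 h17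
  obtain ⟨j, _, hj⟩ := (Nat.dvd_prime_pow Nat.prime_two).1 h18
  have h3 := two_powers hi hj hf₀odd
  rw [h3] at hcomp hf₀
  refine ⟨by omega, by omega, ?_, hff, ζ, hζM, hz1, hzz, hzc, A, hA, hinv⟩
  rw [← hA.card_fix hfR hfa, ← hf₀]

end

end Cfsg.Agent.SplitTwo.Eps168
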