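import Cfsg.Agent.SplitTwo.ExcFam
import Cfsg.Agent.SplitTwo.DihPath605
import Cfsg.Agent.Tits.Opp
import Cfsg.Agent.Tits.Rigid

/-!
# The stabiliser of an opposite chamber (S1144, [N])

`F : Fam Δ G`, `G` faithful, `d` opposite `c`: the order of `F.U c ⊓ G_d` is at most `4`, and at most `2` if
the panels of type `j` are regular.
-/

set_option autoImplicit false

namespace Cfsg.Agent.SplitTwo.ExcD

open Cfsg.Agent.Tits.Core Cfsg.Agent.Tits.Core.Bldg Cfsg.Agent.SplitTwo.Exc

variable {I : Type*} {M : CoxeterMatrix I} {W : Type*} [Group W] {cs : CoxeterSystem M W}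
variable {C : Type*} {Δ : Bldg cs C} {G : Type*} [Group G] [MulAction G C]
variable (F : Fam Δ G)

include F

/-- An element fixing two opposite chambers `c`, `d` fixes a chamber of every panel of `c`. -/
theorem exists_fix [Finite I] [Finite W] {c d : C} (h : Δ.Opp c d) {u : G} (hc : u • c = c)
    (hd : u • d = d) (k : I) : ∃ e, Δ.δ c e = cs.simple k ∧ u • e = e := by
  have h1 : Δ.δ c d = cs.simple k * (cs.simple k * w0 cs) := by
    rw [cs.simple_mul_simple_cancel_left]
    exact h
  have h2 := Cfsg.Agent.Tits.Exchange.length_mul_w0 cs (cs.simple k)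
  rw [cs.length_simple] at h2
  have h3 : cs.length (cs.simple k * (cs.simple k * w0 cs)) =
      cs.length (cs.simple k) + cs.length (cs.simple k * w0 cs) := by
    rw [cs.simple_mul_simple_cancel_left, cs.length_simple]
    omega
  obtain ⟨e, he1, he2⟩ := Δ.exists_between h1 h3
  exact ⟨e, he1, F.fix_between hc hd (by rw [he1, he2, h3])⟩

/-- Rigidity. -/
theorem eq_one_of_pan [Finite I] [Finite W] (hfaith : ∀ g : G, (∀ x : C, g • x = x) → g = 1) {c d : C}
    (h : Δ.Opp c d) {u : G} (hd : u • d = d) (hp : ∀ k, ∀ x ∈ Δ.Pan k c, u • x = x) : u = 1 := by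
  apply hfaith
  intro x
  refine Cfsg.Agent.Tits.Rigid.rigid (Δ := Δ) (Δ' := Δ) F.thick (J := Set.univ) (c := c) (d := d)
    (φ := fun y => u • y) (ψ := fun y => y) (fun a _ b _ => F.iso u a b) (fun a _ b _ => rfl)
    ?_ h hd x ?_
  · intro k _ y hy
    exact hp k y hy
  · rw [Δ.Res_univ]
    trivial

/-- Two elements of `U c` fixing `d`, both trivial or both non-trivial on the panel, agree on it. -/
theorem agree_pan [Finite I] [Finite W] {c d : C} (h : Δ.Opp c d) {u v : G} (hu : u ∈ F.U c)
    (hv : v ∈ F.U c) (hud : u • d = d) (hvd : v • d = d) (k : I)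
    (huv : (∀ x ∈ Δ.Pan k c, u • x = x) ↔ ∀ x ∈ Δ.Pan k c, v • x = x) :
    ∀ x ∈ Δ.Pan k c, (u⁻¹ * v) • x = x := by
  by_cases hux : ∀ x ∈ Δ.Pan k c, u • x = x
  · intro x hx
    rw [mul_smul, huv.1 hux x hx, inv_smul_eq_iff, hux x hx]
  · have hvx : ¬ ∀ x ∈ Δ.Pan k c, v • x = x := fun h => hux (huv.2 h)
    push Not at hux hvx
    -- the projection of `d`
    have h1 : Δ.δ c d = cs.simple k * (cs.simple k * w0 cs) := by
      rw [cs.simple_mul_simple_cancel_left]
      exact h
    have h2 := Cfsg.Agent.Tits.Exchange.length_mul_w0 cs (cs.simple k)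
    rw [cs.length_simple] at h2
    have h3 : cs.length (cs.simple k * (cs.simple k * w0 cs)) =
        cs.length (cs.simple k) + cs.length (cs.simple k * w0 cs) := by
      rw [cs.simple_mul_simple_cancel_left, cs.length_simple]
      omega
    obtain ⟨e, he1, he2⟩ := Δ.exists_between h1 h3
    have hue : u • e = e := F.fix_between (F.fix c u hu) hud (by rw [he1, he2, h3])
    have hve : v • e = e := F.fix_between (F.fix c v hv) hvd (by rw [he1, he2, h3])
    exact (F.three c e k he1 u hu hue hux).2 v hv hve hvx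

/-- `|U c ∩ G_d| ≤ 4` -/
theorem card_D_le [Finite W] (hfaith : ∀ g : G, (∀ x : C, g • x = x) → g = 1)
    {i j : I} (hI : ∀ k, k = i ∨ k = j) {c d : C} (h : Δ.Opp c d) :
    Nat.card (F.U c ⊓ MulAction.stabilizer G d : Subgroup G) ≤ 4 := by
  classical
  have := DihPath.finI hI
  let f : (F.U c ⊓ MulAction.stabilizer G d : Subgroup G) → Bool × Bool := fun u =>
    (decide (∀ x ∈ Δ.Pan i c, (u : G) • x = x), decide (∀ x ∈ Δ.Pan j c, (u : G) • x = x))
  have hf : Function.Injective f := by
    intro u v huv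
    have h1 := congrArg Prod.fst huv
    have h2 := congrArg Prod.snd huv
    simp only [f, decide_eq_decide] at h1 h2
    apply Subtype.ext
    have h3 : (u : G)⁻¹ * v = 1 := by
      refine eq_one_of_pan F hfaith h ?_ ?_
      · have hu : (u : G) • d = d := u.2.2
        have hv : (v : G) • d = d := v.2.2
        rw [mul_smul, hv, inv_smul_eq_iff, hu]
      · intro k
        rcases hI k with rfl | rfl
        · exact agree_pan F h u.2.1 v.2.1 u.2.2 v.2.2 _ h1
        · exact agree_pan F h u.2.1 v.2.1 u.2.2 v.2.2 _ h2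
    exact inv_mul_eq_one.1 h3
  have h4 := Nat.card_le_card_of_injective f hf
  have h5 : Nat.card (Bool × Bool) = 4 := by rw [Nat.card_eq_fintype_card]; rfl
  rwa [h5] at h4

/-- `|U c ∩ G_d| ≤ 2` if the panels of type `j` are regular. -/
theorem card_D_le_two [Finite W] (hfaith : ∀ g : G, (∀ x : C, g • x = x) → g = 1)
    {i j : I} (hI : ∀ k, k = i ∨ k = j)
    (hreg : ∀ c e, Δ.δ c e = cs.simple j → ∀ u ∈ F.U c, u • e = e → ∀ x ∈ Δ.Pan j c, u • x = x)
    {c d : C} (h : Δ.Opp c d) :
    Nat.card (F.U c ⊓ MulAction.stabilizer G d : Subgroup G) ≤ 2 := by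
  classical
  have := DihPath.finI hI
  let f : (F.U c ⊓ MulAction.stabilizer G d : Subgroup G) → Bool := fun u =>
    decide (∀ x ∈ Δ.Pan i c, (u : G) • x = x)
  have hf : Function.Injective f := by
    intro u v huv
    simp only [f, decide_eq_decide] at huv
    apply Subtype.ext
    have h3 : (u : G)⁻¹ * v = 1 := by
      refine eq_one_of_pan F hfaith h ?_ ?_
      · have hu : (u : G) • d = d := u.2.2
        have hv : (v : G) • d = d := v.2.2
        rw [mul_smul, hv, inv_smul_eq_iff, hu]
      · intro k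
        rcases hI k with rfl | rfl
        · exact agree_pan F h u.2.1 v.2.1 u.2.2 v.2.2 _ huv
        · refine agree_pan F h u.2.1 v.2.1 u.2.2 v.2.2 _ ?_
          obtain ⟨e, he, hue⟩ := exists_fix F h (F.fix c u u.2.1) u.2.2 k
          obtain ⟨e', he', hve⟩ := exists_fix F h (F.fix c v v.2.1) v.2.2 k
          exact ⟨fun _ => hreg c e' he' v v.2.1 hve, fun _ => hreg c e he u u.2.1 hue⟩
    exact inv_mul_eq_one.1 h3
  have h4 := Nat.card_le_card_of_injective f hf
  have h5 : Nat.card Bool = 2 := by rw [Nat.card_eq_fintype_card]; rfl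
  rwa [h5] at h4

end Cfsg.Agent.SplitTwo.ExcD
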