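import Cfsg.Agent.SplitTwo.ExcFam

/-!
S1144, [N], the exceptional panel: the end of the argument. The `i`-panels have nine chambers and `U c` acts
on them as a semidihedral group of order 16, the `j`-panels have `t + 1` chambers.
-/

set_option autoImplicit false
set_option linter.unusedSectionVars false
set_option linter.style.haveILetI false

namespace Cfsg.Agent.SplitTwo.Exc

open Cfsg.Agent.Tits.Core Cfsg.Agent.Tits.Core.Bldg

variable {I : Type*} {M : CoxeterMatrix I} {W : Type*} [Group W] {cs : CoxeterSystem M W}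
variable {C : Type*} {Δ : Bldg cs C} {G : Type*} [Group G] [MulAction G C]

/-- The pointwise stabiliser of the `k`-panel of `c`. -/
def Kp (Δ : Bldg cs C) (G : Type*) [Group G] [MulAction G C] (k : I) (c : C) : Subgroup G where
  carrier := {g | ∀ x ∈ Δ.Pan k c, g • x = x}
  mul_mem' := by
    intro g h hg hh x hx
    rw [mul_smul, hh x hx, hg x hx]
  one_mem' := fun x _ => one_smul _ x
  inv_mem' := by
    intro g hg x hx
    rw [inv_smul_eq_iff, hg x hx]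

theorem mem_Kp {k : I} {c : C} {g : G} : g ∈ Kp Δ G k c ↔ ∀ x ∈ Δ.Pan k c, g • x = x := Iff.rfl

/-- The hypotheses of the exceptional case. -/
structure Hyp (F : Fam Δ G) (i j : I) (t : ℕ) : Prop where
  hG : ∀ f : G →* Multiplicative (ZMod 2), f = 1
  hodd : Odd (Nat.card C)
  hI : ∀ k, k = i ∨ k = j
  card_i : ∀ c, Nat.card (Δ.Pan i c) = 9
  card_j : ∀ c, Nat.card (Δ.Pan j c) = t + 1
  full : ∀ (c : C) (g : G), g • c = c → ∃ u ∈ F.U c, ∀ x ∈ Δ.Pan i c, (u⁻¹ * g) • x = x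
  idx : ∀ c, (Kp Δ G i c).relIndex (F.U c) = 16
  sig : ∀ c, ∃ g ∈ F.U c, ∃ h ∈ F.U c,
    (∀ x ∈ Δ.Pan i c, ((g * h * g⁻¹ * h⁻¹) ^ 4) • x = x) ∧
    (∀ x ∈ Δ.Pan i c, x ≠ c → ((g * h * g⁻¹ * h⁻¹) ^ 2) • x ≠ x) ∧
    ∀ m ∈ F.U c, ∀ x ∈ Δ.Pan i c,
      m • ((g * h * g⁻¹ * h⁻¹) ^ 2) • x = ((g * h * g⁻¹ * h⁻¹) ^ 2) • m • x
  ord4 : ∀ c, Nat.card (F.U c) ≤ 4 * (8 * t) ^ 4
  ord2 : t ≤ 4 → ∀ c, Nat.card (F.U c) ≤ 2 * (8 * t) ^ 4
  pairs : ∀ c c2 a b a2 b2, Δ.δ c c2 = cs.simple i → Δ.δ c a = cs.simple j →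
    Δ.δ c b = cs.simple j → Δ.δ c2 a2 = cs.simple j → Δ.δ c2 b2 = cs.simple j →
    ∃ u ∈ F.U c, u • c2 = c2 ∧ u • a = b ∧ u • a2 = b2

namespace Hyp

variable {F : Fam Δ G} {i j : I} {t : ℕ} (H : Hyp F i j t)

/-- The elements of `U c` acting trivially on the `i`-panels of all chambers of the `j`-panel. -/
def N2 (F : Fam Δ G) (i j : I) (c : C) : Subgroup G where
  carrier := {n | n ∈ F.U c ∧ ∀ d ∈ Δ.Pan j c, ∀ x ∈ Δ.Pan i d, n • x = x}
  mul_mem' := by
    rintro g h ⟨hg, hg'⟩ ⟨hh, hh'⟩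
    refine ⟨mul_mem hg hh, fun d hd x hx => ?_⟩
    rw [mul_smul, hh' d hd x hx, hg' d hd x hx]
  one_mem' := ⟨one_mem _, fun d _ x _ => one_smul _ x⟩
  inv_mem' := by
    rintro g ⟨hg, hg'⟩
    refine ⟨inv_mem hg, fun d hd x hx => ?_⟩
    rw [inv_smul_eq_iff, hg' d hd x hx]

/-- The elements of `U c` acting trivially on the `i`-panels of all chambers of the `j`-panel
different from `c`, and on the `j`-panel. -/
def Fc (F : Fam Δ G) (i j : I) (c : C) : Subgroup G where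
  carrier := {n | n ∈ F.U c ∧ (∀ d ∈ Δ.Pan j c, n • d = d) ∧
    ∀ d ∈ Δ.Pan j c, d ≠ c → ∀ x ∈ Δ.Pan i d, n • x = x}
  mul_mem' := by
    rintro g h ⟨hg, hg', hg2⟩ ⟨hh, hh', hh2⟩
    refine ⟨mul_mem hg hh, fun d hd => ?_, fun d hd hdc x hx => ?_⟩
    · rw [mul_smul, hh' d hd, hg' d hd]
    · rw [mul_smul, hh2 d hd hdc x hx, hg2 d hd hdc x hx]
  one_mem' := ⟨one_mem _, fun d _ => one_smul _ d, fun d _ _ x _ => one_smul _ x⟩
  inv_mem' := by
    rintro g ⟨hg, hg', hg2⟩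
    refine ⟨inv_mem hg, fun d hd => ?_, fun d hd hdc x hx => ?_⟩
    · rw [inv_smul_eq_iff, hg' d hd]
    · rw [inv_smul_eq_iff, hg2 d hd hdc x hx]

theorem mem_N2 {c : C} {n : G} :
    n ∈ N2 F i j c ↔ n ∈ F.U c ∧ ∀ d ∈ Δ.Pan j c, ∀ x ∈ Δ.Pan i d, n • x = x := Iff.rfl

theorem mem_Fc {c : C} {n : G} : n ∈ Fc F i j c ↔ n ∈ F.U c ∧ (∀ d ∈ Δ.Pan j c, n • d = d) ∧
    ∀ d ∈ Δ.Pan j c, d ≠ c → ∀ x ∈ Δ.Pan i d, n • x = x := Iff.rfl

/-- `N2` depends on the `j`-panel only. -/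
theorem N2_eq {c d : C} (hd : d ∈ Δ.Pan j c) : N2 F i j d = N2 F i j c := by
  have key : ∀ {c d : C}, d ∈ Δ.Pan j c → N2 F i j c ≤ N2 F i j d := by
    intro c d hd n hn
    obtain ⟨h1, h2⟩ := mem_N2.1 hn
    refine mem_N2.2 ⟨F.mem_of_fix h1 (h2 d hd d (Δ.self_mem_Pan i d)), ?_⟩
    rwa [Δ.Pan_eq_of_mem hd]
  exact le_antisymm (key (Δ.mem_Pan_symm hd)) (key hd)

/-- `N2` is normalised by the stabiliser of the `j`-panel. -/
theorem N2_conj {c : C} {g : G} (hg : g • c ∈ Δ.Pan j c) {n : G} (hn : n ∈ N2 F i j c) :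
    g * n * g⁻¹ ∈ N2 F i j c := by
  rw [← N2_eq hg]
  obtain ⟨h1, h2⟩ := mem_N2.1 hn
  refine mem_N2.2 ⟨F.conj g c n h1, fun d hd x hx => ?_⟩
  have hd' : g⁻¹ • d ∈ Δ.Pan j c := by
    rw [← F.smul_Pan_iff g, smul_inv_smul]
    exact hd
  have hx' : g⁻¹ • x ∈ Δ.Pan i (g⁻¹ • d) := F.smul_Pan _ hx
  rw [mul_smul, mul_smul, h2 _ hd' _ hx', smul_inv_smul]

section

variable [Finite G] [Finite C]

include H

/-- The surjectivity theorem for the kernel of the `j`-panel. -/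
theorem surj_j (c : C) (s : C → G) (hs : ∀ d ∈ Δ.Pan j c, s d • d = d) :
    ∃ q ∈ F.U c, (∀ x ∈ Δ.Pan j c, q • x = x) ∧
      ∀ d ∈ Δ.Pan j c, d ≠ c → ∀ x ∈ Δ.Pan i d, q • x = s d • x :=
  F.surj H.hG H.hodd (fun k => (H.hI k).symm) H.full c s hs

/-- There is an element of `Fc` acting on the `i`-panel as the commutator of two given elements of
`U c`. -/
theorem exists_comm (c : C) {g h : G} (hg : g ∈ F.U c) (hh : h ∈ F.U c) :
    ∃ f ∈ Fc F i j c, ∀ x ∈ Δ.Pan i c, f • x = (g * h * g⁻¹ * h⁻¹) • x := by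
  classical
  obtain ⟨d1, d2, hd12, hd1, hd2⟩ := F.thick c j
  have key : ∀ d g, Δ.δ c d = cs.simple j → g ∈ F.U c → ∃ u ∈ F.U c, (∀ x ∈ Δ.Pan j c, u • x = x) ∧
      (∀ x ∈ Δ.Pan i c, u • x = g • x) ∧
      ∀ e ∈ Δ.Pan j c, e ≠ c → e ≠ d → ∀ x ∈ Δ.Pan i e, u • x = x := by
    intro d g hd hg
    have hdP : d ∈ Δ.Pan j c := Or.inr hd
    obtain ⟨q, hq, h1, h2⟩ := H.surj_j d (fun e => if e = c then g else 1) (by
      intro e _
      by_cases hec : e = c
      · rw [if_pos hec, hec, F.fix c g hg]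
      · rw [if_neg hec, one_smul])
    rw [Δ.Pan_eq_of_mem hdP] at h1 h2
    refine ⟨q, F.mem_of_fix hq (h1 c (Δ.self_mem_Pan j c)), h1, fun x hx => ?_,
      fun e he hec hed x hx => ?_⟩
    · rw [h2 c (Δ.self_mem_Pan j c) (Δ.ne_of_δ_simple hd) x hx, if_pos rfl]
    · rw [h2 e he hed x hx, if_neg hec, one_smul]
  obtain ⟨u, hu, hu1, hu2, hu3⟩ := key d1 g hd1 hg
  obtain ⟨w, hw, hw1, hw2, hw3⟩ := key d2 h hd2 hh
  have hinv : ∀ {v : G} {x : C}, v • x = x → v⁻¹ • x = x := fun h => inv_smul_eq_iff.2 h.symm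
  have hst : ∀ {v : G} {e x : C}, v • e = e → x ∈ Δ.Pan i e → v • x ∈ Δ.Pan i e := by
    intro v e x hv hx
    have := F.smul_Pan v hx
    rwa [hv] at this
  refine ⟨u * w * u⁻¹ * w⁻¹, mem_Fc.2 ⟨?_, fun d hd => ?_, fun d hd hdc x hx => ?_⟩, fun x hx => ?_⟩
  · exact mul_mem (mul_mem (mul_mem hu hw) (inv_mem hu)) (inv_mem hw)
  · rw [mul_smul, mul_smul, mul_smul, hinv (hw1 d hd), hinv (hu1 d hd), hw1 d hd, hu1 d hd]
  · rw [mul_smul, mul_smul, mul_smul]
    by_cases h1 : d = d1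
    · have h2 : d ≠ d2 := fun h => hd12 (h1.symm.trans h)
      have e1 := hw3 d hd hdc h2
      rw [hinv (e1 x hx), e1 _ (hst (hinv (hu1 d hd)) hx), smul_inv_smul]
    · have e1 := hu3 d hd hdc h1
      have h3 : w⁻¹ • x ∈ Δ.Pan i d := hst (hinv (hw1 d hd)) hx
      rw [hinv (e1 _ h3), smul_inv_smul, e1 x hx]
  · have e1 : F.Eqv i c u g := hu2
    have e2 : F.Eqv i c w h := hw2
    have huc := F.fix c u hu
    have hwc := F.fix c w hw
    have hgc := F.fix c g hg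
    have hhc := F.fix c h hh
    exact (((e1.mul F e2 hhc).mul F (e1.inv F huc) (hinv hgc)).mul F (e2.inv F hwc)
      (hinv hhc)) x hx

theorem card_D (c : C) : Nat.card {d : C // d ∈ Δ.Pan j c ∧ d ≠ c} = t := by
  classical
  haveI := Fintype.ofFinite C
  have h1 := H.card_j c
  have h2 : Nat.card {d : C // d ∈ Δ.Pan j c ∧ d ≠ c} = (Δ.Pan j c \ {c}).ncard := by
    rw [← Nat.card_coe_set_eq]
    rfl
  rw [h2, Set.ncard_sdiff_singleton_of_mem (Δ.self_mem_Pan j c), ← Nat.card_coe_set_eq, h1]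
  rfl

/-- The kernel of the `j`-panel in `U c`. -/
theorem card_Q (c : C) : t * Nat.card (F.U c ⊓ Kp Δ G j c : Subgroup G) ≤ Nat.card (F.U c) := by
  obtain ⟨y, z, -, hy, -⟩ := F.thick c j
  have hyc : y ≠ c := (Δ.ne_of_δ_simple hy).symm
  have hyP : y ∈ Δ.Pan j c := Or.inr hy
  have horb : MulAction.orbit (F.U c) y = {d | d ∈ Δ.Pan j c ∧ d ≠ c} := by
    ext d
    rw [Set.mem_ofPred_eq]
    constructor
    · rintro ⟨u, rfl⟩
      have hu := F.fix c u u.2
      refine ⟨?_, fun h => hyc ?_⟩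
      · have h1 := F.smul_Pan (u : G) hyP
        rwa [hu] at h1
      · have h1 : (u : G) • y = (u : G) • c := by rw [hu]; exact h
        exact smul_left_cancel _ h1
    · rintro ⟨h1, h2⟩
      obtain ⟨u, hu, hud⟩ := F.tr_Pan hyP h1 hyc h2
      exact ⟨⟨u, hu⟩, hud⟩
  have h1 := MulAction.index_stabilizer (F.U c) y
  rw [horb, ← Nat.card_coe_set_eq] at h1
  have h2 : Nat.card ({d | d ∈ Δ.Pan j c ∧ d ≠ c} : Set C) = t := H.card_D c
  rw [h2] at h1
  have h3 := Subgroup.index_mul_card (MulAction.stabilizer (F.U c) y)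
  rw [h1] at h3
  rw [← h3]
  refine Nat.mul_le_mul_left _ ?_
  refine Nat.card_le_card_of_injective
    (fun q : (F.U c ⊓ Kp Δ G j c : Subgroup G) =>
      (⟨⟨q.1, q.2.1⟩, q.2.2 y hyP⟩ : MulAction.stabilizer (F.U c) y)) ?_
  intro q q' h
  have := congrArg (fun x : MulAction.stabilizer (F.U c) y => ((x : F.U c) : G)) h
  exact Subtype.ext this

theorem card_F (c : C) :
    16 ^ t * Nat.card (Fc F i j c) ≤ Nat.card (F.U c ⊓ Kp Δ G j c : Subgroup G) := by
  classical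
  let D := {d : C // d ∈ Δ.Pan j c ∧ d ≠ c}
  let X := ∀ d : D, F.U d.1 ⧸ (Kp Δ G i d.1).subgroupOf (F.U d.1)
  haveI := Fintype.ofFinite D
  have hX : Nat.card X = 16 ^ t := by
    rw [Nat.card_pi, Finset.prod_congr rfl fun (d : D) _ => (Subgroup.index_eq_card _).symm]
    have h1 : ∀ d : D, ((Kp Δ G i d.1).subgroupOf (F.U d.1)).index = 16 := fun d => H.idx d.1
    rw [Finset.prod_congr rfl fun (d : D) _ => h1 d, Finset.prod_const, Finset.card_univ,
      ← Nat.card_eq_fintype_card]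
    congr 1
    exact H.card_D c
  have hex : ∀ κ : X, ∃ q ∈ F.U c, (∀ x ∈ Δ.Pan j c, q • x = x) ∧
      ∀ d : D, ∀ x ∈ Δ.Pan i d.1, q • x = ((κ d).out : G) • x := by
    intro κ
    obtain ⟨q, hq, h1, h2⟩ := H.surj_j c
      (fun e => if h : e ∈ Δ.Pan j c ∧ e ≠ c then ((κ ⟨e, h⟩).out : G) else 1) (by
        intro e _
        by_cases hec : e ∈ Δ.Pan j c ∧ e ≠ c
        · rw [dif_pos hec]
          exact F.fix e _ (κ ⟨e, hec⟩).out.2
        · rw [dif_neg hec, one_smul])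
    refine ⟨q, hq, h1, fun d x hx => ?_⟩
    rw [h2 d.1 d.2.1 d.2.2 x hx, dif_pos d.2]
  choose q hq hq1 hq2 using hex
  rw [← hX, ← Nat.card_prod]
  refine Nat.card_le_card_of_injective
    (fun z : X × Fc F i j c => (⟨q z.1 * z.2, mul_mem (hq z.1) (mem_Fc.1 z.2.2).1, fun x hx => by
      rw [mul_smul, (mem_Fc.1 z.2.2).2.1 x hx, hq1 z.1 x hx]⟩ :
      (F.U c ⊓ Kp Δ G j c : Subgroup G))) ?_
  rintro ⟨κ, f⟩ ⟨κ', f'⟩ h
  have h1 : q κ * (f : G) = q κ' * (f' : G) :=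
    congrArg (fun x : (F.U c ⊓ Kp Δ G j c : Subgroup G) => (x : G)) h
  have h2 : κ = κ' := by
    funext d
    suffices hs : ((κ d).out⁻¹ * (κ' d).out : F.U d.1) ∈ (Kp Δ G i d.1).subgroupOf (F.U d.1) by
      have h5 := QuotientGroup.eq.2 hs
      rwa [QuotientGroup.out_eq', QuotientGroup.out_eq'] at h5
    rw [Subgroup.mem_subgroupOf]
    intro x hx
    have h3 : (κ d).out.1 • x = (κ' d).out.1 • x := by
      rw [← hq2 κ d x hx, ← hq2 κ' d x hx]
      have h4 := congrArg (fun g : G => g • x) h1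
      simp only [mul_smul] at h4
      rwa [(mem_Fc.1 f.2).2.2 d.1 d.2.1 d.2.2 x hx, (mem_Fc.1 f'.2).2.2 d.1 d.2.1 d.2.2 x hx] at h4
    change ((κ d).out.1⁻¹ * (κ' d).out.1) • x = x
    rw [mul_smul, inv_smul_eq_iff]
    exact h3.symm
  subst h2
  have h3 := mul_left_cancel h1
  rw [Subtype.ext h3]

theorem card_N2 (c : C) : 4 * Nat.card (N2 F i j c) ≤ Nat.card (Fc F i j c) := by
  obtain ⟨g, hg, h, hh, h4, h2, -⟩ := H.sig c
  obtain ⟨f, hf, hfx⟩ := H.exists_comm c hg hh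
  set σ := g * h * g⁻¹ * h⁻¹ with hσ
  have hσc : σ • c = c := F.fix c _
    (mul_mem (mul_mem (mul_mem hg hh) (inv_mem hg)) (inv_mem hh))
  have hfc : f • c = c := F.fix c f hf.1
  have hpow : ∀ n : ℕ, ∀ x ∈ Δ.Pan i c, (f ^ n) • x = (σ ^ n) • x := by
    intro n
    induction n with
    | zero =>
      intro x _
      rw [pow_zero, pow_zero]
    | succ n ih =>
      intro x hx
      have e1 : F.Eqv i c (f ^ n) (σ ^ n) := ih
      rw [pow_succ, pow_succ]
      exact (e1.mul F (fun x hx => hfx x hx : F.Eqv i c f σ) hσc) x hx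
  obtain ⟨p, -, -, hp, -⟩ := F.thick c i
  have hpc : p ≠ c := (Δ.ne_of_δ_simple hp).symm
  have hpP : p ∈ Δ.Pan i c := Or.inr hp
  have hN : ∀ n ∈ N2 F i j c, n ∈ Fc F i j c := by
    intro n hn
    obtain ⟨h1, h2⟩ := mem_N2.1 hn
    exact mem_Fc.2 ⟨h1, fun d hd => h2 d hd d (Δ.self_mem_Pan i d), fun d hd _ => h2 d hd⟩
  have hcard : Nat.card (Fin 4) = 4 := by simp
  rw [← hcard, ← Nat.card_prod]
  refine Nat.card_le_card_of_injective
    (fun z : Fin 4 × N2 F i j c => (⟨f ^ (z.1 : ℕ) * z.2, mul_mem (pow_mem hf _) (hN _ z.2.2)⟩ :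
      Fc F i j c)) ?_
  have key : ∀ a b : ℕ, a < b → b < 4 → ∀ n ∈ N2 F i j c, ∀ n' ∈ N2 F i j c,
      f ^ a * n ≠ f ^ b * n' := by
    intro a b hab hb n hn n' hn' he
    have hnx : ∀ x ∈ Δ.Pan i c, n • x = x := (mem_N2.1 hn).2 c (Δ.self_mem_Pan j c)
    have hnx' : ∀ x ∈ Δ.Pan i c, n' • x = x := (mem_N2.1 hn').2 c (Δ.self_mem_Pan j c)
    have h5 : ∀ x ∈ Δ.Pan i c, (f ^ (b - a)) • x = x := by
      intro x hx
      have h6 := congrArg (fun g : G => g • x) he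
      simp only [mul_smul] at h6
      rw [hnx x hx, hnx' x hx] at h6
      have h7 : b = a + (b - a) := by omega
      rw [h7, pow_add, mul_smul] at h6
      exact (smul_left_cancel _ h6).symm
    have h6 : (f ^ (b - a)) • p = p := h5 p hpP
    have h7 : (f ^ 4) • p = p := by rw [hpow 4 p hpP, h4 p hpP]
    have h8 : (f ^ 2) • p ≠ p := by
      rw [hpow 2 p hpP]
      exact h2 p hpP hpc
    apply h8
    have h9 : b - a = 1 ∨ b - a = 2 ∨ b - a = 3 := by omega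
    rcases h9 with h9 | h9 | h9
    · rw [h9, pow_one] at h6
      rw [pow_two, mul_smul, h6, h6]
    · rwa [h9] at h6
    · rw [h9] at h6
      have h10 : f • p = p := by
        have : f ^ 4 = f * f ^ 3 := by group
        rw [this, mul_smul, h6] at h7
        exact h7
      rw [pow_two, mul_smul, h10, h10]
  rintro ⟨a, n⟩ ⟨b, n'⟩ he
  have he' : f ^ (a : ℕ) * (n : G) = f ^ (b : ℕ) * (n' : G) :=
    congrArg (fun x : Fc F i j c => (x : G)) he
  have hab : a = b := by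
    by_contra hne
    rcases lt_or_gt_of_ne hne with h5 | h5
    · exact key a b h5 b.2 n n.2 n' n'.2 he'
    · exact key b a h5 a.2 n' n'.2 n n.2 he'.symm
  subst hab
  have h5 := mul_left_cancel he'
  rw [Subtype.ext h5]

theorem card_ineq (c : C) : t * (16 ^ t * (4 * Nat.card (N2 F i j c))) ≤ Nat.card (F.U c) :=
  le_trans (Nat.mul_le_mul_left _ (le_trans (Nat.mul_le_mul_left _ (H.card_N2 c)) (H.card_F c)))
    (H.card_Q c)

theorem even_t (c : C) : Even t := by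
  classical
  haveI := Fintype.ofFinite C
  have h1 := F.even_card (i := j) (c := c)
    (P := Finset.univ.filter (fun d => d ∈ Δ.Pan j c)) (fun d => by simp)
  have h2 : ((Finset.univ.filter (fun d => d ∈ Δ.Pan j c)).erase c).card = t := by
    rw [← H.card_D c, Nat.card_eq_fintype_card, Fintype.card_subtype]
    congr 1
    ext d
    simp [and_comm]
  rwa [h2] at h1

theorem t_le (c : C) : t = 2 ∨ t = 4 := by
  have h1 := H.card_ineq c
  have h2 := H.ord4 c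
  have h3 := H.even_t c
  have h0 : 0 < Nat.card (N2 F i j c) := Nat.card_pos
  have ht0 : t ≠ 0 := by
    rintro rfl
    have h4 := H.card_D c
    obtain ⟨y, z, -, hy, -⟩ := F.thick c j
    haveI : Nonempty {d : C // d ∈ Δ.Pan j c ∧ d ≠ c} :=
      ⟨⟨y, Or.inr hy, (Δ.ne_of_δ_simple hy).symm⟩⟩
    exact absurd h4 (Nat.card_pos).ne'
  have h4 : t < 5 := by
    by_contra hcon
    push Not at hcon
    have h5 : ∀ n : ℕ, 5 ≤ n → 4096 * n ^ 3 < 16 ^ n := by
      intro n hn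
      induction n, hn using Nat.le_induction with
      | base => norm_num
      | succ n hn ih =>
        have h6 : (n + 1) ^ 3 ≤ 16 * n ^ 3 := by
          nlinarith [sq_nonneg (n : ℤ), hn]
        calc 4096 * (n + 1) ^ 3 ≤ 4096 * (16 * n ^ 3) := Nat.mul_le_mul_left _ h6
          _ = 16 * (4096 * n ^ 3) := by ring
          _ < 16 * 16 ^ n := by omega
          _ = 16 ^ (n + 1) := by ring
    have h6 := h5 t hcon
    have h7 : t * (16 ^ t * (4 * 1)) ≤ 4 * (8 * t) ^ 4 :=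
      le_trans (Nat.mul_le_mul_left _ (Nat.mul_le_mul_left _ (Nat.mul_le_mul_left _ h0)))
        (h1.trans h2)
    have h8 : t * (16 ^ t) ≤ t * (4096 * t ^ 3) := by
      have : 4 * (t * (16 ^ t)) ≤ 4 * (t * (4096 * t ^ 3)) := by
        calc 4 * (t * (16 ^ t)) = t * (16 ^ t * (4 * 1)) := by ring
          _ ≤ 4 * (8 * t) ^ 4 := h7
          _ = 4 * (t * (4096 * t ^ 3)) := by ring
      omega
    have h9 := Nat.le_of_mul_le_mul_left h8 (Nat.pos_of_ne_zero ht0)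
    omega
  obtain ⟨n, hn⟩ := h3
  omega

omit H [Finite G] [Finite C] in
/-- The commutator of an element of `Fc` and an element of the kernel of the `i`-panel. -/
theorem comm_mem_N2 {c : C} {q f : G} (hq : q ∈ F.U c) (hqx : ∀ x ∈ Δ.Pan i c, q • x = x)
    (hf : f ∈ Fc F i j c) : q * f * q⁻¹ * f⁻¹ ∈ N2 F i j c := by
  obtain ⟨hf1, hf2, hf3⟩ := mem_Fc.1 hf
  have hinv : ∀ {v : G} {x : C}, v • x = x → v⁻¹ • x = x := fun h => inv_smul_eq_iff.2 h.symm
  refine mem_N2.2 ⟨mul_mem (mul_mem (mul_mem hq hf1) (inv_mem hq)) (inv_mem hf1),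
    fun d hd x hx => ?_⟩
  rw [mul_smul, mul_smul, mul_smul]
  by_cases hdc : d = c
  · rw [hdc] at hx
    have h1 : f⁻¹ • x ∈ Δ.Pan i c := by
      have h2 := F.smul_Pan f⁻¹ hx
      rwa [hinv (F.fix c f hf1)] at h2
    rw [hinv (hqx _ h1), smul_inv_smul, hqx x hx]
  · have hq' : q⁻¹ • c = c := hinv (F.fix c q hq)
    have h1 : q⁻¹ • d ∈ Δ.Pan j c := by
      have h2 := F.smul_Pan q⁻¹ hd
      rwa [hq'] at h2
    have h2 : q⁻¹ • d ≠ c := by
      intro h
      apply hdc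
      rw [← hq'] at h
      exact smul_left_cancel _ h
    have h3 : q⁻¹ • x ∈ Δ.Pan i (q⁻¹ • d) := F.smul_Pan _ hx
    rw [hinv (hf3 d hd hdc x hx), hf3 _ h1 h2 _ h3, smul_inv_smul]

/-- The case `t ≥ 3`. -/
theorem false_of_le_two (c : C) (hN : Nat.card (N2 F i j c) ≤ 2) (ht : 3 ≤ t) : False := by
  classical
  obtain ⟨g, hg, h, hh, h4, h2, -⟩ := H.sig c
  obtain ⟨f, hf, hfx⟩ := H.exists_comm c hg hh
  obtain ⟨hf1, hf2, hf3⟩ := mem_Fc.1 hf
  set σ := g * h * g⁻¹ * h⁻¹ with hσ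
  have hσc : σ • c = c := F.fix c _
    (mul_mem (mul_mem (mul_mem hg hh) (inv_mem hg)) (inv_mem hh))
  have hfc : f • c = c := F.fix c f hf1
  have hf2x : ∀ x ∈ Δ.Pan i c, (f ^ 2) • x = (σ ^ 2) • x := by
    have e1 : F.Eqv i c f σ := hfx
    intro x hx
    rw [pow_two, pow_two]
    exact e1.mul F e1 hσc x hx
  -- `f ^ 2` commutes with the kernel of the `i`-panel
  have hcomm : ∀ q ∈ F.U c, (∀ x ∈ Δ.Pan i c, q • x = x) → q * f ^ 2 = f ^ 2 * q := by
    intro q hq hqx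
    set n := q * f * q⁻¹ * f⁻¹ with hn
    have hnN : n ∈ N2 F i j c := comm_mem_N2 hq hqx hf
    have hfn : f * n * f⁻¹ ∈ N2 F i j c := N2_conj (by rw [hfc]; exact Δ.self_mem_Pan j c) hnN
    have h1 : f * n * f⁻¹ = n ∧ n * n = 1 := by
      by_cases hn1 : n = 1
      · rw [hn1]
        refine ⟨by group, one_mul 1⟩
      · have hall : ∀ m ∈ N2 F i j c, m = 1 ∨ m = n := by
          intro m hm
          by_contra hcon
          push Not at hcon
          have h3 : ({1, n, m} : Finset G).card = 3 :=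
            Finset.card_eq_three.2 ⟨1, n, m, Ne.symm hn1, Ne.symm hcon.1, Ne.symm hcon.2, rfl⟩
          have h5 : (({1, n, m} : Finset G) : Set G) ⊆ (N2 F i j c : Set G) := by
            intro x hx
            simp only [Finset.coe_insert, Finset.coe_singleton, Set.mem_insert_iff,
              Set.mem_singleton_iff] at hx
            rcases hx with rfl | rfl | rfl
            · exact one_mem _
            · exact hnN
            · exact hm
          have h6 := Set.ncard_le_ncard h5 (Set.toFinite _)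
          rw [Set.ncard_coe_finset, h3, ← Nat.card_coe_set_eq] at h6
          have h7 : Nat.card (N2 F i j c : Set G) = Nat.card (N2 F i j c) := rfl
          omega
        constructor
        · rcases hall _ hfn with h3 | h3
          · exfalso
            apply hn1
            have h5 : n = f⁻¹ * (f * n * f⁻¹) * f := by group
            rw [h5, h3]
            group
          · exact h3
        · rcases hall _ (mul_mem hnN hnN) with h3 | h3
          · exact h3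
          · exfalso
            exact hn1 (mul_eq_left.1 h3)
    have h3 : q * f = n * f * q := by rw [hn]; group
    have h5 : f * n = n * f := by
      have := h1.1
      rwa [mul_inv_eq_iff_eq_mul] at this
    calc q * f ^ 2 = (q * f) * f := by rw [pow_two, mul_assoc]
      _ = (n * f * q) * f := by rw [h3]
      _ = n * f * (q * f) := by simp only [mul_assoc]
      _ = n * f * (n * f * q) := by rw [h3]
      _ = n * (f * n) * f * q := by simp only [mul_assoc]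
      _ = n * (n * f) * f * q := by rw [h5]
      _ = (n * n) * (f * f) * q := by simp only [mul_assoc]
      _ = f ^ 2 * q := by rw [h1.2, one_mul, pow_two]
  -- a chamber moved by `f ^ 2`
  obtain ⟨c1, -, -, hc1, -⟩ := F.thick c i
  have hc1c : c1 ≠ c := (Δ.ne_of_δ_simple hc1).symm
  have hc1P : c1 ∈ Δ.Pan i c := Or.inr hc1
  set c2 := (f ^ 2) • c1 with hc2
  have hc2P : c2 ∈ Δ.Pan i c := by
    have h1 := F.smul_Pan (f ^ 2) hc1P
    rwa [pow_two, mul_smul, hfc, hfc, ← pow_two] at h1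
  have hc21 : c2 ≠ c1 := by
    rw [hc2, hf2x c1 hc1P]
    exact h2 c1 hc1P hc1c
  have hδ : Δ.δ c1 c2 = cs.simple i := Δ.δ_eq_of_mem_Pan hc1P hc2P hc21.symm
  have hPan : Δ.Pan i c1 = Δ.Pan i c := Δ.Pan_eq_of_mem hc1P
  -- three elements of the `j`-panel of `c1`
  obtain ⟨b, hb⟩ : ∃ b : Fin 3 → C, Function.Injective b ∧ ∀ k, Δ.δ c1 (b k) = cs.simple j := by
    have h1 := H.card_D c1
    haveI : Finite {d : C // d ∈ Δ.Pan j c1 ∧ d ≠ c1} := inferInstance
    haveI := Fintype.ofFinite {d : C // d ∈ Δ.Pan j c1 ∧ d ≠ c1}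
    rw [Nat.card_eq_fintype_card] at h1
    obtain ⟨e⟩ : Nonempty (Fin 3 ↪ {d : C // d ∈ Δ.Pan j c1 ∧ d ≠ c1}) :=
      Function.Embedding.nonempty_of_card_le (by rw [Fintype.card_fin, h1]; exact ht)
    refine ⟨fun k => (e k).1, fun k l hkl => e.injective (Subtype.ext hkl), fun k => ?_⟩
    rcases (e k).2.1 with h3 | h3
    · exact absurd h3 (e k).2.2
    · exact h3
  obtain ⟨hbi, hbj⟩ := hb
  have hu : ∀ k, ∃ u ∈ F.U c1, u • c2 = c2 ∧ u • b 0 = b 0 ∧
      u • ((f ^ 2) • b 0) = (f ^ 2) • b k := by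
    intro k
    refine H.pairs c1 c2 (b 0) (b 0) ((f ^ 2) • b 0) ((f ^ 2) • b k) hδ (hbj 0) (hbj 0) ?_ ?_
    · rw [hc2, F.iso]
      exact hbj 0
    · rw [hc2, F.iso]
      exact hbj k
  choose u hu1 hu2 hu3 hu4 using hu
  -- two of the three are equal modulo the kernel
  have key : ∀ k l, k ≠ l → (∀ x ∈ Δ.Pan i c, ((u k)⁻¹ * u l) • x = x) → False := by
    intro k l hkl hx
    have h1 : (u k)⁻¹ * u l ∈ F.U c1 := mul_mem (inv_mem (hu1 k)) (hu1 l)
    have h3 : (u k)⁻¹ * u l ∈ F.U c := F.mem_of_fix h1 (hx c (Δ.self_mem_Pan i c))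
    have h5 := hcomm _ h3 hx
    have h6 : ((u k)⁻¹ * u l) • (f ^ 2) • b 0 = (f ^ 2) • b 0 := by
      rw [← mul_smul, h5, mul_smul, mul_smul, hu3 l, inv_smul_eq_iff.2 (hu3 k).symm]
    rw [mul_smul, inv_smul_eq_iff, hu4 l, hu4 k] at h6
    exact hkl (hbi (smul_left_cancel _ h6)).symm
  by_cases hex : ∃ k l, k ≠ l ∧ (∀ x ∈ Δ.Pan i c, u k • x = x) ∧ (∀ x ∈ Δ.Pan i c, u l • x = x)
  · obtain ⟨k, l, hkl, h1, h3⟩ := hex
    refine key k l hkl fun x hx => ?_
    rw [mul_smul, h3 x hx, inv_smul_eq_iff, h1 x hx]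
  · push Not at hex
    have h1 : ∃ k l, k ≠ l ∧ (∃ x ∈ Δ.Pan i c, u k • x ≠ x) ∧ (∃ x ∈ Δ.Pan i c, u l • x ≠ x) := by
      by_cases h01 : ∀ x ∈ Δ.Pan i c, u 0 • x = x
      · exact ⟨1, 2, by decide, hex 0 1 (by decide) h01, hex 0 2 (by decide) h01⟩
      · push Not at h01
        by_cases h11 : ∀ x ∈ Δ.Pan i c, u 1 • x = x
        · exact ⟨0, 2, by decide, h01, hex 1 2 (by decide) h11⟩
        · push Not at h11
          exact ⟨0, 1, by decide, h01, h11⟩
    obtain ⟨k, l, hkl, h3, h5⟩ := h1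
    refine key k l hkl ?_
    rw [← hPan] at h3 h5 ⊢
    exact (F.three c1 c2 i hδ (u k) (hu1 k) (hu2 k) h3).2 (u l) (hu1 l) (hu2 l) h5

end

end Hyp

end Cfsg.Agent.SplitTwo.Exc
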