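import Cfsg.Agent.SplitTwo.ExcTransfer
import Cfsg.Agent.Tits.Gate

/-!
S1144, [N], the exceptional panel: the general surjectivity theorem. `Fam Δ G` is a family of normal
2-subgroups `U c` of the chamber stabilisers. If every element of `G_c` acts on the `j`-panel of `c` as an
element of `U c`, then the kernel `Q` of `U c` on the `i`-panel of `c` acts on the `j`-panels of the other
chambers of this panel in all possible ways.
-/

set_option autoImplicit false
set_option linter.unusedSectionVars false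
set_option linter.style.haveILetI false

namespace Cfsg.Agent.SplitTwo.Exc

open Cfsg.Agent.Tits.Core Cfsg.Agent.Tits.Core.Bldg

/-- A family of normal 2-subgroups of the chamber stabilisers, transitive on the spheres. -/
structure Fam {I : Type*} {M : CoxeterMatrix I} {W : Type*} [Group W] {cs : CoxeterSystem M W}
    {C : Type*} (Δ : Bldg cs C) (G : Type*) [Group G] [MulAction G C] where
  iso : ∀ (g : G) x y, Δ.δ (g • x) (g • y) = Δ.δ x y
  trans : ∀ x y x' y', Δ.δ x y = Δ.δ x' y' → ∃ g : G, g • x = x' ∧ g • y = y'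
  thick : Δ.Thick
  U : C → Subgroup G
  fix : ∀ c, ∀ u ∈ U c, u • c = c
  conj : ∀ (g : G) c, ∀ u ∈ U c, g * u * g⁻¹ ∈ U (g • c)
  two : ∀ c, IsPGroup 2 (U c)
  sphere : ∀ c x y, Δ.δ c x = Δ.δ c y → ∃ u ∈ U c, u • x = y
  walk1 : ∀ c d i, Δ.δ c d = cs.simple i → ∀ u ∈ U c, u • d = d → u ∈ U d
  three : ∀ c d i, Δ.δ c d = cs.simple i → ∀ u ∈ U c, u • d = d → (∃ x ∈ Δ.Pan i c, u • x ≠ x) →
    (∃ e ∈ Δ.Pan i c, e ≠ c ∧ e ≠ d ∧ u • e = e) ∧
    ∀ v ∈ U c, v • d = d → (∃ x ∈ Δ.Pan i c, v • x ≠ x) → ∀ x ∈ Δ.Pan i c, (u⁻¹ * v) • x = x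

namespace Fam

variable {I : Type*} {M : CoxeterMatrix I} {W : Type*} [Group W] {cs : CoxeterSystem M W}
variable {C : Type*} {Δ : Bldg cs C} {G : Type*} [Group G] [MulAction G C]

local notation "ℓ" => cs.length

variable (F : Fam Δ G)

include F

theorem smul_Pan (g : G) {i : I} {c d : C} (h : d ∈ Δ.Pan i c) : g • d ∈ Δ.Pan i (g • c) := by
  rcases h with rfl | h
  · exact Or.inl rfl
  · right
    rw [F.iso]
    exact h

theorem smul_Pan_iff (g : G) {i : I} {c d : C} : g • d ∈ Δ.Pan i (g • c) ↔ d ∈ Δ.Pan i c := by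
  refine ⟨fun h => ?_, F.smul_Pan g⟩
  have := F.smul_Pan g⁻¹ h
  rwa [inv_smul_smul, inv_smul_smul] at this

/-- `g` stabilises the panel of `c` if it moves `c` in the panel. -/
theorem smul_Pan_stab {g : G} {i : I} {c : C} (hg : g • c ∈ Δ.Pan i c) {d : C} :
    g • d ∈ Δ.Pan i c ↔ d ∈ Δ.Pan i c := by
  conv_rhs => rw [← F.smul_Pan_iff g, Δ.Pan_eq_of_mem hg]

theorem fix_between {g : G} {x y z : C} (hx : g • x = x) (hz : g • z = z)
    (hl : ℓ (Δ.δ x y * Δ.δ y z) = ℓ (Δ.δ x y) + ℓ (Δ.δ y z)) : g • y = y := by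
  have h1 : Δ.δ x (g • y) = Δ.δ x y := by
    conv_lhs => rw [← hx]
    exact F.iso g x y
  have h2 : Δ.δ (g • y) z = Δ.δ y z := by
    conv_lhs => rw [← hz]
    exact F.iso g y z
  exact Δ.between_unique hl h1 h2 rfl rfl

/-- An element of `U c` fixing `d` is in `U d`. More generally, a property of chambers which passes
from a chamber to an adjacent one fixed by `u` holds for all chambers fixed by `u`. -/
theorem walk {P : C → Prop} {c d : C} {u : G} (hu : u ∈ F.U c) (hd : u • d = d) (hc : P c)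
    (step : ∀ a b i, Δ.δ a b = cs.simple i → u ∈ F.U a → u ∈ F.U b → P a → P b) :
    u ∈ F.U d ∧ P d := by
  induction hn : ℓ (Δ.δ c d) generalizing d with
  | zero =>
    have h1 : c = d := Δ.eq_of_δ_eq_one (cs.length_eq_zero_iff.1 hn)
    rw [← h1]
    exact ⟨hu, hc⟩
  | succ n ih =>
    have hne : Δ.δ c d ≠ 1 := by
      intro h1
      rw [h1, cs.length_one] at hn
      omega
    obtain ⟨i, hi⟩ := cs.exists_rightDescent_of_ne_one hne
    have hi' := cs.isRightDescent_iff.1 hi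
    obtain ⟨d', hd1, hd2⟩ := Δ.exists_step c d i
    have hd3 : Δ.δ d' d = cs.simple i := Δ.δ_symm_simple hd1
    have hfix : u • d' = d' := by
      refine F.fix_between (x := c) (z := d) (F.fix c u hu) hd ?_
      rw [hd2, hd3, mul_assoc, cs.simple_mul_simple_self, mul_one, cs.length_simple]
      omega
    obtain ⟨h1, h2⟩ := ih hfix (by rw [hd2]; omega)
    have h3 := F.walk1 d' d i hd3 u h1 hd
    exact ⟨h3, step d' d i hd3 h1 h3 h2⟩

theorem mem_of_fix {c d : C} {u : G} (hu : u ∈ F.U c) (hd : u • d = d) : u ∈ F.U d :=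
  (F.walk (P := fun _ => True) hu hd trivial fun _ _ _ _ _ _ _ => trivial).1

theorem conj_mem_iff (g : G) (c : C) (u : G) : g * u * g⁻¹ ∈ F.U (g • c) ↔ u ∈ F.U c := by
  refine ⟨fun h => ?_, F.conj g c u⟩
  have h1 := F.conj g⁻¹ _ _ h
  rw [inv_smul_smul] at h1
  have e : g⁻¹ * (g * u * g⁻¹) * g⁻¹⁻¹ = u := by group
  rwa [e] at h1

theorem tr (c d : C) : ∃ g : G, g • c = d := by
  obtain ⟨g, hg, -⟩ := F.trans c c d d (by rw [Δ.δ_self, Δ.δ_self])
  exact ⟨g, hg⟩

theorem tr_Pan {i : I} {c x y : C} (hx : x ∈ Δ.Pan i c) (hy : y ∈ Δ.Pan i c) (hxc : x ≠ c)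
    (hyc : y ≠ c) : ∃ u ∈ F.U c, u • x = y := by
  rcases hx with rfl | hx
  · exact absurd rfl hxc
  rcases hy with rfl | hy
  · exact absurd rfl hyc
  exact F.sphere c x y (hx.trans hy.symm)

/-- The equivariant families of homomorphisms `G_c → ZMod 2`, trivial on the kernel of the
`j`-panel. -/
def Th (_F : Fam Δ G) (j : I) : AddSubgroup (C → G → ZMod 2) where
  carrier := {f | (∀ c g h, g • c = c → h • c = c → f c (g * h) = f c g + f c h) ∧
    (∀ (k : G) c g, g • c = c → f (k • c) (k * g * k⁻¹) = f c g) ∧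
    (∀ c g, g • c ≠ c → f c g = 0) ∧ (∀ c g, (∀ d ∈ Δ.Pan j c, g • d = d) → f c g = 0)}
  zero_mem' := ⟨fun _ _ _ _ _ => (add_zero 0).symm, fun _ _ _ _ => rfl, fun _ _ _ => rfl,
    fun _ _ _ => rfl⟩
  add_mem' := by
    rintro f f' ⟨h1, h2, h3, h4⟩ ⟨h1', h2', h3', h4'⟩
    refine ⟨fun c g h hg hh => ?_, fun k c g hg => ?_, fun c g hg => ?_, fun c g hg => ?_⟩
    · simp only [Pi.add_apply]
      rw [h1 c g h hg hh, h1' c g h hg hh]
      abel
    · simp only [Pi.add_apply]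
      rw [h2 k c g hg, h2' k c g hg]
    · simp only [Pi.add_apply]
      rw [h3 c g hg, h3' c g hg, add_zero]
    · simp only [Pi.add_apply]
      rw [h4 c g hg, h4' c g hg, add_zero]
  neg_mem' := by
    rintro f ⟨h1, h2, h3, h4⟩
    refine ⟨fun c g h hg hh => ?_, fun k c g hg => ?_, fun c g hg => ?_, fun c g hg => ?_⟩
    · simp only [Pi.neg_apply]
      rw [h1 c g h hg hh]
      abel
    · simp only [Pi.neg_apply]
      rw [h2 k c g hg]
    · simp only [Pi.neg_apply]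
      rw [h3 c g hg, neg_zero]
    · simp only [Pi.neg_apply]
      rw [h4 c g hg, neg_zero]

omit F in
theorem two_eq_zero (x : ZMod 2) : x + x = 0 := CharTwo.add_self_eq_zero x

section Th

variable {j : I} {χ : C → G → ZMod 2} (hχ : χ ∈ F.Th j)

include hχ

theorem Th_mul {c : C} {g h : G} (hg : g • c = c) (hh : h • c = c) :
    χ c (g * h) = χ c g + χ c h := hχ.1 c g h hg hh

theorem Th_one (c : C) : χ c 1 = 0 := by
  have h := hχ.1 c 1 1 (one_smul _ _) (one_smul _ _)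
  rw [mul_one] at h
  linear_combination (-1 : ZMod 2) * h

theorem Th_inv {c : C} {g : G} (hg : g • c = c) : χ c g⁻¹ = χ c g := by
  have hg' : g⁻¹ • c = c := by rw [inv_smul_eq_iff, hg]
  have h := hχ.1 c g g⁻¹ hg hg'
  rw [mul_inv_cancel, F.Th_one hχ] at h
  have h2 := two_eq_zero (χ c g)
  linear_combination (-1 : ZMod 2) * h - h2

theorem Th_conj (k : G) {c : C} {g : G} (hg : g • c = c) : χ (k • c) (k * g * k⁻¹) = χ c g :=
  hχ.2.1 k c g hg

theorem Th_ker {c : C} {g : G} (hg : ∀ d ∈ Δ.Pan j c, g • d = d) : χ c g = 0 := hχ.2.2.2 c g hg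

/-- The line trick. If the values of `χ` agree on the kernels of the `i`-panels, they agree on
`U a ∩ U b` for `a`, `b` in an `i`-panel. -/
theorem Th_adj {i : I}
    (hK : ∀ a b, b ∈ Δ.Pan i a → ∀ q ∈ F.U a, (∀ x ∈ Δ.Pan i a, q • x = x) → χ a q = χ b q)
    {a b : C} (hab : Δ.δ a b = cs.simple i) {u : G} (hu : u ∈ F.U a) (hb : u • b = b) :
    χ a u = χ b u := by
  by_cases hker : ∀ x ∈ Δ.Pan i a, u • x = x
  · exact hK a b (Or.inr hab) u hu hker
  push Not at hker
  -- the value does not depend on the pair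
  have key : ∀ c d, Δ.δ c d = cs.simple i → ∀ v ∈ F.U c, v • d = d →
      (∃ x ∈ Δ.Pan i c, v • x ≠ x) → χ c v + χ d v = χ a u + χ b u := by
    intro c d hcd v hv hvd hvx
    obtain ⟨g, hg1, hg2⟩ := F.trans a b c d (hab.trans hcd.symm)
    have hw1 : g * u * g⁻¹ ∈ F.U c := by
      rw [← hg1]
      exact F.conj g a u hu
    have hw2 : (g * u * g⁻¹) • d = d := by
      rw [← hg2, mul_smul, mul_smul, inv_smul_smul, hb]
    have hw3 : ∃ x ∈ Δ.Pan i c, (g * u * g⁻¹) • x ≠ x := by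
      obtain ⟨x, hx, hxx⟩ := hker
      refine ⟨g • x, ?_, ?_⟩
      · rw [← hg1]
        exact F.smul_Pan g hx
      · rw [mul_smul, mul_smul, inv_smul_smul]
        exact fun h => hxx (smul_left_cancel g h)
    have h4 := (F.three c d i hcd v hv hvd hvx).2 _ hw1 hw2 hw3
    have h5 : v⁻¹ * (g * u * g⁻¹) ∈ F.U c := mul_mem (inv_mem hv) hw1
    have h6 := hK c d (Or.inr hcd) _ h5 h4
    have hvc := F.fix c v hv
    have hvc' : v⁻¹ • c = c := by rw [inv_smul_eq_iff, hvc]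
    have hvd' : v⁻¹ • d = d := by rw [inv_smul_eq_iff, hvd]
    have hwc := F.fix c _ hw1
    rw [F.Th_mul hχ hvc' hwc, F.Th_mul hχ hvd' hw2, F.Th_inv hχ hvc, F.Th_inv hχ hvd] at h6
    have h7 : χ c (g * u * g⁻¹) = χ a u := by
      rw [← hg1]
      exact F.Th_conj hχ g (F.fix a u hu)
    have h8 : χ d (g * u * g⁻¹) = χ b u := by
      rw [← hg2]
      exact F.Th_conj hχ g hb
    rw [h7, h8] at h6
    have e1 := two_eq_zero (χ d v)
    have e2 := two_eq_zero (χ a u)
    linear_combination h6 + e1 - e2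
  obtain ⟨⟨e, he, hea, heb, hue⟩, -⟩ := F.three a b i hab u hu hb hker
  have hae : Δ.δ a e = cs.simple i := by
    rcases he with rfl | h
    · exact absurd rfl hea
    · exact h
  have hbe : Δ.δ b e = cs.simple i := by
    have h1 : b ∈ Δ.Pan i a := Or.inr hab
    exact Δ.δ_eq_of_mem_Pan h1 he (Ne.symm heb)
  have hub := F.walk1 a b i hab u hu hb
  have h1 := key a e hae u hu hue hker
  have h2 := key b e hbe u hub hue (by
    rw [Δ.Pan_eq_of_mem (Or.inr hab : b ∈ Δ.Pan i a)]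
    exact hker)
  linear_combination h1 - h2

end Th

/-- If the values of `χ` agree on the kernels of the `i`-panels, `χ` is zero. -/
theorem Th_eq_zero [Finite G] [Finite C] (hG : ∀ f : G →* Multiplicative (ZMod 2), f = 1)
    (hodd : Odd (Nat.card C)) {i j : I} (hI : ∀ k, k = i ∨ k = j)
    (hj : ∀ (c : C) (g : G), g • c = c → ∃ u ∈ F.U c, ∀ x ∈ Δ.Pan j c, (u⁻¹ * g) • x = x)
    {χ : C → G → ZMod 2} (hχ : χ ∈ F.Th j)
    (hK : ∀ a b, b ∈ Δ.Pan i a → ∀ q ∈ F.U a, (∀ x ∈ Δ.Pan i a, q • x = x) → χ a q = χ b q) :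
    χ = 0 := by
  have hK' : ∀ a b, b ∈ Δ.Pan j a → ∀ q ∈ F.U a, (∀ x ∈ Δ.Pan j a, q • x = x) →
      χ a q = χ b q := by
    intro a b hab q hq hqx
    rw [F.Th_ker hχ hqx, F.Th_ker hχ]
    rwa [Δ.Pan_eq_of_mem hab]
  have hU : ∀ c, ∀ u ∈ F.U c, χ c u = 0 := by
    intro c u hu
    refine transfer_family hG c hodd (F.tr c) χ (fun g h hg hh => F.Th_mul hχ hg hh)
      (fun k g hg => F.Th_conj hχ k hg) u (F.fix c u hu) ?_
    intro k d hd
    refine (F.walk (P := fun d => χ d (u ^ k) = χ c (u ^ k)) (pow_mem hu k) hd rfl ?_).2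
    intro a b l hab ha hb h1
    rw [← h1]
    rcases hI l with rfl | rfl
    · exact (F.Th_adj hχ hK hab ha (F.fix b _ hb)).symm
    · exact (F.Th_adj hχ hK' hab ha (F.fix b _ hb)).symm
  funext c g
  by_cases hg : g • c = c
  · obtain ⟨u, hu, h1⟩ := hj c g hg
    have hu' : u⁻¹ • c = c := F.fix c _ (inv_mem hu)
    have h2 : χ c (u * (u⁻¹ * g)) = χ c u + χ c (u⁻¹ * g) :=
      F.Th_mul hχ (F.fix c u hu) (by rw [mul_smul, hg, hu'])
    rw [mul_inv_cancel_left, hU c u hu, F.Th_ker hχ h1, add_zero] at h2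
    exact h2
  · exact hχ.2.2.1 c g hg

/-- The tuples of families which vanish on the kernel of `U c` on the `i`-panel of `c`. -/
def L [Fintype C] (i j : I) (c : C) : AddSubgroup (C → C → G → ZMod 2) where
  carrier := {f | (∀ d, f d ∈ F.Th j) ∧ (∀ d, d ∉ Δ.Pan i c → f d = 0) ∧
    ∀ q ∈ F.U c, (∀ x ∈ Δ.Pan i c, q • x = x) → ∑ d, f d d q = 0}
  zero_mem' := ⟨fun _ => zero_mem _, fun _ _ => rfl, fun _ _ _ => Finset.sum_const_zero⟩
  add_mem' := by
    rintro f f' ⟨h1, h2, h3⟩ ⟨h1', h2', h3'⟩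
    refine ⟨fun d => add_mem (h1 d) (h1' d), fun d hd => ?_, fun q hq hqx => ?_⟩
    · rw [Pi.add_apply, h2 d hd, h2' d hd, add_zero]
    · simp only [Pi.add_apply]
      rw [Finset.sum_add_distrib, h3 q hq hqx, h3' q hq hqx, add_zero]
  neg_mem' := by
    rintro f ⟨h1, h2, h3⟩
    refine ⟨fun d => neg_mem (h1 d), fun d hd => ?_, fun q hq hqx => ?_⟩
    · rw [Pi.neg_apply, h2 d hd, neg_zero]
    · simp only [Pi.neg_apply]
      rw [Finset.sum_neg_distrib, h3 q hq hqx, neg_zero]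

theorem L_inv [Fintype C] {i j : I} {c : C} {f : C → C → G → ZMod 2} (hf : f ∈ F.L i j c) {h : G}
    (hh : h • c ∈ Δ.Pan i c) : (fun d => f (h • d)) ∈ F.L i j c := by
  obtain ⟨h1, h2, h3⟩ := hf
  refine ⟨fun d => h1 _, fun d hd => h2 _ ?_, fun q hq hqx => ?_⟩
  · rwa [F.smul_Pan_stab hh]
  · have hx : ∀ x ∈ Δ.Pan i c, (h * q * h⁻¹) • x = x := by
      intro x hx
      have h4 : h⁻¹ • x ∈ Δ.Pan i c := by
        rw [← F.smul_Pan_stab hh, smul_inv_smul]
        exact hx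
      rw [mul_smul, mul_smul, hqx _ h4, smul_inv_smul]
    have hq1 : h * q * h⁻¹ ∈ F.U c :=
      F.mem_of_fix (F.conj h c q hq) (hx c (Δ.self_mem_Pan i c))
    have h4 := h3 _ hq1 hx
    rw [← Equiv.sum_comp (MulAction.toPerm h)] at h4
    rw [← h4]
    refine Finset.sum_congr rfl fun d _ => ?_
    rw [MulAction.toPerm_apply]
    by_cases hd : q • d = d
    · exact ((h1 (h • d)).2.1 h d q hd).symm
    · change f (h • d) d q = _
      rw [(h1 (h • d)).2.2.1 d q hd, (h1 (h • d)).2.2.1 (h • d)]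
      rw [mul_smul, mul_smul, inv_smul_smul]
      exact fun h => hd (smul_left_cancel _ h)

theorem even_card {i : I} {c : C} {P : Finset C} [DecidableEq C]
    (hP : ∀ d, d ∈ P ↔ d ∈ Δ.Pan i c) : Even (P.erase c).card := by
  obtain ⟨y, z, hyz, hy, hz⟩ := F.thick c i
  have hyc : y ≠ c := (Δ.ne_of_δ_simple hy).symm
  have hzc : z ≠ c := (Δ.ne_of_δ_simple hz).symm
  have horb : MulAction.orbit (F.U c) y = ((P.erase c : Finset C) : Set C) := by
    ext d
    rw [Finset.mem_coe, Finset.mem_erase, hP]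
    constructor
    · rintro ⟨u, rfl⟩
      have hu := F.fix c u u.2
      refine ⟨fun h => hyc ?_, ?_⟩
      · have h1 : (u : G) • y = (u : G) • c := by rw [hu]; exact h
        exact smul_left_cancel _ h1
      · have h1 := F.smul_Pan (u : G) (Or.inr hy : y ∈ Δ.Pan i c)
        rwa [hu] at h1
    · rintro ⟨h1, h2⟩
      obtain ⟨u, hu, hud⟩ := F.tr_Pan (Or.inr hy : y ∈ Δ.Pan i c) h2 hyc h1
      exact ⟨⟨u, hu⟩, hud⟩
  haveI : Finite (MulAction.orbit (F.U c) y) := by
    rw [horb]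
    infer_instance
  haveI : Fact (Nat.Prime 2) := ⟨Nat.prime_two⟩
  obtain ⟨n, hn⟩ := (F.two c).card_orbit y
  rw [horb] at hn
  have h1 : (P.erase c).card = 2 ^ n := by
    rw [← hn, Nat.card_coe_set_eq, Set.ncard_coe_finset]
  have h2 : 1 < (P.erase c).card := by
    rw [Finset.one_lt_card]
    refine ⟨y, ?_, z, ?_, hyz⟩
    · rw [Finset.mem_erase, hP]
      exact ⟨hyc, Or.inr hy⟩
    · rw [Finset.mem_erase, hP]
      exact ⟨hzc, Or.inr hz⟩
  rw [h1] at h2 ⊢
  have h3 : n ≠ 0 := by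
    rintro rfl
    simp at h2
  exact (Nat.even_pow' h3).2 even_two

/-- The tuples which vanish on the kernel are constant. -/
theorem L_const [Finite G] [Fintype C] (hG : ∀ f : G →* Multiplicative (ZMod 2), f = 1)
    (hodd : Odd (Nat.card C)) {i j : I} (hI : ∀ k, k = i ∨ k = j)
    (hj : ∀ (c : C) (g : G), g • c = c → ∃ u ∈ F.U c, ∀ x ∈ Δ.Pan j c, (u⁻¹ * g) • x = x)
    {c : C} {f : C → C → G → ZMod 2} (hf : f ∈ F.L i j c) {a b : C} (ha : a ∈ Δ.Pan i c)
    (hb : b ∈ Δ.Pan i c) : f a = f b := by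
  classical
  by_contra hne
  obtain ⟨h, hh⟩ := F.tr a b
  have hhc : h • c ∈ Δ.Pan i c := by
    have h1 : h • a ∈ Δ.Pan i a := by
      rw [hh, Δ.Pan_eq_of_mem ha]
      exact hb
    have h2 := (F.smul_Pan_stab h1 (d := c)).2 (Δ.mem_Pan_symm ha)
    rwa [Δ.Pan_eq_of_mem ha] at h2
  -- the tuples with sum zero
  let L0 : AddSubgroup (C → C → G → ZMod 2) :=
    { carrier := {f | f ∈ F.L i j c ∧ ∑ d, f d = 0}
      zero_mem' := ⟨zero_mem _, Finset.sum_const_zero⟩
      add_mem' := by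
        rintro f f' ⟨h1, h2⟩ ⟨h1', h2'⟩
        refine ⟨add_mem h1 h1', ?_⟩
        simp only [Pi.add_apply]
        rw [Finset.sum_add_distrib, h2, h2', add_zero]
      neg_mem' := by
        rintro f ⟨h1, h2⟩
        refine ⟨neg_mem h1, ?_⟩
        simp only [Pi.neg_apply]
        rw [Finset.sum_neg_distrib, h2, neg_zero] }
  have hL0 : ∀ f, f ∈ L0 ↔ f ∈ F.L i j c ∧ ∑ d, f d = 0 := fun f => Iff.rfl
  have hμ : (f - fun d => f (h • d)) ∈ L0 := by
    refine (hL0 _).2 ⟨sub_mem hf (F.L_inv hf hhc), ?_⟩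
    simp only [Pi.sub_apply]
    rw [Finset.sum_sub_distrib]
    rw [sub_eq_zero]
    exact (Equiv.sum_comp (MulAction.toPerm h) f).symm
  have hμ0 : (f - fun d => f (h • d)) ≠ 0 := by
    intro h0
    have h1 := congrFun h0 a
    simp only [Pi.sub_apply, Pi.zero_apply] at h1
    rw [hh, sub_eq_zero] at h1
    exact hne h1
  obtain ⟨ν, hν, hν0, hνf⟩ := exists_fixed_tuple (S := F.U c) (Ω := C) (Θ := C → G → ZMod 2)
    (fun θ => by
      funext x g
      exact two_eq_zero _) (F.two c) L0 (by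
      intro s f hf
      obtain ⟨h1, h2⟩ := (hL0 _).1 hf
      refine (hL0 _).2 ⟨?_, ?_⟩
      · exact F.L_inv (h := ((s⁻¹ : F.U c) : G)) h1 (by
          rw [F.fix c _ (s⁻¹ : F.U c).2]
          exact Δ.self_mem_Pan i c)
      · rw [← h2]
        exact Equiv.sum_comp (MulAction.toPerm (s⁻¹ : F.U c)) f) hμ hμ0
  obtain ⟨hνL, hνs⟩ := (hL0 _).1 hν
  -- the common value
  obtain ⟨d1, -, hd1, -⟩ : ∃ y z, Δ.δ c y = cs.simple i ∧ z = z ∧ True := by
    obtain ⟨y, z, -, h1, h2⟩ := F.thick c i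
    exact ⟨y, z, h1, rfl, trivial⟩
  have hd1' : d1 ≠ c := (Δ.ne_of_δ_simple hd1).symm
  set χ := ν d1 with hχ
  have hχT : χ ∈ F.Th j := hνL.1 d1
  have hνd : ∀ d ∈ Δ.Pan i c, d ≠ c → ν d = χ := by
    intro d hd hdc
    obtain ⟨u, hu, hud⟩ := F.tr_Pan (Or.inr hd1 : d1 ∈ Δ.Pan i c) hd hd1' hdc
    rw [← hud]
    exact hνf ⟨u, hu⟩ d1
  have h2χ : χ + χ = 0 := by
    funext x g
    exact two_eq_zero _
  set P : Finset C := Finset.univ.filter (fun d => d ∈ Δ.Pan i c) with hP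
  have hPm : ∀ d, d ∈ P ↔ d ∈ Δ.Pan i c := fun d => by simp [hP]
  have hcP : c ∈ P := (hPm c).2 (Δ.self_mem_Pan i c)
  have hPcard : Even (P.erase c).card := F.even_card hPm
  have hνc : ν c = 0 := by
    have h1 : ∑ d ∈ P, ν d = 0 := by
      rw [← hνs]
      exact Finset.sum_subset (Finset.subset_univ _) fun d _ hd => hνL.2.1 d fun h => hd ((hPm d).2 h)
    rw [← Finset.add_sum_erase _ _ hcP] at h1
    have h2 : ∑ d ∈ P.erase c, ν d = ∑ d ∈ P.erase c, χ :=
      Finset.sum_congr rfl fun d hd => by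
        rw [Finset.mem_erase] at hd
        exact hνd d ((hPm d).1 hd.2) hd.1
    obtain ⟨n, hn⟩ := hPcard
    rw [h2, Finset.sum_const, hn, add_smul, ← smul_add, h2χ, smul_zero, add_zero] at h1
    exact h1
  have hχ0 : χ ≠ 0 := by
    intro h0
    apply hν0
    funext d
    by_cases hd : d ∈ Δ.Pan i c
    · by_cases hdc : d = c
      · rw [hdc, hνc]
        rfl
      · rw [hνd d hd hdc, h0]
        rfl
    · exact hνL.2.1 d hd
  -- all the values agree on the kernel
  have hval : ∀ q ∈ F.U c, (∀ x ∈ Δ.Pan i c, q • x = x) → ∀ a ∈ Δ.Pan i c,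
      χ a q = ∑ d ∈ P, χ d q := by
    intro q hq hqx a ha
    obtain ⟨h, hh⟩ := F.tr a c
    have hhc : h • c ∈ Δ.Pan i c := by
      have h1 : h • a ∈ Δ.Pan i a := by
        rw [hh]
        exact Δ.mem_Pan_symm ha
      have h2 := (F.smul_Pan_stab h1 (d := c)).2 (Δ.mem_Pan_symm ha)
      rwa [Δ.Pan_eq_of_mem ha] at h2
    have h1 := (F.L_inv hνL hhc).2.2 q hq hqx
    have h2 : ∑ d ∈ P, ν (h • d) d q = 0 := by
      rw [← h1]
      refine Finset.sum_subset (Finset.subset_univ _) fun d _ hd => ?_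
      have h3 : h • d ∉ Δ.Pan i c := by
        rw [F.smul_Pan_stab hhc]
        exact fun h => hd ((hPm d).2 h)
      rw [hνL.2.1 _ h3]
      rfl
    have haP : a ∈ P := (hPm a).2 ha
    rw [← Finset.add_sum_erase _ _ haP, hh, hνc] at h2
    have h3 : ∑ d ∈ P.erase a, ν (h • d) d q = ∑ d ∈ P.erase a, χ d q := by
      refine Finset.sum_congr rfl fun d hd => ?_
      rw [Finset.mem_erase] at hd
      rw [hνd (h • d) ((F.smul_Pan_stab hhc).2 ((hPm d).1 hd.2))]
      intro h4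
      apply hd.1
      rw [← hh] at h4
      exact smul_left_cancel h h4
    rw [h3] at h2
    rw [← Finset.add_sum_erase _ _ haP]
    have h4 : (0 : C → G → ZMod 2) a q + ∑ d ∈ P.erase a, χ d q = 0 := h2
    rw [Pi.zero_apply, Pi.zero_apply, zero_add] at h4
    rw [h4, add_zero]
  apply hχ0
  refine F.Th_eq_zero hG hodd hI hj hχT ?_
  intro a' b' hab q hq hqx
  obtain ⟨k, hk⟩ := F.tr a' c
  have h1 : k * q * k⁻¹ ∈ F.U c := by
    rw [← hk]
    exact F.conj k a' q hq
  have h2 : ∀ x ∈ Δ.Pan i c, (k * q * k⁻¹) • x = x := by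
    intro x hx
    have h3 : k⁻¹ • x ∈ Δ.Pan i a' := by
      rw [← F.smul_Pan_iff k, smul_inv_smul, hk]
      exact hx
    rw [mul_smul, mul_smul, hqx _ h3, smul_inv_smul]
  have h3 := hval _ h1 h2 (k • a') (by rw [hk]; exact Δ.self_mem_Pan i c)
  have h4 := hval _ h1 h2 (k • b') (by rw [← hk]; exact F.smul_Pan k hab)
  rw [F.Th_conj hχT k (hqx a' (Δ.self_mem_Pan i a'))] at h3
  rw [F.Th_conj hχT k (hqx b' hab)] at h4
  rw [h3, h4]

/-- The action on the `j`-panel of `d` is the same. -/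
def Eqv (_F : Fam Δ G) (j : I) (d : C) (g h : G) : Prop := ∀ x ∈ Δ.Pan j d, g • x = h • x

theorem Eqv.symm {j : I} {d : C} {g h : G} (e : F.Eqv j d g h) : F.Eqv j d h g :=
  fun x hx => (e x hx).symm

theorem Eqv.trans {j : I} {d : C} {g h k : G} (e : F.Eqv j d g h) (e' : F.Eqv j d h k) :
    F.Eqv j d g k := fun x hx => (e x hx).trans (e' x hx)

theorem Eqv.mul {j : I} {d : C} {g g' h h' : G} (e : F.Eqv j d g g') (e' : F.Eqv j d h h')
    (hd : h' • d = d) : F.Eqv j d (g * h) (g' * h') := by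
  intro x hx
  rw [mul_smul, mul_smul, e' x hx]
  refine e _ ?_
  have h1 := F.smul_Pan h' hx
  rwa [hd] at h1

theorem Eqv.inv {j : I} {d : C} {g h : G} (e : F.Eqv j d g h) (hd : g • d = d) :
    F.Eqv j d g⁻¹ h⁻¹ := by
  intro x hx
  have h1 : g⁻¹ • x ∈ Δ.Pan j d := by
    have h2 := F.smul_Pan g⁻¹ hx
    rwa [inv_smul_eq_iff.2 hd.symm] at h2
  have h2 := e _ h1
  rw [smul_inv_smul] at h2
  rw [eq_inv_smul_iff, ← h2]

/-- A homomorphism from `U d` to `ZMod 2`, trivial on the kernel of the `j`-panel of `d`, extends to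
an equivariant family. -/
theorem exists_Th {j : I}
    (hj : ∀ (c : C) (g : G), g • c = c → ∃ u ∈ F.U c, ∀ x ∈ Δ.Pan j c, (u⁻¹ * g) • x = x)
    (d : C) (φ : G → ZMod 2) (hφ : ∀ u ∈ F.U d, ∀ v ∈ F.U d, φ (u * v) = φ u + φ v)
    (hk : ∀ u ∈ F.U d, (∀ x ∈ Δ.Pan j d, u • x = x) → φ u = 0) :
    ∃ χ ∈ F.Th j, ∀ u ∈ F.U d, χ d u = φ u := by
  classical
  have hj' : ∀ g : G, g • d = d → ∃ u ∈ F.U d, F.Eqv j d u g := by
    intro g hg
    obtain ⟨u, hu, h⟩ := hj d g hg
    refine ⟨u, hu, fun x hx => ?_⟩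
    have := h x hx
    rw [mul_smul, inv_smul_eq_iff] at this
    exact this.symm
  have hwd : ∀ u ∈ F.U d, ∀ v ∈ F.U d, F.Eqv j d u v → φ u = φ v := by
    intro u hu v hv h
    have h1 : φ (u * (u⁻¹ * v)) = φ u + φ (u⁻¹ * v) := hφ u hu _ (mul_mem (inv_mem hu) hv)
    rw [mul_inv_cancel_left, hk (u⁻¹ * v) (mul_mem (inv_mem hu) hv), add_zero] at h1
    · exact h1.symm
    · intro x hx
      rw [mul_smul, inv_smul_eq_iff, h x hx]
  choose! w hw hwe using hj'
  let ψ : G → ZMod 2 := fun g => φ (w g)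
  have hψ : ∀ g, g • d = d → ∀ u ∈ F.U d, F.Eqv j d u g → ψ g = φ u := fun g hg u hu h =>
    hwd _ (hw g hg) _ hu ((hwe g hg).trans F h.symm)
  have hψm : ∀ g h, g • d = d → h • d = d → ψ (g * h) = ψ g + ψ h := by
    intro g h hg hh
    rw [hψ (g * h) (by rw [mul_smul, hh, hg]) (w g * w h) (mul_mem (hw g hg) (hw h hh))
      ((hwe g hg).mul F (hwe h hh) hh)]
    exact hφ _ (hw g hg) _ (hw h hh)
  have hψc : ∀ b g, b • d = d → g • d = d → ψ (b * g * b⁻¹) = ψ g := by
    intro b g hb hg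
    have hb' : b⁻¹ • d = d := inv_smul_eq_iff.2 hb.symm
    have h1 := hψm b b⁻¹ hb hb'
    have h2 := hψm 1 1 (one_smul _ _) (one_smul _ _)
    rw [mul_one] at h2
    rw [hψm _ _ (by rw [mul_smul, hg, hb]) hb', hψm _ _ hb hg]
    rw [mul_inv_cancel] at h1
    linear_combination (-1 : ZMod 2) * h1 - h2
  choose k hk' using F.tr d
  refine ⟨fun x g => if g • x = x then ψ ((k x)⁻¹ * g * k x) else 0, ?_, ?_⟩
  · have hfix : ∀ x g, g • x = x → ((k x)⁻¹ * g * k x) • d = d := by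
      intro x g hg
      rw [mul_smul, mul_smul, hk', hg, inv_smul_eq_iff, hk']
    refine ⟨fun x g h hg hh => ?_, fun l x g hg => ?_, fun x g hg => if_neg hg, fun x g hg => ?_⟩
    · change (if (g * h) • x = x then _ else _) = (if g • x = x then _ else _) +
        (if h • x = x then _ else _)
      rw [if_pos hg, if_pos hh, if_pos (by rw [mul_smul, hh, hg]),
        ← hψm _ _ (hfix x g hg) (hfix x h hh)]
      congr 1
      group
    · change (if (l * g * l⁻¹) • (l • x) = l • x then _ else _) = (if g • x = x then _ else _)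
      rw [if_pos hg, if_pos (by rw [mul_smul, mul_smul, inv_smul_smul, hg])]
      have hb : ((k (l • x))⁻¹ * l * k x) • d = d := by
        rw [mul_smul, mul_smul, hk', inv_smul_eq_iff, hk']
      rw [← hψc _ _ hb (hfix x g hg)]
      congr 1
      group
    · change (if g • x = x then _ else _) = (0 : ZMod 2)
      have hgx := hg x (Δ.self_mem_Pan j x)
      rw [if_pos hgx, hψ _ (hfix x g hgx) 1 (one_mem _)]
      · exact hk 1 (one_mem _) fun x _ => one_smul _ x
      · intro y hy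
        have h1 := F.smul_Pan (k x) hy
        rw [hk'] at h1
        rw [one_smul, mul_smul, mul_smul, hg _ h1, inv_smul_smul]
  · intro u hu
    have hud := F.fix d u hu
    change (if u • d = d then _ else _) = _
    rw [if_pos hud]
    have h1 := hψc ((k d)⁻¹) u (inv_smul_eq_iff.2 (hk' d).symm) hud
    rw [inv_inv] at h1
    rw [h1]
    exact hψ u hud u hu fun _ _ => rfl

/-- The general surjectivity theorem. -/
theorem surj [Finite G] [Finite C] (hG : ∀ f : G →* Multiplicative (ZMod 2), f = 1)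
    (hodd : Odd (Nat.card C)) {i j : I} (hI : ∀ k, k = i ∨ k = j)
    (hj : ∀ (c : C) (g : G), g • c = c → ∃ u ∈ F.U c, ∀ x ∈ Δ.Pan j c, (u⁻¹ * g) • x = x)
    (c : C) (s : C → G) (hs : ∀ d ∈ Δ.Pan i c, s d • d = d) :
    ∃ q ∈ F.U c, (∀ x ∈ Δ.Pan i c, q • x = x) ∧
      ∀ d ∈ Δ.Pan i c, d ≠ c → ∀ x ∈ Δ.Pan j d, q • x = s d • x := by
  classical
  haveI := Fintype.ofFinite C
  let D := {d : C // d ∈ Δ.Pan i c ∧ d ≠ c}
  let P := ∀ d : D, F.U d.1
  haveI : Fact (Nat.Prime 2) := ⟨Nat.prime_two⟩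
  haveI : Finite P := Pi.finite
  have hP : IsPGroup 2 P := by
    have h1 : ∀ d : D, ∃ n : ℕ, Nat.card (F.U d.1) = 2 ^ n := fun d => IsPGroup.iff_card.1 (F.two d.1)
    choose n hn using h1
    refine IsPGroup.of_card (n := ∑ d, n d) ?_
    rw [Nat.card_pi, Finset.prod_congr rfl fun d _ => hn d, Finset.prod_pow_eq_pow_sum]
  let H : Subgroup P :=
    { carrier := {p | ∃ q ∈ F.U c, (∀ x ∈ Δ.Pan i c, q • x = x) ∧
        ∀ d : D, ∀ x ∈ Δ.Pan j d.1, q • x = (p d : G) • x}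
      mul_mem' := by
        rintro p p' ⟨q, hq, h1, h2⟩ ⟨q', hq', h1', h2'⟩
        refine ⟨q * q', mul_mem hq hq', fun x hx => by rw [mul_smul, h1' x hx, h1 x hx],
          fun d x hx => ?_⟩
        rw [mul_smul, h2' d x hx]
        have h3 := F.smul_Pan (p' d : G) hx
        rw [F.fix d.1 _ (p' d).2] at h3
        rw [h2 d _ h3, ← mul_smul]
        rfl
      one_mem' := ⟨1, one_mem _, fun x _ => one_smul _ x, fun d x _ => rfl⟩
      inv_mem' := by
        rintro p ⟨q, hq, h1, h2⟩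
        refine ⟨q⁻¹, inv_mem hq, fun x hx => by rw [inv_smul_eq_iff, h1 x hx],
          fun d x hx => ?_⟩
        have h3 := F.smul_Pan (p d : G)⁻¹ hx
        rw [inv_smul_eq_iff.2 (F.fix d.1 _ (p d).2).symm] at h3
        have h4 := h2 d _ h3
        rw [smul_inv_smul] at h4
        rw [inv_smul_eq_iff]
        exact h4.symm }
  have hH : ∀ p : P, p ∈ H ↔ ∃ q ∈ F.U c, (∀ x ∈ Δ.Pan i c, q • x = x) ∧
        ∀ d : D, ∀ x ∈ Δ.Pan j d.1, q • x = (p d : G) • x := fun p => Iff.rfl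
  by_cases hHt : H = ⊤
  · have h1 : ∀ d : D, ∃ u ∈ F.U d.1, ∀ x ∈ Δ.Pan j d.1, (u⁻¹ * s d.1) • x = x :=
      fun d => hj d.1 (s d.1) (hs d.1 d.2.1)
    choose u hu hux using h1
    have h2 : (fun d => (⟨u d, hu d⟩ : F.U d.1) : P) ∈ H := by rw [hHt]; trivial
    obtain ⟨q, hq, h3, h4⟩ := (hH _).1 h2
    refine ⟨q, hq, h3, fun d hd hdc x hx => ?_⟩
    rw [h4 ⟨d, hd, hdc⟩ x hx]
    have h5 := hux ⟨d, hd, hdc⟩ x hx
    rw [mul_smul, inv_smul_eq_iff] at h5
    exact h5.symm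
  · exfalso
    obtain ⟨f, hf1, hfH⟩ := exists_hom_of_ne_top hP H hHt
    apply hf1
    -- the components
    let φ : D → G → ZMod 2 := fun d g =>
      if hg : g ∈ F.U d.1 then Multiplicative.toAdd (f (Pi.mulSingle d ⟨g, hg⟩)) else 0
    have hφ : ∀ (d : D) (g : G) (hg : g ∈ F.U d.1),
        φ d g = Multiplicative.toAdd (f (Pi.mulSingle d ⟨g, hg⟩)) := fun d g hg => dif_pos hg
    have hex : ∀ d : D, ∃ χ ∈ F.Th j, ∀ u ∈ F.U d.1, χ d.1 u = φ d u := by
      intro d
      refine F.exists_Th hj d.1 (φ d) ?_ ?_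
      · intro u hu v hv
        rw [hφ d u hu, hφ d v hv, hφ d _ (mul_mem hu hv), ← toAdd_mul, ← map_mul,
          ← Pi.mulSingle_mul]
        rfl
      · intro u hu hux
        rw [hφ d u hu, hfH, toAdd_one]
        refine (hH _).2 ⟨1, one_mem _, fun x _ => one_smul _ x, fun e x hx => ?_⟩
        rw [one_smul]
        by_cases he : e = d
        · subst he
          rw [Pi.mulSingle_eq_same]
          exact (hux x hx).symm
        · rw [Pi.mulSingle_eq_of_ne he]
          exact (one_smul _ x).symm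
    choose χ hχT hχ using hex
    let Λ : C → C → G → ZMod 2 := fun x => if h : x ∈ Δ.Pan i c ∧ x ≠ c then χ ⟨x, h⟩ else 0
    have hΛ : Λ ∈ F.L i j c := by
      refine ⟨fun d => ?_, fun d hd => ?_, fun q hq hqx => ?_⟩
      · by_cases h : d ∈ Δ.Pan i c ∧ d ≠ c
        · simp only [Λ, dif_pos h]
          exact hχT _
        · simp only [Λ, dif_neg h]
          exact zero_mem _
      · simp only [Λ]
        rw [dif_neg fun h => hd h.1]
      · have hqd : ∀ d : D, q ∈ F.U d.1 := fun d => F.mem_of_fix hq (hqx _ d.2.1)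
        rw [← Fintype.sum_subtype_add_sum_subtype (fun x => x ∈ Δ.Pan i c ∧ x ≠ c)]
        have h1 : ∑ x : {x // ¬ (x ∈ Δ.Pan i c ∧ x ≠ c)}, Λ x x q = 0 := by
          refine Finset.sum_eq_zero fun x _ => ?_
          simp only [Λ, dif_neg x.2]
          rfl
        rw [h1, add_zero]
        have h2 : ∀ x : D, Λ x.1 x.1 q = Multiplicative.toAdd (f (Pi.mulSingle x ⟨q, hqd x⟩)) := by
          intro x
          simp only [Λ, dif_pos x.2]
          rw [hχ _ _ (hqd x), hφ x q (hqd x)]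
        have h3 : f (fun d => ⟨q, hqd d⟩) = 1 := by
          refine hfH _ ((hH _).2 ⟨q, hq, hqx, fun d x hx => rfl⟩)
        have h4 : f = ∏ d : D, (f.comp (MonoidHom.mulSingle (fun d : D => F.U d.1) d)).comp
            (Pi.evalMonoidHom (fun d : D => F.U d.1) d) := by
          refine MonoidHom.pi_ext fun e x => ?_
          rw [MonoidHom.finsetProd_apply, Finset.prod_eq_single e]
          · rw [MonoidHom.comp_apply, Pi.evalMonoidHom_apply, Pi.mulSingle_eq_same]
            rfl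
          · intro d _ hde
            rw [MonoidHom.comp_apply, Pi.evalMonoidHom_apply, Pi.mulSingle_eq_of_ne hde, map_one]
          · intro h
            exact absurd (Finset.mem_univ _) h
        rw [h4, MonoidHom.finsetProd_apply] at h3
        have h5 := congrArg Multiplicative.toAdd h3
        rw [toAdd_prod, toAdd_one] at h5
        rw [← h5]
        refine Finset.sum_congr rfl fun x _ => ?_
        rw [h2 x]
        rfl
    have hc : ∀ d : D, χ d = 0 := by
      intro d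
      have h1 := F.L_const hG hodd hI hj hΛ (Δ.self_mem_Pan i c) d.2.1
      have h2 : Λ c = 0 := dif_neg fun h => h.2 rfl
      have h3 : Λ d.1 = χ d := dif_pos d.2
      rw [← h3, ← h1, h2]
    refine MonoidHom.pi_ext fun d u => ?_
    have h1 := hχ d u u.2
    rw [hc d, hφ d u u.2] at h1
    have h2 : Multiplicative.toAdd (f (Pi.mulSingle d u)) = 0 := h1.symm
    rw [MonoidHom.one_apply]
    exact Multiplicative.toAdd.injective h2

end Fam

end Cfsg.Agent.SplitTwo.Exc
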