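import Cfsg.Agent.SplitTwo.DihPath605
import Cfsg.Agent.Tits.OppRes

/-!
# The order bound for groups fixing a chamber (S1144, [N])

A group `V` fixing the chamber `c` of a finite generalised `m`-gon, `m ≤ 8`, whose panels have at most
`a + 1`, resp. `b + 1`, chambers: `|V| ≤ |V_d| (a b) ^ 4` for every chamber `d` opposite to `c`.
-/

set_option autoImplicit false

namespace Cfsg.Agent.SplitTwo.ExcOrder

open Cfsg.Agent.Tits.Core Cfsg.Agent.Tits.Core.Bldg Cfsg.Agent.SplitTwo.DihPath

variable {I : Type*} {M : CoxeterMatrix I} {W : Type*} [Group W] {cs : CoxeterSystem M W}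
  {C : Type*} {Δ : Bldg cs C} {G : Type*} [Group G] [MulAction G C]

/-- One step. -/
theorem card_le_step [Finite C] (iso : ∀ (g : G) x y, Δ.δ (g • x) (g • y) = Δ.δ x y) {s : I} {a : ℕ}
    {c d : C} (ha : Nat.card (Δ.Pan s c) ≤ a + 1) (hd : Δ.δ c d = cs.simple s) (V : Subgroup G)
    (hV : ∀ u ∈ V, u • c = c) :
    Nat.card V ≤ Nat.card (V ⊓ MulAction.stabilizer G d : Subgroup G) * a := by
  have hcd : c ≠ d := by
    rintro rfl
    rw [(Δ.eq_one c c).2 rfl] at hd
    have h := cs.length_simple s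
    rw [← hd, cs.length_one] at h
    omega
  have h1 : MulAction.orbit V d ⊆ Δ.Pan s c \ {c} := by
    rintro _ ⟨⟨v, hv⟩, rfl⟩
    have h2 : Δ.δ c (v • d) = cs.simple s := by
      have := iso v c d
      rw [hV v hv] at this
      rw [this, hd]
    refine ⟨Or.inr h2, fun (h : v • d = c) => ?_⟩
    apply hcd
    have h3 : v⁻¹ • c = d := by rw [← h, inv_smul_smul]
    rw [← h3, inv_smul_eq_iff.2 (hV v hv).symm]
  have h2 : (MulAction.orbit V d).ncard ≤ a := by
    have h3 := Set.ncard_le_ncard h1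
    rw [Set.ncard_sdiff_singleton_of_mem (show c ∈ Δ.Pan s c from Or.inl rfl)] at h3
    have h4 : (Δ.Pan s c).ncard = Nat.card (Δ.Pan s c) := rfl
    omega
  have h3 := Subgroup.card_mul_index (MulAction.stabilizer V d)
  rw [MulAction.index_stabilizer] at h3
  have h4 : Nat.card (MulAction.stabilizer V d) =
      Nat.card (V ⊓ MulAction.stabilizer G d : Subgroup G) := by
    refine Nat.card_congr
      { toFun := fun x => ⟨(x : V), (x : V).2, x.2⟩
        invFun := fun x => ⟨⟨x, x.2.1⟩, x.2.2⟩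
        left_inv := fun x => rfl
        right_inv := fun x => rfl }
  rw [h4] at h3
  rw [← h3]
  exact Nat.mul_le_mul_left _ h2

section

variable {i j : I} {a b : ℕ}

/-- The bound for the panel of type `ty k`. -/
def q (a b : ℕ) (k : ℕ) : ℕ := if Even k then a else b

theorem card_le_walk [Finite C] [Finite G]
    (iso : ∀ (g : G) x y, Δ.δ (g • x) (g • y) = Δ.δ x y)
    (ha : ∀ x, Nat.card (Δ.Pan i x) ≤ a + 1) (hb : ∀ x, Nat.card (Δ.Pan j x) ≤ b + 1)
    (V : Subgroup G) {c : C} (hV : ∀ u ∈ V, u • c = c) (n : ℕ) :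
    ∀ d : C, Δ.δ c d = w cs i j n →
      Nat.card V ≤ Nat.card (V ⊓ MulAction.stabilizer G d : Subgroup G) *
        ∏ k ∈ Finset.range n, q a b k := by
  induction n with
  | zero =>
    intro d hd
    rw [Nat.cast_zero, w_zero, Δ.eq_one] at hd
    subst hd
    rw [Finset.range_zero, Finset.prod_empty, mul_one,
      inf_eq_left.2 (show V ≤ MulAction.stabilizer G c from hV)]
  | succ n ih =>
    intro d hd
    obtain ⟨e, he, hce⟩ := Δ.exists_step c d (ty i j n)
    rw [hd, Nat.cast_succ, w_succ, cs.simple_mul_simple_cancel_right] at hce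
    have hed : Δ.δ e d = cs.simple (ty i j n) := by
      rw [Δ.symm d e, he, cs.inv_simple]
    have h1 := ih e hce
    have h2 : Nat.card (Δ.Pan (ty i j n) e) ≤ q a b n + 1 := by
      rw [ty, q]
      by_cases hn : Even n
      · rw [if_pos hn, if_pos (by exact_mod_cast hn)]
        exact ha e
      · rw [if_neg hn, if_neg (by exact_mod_cast hn)]
        exact hb e
    have h3 := card_le_step iso h2 hed (V ⊓ MulAction.stabilizer G e) fun u hu => hu.2
    have h4 : Nat.card ((V ⊓ MulAction.stabilizer G e) ⊓ MulAction.stabilizer G d : Subgroup G) ≤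
        Nat.card (V ⊓ MulAction.stabilizer G d : Subgroup G) :=
      Subgroup.card_le_of_le (by
        exact le_inf (inf_le_left.trans inf_le_left) inf_le_right)
    rw [Finset.prod_range_succ]
    calc Nat.card V ≤ _ := h1
      _ ≤ (Nat.card (V ⊓ MulAction.stabilizer G d : Subgroup G) * q a b n) *
          ∏ k ∈ Finset.range n, q a b k :=
        Nat.mul_le_mul_right _ (h3.trans (Nat.mul_le_mul_right _ h4))
      _ = _ := by ring

/-- **The order bound.** -/
theorem card_le [Finite W] [Finite C] [Finite G]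
    (iso : ∀ (g : G) x y, Δ.δ (g • x) (g • y) = Δ.δ x y) (hI : ∀ k, k = i ∨ k = j)
    (hm : M i j ≤ 8) (h1a : 1 ≤ a) (h1b : 1 ≤ b)
    (ha : ∀ x, Nat.card (Δ.Pan i x) ≤ a + 1) (hb : ∀ x, Nat.card (Δ.Pan j x) ≤ b + 1)
    (V : Subgroup G) {c d : C} (hV : ∀ u ∈ V, u • c = c) (hd : Δ.Opp c d) :
    Nat.card V ≤ Nat.card (V ⊓ MulAction.stabilizer G d : Subgroup G) * (a * b) ^ 4 := by
  have h0 : w cs i j (M i j : ℕ) = w0 cs := by
    have := w_add_m cs hI rfl (0 : ℤ)
    rwa [zero_add, w_zero, one_mul] at this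
  have h1 := card_le_walk iso ha hb V hV (M i j) d (hd.trans h0.symm)
  refine h1.trans (Nat.mul_le_mul_left _ ?_)
  have h2 : ∏ k ∈ Finset.range 8, q a b k = (a * b) ^ 4 := by
    simp only [Finset.prod_range_succ, Finset.range_zero, Finset.prod_empty, q]
    norm_num [Nat.even_iff]
    ring
  rw [← h2]
  refine Finset.prod_le_prod_of_subset_of_one_le' (Finset.range_subset_range.2 hm) fun k _ _ => ?_
  rw [q]
  split_ifs
  · exact h1a
  · exact h1b

end

end Cfsg.Agent.SplitTwo.ExcOrder
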