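import Cfsg.Agent.SplitTwo.DihPath605
import Cfsg.Agent.Tits.Gate

/-!
# Transitivity on pairs (S1144, [N])

`V` fixes the chamber `c` of a generalised `m`-gon, `m ≥ 3`, and is transitive on the chambers opposite
`c`; `c₂` in the `i`-panel of `c`.  Then the stabiliser of `c₂` in `V` is transitive on the pairs
(chamber of the `j`-panel of `c`, chamber of the `j`-panel of `c₂`).
-/

set_option autoImplicit false

namespace Cfsg.Agent.SplitTwo.ExcPairs

open Cfsg.Agent.Tits.Core Cfsg.Agent.Tits.Core.Bldg Cfsg.Agent.SplitTwo.DihPath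

variable {I : Type*} {M : CoxeterMatrix I} {W : Type*} [Group W] {cs : CoxeterSystem M W}
  {C : Type*} {Δ : Bldg cs C}

section

variable [Finite W] {i j : I} (hI : ∀ k, k = j ∨ k = i)

include hI

/-- Going one step back along the gallery. -/
theorem step_back {x y z : C} {k n : ℤ} (hk : k < n) (hn : n ≤ k + M j i)
    (h : Δ.δ x y = cs.simple (ty j i k)) (hz : Δ.δ y z = (w cs j i (k + 1))⁻¹ * w cs j i n) :
    Δ.δ x z = (w cs j i k)⁻¹ * w cs j i n := by
  have e : cs.simple (ty j i k) * ((w cs j i (k + 1))⁻¹ * w cs j i n) =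
      (w cs j i k)⁻¹ * w cs j i n := by
    rw [w_succ, mul_inv_rev, cs.inv_simple, mul_assoc, cs.simple_mul_simple_cancel_left]
  have l1 := length_delta cs hI rfl (k + 1) (k := n - (k + 1)) (by omega)
  have l2 := length_delta cs hI rfl k (k := n - k) (by omega)
  rw [add_sub_cancel] at l1 l2
  rw [← e, ← hz]
  apply Δ.step_lt_left h
  rw [hz, e, l1, l2]
  omega

/-- The chamber opposite `c` attached to the gallery `a, c, c₂, a₂` of type `j, i, j`. -/
theorem exists_opp (hm : 3 ≤ M j i) {a c c2 a2 : C} (ha : Δ.δ c a = cs.simple j)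
    (h : Δ.δ c c2 = cs.simple i) (ha2 : Δ.δ c2 a2 = cs.simple j) :
    ∃ e, Δ.δ a e = w cs j i (M j i + 1) ∧
      Δ.δ c e = (w cs j i 1)⁻¹ * w cs j i (M j i + 1) ∧
      Δ.δ c2 e = (w cs j i 2)⁻¹ * w cs j i (M j i + 1) ∧
      Δ.δ a2 e = (w cs j i 3)⁻¹ * w cs j i (M j i + 1) := by
  set m : ℤ := ((M j i : ℕ) : ℤ) with hmdef
  have hm3 : (3 : ℤ) ≤ m := by omega
  have t0 : ty j i 0 = j := by simp [ty]
  have t1 : ty j i 1 = i := by simp [ty]
  have t2 : ty j i 2 = j := by simp [ty]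
  have hac : Δ.δ a c = cs.simple (ty j i 0) := by rw [t0, Δ.symm c a, ha, cs.inv_simple]
  have hcc : Δ.δ c c2 = cs.simple (ty j i 1) := by rw [t1, h]
  have hca : Δ.δ c2 a2 = cs.simple (ty j i 2) := by rw [t2, ha2]
  obtain ⟨f, hf3⟩ := Δ.exists_δ a2 ((w cs j i 3)⁻¹ * w cs j i m)
  have hf2 := step_back hI (k := 2) (n := m) (by omega) (by omega) hca hf3
  have hf1 := step_back hI (k := 1) (n := m) (by omega) (by omega) hcc hf2
  have hf0 := step_back hI (k := 0) (n := m) (by omega) (by omega) hac hf1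
  obtain ⟨e, he, hae⟩ := Δ.exists_step a f (ty j i m)
  have key : ∀ (x : C) (k : ℤ), 1 ≤ k → k ≤ 3 → Δ.δ x f = (w cs j i k)⁻¹ * w cs j i m →
      Δ.δ x e = (w cs j i k)⁻¹ * w cs j i (m + 1) := by
    intro x k hk1 hk3 hx
    have e1 : (w cs j i k)⁻¹ * w cs j i m * cs.simple (ty j i m) =
        (w cs j i k)⁻¹ * w cs j i (m + 1) := by rw [w_succ, mul_assoc]
    have l1 := length_delta cs hI rfl k (k := m - k) (by omega)
    have l2 := length_delta cs hI rfl k (k := m + 1 - k) (by omega)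
    rw [add_sub_cancel] at l1 l2
    rw [← e1, ← hx]
    apply Δ.step_lt x f e _ he
    rw [hx, e1, l1, l2]
    omega
  refine ⟨e, ?_, key c 1 le_rfl (by omega) hf1, key c2 2 (by omega) (by omega) hf2,
    key a2 3 (by omega) le_rfl hf3⟩
  rw [hae, hf0, w_zero, inv_one, one_mul, w_succ]

end

/-- **Transitivity on pairs.** -/
theorem trans_pairs [Finite W] {G : Type*} [Group G] [MulAction G C]
    (iso : ∀ (g : G) x y, Δ.δ (g • x) (g • y) = Δ.δ x y) {i j : I} (hI : ∀ k, k = i ∨ k = j)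
    (hm : 3 ≤ M i j) (V : Subgroup G) {c c2 : C} (hV : ∀ u ∈ V, u • c = c)
    (tr : ∀ d d2, Δ.Opp c d → Δ.Opp c d2 → ∃ u ∈ V, u • d = d2) (h : Δ.δ c c2 = cs.simple i)
    {a b a2 b2 : C} (ha : Δ.δ c a = cs.simple j) (hb : Δ.δ c b = cs.simple j)
    (ha2 : Δ.δ c2 a2 = cs.simple j) (hb2 : Δ.δ c2 b2 = cs.simple j) :
    ∃ u ∈ V, u • c2 = c2 ∧ u • a = b ∧ u • a2 = b2 := by
  have hI' : ∀ k, k = j ∨ k = i := fun k => (hI k).symm
  have hm' : 3 ≤ M j i := by rw [M.symmetric]; exact hm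
  set m : ℤ := ((M j i : ℕ) : ℤ) with hmdef
  have hm3 : (3 : ℤ) ≤ m := by omega
  obtain ⟨e, he0, he1, he2, he3⟩ := exists_opp hI' hm' ha h ha2
  obtain ⟨e', he0', he1', he2', he3'⟩ := exists_opp hI' hm' hb h hb2
  rw [← hmdef] at he0 he1 he2 he3 he0' he1' he2' he3'
  have hw : (w cs j i 1)⁻¹ * w cs j i (m + 1) = w0 cs := by
    rw [add_comm]
    exact w_inv_mul_m cs hI' rfl 1
  obtain ⟨u, hu, hue⟩ := tr e e' (he1.trans hw) (he1'.trans hw)
  have w1 : w cs j i 1 = cs.simple j := by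
    have := w_succ (a := j) (b := i) cs 0
    rw [zero_add, w_zero, one_mul] at this
    rw [this]
    simp [ty]
  have w2 : (w cs j i 1)⁻¹ * w cs j i 2 = cs.simple i := by
    have := w_succ (a := j) (b := i) cs 1
    rw [show (1 : ℤ) + 1 = 2 from rfl] at this
    rw [this, inv_mul_cancel_left]
    simp [ty]
  have w3 : (w cs j i 2)⁻¹ * w cs j i 3 = cs.simple j := by
    have := w_succ (a := j) (b := i) cs 2
    rw [show (2 : ℤ) + 1 = 3 from rfl] at this
    rw [this, inv_mul_cancel_left]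
    simp [ty]
  have len : ∀ k : ℤ, 1 ≤ k → k ≤ m → cs.length ((w cs j i k)⁻¹ * w cs j i (m + 1)) = (m + 1 - k).natAbs := by
    intro k h1 h2
    have := length_delta cs hI' rfl k (k := m + 1 - k) (by omega)
    rwa [add_sub_cancel] at this
  have l0 : cs.length (w cs j i (m + 1)) = (m - 1).natAbs := by
    have h1 := w_add_two_m cs hI' rfl (m + 1 - 2 * m)
    rw [← hmdef, sub_add_cancel] at h1
    rw [h1, length_w cs hI' rfl (by omega)]
    omega
  have uniq : ∀ (s : I) (x y y' z : C) (v : W), cs.length (cs.simple s * v) = cs.length v + 1 →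
      Δ.δ x y = cs.simple s → Δ.δ y z = v → Δ.δ x y' = cs.simple s → Δ.δ y' z = v → y = y' := by
    intro s x y y' z v hl h1 h2 h3 h4
    refine Δ.between_unique ?_ h1 h2 h3 h4
    rw [hl, cs.length_simple, add_comm]
  -- `u c₂ = c₂`
  have hc : u • c = c := hV u hu
  have hc2 : u • c2 = c2 := by
    refine uniq i c (u • c2) c2 e' _ ?_ ?_ ?_ h he2'
    · rw [← w2, mul_assoc, mul_inv_cancel_left, len 1 le_rfl (by omega), len 2 (by omega) (by omega)]
      omega
    · have := iso u c c2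
      rw [hc] at this
      rw [this, h]
    · rw [← hue, iso, he2]
  refine ⟨u, hu, hc2, ?_, ?_⟩
  · refine uniq j c (u • a) b e' _ ?_ ?_ ?_ hb he0'
    · have h1 : cs.simple j * w cs j i (m + 1) = (w cs j i 1)⁻¹ * w cs j i (m + 1) := by
        rw [w1, cs.inv_simple]
      rw [h1, len 1 le_rfl (by omega), l0]
      omega
    · have := iso u c a
      rw [hc] at this
      rw [this, ha]
    · rw [← hue, iso, he0]
  · refine uniq j c2 (u • a2) b2 e' _ ?_ ?_ ?_ hb2 he3'
    · rw [← w3, mul_assoc, mul_inv_cancel_left, len 2 (by omega) (by omega), len 3 (by omega) hm3]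
      omega
    · have := iso u c2 a2
      rw [hc2] at this
      rw [this, ha2]
    · rw [← hue, iso, he3]

end Cfsg.Agent.SplitTwo.ExcPairs
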