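import Cfsg.Agent.SplitTwo.FamOfSplit168
import Cfsg.Agent.SplitTwo.ExcEnd
import Cfsg.Agent.SplitTwo.ExcD
import Cfsg.Agent.SplitTwo.ExcPairs
import Cfsg.Agent.SplitTwo.ExcOrder

/-!
S1144, [N], the exceptional panel: if the Fitting subgroups of the chamber stabilisers are 2-groups and some
panel is exceptional, then the hypotheses `Exc.Hyp` hold.
-/

set_option autoImplicit false
set_option linter.unusedSectionVars false

namespace Cfsg.Agent.SplitTwo.ExcHyp168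

open Cfsg Cfsg.Agent.Tits.Core Cfsg.Agent.Tits.OppRes Cfsg.Agent.Tits.Rigid
open Cfsg.Agent.SplitTwo.Reducible Cfsg.Agent.SplitTwo.Glue MulAction
open Cfsg.Agent.SplitTwo.Eps168 Cfsg.Agent.SplitTwo.PGroup168 Cfsg.Agent.SplitTwo.N168
open Subgroup

universe u v

/-- A fixed point free involution of `M` is central. -/
theorem central {Ω : Type u} [Finite Ω] {R M A : Subgroup (Equiv.Perm Ω)} {a b : Ω}
    (H : ExcSD.Hyp R M A a b) {t : Equiv.Perm Ω} (ht : t ∈ M) (htt : t * t = 1)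
    (htf : ∀ x, x ≠ a → t x ≠ x) : ∀ m ∈ M, m * t = t * m := by
  obtain ⟨z, hz, -, hzz, hzc, -, hzi⟩ := H.exists_z
  have hinv : ∀ x ∈ A, t * x * t⁻¹ = x⁻¹ := by
    intro x hx
    have hx' := H.An t (H.MR ht) x hx
    have hw : x * (t * x * t⁻¹) ∈ A := mul_mem hx hx'
    have h1 : t * (x * (t * x * t⁻¹)) = (x * (t * x * t⁻¹)) * t := by
      have h2 : t * (x * (t * x * t⁻¹)) = ((t * x * t⁻¹) * ((t * t) * x * (t * t)⁻¹)) * t := by
        group
      rw [h2, htt, one_mul, inv_one, mul_one, H.Ac _ hx' _ hx]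
    have h3 : t ((x * (t * x * t⁻¹)) a) = (x * (t * x * t⁻¹)) a := by
      rw [← Equiv.Perm.mul_apply, h1, Equiv.Perm.mul_apply, H.Ma _ ht]
    have h4 : (x * (t * x * t⁻¹)) a = a := by
      by_contra hne
      exact htf _ hne h3
    exact eq_inv_of_mul_eq_one_right (H.reg hw h4)
  have h1 : z⁻¹ * t = 1 := by
    refine H.triv (H.Ma _ (mul_mem (inv_mem hz) ht)) fun x hx => ?_
    have h2 : z⁻¹ * t * x * (z⁻¹ * t)⁻¹ = z⁻¹ * (t * x * t⁻¹) * z := by group
    rw [h2, hinv x hx]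
    have h3 := hzi x hx
    rw [← h3]
    group
  rw [← inv_mul_eq_one.1 h1]
  exact hzc

section

variable {I : Type*} {M : CoxeterMatrix I} {W : Type*} [Group W] {cs : CoxeterSystem M W}
variable {C : Type u} {Δ : Bldg cs C} [F : Cox cs]
variable {G : Type v} [Group G] [Finite G] [MulAction G C] [Finite C]

/-- `ExcSD.Hyp` for an exceptional panel. -/
theorem hyp_panel (hR : RankOneR.{u}) {c : C} {s : I} (H : Split Δ c (fit G c))
    (h2 : IsPGroup 2 (fit G c)) (hb : Bad Δ G s c) : ∃ (A : Subgroup (Equiv.Perm (Δ.Pan s c)))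
      (b : Δ.Pan s c), ExcSD.Hyp (H.perm s).range (img H s) A ⟨c, Or.inl rfl⟩ b := by
  obtain ⟨b, hb, hbc, v, hv, hvb, x, hx, hvx⟩ := hb
  have D := data H s
  have hb' : (⟨b, hb⟩ : Δ.Pan s c) ≠ ⟨c, Or.inl rfl⟩ := fun h => hbc (congrArg Subtype.val h)
  have hv1 : H.perm s ⟨v, H.le_panStab s hv⟩ ≠ 1 := by
    intro h
    rw [H.perm_eq_one] at h
    exact hvx (h x hx)
  have hM : IsPGroup 2 (img H s) := by
    unfold img
    exact (h2.comap_subtype).map _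
  obtain ⟨A, hA⟩ := D.aff hR hb' ⟨_, mem_img H hv, Subtype.ext hvb, hv1⟩
  exact ⟨A, ⟨b, hb⟩, hb', D.le, D.fix, D.norm, hM, D.trans, D.unique hR hb',
    ⟨_, mem_img H hv, Subtype.ext hvb, hv1⟩, hA.le, hA.norm, hA.comm, hA.trans⟩

/-- The commutator. -/
theorem sig (hR : RankOneR.{u}) {c : C} {s : I} (H : Split Δ c (fit G c))
    (h2 : IsPGroup 2 (fit G c)) (hb : Bad Δ G s c) : ∃ g ∈ fit G c, ∃ h ∈ fit G c,
    (∀ x ∈ Δ.Pan s c, ((g * h * g⁻¹ * h⁻¹) ^ 4) • x = x) ∧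
    (∀ x ∈ Δ.Pan s c, x ≠ c → ((g * h * g⁻¹ * h⁻¹) ^ 2) • x ≠ x) ∧
    ∀ m ∈ fit G c, ∀ x ∈ Δ.Pan s c,
      m • ((g * h * g⁻¹ * h⁻¹) ^ 2) • x = ((g * h * g⁻¹ * h⁻¹) ^ 2) • m • x := by
  obtain ⟨A, b, HH⟩ := hyp_panel hR H h2 hb
  obtain ⟨g, hg, h, hh, h4, hf⟩ := (hb.panel hR H h2).2.2.2.2
  obtain ⟨g, hg, rfl⟩ := hg
  obtain ⟨h, hh, rfl⟩ := hh
  have e : H.perm s g * H.perm s h * (H.perm s g)⁻¹ * (H.perm s h)⁻¹ =
      H.perm s (g * h * g⁻¹ * h⁻¹) := by
    simp only [map_mul, map_inv]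
  have hcen := central HH (t := (H.perm s g * H.perm s h * (H.perm s g)⁻¹ * (H.perm s h)⁻¹) ^ 2)
    (by
      refine pow_mem (mul_mem (mul_mem (mul_mem ?_ ?_) (inv_mem ?_)) (inv_mem ?_)) 2
      · exact ⟨g, hg, rfl⟩
      · exact ⟨h, hh, rfl⟩
      · exact ⟨g, hg, rfl⟩
      · exact ⟨h, hh, rfl⟩)
    (by
      rw [← pow_add]
      exact h4) hf
  rw [e] at h4 hf hcen
  refine ⟨g, hg, h, hh, ?_, ?_, ?_⟩
  · intro x hx
    rw [← map_pow, H.perm_eq_one] at h4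
    exact h4 x hx
  · intro x hx hxc hxx
    refine hf ⟨x, hx⟩ (fun h => hxc (congrArg Subtype.val h)) ?_
    rw [← map_pow]
    exact Subtype.ext hxx
  · intro m hm x hx
    have h5 := hcen _ (mem_img H hm)
    rw [← map_pow, ← map_mul, ← map_mul] at h5
    have h6 := congrArg (fun σ : Equiv.Perm (Δ.Pan s c) => ((σ ⟨x, hx⟩ : Δ.Pan s c) : C)) h5
    rw [← mul_smul, ← mul_smul]
    exact h6

variable [Finite W]

/-- **The hypotheses of the exceptional case.** -/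
theorem hyp (hR : RankOneR.{u}) [IsSimpleGroup G] {i j : I} (hI : ∀ k, k = i ∨ k = j)
    (hm3 : 3 ≤ M i j) (hm8 : M i j ≤ 8) (hf : ∀ g : G, (∀ x : C, g • x = x) → g = 1)
    (H : ∀ c : C, Split Δ c (fit G c)) (h2 : ∀ c : C, IsPGroup 2 (fit G c)) (c₀ : C)
    (hb₀ : Bad Δ G i c₀) :
    Exc.Hyp (fam hR H h2 c₀) i j (Nat.card (Δ.Pan j c₀) - 1) := by
  have hb : ∀ c, Bad Δ G i c := fun c => bad_all (H c₀) hb₀ c
  have hKp : ∀ c, Exc.Kp Δ G i c = kx Δ G i c := fun c => rfl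
  have hidx : ∀ c, (Exc.Kp Δ G i c).relIndex (fit G c) = 16 := by
    intro c
    rw [hKp, ← card_img (H c) i]
    exact ((hb c).panel hR (H c) (h2 c)).2.1
  have hci : ∀ c, Nat.card (Δ.Pan i c) = 9 := fun c => ((hb c).panel hR (H c) (h2 c)).1
  have hcj : ∀ c, Nat.card (Δ.Pan j c) = Nat.card (Δ.Pan j c₀) - 1 + 1 := by
    intro c
    rw [card_Pan (H c₀) j c]
    have := two_lt_card (H c₀) j
    omega
  have hcj2 := two_lt_card (H c₀) j
  refine ⟨?_, odd_card (H c₀) (h2 c₀), hI, hci, hcj, ?_, hidx, ?_, ?_, ?_, ?_⟩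
  · refine hom_eq_one fun h => ?_
    have h3 : Nat.card (fit G c₀) ∣ 2 := (Subgroup.card_subgroup_dvd_card _).trans h
    have h4 := (Subgroup.relIndex_dvd_card (Exc.Kp Δ G i c₀) (fit G c₀)).trans h3
    rw [hidx] at h4
    omega
  · intro c g hg
    exact (hb c).stab hR (H c) (h2 c) hg
  · intro c
    exact sig hR (H c) (h2 c) (hb c)
  · intro c
    obtain ⟨d, hd⟩ : ∃ d, Δ.Opp c d := exists_delta Δ c (w0 cs)
    have h3 := ExcD.card_D_le (fam hR H h2 c₀) hf hI hd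
    have h4 := ExcOrder.card_le (H c₀).iso hI hm8 (a := 8) (b := Nat.card (Δ.Pan j c₀) - 1)
      (by norm_num) (by omega) (fun x => (hci x).le) (fun x => (hcj x).le) (fit G c)
      (fun u hu => smul_of_mem_fit G hu) hd
    exact h4.trans (Nat.mul_le_mul_right _ h3)
  · intro ht c
    obtain ⟨d, hd⟩ : ∃ d, Δ.Opp c d := exists_delta Δ c (w0 cs)
    have hreg : ∀ c e, Δ.δ c e = cs.simple j → ∀ u ∈ (fam hR H h2 c₀).U c, u • e = e →
        ∀ x ∈ Δ.Pan j c, u • x = x := by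
      intro c e he w hw hwe x hx
      by_contra hne
      have hec : e ≠ c := by
        rintro rfl
        rw [delta_self] at he
        have := congrArg cs.length he
        rw [cs.length_one, cs.length_simple] at this
        omega
      have hbj : Bad Δ G j c := ⟨e, Or.inr he, hec, w, hw, hwe, x, hx, hne⟩
      have h9 := (hbj.panel hR (H c) (h2 c)).1
      have := hcj c
      omega
    have h3 := ExcD.card_D_le_two (fam hR H h2 c₀) hf hI hreg hd
    have h4 := ExcOrder.card_le (H c₀).iso hI hm8 (a := 8) (b := Nat.card (Δ.Pan j c₀) - 1)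
      (by norm_num) (by omega) (fun x => (hci x).le) (fun x => (hcj x).le) (fit G c)
      (fun u hu => smul_of_mem_fit G hu) hd
    exact h4.trans (Nat.mul_le_mul_right _ h3)
  · intro c c2 a b a2 b2 h ha hb' ha2 hb2
    exact ExcPairs.trans_pairs (H c₀).iso hI hm3 (fit G c) (fun u hu => smul_of_mem_fit G hu)
      (fun d d2 hd hd2 => (H c).sphere d d2 (hd.trans hd2.symm)) h ha hb' ha2 hb2

end

end Cfsg.Agent.SplitTwo.ExcHyp168
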