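import Mathlib
/-!
S1144, [N], the exceptional panel: a doubly transitive group `R` with a regular normal abelian subgroup `A`
and a `2`-group `M`, normal in `R_a`, transitive on the other points, with `|M_b| = 2`: there are nine
points, `M = R_a` is semidihedral of order 16.
-/

set_option autoImplicit false
set_option linter.unusedSectionVars false

namespace Cfsg.Agent.SplitTwo.ExcSD

universe u

/-- In an abelian group of odd order with an involutory endomorphism `φ`,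
`|V| = |C_V(φ)| * |[V, φ]|`. -/
theorem card_fix_mul {V : Type*} [CommGroup V] [Finite V] (hodd : Odd (Nat.card V)) (φ : V →* V)
    (hφ : ∀ v, φ (φ v) = v) :
    Nat.card {v // φ v = v} * Nat.card {v // φ v = v⁻¹} = Nat.card V := by
  obtain ⟨k, hk⟩ := hodd
  have hs : ∀ v : V, (v * v) ^ (k + 1) = v := by
    intro v
    rw [← sq, ← pow_mul, show 2 * (k + 1) = Nat.card V + 1 by omega, pow_succ, pow_card_eq_one',
      one_mul]
  rw [← Nat.card_prod]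
  refine Nat.card_congr
    { toFun := fun p => p.1.1 * p.2.1
      invFun := fun v => (⟨(v * φ v) ^ (k + 1), ?_⟩, ⟨(v * (φ v)⁻¹) ^ (k + 1), ?_⟩)
      left_inv := ?_
      right_inv := ?_ }
  · rw [map_pow, map_mul, hφ, mul_comm]
  · rw [map_pow, map_mul, map_inv, hφ, ← inv_pow]
    congr 1
    rw [mul_inv_rev, inv_inv]
  · rintro ⟨⟨p, hp⟩, ⟨q, hq⟩⟩
    refine Prod.ext (Subtype.ext ?_) (Subtype.ext ?_)
    · change (p * q * φ (p * q)) ^ (k + 1) = p
      rw [map_mul, hp, hq, show p * q * (p * q⁻¹) = p * p by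
        rw [mul_assoc, ← mul_assoc q, mul_comm q p, mul_assoc p q, mul_inv_cancel, mul_one], hs]
    · change (p * q * (φ (p * q))⁻¹) ^ (k + 1) = q
      rw [map_mul, hp, hq, mul_inv_rev, inv_inv, show p * q * (q * p⁻¹) = q * q by
        rw [mul_comm p q, mul_assoc, mul_comm q p⁻¹, mul_inv_cancel_left], hs]
  · intro v
    change (v * φ v) ^ (k + 1) * (v * (φ v)⁻¹) ^ (k + 1) = v
    rw [← mul_pow, show v * φ v * (v * (φ v)⁻¹) = v * v by
      rw [mul_comm v (φ v)⁻¹, mul_assoc, mul_inv_cancel_left], hs]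

theorem two_pow_aux {i j s : ℕ} (hi : 1 ≤ i) (hij : i ≤ j)
    (h : (2 ^ i + 1) * (2 ^ j + 1) = 2 ^ s + 1) : i = 1 ∧ j = 1 := by
  obtain ⟨d, rfl⟩ := Nat.exists_eq_add_of_le hij
  have h1 : 2 ^ s = 2 ^ i * (2 ^ (i + d) + 1 + 2 ^ d) := by
    have e : (2 ^ i + 1) * (2 ^ (i + d) + 1) = 2 ^ i * (2 ^ (i + d) + 1 + 2 ^ d) + 1 := by
      ring
    rw [e] at h
    omega
  have h2 : i ≤ s := by
    by_contra hlt
    push Not at hlt
    have h3 : 2 ^ s < 2 ^ i := Nat.pow_lt_pow_right (by norm_num) hlt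
    have h4 : 2 ^ i ≤ 2 ^ i * (2 ^ (i + d) + 1 + 2 ^ d) := Nat.le_mul_of_pos_right _ (by positivity)
    omega
  obtain ⟨r, rfl⟩ := Nat.exists_eq_add_of_le h2
  rw [pow_add 2 i r] at h1
  have h3 : 2 ^ r = 2 ^ (i + d) + 1 + 2 ^ d := Nat.eq_of_mul_eq_mul_left (by positivity) h1
  have hi2 : 2 ^ (i + d) = 2 * 2 ^ (i + d - 1) := by
    rw [← pow_succ']
    congr 1
    omega
  rcases Nat.eq_zero_or_pos d with hd | hd
  · subst hd
    rw [pow_zero, add_zero] at h3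
    rw [add_zero] at hi2
    have h5 : 2 ^ r = 2 * (2 ^ (i - 1) + 1) := by omega
    have hr : 1 ≤ r := by
      rcases Nat.eq_zero_or_pos r with hr | hr
      · rw [hr, pow_zero] at h5
        omega
      · exact hr
    obtain ⟨r', rfl⟩ := Nat.exists_eq_add_of_le' hr
    rw [pow_succ'] at h5
    have h6 : 2 ^ r' = 2 ^ (i - 1) + 1 := by omega
    have hr' : 1 ≤ r' := by
      rcases Nat.eq_zero_or_pos r' with hr' | hr'
      · rw [hr', pow_zero] at h6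
        have : 0 < 2 ^ (i - 1) := by positivity
        omega
      · exact hr'
    have h7 : 2 ∣ 2 ^ r' := dvd_pow_self 2 (by omega)
    have h8 : i - 1 = 0 := by
      by_contra hne
      have h9 : 2 ∣ 2 ^ (i - 1) := dvd_pow_self 2 hne
      omega
    omega
  · exfalso
    have h5 : 2 ∣ 2 ^ d := dvd_pow_self 2 (by omega)
    have h6 : r ≠ 0 := by
      rintro rfl
      rw [pow_zero] at h3
      have : 0 < 2 ^ d := by positivity
      omega
    have h7 : 2 ∣ 2 ^ r := dvd_pow_self 2 h6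
    omega

theorem two_pow_lemma {i j s : ℕ} (hi : 1 ≤ i) (hj : 1 ≤ j)
    (h : (2 ^ i + 1) * (2 ^ j + 1) = 2 ^ s + 1) : i = 1 ∧ j = 1 := by
  rcases le_total i j with hij | hij
  · exact two_pow_aux hi hij h
  · exact (two_pow_aux hj hij (by rw [mul_comm]; exact h)).symm

theorem inv_app {Ω : Type u} (g : Equiv.Perm Ω) (x : Ω) : g⁻¹ (g x) = x := g.symm_apply_apply x

/-- The hypotheses. -/
structure Hyp {Ω : Type u} (R M A : Subgroup (Equiv.Perm Ω)) (a b : Ω) : Prop where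
  hb : b ≠ a
  MR : M ≤ R
  Ma : ∀ m ∈ M, m a = a
  Mn : ∀ r ∈ R, r a = a → ∀ m ∈ M, r * m * r⁻¹ ∈ M
  M2 : IsPGroup 2 M
  Mt : ∀ x y : Ω, x ≠ a → y ≠ a → ∃ m ∈ M, m x = y
  Mb : ∀ m ∈ M, ∀ m' ∈ M, m b = b → m' b = b → m ≠ 1 → m' ≠ 1 → m = m'
  Mb1 : ∃ m ∈ M, m b = b ∧ m ≠ 1
  AR : A ≤ R
  An : ∀ r ∈ R, ∀ x ∈ A, r * x * r⁻¹ ∈ A
  Ac : ∀ x ∈ A, ∀ y ∈ A, x * y = y * x
  At : ∀ x y : Ω, ∃ g ∈ A, g x = y

namespace Hyp

variable {Ω : Type u} {R M A : Subgroup (Equiv.Perm Ω)} {a b : Ω} (H : Hyp R M A a b)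

include H

theorem reg {u : Equiv.Perm Ω} (hu : u ∈ A) {x : Ω} (h : u x = x) : u = 1 := by
  ext y
  obtain ⟨g, hg, rfl⟩ := H.At x y
  rw [Equiv.Perm.one_apply, ← Equiv.Perm.mul_apply, H.Ac u hu g hg, Equiv.Perm.mul_apply, h]

theorem inj {u v : Equiv.Perm Ω} (hu : u ∈ A) (hv : v ∈ A) {x : Ω} (h : u x = v x) : u = v := by
  have h1 : v⁻¹ * u = 1 := by
    refine H.reg (mul_mem (inv_mem hv) hu) (x := x) ?_
    rw [Equiv.Perm.mul_apply, h, inv_app]
  exact (inv_mul_eq_one.1 h1).symm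

omit H in
theorem conj_apply {g u : Equiv.Perm Ω} (hg : g a = a) : (g * u * g⁻¹) a = g (u a) := by
  have h : g⁻¹ a = a := Equiv.Perm.inv_eq_iff_eq.2 hg.symm
  rw [Equiv.Perm.mul_apply, Equiv.Perm.mul_apply, h]

theorem fix_iff {g u : Equiv.Perm Ω} (hgR : g ∈ R) (hg : g a = a) (hu : u ∈ A) :
    g (u a) = u a ↔ g * u * g⁻¹ = u := by
  rw [← conj_apply hg]
  constructor
  · intro h
    exact H.inj (H.An g hgR u hu) hu h
  · intro h
    rw [h]

theorem triv {g : Equiv.Perm Ω} (hg : g a = a) (h : ∀ u ∈ A, g * u * g⁻¹ = u) : g = 1 := by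
  ext y
  obtain ⟨u, hu, rfl⟩ := H.At a y
  rw [Equiv.Perm.one_apply, ← conj_apply hg, h u hu]

/-- The condition on the point stabilisers at every point. -/
theorem stab {x : Ω} (hx : x ≠ a) {m m' : Equiv.Perm Ω} (hm : m ∈ M) (hm' : m' ∈ M) (h : m x = x)
    (h' : m' x = x) (h1 : m ≠ 1) (h1' : m' ≠ 1) : m = m' := by
  obtain ⟨g, hg, rfl⟩ := H.Mt b x H.hb hx
  have key : ∀ k ∈ M, k (g b) = g b → k ≠ 1 →
      g⁻¹ * k * g ∈ M ∧ (g⁻¹ * k * g) b = b ∧ g⁻¹ * k * g ≠ 1 := by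
    intro k hk hkb hk1
    refine ⟨mul_mem (mul_mem (inv_mem hg) hk) hg, ?_, ?_⟩
    · rw [Equiv.Perm.mul_apply, Equiv.Perm.mul_apply, hkb, inv_app]
    · intro h2
      apply hk1
      have : k = g * (g⁻¹ * k * g) * g⁻¹ := by group
      rw [this, h2]
      group
  obtain ⟨k1, k2, k3⟩ := key m hm h h1
  obtain ⟨k1', k2', k3'⟩ := key m' hm' h' h1'
  have h2 := H.Mb _ k1 _ k1' k2 k2' k3 k3'
  have e : ∀ k, k = g * (g⁻¹ * k * g) * g⁻¹ := fun k => by group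
  rw [e m, e m', h2]

theorem sq_one {x : Ω} (hx : x ≠ a) {m : Equiv.Perm Ω} (hm : m ∈ M) (h : m x = x) : m * m = 1 := by
  by_cases h1 : m = 1
  · rw [h1, one_mul]
  · have h2 : m⁻¹ x = x := Equiv.Perm.inv_eq_iff_eq.2 h.symm
    have := H.stab hx hm (inv_mem hm) h h2 h1 (inv_ne_one.2 h1)
    rw [eq_inv_iff_mul_eq_one] at this
    exact this

variable [Finite Ω]

/-- The central involution inverts `A`. -/
theorem exists_z : ∃ z ∈ M, z ≠ 1 ∧ z * z = 1 ∧ (∀ m ∈ M, m * z = z * m) ∧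
    (∀ x, x ≠ a → z x ≠ x) ∧ ∀ u ∈ A, z * u * z⁻¹ = u⁻¹ := by
  obtain ⟨m, hm, hmb, hm1⟩ := H.Mb1
  have : Nontrivial M := ⟨⟨⟨m, hm⟩, 1, fun h => hm1 (congrArg Subtype.val h)⟩⟩
  have : Fact (Nat.Prime 2) := ⟨Nat.prime_two⟩
  have hc := H.M2.center_nontrivial
  have h2 : IsPGroup 2 (Subgroup.center M) := H.M2.to_subgroup _
  obtain ⟨n, hn, hn'⟩ := (IsPGroup.nontrivial_iff_card h2).1 hc
  have hdvd : 2 ∣ Nat.card (Subgroup.center M) := by
    rw [hn']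
    exact dvd_pow_self 2 (by omega)
  obtain ⟨z, hz⟩ := exists_prime_orderOf_dvd_card' 2 hdvd
  have hz1 : ((z : M) : Equiv.Perm Ω) ≠ 1 := by
    intro h
    have : z = 1 := Subtype.ext (Subtype.ext h)
    rw [this, orderOf_one] at hz
    omega
  have hzz : ((z : M) : Equiv.Perm Ω) * ((z : M) : Equiv.Perm Ω) = 1 := by
    have h1 : z * z = 1 := by
      rw [← sq, ← hz]
      exact pow_orderOf_eq_one z
    exact congrArg (fun w : Subgroup.center M => ((w : M) : Equiv.Perm Ω)) h1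
  have hcomm : ∀ k ∈ M, k * ((z : M) : Equiv.Perm Ω) = ((z : M) : Equiv.Perm Ω) * k := by
    intro k hk
    have := Subgroup.mem_center_iff.1 z.2 ⟨k, hk⟩
    exact congrArg Subtype.val this
  have hfree : ∀ x, x ≠ a → ((z : M) : Equiv.Perm Ω) x ≠ x := by
    intro x hx h
    apply hz1
    ext y
    rw [Equiv.Perm.one_apply]
    by_cases hy : y = a
    · rw [hy, H.Ma _ (z : M).2]
    · obtain ⟨k, hk, rfl⟩ := H.Mt x y hx hy
      rw [← Equiv.Perm.mul_apply, ← hcomm k hk, Equiv.Perm.mul_apply, h]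
  refine ⟨((z : M) : Equiv.Perm Ω), (z : M).2, hz1, hzz, hcomm, hfree, ?_⟩
  intro u hu
  set Z := ((z : M) : Equiv.Perm Ω) with hZ
  have hZM : Z ∈ M := (z : M).2
  have hZi : Z⁻¹ = Z := inv_eq_of_mul_eq_one_left hzz
  have hx' := H.An Z (H.MR hZM) u hu
  have hw : u * (Z * u * Z⁻¹) ∈ A := mul_mem hu hx'
  have h1 : Z * (u * (Z * u * Z⁻¹)) * Z⁻¹ = u * (Z * u * Z⁻¹) := by
    have h2 : Z * (u * (Z * u * Z⁻¹)) * Z⁻¹ = (Z * u * Z⁻¹) * ((Z * Z) * u * (Z * Z)⁻¹) := by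
      group
    rw [h2, hzz, one_mul, inv_one, mul_one, H.Ac _ hx' _ hu]
  have h3 := (H.fix_iff (H.MR hZM) (H.Ma Z hZM) hw).2 h1
  have h5 : (u * (Z * u * Z⁻¹)) a = a := by
    by_contra hne
    exact hfree _ hne h3
  exact eq_inv_of_mul_eq_one_right (H.reg hw h5)

omit H in
theorem orbit_card {C : Subgroup (Equiv.Perm Ω)} (hC : IsPGroup 2 C) (x : Ω) :
    ∃ j, (MulAction.orbit C x).ncard = 2 ^ j := by
  have : Fact (Nat.Prime 2) := ⟨Nat.prime_two⟩
  have h1 := MulAction.index_stabilizer C x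
  obtain ⟨n, hn⟩ := hC.exists_card_eq
  have h2 : (MulAction.stabilizer C x).index ∣ 2 ^ n := by
    rw [← hn]
    exact Subgroup.index_dvd_card _
  obtain ⟨j, _, hj⟩ := (Nat.dvd_prime_pow Nat.prime_two).1 h2
  exact ⟨j, by rw [← h1, hj]⟩

theorem orbit_M {x : Ω} (hx : x ≠ a) : MulAction.orbit M x = {a}ᶜ := by
  ext y
  rw [Set.mem_compl_iff, Set.mem_singleton_iff]
  constructor
  · rintro ⟨⟨g, hg⟩, rfl⟩ h
    apply hx
    apply g.injective
    rw [H.Ma g hg]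
    exact h
  · intro hy
    obtain ⟨g, hg, h⟩ := H.Mt x y hx hy
    exact ⟨⟨g, hg⟩, h⟩

/-- The number of points is `2 ^ s + 1`, `s ≥ 1`. -/
theorem card_points : ∃ s, 1 ≤ s ∧ Nat.card Ω = 2 ^ s + 1 := by
  obtain ⟨s, hs⟩ := orbit_card H.M2 b
  rw [H.orbit_M H.hb] at hs
  have h1 := Set.ncard_add_ncard_compl ({a} : Set Ω)
  rw [hs, Set.ncard_singleton] at h1
  refine ⟨s, ?_, by omega⟩
  by_contra h0
  have h2 : s = 0 := by omega
  subst h2
  obtain ⟨m, hm, hmb, hm1⟩ := H.Mb1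
  rw [pow_zero, Set.ncard_eq_one] at hs
  obtain ⟨c, hc⟩ := hs
  apply hm1
  ext y
  rw [Equiv.Perm.one_apply]
  by_cases hy : y = a
  · rw [hy, H.Ma m hm]
  · have h3 : y ∈ ({a}ᶜ : Set Ω) := hy
    have h4 : b ∈ ({a}ᶜ : Set Ω) := H.hb
    rw [hc, Set.mem_singleton_iff] at h3 h4
    rw [h3, ← h4, hmb]

/-- The number of fixed points of an element of `M` with a second fixed point. -/
theorem card_fix {k : Equiv.Perm Ω} (hk : k ∈ M) (hk1 : k ≠ 1) {x : Ω} (hx : x ≠ a) (hkx : k x = x) :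
    ∃ j, {y | k y = y}.ncard = 2 ^ j + 1 := by
  have hC : IsPGroup 2 (M ⊓ Subgroup.centralizer {k} : Subgroup (Equiv.Perm Ω)) :=
    H.M2.to_le inf_le_left
  obtain ⟨j, hj⟩ := orbit_card hC x
  refine ⟨j, ?_⟩
  have h1 : MulAction.orbit (M ⊓ Subgroup.centralizer {k} : Subgroup (Equiv.Perm Ω)) x =
      {y | k y = y} \ {a} := by
    ext y
    constructor
    · rintro ⟨⟨g, hgg⟩, rfl⟩
      obtain ⟨hg, hgk⟩ := Subgroup.mem_inf.1 hgg
      rw [Subgroup.mem_centralizer_singleton_iff] at hgk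
      constructor
      · change k (g x) = g x
        rw [← Equiv.Perm.mul_apply, ← hgk, Equiv.Perm.mul_apply, hkx]
      · intro h
        apply hx
        apply g.injective
        rw [H.Ma g hg]
        exact h
    · rintro ⟨hy, hya⟩
      obtain ⟨g, hg, rfl⟩ := H.Mt x y hx hya
      refine ⟨⟨g, Subgroup.mem_inf.2 ⟨hg, ?_⟩⟩, rfl⟩
      rw [Subgroup.mem_centralizer_singleton_iff]
      have h2 : (g * k * g⁻¹) (g x) = g x := by
        rw [Equiv.Perm.mul_apply, Equiv.Perm.mul_apply, inv_app, hkx]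
      have h3 : g * k * g⁻¹ ≠ 1 := by
        intro h
        apply hk1
        have : k = g⁻¹ * (g * k * g⁻¹) * g := by group
        rw [this, h]
        group
      have h4 := H.stab hya (mul_mem (mul_mem hg hk) (inv_mem hg)) hk h2 hy h3 hk1
      rw [mul_inv_eq_iff_eq_mul] at h4
      exact h4
  rw [h1] at hj
  have h2 : a ∈ {y | k y = y} := H.Ma k hk
  have h3 := Set.ncard_sdiff_singleton_add_one h2 (Set.toFinite _)
  omega

omit H in
theorem card_aux (φ : Ω → Prop) (B : Subgroup (Equiv.Perm Ω)) (f : Equiv.Perm Ω → Prop) (a : Ω)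
    (hinj : ∀ u ∈ B, ∀ v ∈ B, u a = v a → u = v) (hsurj : ∀ x, ∃ u ∈ B, u a = x)
    (hf : ∀ u ∈ B, f u ↔ φ (u a)) : Nat.card {v : B // f v} = {x | φ x}.ncard := by
  rw [← Nat.card_coe_set_eq]
  refine Nat.card_congr (Equiv.ofBijective
    (fun v => ⟨(v.1 : Equiv.Perm Ω) a, (hf _ v.1.2).1 v.2⟩) ⟨?_, ?_⟩)
  · intro v w h
    have h1 := congrArg Subtype.val h
    exact Subtype.ext (Subtype.ext (hinj _ v.1.2 _ w.1.2 h1))
  · rintro ⟨x, hx⟩
    obtain ⟨u, hu, rfl⟩ := hsurj x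
    exact ⟨⟨⟨u, hu⟩, (hf u hu).2 hx⟩, rfl⟩

/-- There are nine points, and every element of `M` with a second fixed point has three fixed
points. -/
theorem nine : Nat.card Ω = 9 ∧ ∀ k ∈ M, k ≠ 1 → ∀ x, x ≠ a → k x = x →
    {y | k y = y}.ncard = 3 := by
  obtain ⟨s, hs, hn⟩ := H.card_points
  obtain ⟨z, hz, hz1, hzz, hzc, hzf, hzi⟩ := H.exists_z
  have hodd : Odd (Nat.card A) := by
    have h1 := card_aux (fun _ => True) A (fun _ => True) a (fun u hu v hv => H.inj hu hv)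
      (fun x => H.At a x) (fun _ _ => Iff.rfl)
    have h2 : Nat.card {v : A // True} = Nat.card A :=
      Nat.card_congr (Equiv.subtypeUnivEquiv fun _ => trivial)
    have h3 : {x : Ω | True}.ncard = Nat.card Ω := by
      rw [show {x : Ω | True} = Set.univ from Set.eq_univ_of_forall fun _ => trivial, Set.ncard_univ]
    rw [← h2, h1, h3, hn]
    exact (Nat.even_pow.2 ⟨even_two, by omega⟩).add_one
  have hcA : Nat.card A = 2 ^ s + 1 := by
    have h1 := card_aux (fun _ => True) A (fun _ => True) a (fun u hu v hv => H.inj hu hv)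
      (fun x => H.At a x) (fun _ _ => Iff.rfl)
    have h2 : Nat.card {v : A // True} = Nat.card A :=
      Nat.card_congr (Equiv.subtypeUnivEquiv fun _ => trivial)
    have h3 : {x : Ω | True}.ncard = Nat.card Ω := by
      rw [show {x : Ω | True} = Set.univ from Set.eq_univ_of_forall fun _ => trivial, Set.ncard_univ]
    rw [← h2, h1, h3, hn]
  have key : ∀ k ∈ M, k ≠ 1 → ∀ x, x ≠ a → k x = x → {y | k y = y}.ncard = 3 ∧ s = 3 := by
    intro k hk hk1 x hx hkx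
    have hkk := H.sq_one hx hk hkx
    have hkR := H.MR hk
    have hzR := H.MR hz
    let _ : CommGroup A := { (inferInstance : Group A) with
      mul_comm := fun u v => Subtype.ext (H.Ac _ u.2 _ v.2) }
    let φ : A →* A :=
      { toFun := fun u => ⟨k * u * k⁻¹, H.An k hkR _ u.2⟩
        map_one' := Subtype.ext (by
          change k * 1 * k⁻¹ = 1
          group)
        map_mul' := fun u v => Subtype.ext (by
          change k * ((u : Equiv.Perm Ω) * v) * k⁻¹ = (k * u * k⁻¹) * (k * v * k⁻¹)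
          group) }
    have hφ : ∀ v, φ (φ v) = v := by
      intro v
      apply Subtype.ext
      change k * (k * (v : Equiv.Perm Ω) * k⁻¹) * k⁻¹ = v
      have e : k * (k * (v : Equiv.Perm Ω) * k⁻¹) * k⁻¹ = (k * k) * v * (k * k)⁻¹ := by group
      rw [e, hkk]
      group
    have h1 := card_fix_mul hodd φ hφ
    have h2 : Nat.card {v : A // φ v = v} = {y | k y = y}.ncard := by
      have e := card_aux (fun y => k y = y) A (fun u => k * u * k⁻¹ = u) a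
        (fun u hu v hv => H.inj hu hv) (fun x => H.At a x)
        (fun u hu => (H.fix_iff hkR (H.Ma k hk) hu).symm)
      rw [← e]
      exact Nat.card_congr (Equiv.subtypeEquivRight fun v => Subtype.ext_iff)
    have h3 : Nat.card {v : A // φ v = v⁻¹} = {y | (k * z) y = y}.ncard := by
      have e := card_aux (fun y => (k * z) y = y) A (fun u => k * u * k⁻¹ = u⁻¹) a
        (fun u hu v hv => H.inj hu hv) (fun x => H.At a x) (fun u hu => by
          rw [H.fix_iff (mul_mem hkR hzR) (H.Ma _ (mul_mem hk hz)) hu]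
          have e1 : k * z * u * (k * z)⁻¹ = k * (z * u * z⁻¹) * k⁻¹ := by group
          rw [e1, hzi u hu]
          have e2 : k * u⁻¹ * k⁻¹ = (k * u * k⁻¹)⁻¹ := by group
          rw [e2, inv_eq_iff_eq_inv])
      rw [← e]
      exact Nat.card_congr (Equiv.subtypeEquivRight fun v => Subtype.ext_iff)
    rw [h2, h3, hcA] at h1
    obtain ⟨i, hi⟩ := H.card_fix hk hk1 hx hkx
    -- `k z` has a second fixed point
    have hkz1 : k * z ≠ 1 := by
      intro h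
      have : k = z⁻¹ := eq_inv_of_mul_eq_one_left h
      rw [inv_eq_of_mul_eq_one_left hzz] at this
      rw [this] at hkx
      exact hzf x hx hkx
    have hex : ∃ y, y ≠ a ∧ (k * z) y = y := by
      by_contra hcon
      push Not at hcon
      have h4 : {y | (k * z) y = y} = {a} := by
        ext y
        constructor
        · intro hy
          by_contra hne
          exact hcon y hne hy
        · rintro rfl
          exact H.Ma _ (mul_mem hk hz)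
      rw [h4, Set.ncard_singleton, mul_one, hi] at h1
      apply hk1
      have h5 : {y | k y = y} = Set.univ := by
        apply Set.eq_of_subset_of_ncard_le (Set.subset_univ _)
        rw [Set.ncard_univ, hn, hi, h1]
      ext y
      have : y ∈ {y | k y = y} := by rw [h5]; trivial
      exact this
    obtain ⟨y, hy, hkzy⟩ := hex
    obtain ⟨j, hj⟩ := H.card_fix (mul_mem hk hz) hkz1 hy hkzy
    rw [hi, hj] at h1
    have hoddN : Odd (2 ^ s + 1) := (Nat.even_pow.2 ⟨even_two, by omega⟩).add_one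
    have h6 := Nat.Odd.of_mul_right (h1 ▸ hoddN : Odd ((2 ^ i + 1) * (2 ^ j + 1)))
    have h7 := Nat.Odd.of_mul_left (h1 ▸ hoddN : Odd ((2 ^ i + 1) * (2 ^ j + 1)))
    have hi1 : 1 ≤ i := by
      by_contra h0
      have : i = 0 := by omega
      subst this
      exact absurd h7 (by decide)
    have hj1 : 1 ≤ j := by
      by_contra h0
      have : j = 0 := by omega
      subst this
      exact absurd h6 (by decide)
    obtain ⟨h8, h9⟩ := two_pow_lemma hi1 hj1 h1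
    subst h8 h9
    refine ⟨hi, ?_⟩
    have h10 : 2 ^ s = 2 ^ 3 := by omega
    exact Nat.pow_right_injective (le_refl 2) h10
  obtain ⟨m, hm, hmb, hm1⟩ := H.Mb1
  refine ⟨?_, fun k hk hk1 x hx hkx => (key k hk hk1 x hx hkx).1⟩
  rw [hn, (key m hm hm1 b H.hb hmb).2]
  norm_num

theorem card_A : Nat.card A = 9 := by
  have h1 := card_aux (fun _ => True) A (fun _ => True) a (fun u hu v hv => H.inj hu hv)
    (fun x => H.At a x) (fun _ _ => Iff.rfl)
  have h2 : Nat.card {v : A // True} = Nat.card A :=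
    Nat.card_congr (Equiv.subtypeUnivEquiv fun _ => trivial)
  have h3 : {x : Ω | True}.ncard = Nat.card Ω := by
    rw [show {x : Ω | True} = Set.univ from Set.eq_univ_of_forall fun _ => trivial, Set.ncard_univ]
  rw [← h2, h1, h3, H.nine.1]

theorem pow_nine {u : Equiv.Perm Ω} (hu : u ∈ A) : u ^ 9 = 1 := by
  have h := pow_card_eq_one' (x := (⟨u, hu⟩ : A))
  rw [H.card_A] at h
  exact congrArg Subtype.val h

omit H [Finite Ω] in
theorem cc (g h u : Equiv.Perm Ω) : (g * h) * u * (g * h)⁻¹ = g * (h * u * h⁻¹) * g⁻¹ := by group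

omit H [Finite Ω] in
theorem ci (g u : Equiv.Perm Ω) : g * u⁻¹ * g⁻¹ = (g * u * g⁻¹)⁻¹ := by group

omit H [Finite Ω] in
theorem cm (g u v : Equiv.Perm Ω) : g * (u * v) * g⁻¹ = (g * u * g⁻¹) * (g * v * g⁻¹) := by group

omit H [Finite Ω] in
theorem cp (g u : Equiv.Perm Ω) (n : ℕ) : g * u ^ n * g⁻¹ = (g * u * g⁻¹) ^ n :=
  (conj_pow).symm

/-- `A = C_A(k) [A, k]` for an involution `k`. -/
theorem dec {k : Equiv.Perm Ω} (hk : k ∈ M) (hkk : k * k = 1) {v : Equiv.Perm Ω} (hv : v ∈ A) :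
    ∃ p ∈ A, ∃ q ∈ A, k * p * k⁻¹ = p ∧ k * q * k⁻¹ = q⁻¹ ∧ v = p * q := by
  have hw := H.An k (H.MR hk) v hv
  have hkw : k * (k * v * k⁻¹) * k⁻¹ = v := by
    rw [← cc, hkk]
    group
  set w := k * v * k⁻¹ with hwd
  have hc : v * w = w * v := H.Ac v hv w hw
  refine ⟨(v * w) ^ 5, pow_mem (mul_mem hv hw) 5, (v * w⁻¹) ^ 5,
    pow_mem (mul_mem hv (inv_mem hw)) 5, ?_, ?_, ?_⟩
  · rw [cp, cm, ← hwd, hkw, hc]
  · rw [cp, cm, ← hwd, ci, hkw, ← inv_pow, mul_inv_rev, inv_inv]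
  · have h1 : Commute (v * w) (v * w⁻¹) := by
      have : Commute v w := hc
      exact Commute.mul_left (Commute.mul_right (Commute.refl v) this.inv_right)
        (Commute.mul_right this.symm (Commute.refl w).inv_right)
    have h2 : v * w * (v * w⁻¹) = v ^ 2 := by
      calc v * w * (v * w⁻¹) = v * (w * v) * w⁻¹ := by group
        _ = v * (v * w) * w⁻¹ := by rw [hc]
        _ = v ^ 2 := by rw [← mul_assoc, mul_inv_cancel_right, sq]
    rw [← h1.mul_pow, h2, ← pow_mul, show 2 * 5 = 9 + 1 from rfl, pow_succ, H.pow_nine hv, one_mul]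

theorem inv_ne {u : Equiv.Perm Ω} (hu : u ∈ A) (h1 : u ≠ 1) : u⁻¹ ≠ u := by
  obtain ⟨z, hz, hz1, hzz, hzc, hzf, hzi⟩ := H.exists_z
  intro h
  have h2 := hzi u hu
  rw [h] at h2
  have h3 := (H.fix_iff (H.MR hz) (H.Ma z hz) hu).2 h2
  by_cases h4 : u a = a
  · exact h1 (H.reg hu h4)
  · exact hzf _ h4 h3

/-- The centraliser in `A` of an element of `M`. -/
theorem fix3 {k : Equiv.Perm Ω} (hk : k ∈ M) (hk1 : k ≠ 1) {u : Equiv.Perm Ω} (hu : u ∈ A)
    (hu1 : u ≠ 1) (hku : k * u * k⁻¹ = u) {v : Equiv.Perm Ω} (hv : v ∈ A) (hkv : k * v * k⁻¹ = v) :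
    v = 1 ∨ v = u ∨ v = u⁻¹ := by
  have hua : u a ≠ a := fun h => hu1 (H.reg hu h)
  have hui : u⁻¹ a ≠ a := fun h => hu1 (inv_eq_one.1 (H.reg (inv_mem hu) h))
  have huu : u⁻¹ a ≠ u a := fun h => H.inv_ne hu hu1 (H.inj (inv_mem hu) hu h)
  have hka := H.Ma k hk
  have h1 := (H.fix_iff (H.MR hk) hka hu).2 hku
  have h2 := (H.fix_iff (H.MR hk) hka (inv_mem hu)).2 (by rw [ci, hku])
  have h3 := (H.fix_iff (H.MR hk) hka hv).2 hkv
  have h4 := H.nine.2 k hk hk1 (u a) hua h1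
  have h5 : ({a, u a, u⁻¹ a} : Set Ω) = {y | k y = y} := by
    refine Set.eq_of_subset_of_ncard_le ?_ ?_ (Set.toFinite _)
    · intro y hy
      simp only [Set.mem_insert_iff, Set.mem_singleton_iff] at hy
      rcases hy with rfl | rfl | rfl
      · exact hka
      · exact h1
      · exact h2
    · rw [h4]
      have h6 : ({a, u a, u⁻¹ a} : Set Ω).ncard = 3 :=
        Set.ncard_eq_three.2 ⟨a, u a, u⁻¹ a, hua.symm, hui.symm, huu.symm, rfl⟩
      rw [h6]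
  have h6 : v a ∈ ({a, u a, u⁻¹ a} : Set Ω) := by
    rw [h5]
    exact h3
  simp only [Set.mem_insert_iff, Set.mem_singleton_iff] at h6
  rcases h6 with h6 | h6 | h6
  · exact Or.inl (H.reg hv h6)
  · exact Or.inr (Or.inl (H.inj hv hu h6))
  · exact Or.inr (Or.inr (H.inj hv (inv_mem hu) h6))

/-- The third fixed point. -/
theorem third {x : Ω} (hx : x ≠ a) {k : Equiv.Perm Ω} (hk : k ∈ M) (hkx : k x = x) :
    ∃ e, e ≠ a ∧ e ≠ x ∧ k e = e := by
  obtain ⟨u, hu, rfl⟩ := H.At a x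
  have hu1 : u ≠ 1 := by
    rintro rfl
    exact hx rfl
  have hka := H.Ma k hk
  have h1 := (H.fix_iff (H.MR hk) hka hu).1 hkx
  refine ⟨u⁻¹ a, fun h => hu1 (inv_eq_one.1 (H.reg (inv_mem hu) h)),
    fun h => H.inv_ne hu hu1 (H.inj (inv_mem hu) hu h),
    (H.fix_iff (H.MR hk) hka (inv_mem hu)).2 (by rw [ci, h1])⟩

/-- The coordinates: `m` centralises `x`, inverts `y`, and `A = ⟨x⟩ × ⟨y⟩`. -/
theorem coord : ∃ m ∈ M, ∃ x ∈ A, ∃ y ∈ A, m b = b ∧ m ≠ 1 ∧ m * m = 1 ∧ x a = b ∧ x ≠ 1 ∧ y ≠ 1 ∧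
    m * x * m⁻¹ = x ∧ m * y * m⁻¹ = y⁻¹ ∧
    (∀ v ∈ A, m * v * m⁻¹ = v⁻¹ → v = 1 ∨ v = y ∨ v = y⁻¹) ∧
    ∀ g : Equiv.Perm Ω, g a = a → g * x * g⁻¹ = x → g * y * g⁻¹ = y → g = 1 := by
  obtain ⟨m, hm, hmb, hm1⟩ := H.Mb1
  obtain ⟨z, hz, hz1, hzz, hzc, hzf, hzi⟩ := H.exists_z
  have hmm := H.sq_one H.hb hm hmb
  obtain ⟨x, hx, hxa⟩ := H.At a b
  have hx1 : x ≠ 1 := by
    rintro rfl
    exact H.hb hxa.symm
  have hmx : m * x * m⁻¹ = x := (H.fix_iff (H.MR hm) (H.Ma m hm) hx).1 (by rw [hxa, hmb])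
  have hex : ∃ y ∈ A, y ≠ 1 ∧ m * y * m⁻¹ = y⁻¹ := by
    by_contra hcon
    push Not at hcon
    apply hm1
    apply H.triv (H.Ma m hm)
    intro v hv
    obtain ⟨p, hp, q, hq, h1, h2, rfl⟩ := H.dec hm hmm hv
    have hq1 : q = 1 := by
      by_contra hne
      exact hcon q hq hne h2
    rw [hq1, mul_one, h1]
  obtain ⟨y, hy, hy1, hmy⟩ := hex
  have hmz : m * z ∈ M := mul_mem hm hz
  have hmz1 : m * z ≠ 1 := by
    intro h
    have : m = z⁻¹ := eq_inv_of_mul_eq_one_left h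
    rw [inv_eq_of_mul_eq_one_left hzz] at this
    rw [this] at hmb
    exact hzf b H.hb hmb
  have hinv : ∀ v ∈ A, m * v * m⁻¹ = v⁻¹ ↔ (m * z) * v * (m * z)⁻¹ = v := by
    intro v hv
    rw [cc, hzi v hv, ci, inv_eq_iff_eq_inv]
  refine ⟨m, hm, x, hx, y, hy, hmb, hm1, hmm, hxa, hx1, hy1, hmx, hmy, ?_, ?_⟩
  · intro v hv h
    exact H.fix3 hmz hmz1 hy hy1 ((hinv y hy).1 hmy) hv ((hinv v hv).1 h)
  · intro g hg hgx hgy
    apply H.triv hg
    intro v hv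
    obtain ⟨p, hp, q, hq, h1, h2, rfl⟩ := H.dec hm hmm hv
    have hp' : g * p * g⁻¹ = p := by
      rcases H.fix3 hm hm1 hx hx1 hmx hp h1 with rfl | rfl | rfl
      · group
      · exact hgx
      · rw [ci, hgx]
    have hq' : g * q * g⁻¹ = q := by
      rcases H.fix3 hmz hmz1 hy hy1 ((hinv y hy).1 hmy) hq ((hinv q hq).1 h2) with rfl | rfl | rfl
      · group
      · exact hgy
      · rw [ci, hgy]
    rw [cm, hp', hq']

/-- The point stabiliser is `M`. -/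
theorem stabR {r : Equiv.Perm Ω} (hr : r ∈ R) (hra : r a = a) : r ∈ M := by
  obtain ⟨m, hm, x, hx, y, hy, hmb, hm1, hmm, hxa, hx1, hy1, hmx, hmy, hcl, htr⟩ := H.coord
  have hrb : r b ≠ a := by
    intro h
    apply H.hb
    apply r.injective
    rw [h, hra]
  obtain ⟨n, hn, hnb⟩ := H.Mt (r b) b hrb H.hb
  have hsa : (n * r) a = a := by rw [Equiv.Perm.mul_apply, hra, H.Ma n hn]
  have hsb : (n * r) b = b := hnb
  have hsR : n * r ∈ R := mul_mem (H.MR hn) hr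
  have hback : n * r ∈ M → r ∈ M := fun h => (Subgroup.mul_mem_cancel_left M hn).1 h
  apply hback
  set s := n * r with hs
  have hsx : s * x * s⁻¹ = x := (H.fix_iff hsR hsa hx).1 (by rw [hxa, hsb])
  have hsm : s * m * s⁻¹ = m := by
    apply H.Mb _ (H.Mn s hsR hsa m hm) m hm _ hmb _ hm1
    · have : s⁻¹ b = b := Equiv.Perm.inv_eq_iff_eq.2 hsb.symm
      rw [Equiv.Perm.mul_apply, Equiv.Perm.mul_apply, this, hmb, hsb]
    · intro h
      apply hm1
      have e : m = s⁻¹ * (s * m * s⁻¹) * s := by group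
      rw [e, h]
      group
  have hms : m * s = s * m := (mul_inv_eq_iff_eq_mul.1 hsm).symm
  have h1 : m * (s * y * s⁻¹) * m⁻¹ = (s * y * s⁻¹)⁻¹ := by
    rw [← cc, hms, cc, hmy, ci]
  rcases hcl _ (H.An s hsR y hy) h1 with h2 | h2 | h2
  · exfalso
    apply hy1
    have e : y = s⁻¹ * (s * y * s⁻¹) * s := by group
    rw [e, h2]
    group
  · rw [htr s hsa hsx h2]
    exact one_mem M
  · have h3 : m * s = 1 := by
      apply htr
      · rw [Equiv.Perm.mul_apply, hsa, H.Ma m hm]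
      · rw [cc, hsx, hmx]
      · rw [cc, h2, ci, hmy, inv_inv]
    rw [eq_inv_of_mul_eq_one_right h3]
    exact inv_mem hm

theorem card_M : Nat.card M = 16 := by
  obtain ⟨m, hm, hmb, hm1⟩ := H.Mb1
  have h1 := MulAction.index_stabilizer M b
  rw [H.orbit_M H.hb] at h1
  have h2 := Set.ncard_add_ncard_compl ({a} : Set Ω)
  rw [Set.ncard_singleton, H.nine.1] at h2
  have h3 : Nat.card (MulAction.stabilizer M b) = 2 := by
    rw [Nat.card_eq_two_iff]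
    refine ⟨1, ⟨⟨m, hm⟩, hmb⟩, ?_, ?_⟩
    · intro h
      exact hm1 (congrArg (fun t : MulAction.stabilizer M b => ((t : M) : Equiv.Perm Ω)) h).symm
    · rw [Set.eq_univ_iff_forall]
      rintro ⟨⟨k, hk⟩, hkb⟩
      by_cases hk1 : k = 1
      · left
        exact Subtype.ext (Subtype.ext hk1)
      · right
        exact Subtype.ext (Subtype.ext (H.Mb k hk m hm hkb hmb hk1 hm1))
  have h4 := Subgroup.card_mul_index (MulAction.stabilizer M b)
  rw [h3, h1] at h4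
  omega

/-- The commutator of order 4. -/
theorem comm4 : ∃ g ∈ M, ∃ h ∈ M, (g * h * g⁻¹ * h⁻¹) ^ 4 = 1 ∧
    (∀ x, x ≠ a → ((g * h * g⁻¹ * h⁻¹) ^ 2) x ≠ x) ∧
    ∀ m ∈ M, m * (g * h * g⁻¹ * h⁻¹) ^ 2 = (g * h * g⁻¹ * h⁻¹) ^ 2 * m := by
  obtain ⟨m, hm, x, hx, y, hy, hmb, hm1, hmm, hxa, hx1, hy1, hmx, hmy, hcl, htr⟩ := H.coord
  obtain ⟨z, hz, hz1, hzz, hzc, hzf, hzi⟩ := H.exists_z
  have hxy : x * y ∈ A := mul_mem hx hy
  -- squares
  have hsq : ∀ u ∈ A, ∀ v ∈ A, u * u = v * v → u = v := by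
    intro u hu v hv h
    have h1 : (u * v⁻¹) * (u * v⁻¹) = 1 := by
      have h2 : u * v⁻¹ = v⁻¹ * u := H.Ac u hu _ (inv_mem hv)
      calc (u * v⁻¹) * (u * v⁻¹) = (u * v⁻¹) * (v⁻¹ * u) := by rw [← h2]
        _ = u * (v * v)⁻¹ * u := by group
        _ = u * (u * u)⁻¹ * u := by rw [h]
        _ = 1 := by group
    by_contra hne
    have h2 : u * v⁻¹ ≠ 1 := fun h => hne (mul_inv_eq_one.1 h)
    exact H.inv_ne (mul_mem hu (inv_mem hv)) h2 (inv_eq_of_mul_eq_one_left h1)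
  have hxya : (x * y) a ≠ a := by
    intro h
    have h1 := H.reg hxy h
    have h2 : x = y⁻¹ := eq_inv_of_mul_eq_one_left h1
    have h3 := hmx
    rw [h2, ci, hmy, inv_inv] at h3
    exact H.inv_ne hy hy1 h3.symm
  obtain ⟨h, hh, hhb⟩ := H.Mt b ((x * y) a) H.hb hxya
  obtain ⟨n, hn⟩ : ∃ n, n = h * m * h⁻¹ := ⟨_, rfl⟩
  have hnM : n ∈ M := hn ▸ mul_mem (mul_mem hh hm) (inv_mem hh)
  have hn1 : n ≠ 1 := by
    intro hne
    apply hm1
    have e : m = h⁻¹ * (h * m * h⁻¹) * h := by group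
    rw [e, ← hn, hne]
    group
  have hnn : n * n = 1 := by
    have e : n * n = h * (m * m) * h⁻¹ := by
      rw [hn]
      group
    rw [e, hmm]
    group
  have hna := H.Ma n hnM
  have hnb : n ((x * y) a) = (x * y) a := by
    rw [← hhb, hn, Equiv.Perm.mul_apply, Equiv.Perm.mul_apply, inv_app, hmb]
  have hnxy : n * (x * y) * n⁻¹ = x * y := (H.fix_iff (H.MR hnM) hna hxy).1 hnb
  have hnn' : ∀ u, n * (n * u * n⁻¹) * n⁻¹ = u := by
    intro u
    rw [← cc, hnn]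
    group
  have hnz1 : n * z ≠ 1 := by
    intro h1
    have h2 : n = z⁻¹ := eq_inv_of_mul_eq_one_left h1
    rw [inv_eq_of_mul_eq_one_left hzz] at h2
    rw [h2] at hnb
    exact hzf _ hxya hnb
  have hnzM : n * z ∈ M := mul_mem hnM hz
  have hmzM : m * z ∈ M := mul_mem hm hz
  have hmz1 : m * z ≠ 1 := by
    intro h1
    have h2 : m = z⁻¹ := eq_inv_of_mul_eq_one_left h1
    rw [inv_eq_of_mul_eq_one_left hzz] at h2
    rw [h2] at hmb
    exact hzf _ H.hb hmb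
  have hinv : ∀ k : Equiv.Perm Ω, ∀ v ∈ A, k * v * k⁻¹ = v⁻¹ → (k * z) * v * (k * z)⁻¹ = v := by
    intro k v hv h1
    rw [cc, hzi v hv, ci, h1, inv_inv]
  have cx : n * x * n⁻¹ ≠ x⁻¹ := by
    intro h1
    have h2 := (H.fix_iff (H.MR hnzM) (H.Ma _ hnzM) hx).2 (hinv n x hx h1)
    rw [hxa] at h2
    have h3 : n * z = m := H.stab H.hb hnzM hm h2 hmb hnz1 hm1
    have h4 : (n * z) * (x * y) * (n * z)⁻¹ = x * y⁻¹ := by
      rw [h3, cm, hmx, hmy]
    rw [cc, hzi _ hxy, ci, hnxy, mul_inv_rev, H.Ac _ (inv_mem hy) _ (inv_mem hx)] at h4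
    exact H.inv_ne hx hx1 (mul_right_cancel h4)
  have cy : n * y * n⁻¹ ≠ y⁻¹ := by
    intro h1
    have hya : y a ≠ a := fun h => hy1 (H.reg hy h)
    have h2 := (H.fix_iff (H.MR hnzM) (H.Ma _ hnzM) hy).2 (hinv n y hy h1)
    have h3 := (H.fix_iff (H.MR hmzM) (H.Ma _ hmzM) hy).2 (hinv m y hy hmy)
    have h4 : n = m := mul_right_cancel (H.stab hya hnzM hmzM h2 h3 hnz1 hmz1)
    rw [h4, cm, hmx, hmy] at hnxy
    exact H.inv_ne hy hy1 (mul_left_cancel hnxy)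
  have cxy : n * (x * y) * n⁻¹ ≠ (x * y)⁻¹ := by
    intro h1
    rw [hnxy] at h1
    refine H.inv_ne hxy ?_ h1.symm
    intro h2
    rw [h2] at hxya
    exact hxya rfl
  -- an element inverted by `n`
  have hxA := H.An n (H.MR hnM) x hx
  have hnx : n * x * n⁻¹ = y := by
    have hiv : ∀ v, n * v⁻¹ * n⁻¹ = (v⁻¹)⁻¹ → n * v * n⁻¹ = v⁻¹ := by
      intro v h1
      rw [ci] at h1
      exact inv_injective h1
    have hfin : n * (x * y⁻¹) * n⁻¹ = (x * y⁻¹)⁻¹ → n * x * n⁻¹ = y := by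
      intro h1
      apply hsq _ hxA _ hy
      have hcomm : x * y = y * x := H.Ac x hx y hy
      have h2 : x * x = (x * y) * (x * y⁻¹) := by
        rw [hcomm]
        calc x * x = y * (x * x) * y⁻¹ := by
              have h3 : y * (x * x) = x * x * y := by
                rw [← mul_assoc, ← hcomm, mul_assoc, ← hcomm, mul_assoc]
              rw [h3]
              group
          _ = y * x * (x * y⁻¹) := by group
      rw [← cm, h2, cm, hnxy, h1]
      calc x * y * (x * y⁻¹)⁻¹ = x * y * (y * x⁻¹) := by rw [mul_inv_rev, inv_inv]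
        _ = y * x * (y * x⁻¹) := by rw [hcomm]
        _ = y * (x * y) * x⁻¹ := by group
        _ = y * (y * x) * x⁻¹ := by rw [hcomm]
        _ = y * y := by rw [← mul_assoc, mul_inv_cancel_right]
    have hw : n * (x * (n * x * n⁻¹)⁻¹) * n⁻¹ = (x * (n * x * n⁻¹)⁻¹)⁻¹ := by
      rw [cm, ci, hnn', mul_inv_rev, inv_inv]
    have hwA : x * (n * x * n⁻¹)⁻¹ ∈ A := mul_mem hx (inv_mem hxA)
    have hw1 : x * (n * x * n⁻¹)⁻¹ ≠ 1 := by
      intro h1
      have h2 : n * x * n⁻¹ = x := (mul_inv_eq_one.1 h1).symm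
      apply hn1
      apply htr n hna h2
      rw [cm, h2] at hnxy
      exact mul_left_cancel hnxy
    obtain ⟨p, hp, q, hq, h1, h2, h3⟩ := H.dec hm hmm hwA
    rw [h3] at hw hw1
    rcases H.fix3 hm hm1 hx hx1 hmx hp h1 with rfl | rfl | rfl
    · rcases hcl q hq h2 with rfl | rfl | rfl
      · exact absurd (one_mul 1) hw1
      · rw [one_mul] at hw
        exact absurd hw cy
      · rw [one_mul] at hw
        exact absurd (hiv _ hw) cy
    · rcases hcl q hq h2 with rfl | rfl | rfl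
      · rw [mul_one] at hw
        exact absurd hw cx
      · exact absurd hw cxy
      · exact hfin hw
    · rcases hcl q hq h2 with rfl | rfl | rfl
      · rw [mul_one] at hw
        exact absurd (hiv _ hw) cx
      · apply hfin
        apply hiv
        have e : (x * q⁻¹)⁻¹ = x⁻¹ * q := by
          rw [mul_inv_rev, inv_inv, H.Ac _ hy _ (inv_mem hx)]
        rw [e]
        exact hw
      · have e : (x * y)⁻¹ = x⁻¹ * y⁻¹ := by
          rw [mul_inv_rev, H.Ac _ (inv_mem hx) _ (inv_mem hy)]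
        rw [← e] at hw
        exact absurd (hiv _ hw) cxy
  have hny : n * y * n⁻¹ = x := by
    rw [← hnx]
    exact hnn' x
  refine ⟨h, hh, m, hm, ?_⟩
  have hc : h * m * h⁻¹ * m⁻¹ = n * m := by
    rw [← hn, inv_eq_of_mul_eq_one_left hmm]
  rw [hc]
  obtain ⟨c, hcd⟩ : ∃ c, c = n * m := ⟨_, rfl⟩
  rw [← hcd]
  have hca : c a = a := by rw [hcd, Equiv.Perm.mul_apply, H.Ma m hm, hna]
  have hcx : c * x * c⁻¹ = y := by rw [hcd, cc, hmx, hnx]
  have hcy : c * y * c⁻¹ = x⁻¹ := by rw [hcd, cc, hmy, ci, hny]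
  have hzc1 : z * c ^ 2 = 1 := by
    apply htr
    · rw [sq, Equiv.Perm.mul_apply, Equiv.Perm.mul_apply, hca, hca, H.Ma z hz]
    · rw [sq, cc, cc, hcx, hcy, hzi _ (inv_mem hx), inv_inv]
    · rw [sq, cc, cc, hcy, ci, hcx, hzi _ (inv_mem hy), inv_inv]
  have hc2 : c ^ 2 = z := by
    rw [eq_inv_of_mul_eq_one_right hzc1, inv_eq_of_mul_eq_one_left hzz]
  refine ⟨?_, ?_, ?_⟩
  · rw [show 4 = 2 * 2 from rfl, pow_mul, hc2, sq, hzz]
  · intro t ht
    rw [hc2]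
    exact hzf t ht
  · intro k hk
    rw [hc2]
    exact hzc k hk

end Hyp

/-- **The exceptional panel**; the square of the commutator is central. -/
theorem exc_panel' {Ω : Type u} [Finite Ω] (R M A : Subgroup (Equiv.Perm Ω)) (a b : Ω) (hb : b ≠ a)
    (_h2 : ∀ x y x' y' : Ω, x ≠ y → x' ≠ y' → ∃ g ∈ R, g x = x' ∧ g y = y')
    (hMR : M ≤ R) (hMa : ∀ m ∈ M, m a = a)
    (hMn : ∀ r ∈ R, r a = a → ∀ m ∈ M, r * m * r⁻¹ ∈ M) (hM2 : IsPGroup 2 M)
    (hMt : ∀ x y, x ≠ a → y ≠ a → ∃ m ∈ M, m x = y)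
    (hMb : ∀ m ∈ M, ∀ m' ∈ M, m b = b → m' b = b → m ≠ 1 → m' ≠ 1 → m = m')
    (hMb1 : ∃ m ∈ M, m b = b ∧ m ≠ 1)
    (hA : A ≤ R) (hAn : ∀ r ∈ R, ∀ x ∈ A, r * x * r⁻¹ ∈ A) (hAc : ∀ x ∈ A, ∀ y ∈ A, x * y = y * x)
    (hAt : ∀ x y, ∃ g ∈ A, g x = y) :
    Nat.card Ω = 9 ∧ Nat.card M = 16 ∧ (∀ r ∈ R, r a = a → r ∈ M) ∧
    (∀ b, b ≠ a → ∀ m ∈ M, m b = b → m ≠ 1 → ∃ e, e ≠ a ∧ e ≠ b ∧ m e = e) ∧
    (∃ g ∈ M, ∃ h ∈ M, (g * h * g⁻¹ * h⁻¹) ^ 4 = 1 ∧
      (∀ x, x ≠ a → ((g * h * g⁻¹ * h⁻¹) ^ 2) x ≠ x) ∧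
      (∀ m ∈ M, m * (g * h * g⁻¹ * h⁻¹) ^ 2 = (g * h * g⁻¹ * h⁻¹) ^ 2 * m)) := by
  have H : Hyp R M A a b := ⟨hb, hMR, hMa, hMn, hM2, hMt, hMb, hMb1, hA, hAn, hAc, hAt⟩
  exact ⟨H.nine.1, H.card_M, fun r hr hra => H.stabR hr hra,
    fun x hx k hk hkx _ => H.third hx hk hkx, H.comm4⟩

/-- **The exceptional panel.** -/
theorem exc_panel {Ω : Type u} [Finite Ω] (R M A : Subgroup (Equiv.Perm Ω)) (a b : Ω) (hb : b ≠ a)
    (_h2 : ∀ x y x' y' : Ω, x ≠ y → x' ≠ y' → ∃ g ∈ R, g x = x' ∧ g y = y')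
    (hMR : M ≤ R) (hMa : ∀ m ∈ M, m a = a)
    (hMn : ∀ r ∈ R, r a = a → ∀ m ∈ M, r * m * r⁻¹ ∈ M) (hM2 : IsPGroup 2 M)
    (hMt : ∀ x y, x ≠ a → y ≠ a → ∃ m ∈ M, m x = y)
    (hMb : ∀ m ∈ M, ∀ m' ∈ M, m b = b → m' b = b → m ≠ 1 → m' ≠ 1 → m = m')
    (hMb1 : ∃ m ∈ M, m b = b ∧ m ≠ 1)
    (hA : A ≤ R) (hAn : ∀ r ∈ R, ∀ x ∈ A, r * x * r⁻¹ ∈ A) (hAc : ∀ x ∈ A, ∀ y ∈ A, x * y = y * x)
    (hAt : ∀ x y, ∃ g ∈ A, g x = y) :
    Nat.card Ω = 9 ∧ Nat.card M = 16 ∧ (∀ r ∈ R, r a = a → r ∈ M) ∧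
    (∀ b, b ≠ a → ∀ m ∈ M, m b = b → m ≠ 1 → ∃ e, e ≠ a ∧ e ≠ b ∧ m e = e) ∧
    (∃ g ∈ M, ∃ h ∈ M, (g * h * g⁻¹ * h⁻¹) ^ 4 = 1 ∧
      ∀ x, x ≠ a → ((g * h * g⁻¹ * h⁻¹) ^ 2) x ≠ x) := by
  obtain ⟨h1, h3, h4, h5, g, hg, h, hh, h6, h7, -⟩ :=
    exc_panel' R M A a b hb _h2 hMR hMa hMn hM2 hMt hMb hMb1 hA hAn hAc hAt
  exact ⟨h1, h3, h4, h5, g, hg, h, hh, h6, h7⟩

end Cfsg.Agent.SplitTwo.ExcSD
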