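import Mathlib

/-!
S1144, [N], the exceptional panel: the transfer lemma for equivariant families of homomorphisms of the
point stabilisers onto a group of order two, and the fixed vector lemma.
-/

set_option autoImplicit false
set_option linter.unusedSectionVars false
set_option linter.style.haveILetI false

namespace Cfsg.Agent.SplitTwo.Exc

open MulAction

section transfer

variable {G C : Type*} [Group G] [MulAction G C]

/-- The transfer lemma. `χ` is an equivariant family of homomorphisms from the point stabilisers to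
`ZMod 2`, and the powers of `u` fixing a point `d` have the same value at `c` and at `d`. -/
theorem transfer_family [Finite G] [Finite C] (hG : ∀ f : G →* Multiplicative (ZMod 2), f = 1)
    (c : C) (hodd : Odd (Nat.card C)) (htr : ∀ d : C, ∃ g : G, g • c = d)
    (χ : C → G → ZMod 2)
    (hmul : ∀ g h : G, g • c = c → h • c = c → χ c (g * h) = χ c g + χ c h)
    (hconj : ∀ (k : G) (g : G), g • c = c → χ (k • c) (k * g * k⁻¹) = χ c g)
    (u : G) (hu : u • c = c)
    (agree : ∀ (k : ℕ) (d : C), (u ^ k) • d = d → χ d (u ^ k) = χ c (u ^ k)) : χ c u = 0 := by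
  classical
  let φ : stabilizer G c →* Multiplicative (ZMod 2) :=
    { toFun := fun g => Multiplicative.ofAdd (χ c (g : G))
      map_one' := by
        have h := hmul 1 1 (one_smul _ _) (one_smul _ _)
        rw [mul_one] at h
        have h2 : χ c (1 : G) = 0 := by linear_combination (-1 : ZMod 2) * h
        rw [Subgroup.coe_one, h2]
        rfl
      map_mul' := by
        intro g h
        rw [Subgroup.coe_mul, hmul _ _ g.2 h.2]
        rfl }
  have hpow : ∀ k : ℕ, χ c (u ^ k) = k • χ c u := by
    intro k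
    have h1 : φ ⟨u ^ k, Subgroup.pow_mem _ (mem_stabilizer_iff.2 hu) k⟩ =
        φ ⟨u, mem_stabilizer_iff.2 hu⟩ ^ k := by
      rw [← map_pow]
      rfl
    exact congrArg Multiplicative.toAdd h1
  haveI : (stabilizer G c).FiniteIndex := inferInstance
  letI := (stabilizer G c).fintypeQuotientOfFiniteIndex
  have h1 := hG (MonoidHom.transfer φ)
  have h2 := congrArg (fun f : G →* Multiplicative (ZMod 2) => f u) h1
  have h3 := MonoidHom.transfer_eq_prod_quotient_orbitRel_zpowers_quot φ u
  have h4 : ∀ q : Quotient (orbitRel (Subgroup.zpowers u) (G ⧸ stabilizer G c)),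
      φ ⟨q.out.out⁻¹ * u ^ Function.minimalPeriod (u • ·) q.out * q.out.out,
        QuotientGroup.out_conj_pow_minimalPeriod_mem (stabilizer G c) u q.out⟩ =
      (Multiplicative.ofAdd (χ c u)) ^ Function.minimalPeriod (u • ·) q.out := by
    intro q
    set n := Function.minimalPeriod (u • ·) q.out with hn
    set x : G := q.out.out with hx
    have hmem := QuotientGroup.out_conj_pow_minimalPeriod_mem (stabilizer G c) u q.out
    have h5 : (x⁻¹ * u ^ n * x) • c = c := hmem
    have h6 : (u ^ n) • (x • c) = x • c := by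
      rw [mul_smul, mul_smul] at h5
      have h7 := congrArg (fun y => x • y) h5
      simp only [smul_inv_smul] at h7
      exact h7
    have h8 := hconj x (x⁻¹ * u ^ n * x) h5
    have h9 : x * (x⁻¹ * u ^ n * x) * x⁻¹ = u ^ n := by group
    rw [h9, agree n _ h6, hpow n] at h8
    change Multiplicative.ofAdd (χ c (x⁻¹ * u ^ n * x)) = _
    rw [← h8]
    rfl
  rw [h3] at h2
  simp only [h4] at h2
  rw [Finset.prod_pow_eq_pow_sum] at h2
  have h5 : ∑ q : Quotient (orbitRel (Subgroup.zpowers u) (G ⧸ stabilizer G c)),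
      Function.minimalPeriod (u • ·) q.out = Nat.card C := by
    have h6 : (stabilizer G c).index = Nat.card C := by
      rw [index_stabilizer]
      have : orbit G c = Set.univ := by
        ext d
        simp only [Set.mem_univ, iff_true]
        exact htr d
      rw [this, Set.ncard_univ]
    rw [← h6, Subgroup.index_eq_card, Nat.card_eq_fintype_card,
      Fintype.card_congr (selfEquivSigmaOrbits (Subgroup.zpowers u) (G ⧸ stabilizer G c)),
      Fintype.card_sigma]
    refine Finset.sum_congr rfl fun q _ => ?_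
    rw [minimalPeriod_eq_card]
    exact Fintype.card_congr (Equiv.refl _)
  rw [h5] at h2
  obtain ⟨k, hk⟩ := hodd
  rw [hk] at h2
  have h6 : (2 * k + 1) • χ c u = 0 := by
    have := congrArg Multiplicative.toAdd h2
    simpa using this
  rw [add_smul, one_smul, mul_comm, mul_smul] at h6
  have h7 : (2 : ℕ) • χ c u = 0 := by
    rw [two_nsmul]
    exact CharTwo.add_self_eq_zero _
  rw [h7, smul_zero, zero_add] at h6
  exact h6

end transfer

/-- Fixed vectors of a 2-group in a permutation module over an elementary abelian 2-group. -/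
theorem exists_fixed_tuple {S Ω Θ : Type*} [Group S] [MulAction S Ω] [Finite Ω] [AddCommGroup Θ]
    [Finite Θ] (h2 : ∀ θ : Θ, θ + θ = 0) (hS : IsPGroup 2 S) (L : AddSubgroup (Ω → Θ))
    (hL : ∀ (s : S), ∀ f ∈ L, (fun d => f (s⁻¹ • d)) ∈ L) {f : Ω → Θ} (hf : f ∈ L) (hf0 : f ≠ 0) :
    ∃ f ∈ L, f ≠ 0 ∧ ∀ (s : S) d, f (s • d) = f d := by
  classical
  letI : MulAction S L :=
    { smul := fun s f => ⟨fun d => (f : Ω → Θ) (s⁻¹ • d), hL s f f.2⟩
      one_smul := by
        intro f
        ext d
        change (f : Ω → Θ) ((1 : S)⁻¹ • d) = _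
        rw [inv_one, one_smul]
      mul_smul := by
        intro s t f
        ext d
        change (f : Ω → Θ) ((s * t)⁻¹ • d) = (f : Ω → Θ) (t⁻¹ • s⁻¹ • d)
        rw [mul_inv_rev, mul_smul] }
  haveI : Fact (Nat.Prime 2) := ⟨Nat.prime_two⟩
  have hsm : ∀ (s : S) (f : L) (d : Ω), ((s • f : L) : Ω → Θ) d = (f : Ω → Θ) (s⁻¹ • d) :=
    fun s f d => rfl
  have hcard : 2 ∣ Nat.card L := by
    have h1 : addOrderOf (⟨f, hf⟩ : L) = 2 := by
      refine addOrderOf_eq_prime ?_ ?_
      · ext d
        change (2 • f) d = 0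
        rw [Pi.smul_apply, two_nsmul, h2]
      · intro h
        exact hf0 (congrArg Subtype.val h)
    rw [← h1]
    exact addOrderOf_dvd_natCard _
  have h0 : (0 : L) ∈ fixedPoints S L := by
    intro s
    ext d
    rfl
  obtain ⟨g, hg, hg0⟩ := hS.exists_fixed_point_of_prime_dvd_card_of_fixed_point L hcard h0
  refine ⟨g, g.2, fun h => hg0 (Subtype.ext h.symm), fun s d => ?_⟩
  have h1 := congrArg (fun f : L => (f : Ω → Θ) (s • d)) (hg s)
  simp only [hsm, inv_smul_smul] at h1
  exact h1.symm

/-- A proper subgroup of a finite 2-group lies in the kernel of a non-trivial homomorphism to a group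
of order two. -/
theorem exists_hom_of_ne_top {P : Type*} [Group P] [Finite P] (hP : IsPGroup 2 P) (H : Subgroup P)
    (hH : H ≠ ⊤) : ∃ f : P →* Multiplicative (ZMod 2), f ≠ 1 ∧ ∀ h ∈ H, f h = 1 := by
  classical
  haveI : Fact (Nat.Prime 2) := ⟨Nat.prime_two⟩
  obtain ⟨K, hK, hHK⟩ : ∃ K : Subgroup P, IsCoatom K ∧ H ≤ K := by
    rcases eq_top_or_exists_le_coatom H with h | h
    · exact absurd h hH
    · exact h
  haveI hnil : Group.IsNilpotent P := hP.isNilpotent
  haveI hn : K.Normal := by
    exact Subgroup.NormalizerCondition.normal_of_coatom K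
      Group.normalizerCondition_of_isNilpotent hK
  haveI hs : IsSimpleGroup (P ⧸ K) := by
    haveI : Nontrivial (P ⧸ K) := by
      rw [QuotientGroup.nontrivial_iff]
      exact hK.1
    refine ⟨fun N hN => ?_⟩
    have h1 : K ≤ N.comap (QuotientGroup.mk' K) := by
      intro x hx
      rw [Subgroup.mem_comap, QuotientGroup.mk'_apply, (QuotientGroup.eq_one_iff x).2 hx]
      exact one_mem _
    rcases hK.le_iff.1 h1 with h2 | h2
    · right
      rw [eq_top_iff]
      intro y _
      obtain ⟨x, rfl⟩ := QuotientGroup.mk'_surjective K y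
      have : x ∈ N.comap (QuotientGroup.mk' K) := by rw [h2]; trivial
      exact this
    · left
      rw [eq_bot_iff]
      intro y hy
      obtain ⟨x, rfl⟩ := QuotientGroup.mk'_surjective K y
      have : x ∈ N.comap (QuotientGroup.mk' K) := hy
      rw [h2] at this
      rw [Subgroup.mem_bot, QuotientGroup.mk'_apply]
      exact (QuotientGroup.eq_one_iff x).2 this
  have hq : IsPGroup 2 (P ⧸ K) := hP.to_quotient K
  have hcard : Nat.card (P ⧸ K) = 2 := by
    haveI : Nontrivial (Subgroup.center (P ⧸ K)) := hq.center_nontrivial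
    have h1 : Subgroup.center (P ⧸ K) = ⊤ := by
      rcases (inferInstance : (Subgroup.center (P ⧸ K)).Normal).eq_bot_or_eq_top with h | h
      · exact absurd h (Subgroup.nontrivial_iff_ne_bot _ |>.1 inferInstance)
      · exact h
    letI : CommGroup (P ⧸ K) := Group.commGroupOfCenterEqTop h1
    have h2 : (Nat.card (P ⧸ K)).Prime := IsSimpleGroup.prime_card
    obtain ⟨n, hn⟩ := IsPGroup.iff_card.1 hq
    rw [hn] at h2 ⊢
    have h3 : n = 1 := by
      rcases Nat.Prime.eq_one_of_pow h2 with rfl
      rfl
    rw [h3, pow_one]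
  haveI hcyc : IsCyclic (P ⧸ K) := isCyclic_of_prime_card hcard
  have e : (P ⧸ K) ≃* Multiplicative (ZMod 2) := by
    refine mulEquivOfCyclicCardEq ?_
    rw [hcard]
    simp
  refine ⟨e.toMonoidHom.comp (QuotientGroup.mk' K), ?_, ?_⟩
  · intro h
    obtain ⟨x, hx⟩ : ∃ x, x ∉ K := by
      by_contra hcon
      push Not at hcon
      exact hK.1 (eq_top_iff.2 fun x _ => hcon x)
    apply hx
    have h1 := congrArg (fun f : P →* Multiplicative (ZMod 2) => f x) h
    simp only [MonoidHom.comp_apply, MulEquiv.coe_toMonoidHom, MonoidHom.one_apply,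
      EmbeddingLike.map_eq_one_iff] at h1
    exact (QuotientGroup.eq_one_iff x).1 h1
  · intro x hx
    rw [MonoidHom.comp_apply, QuotientGroup.mk'_apply, (QuotientGroup.eq_one_iff x).2 (hHK hx),
      map_one]

end Cfsg.Agent.SplitTwo.Exc
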