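import Cfsg.Agent.SplitTwo.N168
import Cfsg.Agent.SplitTwo.ExcSD
import Cfsg.Agent.SplitTwo.ExcFam

/-!
S1144, [N], the exceptional panel: the Fitting subgroups of the chamber stabilisers, if they are 2-groups,
are a family in the sense of `Exc.Fam`.
-/

set_option autoImplicit false
set_option linter.unusedSectionVars false

namespace Cfsg.Agent.SplitTwo.N168

open Cfsg Cfsg.Agent.Tits.Core Cfsg.Agent.Tits.OppRes Cfsg.Agent.Tits.Rigid
open Cfsg.Agent.SplitTwo.Reducible Cfsg.Agent.SplitTwo.Glue MulAction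
open Cfsg.Agent.SplitTwo.Eps168 Cfsg.Agent.SplitTwo.PGroup168
open Subgroup

universe u v

section

variable {I : Type*} {M : CoxeterMatrix I} {W : Type*} [Group W] {cs : CoxeterSystem M W}
variable {C : Type u} {Δ : Bldg cs C} [F : Cox cs]
variable {G : Type v} [Group G] [Finite G] [MulAction G C] [Finite C]

/-- The panel of type `s` of `c` is exceptional: the action of `fit G c` on it is not regular. -/
def Bad (Δ : Bldg cs C) (G : Type v) [Group G] [MulAction G C] (s : I) (c : C) : Prop :=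
  ∃ b ∈ Δ.Pan s c, b ≠ c ∧ ∃ v ∈ fit G c, v • b = b ∧ ∃ x ∈ Δ.Pan s c, v • x ≠ x

/-- `exc_panel` on a panel. -/
theorem Bad.panel (hR : RankOneR.{u}) {c : C} {s : I} (H : Split Δ c (fit G c))
    (h2 : IsPGroup 2 (fit G c)) (hb : Bad Δ G s c) :
    Nat.card (Δ.Pan s c) = 9 ∧ Nat.card (img H s) = 16 ∧
    (∀ r ∈ (H.perm s).range, r ⟨c, Or.inl rfl⟩ = ⟨c, Or.inl rfl⟩ → r ∈ img H s) ∧
    (∀ b : Δ.Pan s c, b ≠ ⟨c, Or.inl rfl⟩ → ∀ m ∈ img H s, m b = b → m ≠ 1 →
      ∃ e : Δ.Pan s c, e ≠ ⟨c, Or.inl rfl⟩ ∧ e ≠ b ∧ m e = e) ∧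
    (∃ g ∈ img H s, ∃ h ∈ img H s, (g * h * g⁻¹ * h⁻¹) ^ 4 = 1 ∧
      ∀ x : Δ.Pan s c, x ≠ ⟨c, Or.inl rfl⟩ → ((g * h * g⁻¹ * h⁻¹) ^ 2) x ≠ x) := by
  obtain ⟨b, hb, hbc, v, hv, hvb, x, hx, hvx⟩ := hb
  have D := data H s
  have hb' : (⟨b, hb⟩ : Δ.Pan s c) ≠ ⟨c, Or.inl rfl⟩ := fun h => hbc (congrArg Subtype.val h)
  have hv1 : H.perm s ⟨v, H.le_panStab s hv⟩ ≠ 1 := by
    intro h
    rw [H.perm_eq_one] at h
    exact hvx (h x hx)
  have hM : IsPGroup 2 (img H s) := by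
    unfold img
    exact (h2.comap_subtype).map _
  obtain ⟨A, hA⟩ := D.aff hR hb' ⟨_, mem_img H hv, Subtype.ext hvb, hv1⟩
  exact ExcSD.exc_panel (H.perm s).range (img H s) A _ _ hb' D.two D.le D.fix D.norm hM D.trans
    (D.unique hR hb') ⟨_, mem_img H hv, Subtype.ext hvb, hv1⟩ hA.le hA.norm hA.comm hA.trans

/-- On an exceptional panel `G_c` acts as `fit G c`. -/
theorem Bad.stab (hR : RankOneR.{u}) {c : C} {s : I} (H : Split Δ c (fit G c))
    (h2 : IsPGroup 2 (fit G c)) (hb : Bad Δ G s c) {g : G} (hg : g • c = c) :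
    ∃ w ∈ fit G c, ∀ x ∈ Δ.Pan s c, (w⁻¹ * g) • x = x := by
  have hg' : g ∈ H.panStab s := by
    rw [H.mem_panStab, hg]
    exact Or.inl rfl
  obtain ⟨w, hw, hwg⟩ := (hb.panel hR H h2).2.2.1 (H.perm s ⟨g, hg'⟩) ⟨_, rfl⟩ (Subtype.ext hg)
  refine ⟨w, hw, fun x hx => ?_⟩
  have h1 := congrArg (fun σ : Equiv.Perm (Δ.Pan s c) => ((σ ⟨x, hx⟩ : Δ.Pan s c) : C)) hwg
  have h3 : (w : G) • x = g • x := h1
  rw [mul_smul, ← h3, inv_smul_smul]

theorem bad_smul (iso : ∀ (g : G) x y, Δ.δ (g • x) (g • y) = Δ.δ x y) {s : I} {c : C}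
    (hb : Bad Δ G s c) (g : G) : Bad Δ G s (g • c) := by
  obtain ⟨b, hb, hbc, v, hv, hvb, x, hx, hvx⟩ := hb
  refine ⟨g • b, smul_mem_Pan iso hb, fun h => hbc (smul_left_cancel g h), g * v * g⁻¹,
    conj_mem_fit G hv, ?_, g • x, smul_mem_Pan iso hx, fun h => hvx ?_⟩
  · rw [mul_smul, mul_smul, inv_smul_smul, hvb]
  · rw [mul_smul, mul_smul, inv_smul_smul] at h
    exact smul_left_cancel g h

theorem bad_all {s : I} {c : C} (H : Split Δ c (fit G c)) (hb : Bad Δ G s c) (d : C) :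
    Bad Δ G s d := by
  obtain ⟨g, rfl, -⟩ := H.trans c c d d (by rw [delta_self, delta_self])
  exact bad_smul H.iso hb g

/-- (A). -/
theorem walk1 (hR : RankOneR.{u}) (H : ∀ c : C, Split Δ c (fit G c)) (h2 : ∀ c : C, IsPGroup 2 (fit G c))
    {c d : C} {s : I} (hcd : Δ.δ c d = cs.simple s) {w : G} (hw : w ∈ fit G c) (hwd : w • d = d) :
    w ∈ fit G d := by
  have hd : d ∈ Δ.Pan s c := Or.inr hcd
  have hdc : d ≠ c := by
    rintro rfl
    rw [delta_self] at hcd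
    have := congrArg cs.length hcd
    rw [cs.length_one, cs.length_simple] at this
    omega
  by_cases hb : Bad Δ G s c
  · have hbd := bad_all (H c) hb d
    obtain ⟨w', hw', hk⟩ := hbd.stab hR (H d) (h2 d) hwd
    -- `D' = U_c ∩ G_d`, `D'' = U_d ∩ G_c`
    set D' : Subgroup G := fit G c ⊓ stabilizer G d with hD'
    set D'' : Subgroup G := fit G d ⊓ stabilizer G c with hD''
    have hK : kx Δ G s d = kx Δ G s c := kx_eq hd
    have hKc : kx Δ G s c ≤ stabilizer G c := kx_le s c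
    have hKd : kx Δ G s c ≤ stabilizer G d := by
      rw [← hK]
      exact kx_le s d
    have hn' : ∀ t ∈ stabilizer G c, t ∈ stabilizer G d → ∀ x ∈ D', t * x * t⁻¹ ∈ D' :=
      fun t ht ht' x hx => ⟨conj_mem G (le_normalizer_fit G c) ht hx.1,
        (stabilizer G d).mul_mem ((stabilizer G d).mul_mem ht' hx.2) ((stabilizer G d).inv_mem ht')⟩
    have hn'' : ∀ t ∈ stabilizer G c, t ∈ stabilizer G d → ∀ x ∈ D'', t * x * t⁻¹ ∈ D'' :=
      fun t ht ht' x hx => ⟨conj_mem G (le_normalizer_fit G d) ht' hx.1,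
        (stabilizer G c).mul_mem ((stabilizer G c).mul_mem ht hx.2) ((stabilizer G c).inv_mem ht)⟩
    have hpD : IsPGroup 2 (D' ⊔ D'' : Subgroup G) := by
      refine ((h2 c).to_le inf_le_left).to_sup_of_normal_left' ((h2 d).to_le inf_le_left) ?_
      intro t ht
      rw [Subgroup.mem_normalizer_iff]
      intro x
      refine ⟨fun hx => hn' t ht.2 (fit_le G d ht.1) x hx, fun hx => ?_⟩
      have := hn' t⁻¹ (inv_mem ht.2) (inv_mem (fit_le G d ht.1)) _ hx
      have e : t⁻¹ * (t * x * t⁻¹) * t⁻¹⁻¹ = x := by group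
      rwa [e] at this
    have : Fact (Nat.Prime 2) := ⟨Nat.prime_two⟩
    obtain ⟨X, hX1, hX2, hX3, hX4⟩ := exists_largest (kx Δ G s c) 2
    have hXn : ∀ g ∈ stabilizer G d, ∀ x ∈ X, g * x * g⁻¹ ∈ X := by
      have hKn := le_normalizer_kx (H c).iso s d
      rw [hK] at hKn
      intro g hg x hx
      refine hX4 (X.map (MulAut.conj g).toMonoidHom) ?_ ?_ ?_ ⟨x, hx, rfl⟩
      · rintro _ ⟨x, hx, rfl⟩
        exact conj_mem G hKn hg (hX1 hx)
      · rintro k hk _ ⟨x, hx, rfl⟩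
        refine ⟨(g⁻¹ * k * g) * x * (g⁻¹ * k * g)⁻¹, ?_, ?_⟩
        · refine hX2 _ ?_ x hx
          have := conj_mem G hKn (inv_mem hg) hk
          rwa [inv_inv] at this
        · change g * ((g⁻¹ * k * g) * x * (g⁻¹ * k * g)⁻¹) * g⁻¹ = k * (g * x * g⁻¹) * k⁻¹
          group
      · exact hX3.map _
    have hXd : X ≤ fit G d :=
      le_fit G (hX1.trans hKd) hX3.isNilpotent (le_normalizer_of G hXn)
    have hV : (D' ⊔ D'') ⊓ kx Δ G s c ≤ X := by
      refine hX4 _ inf_le_right ?_ (hpD.to_le inf_le_left)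
      intro k hk x hx
      refine ⟨?_, (kx Δ G s c).mul_mem ((kx Δ G s c).mul_mem hk hx.2) ((kx Δ G s c).inv_mem hk)⟩
      have h5 : (D' ⊔ D'').map (MulAut.conj k).toMonoidHom ≤ D' ⊔ D'' := by
        rw [Subgroup.map_sup]
        refine sup_le_sup ?_ ?_
        · rintro _ ⟨x, hx, rfl⟩
          exact hn' k (hKc hk) (hKd hk) x hx
        · rintro _ ⟨x, hx, rfl⟩
          exact hn'' k (hKc hk) (hKd hk) x hx
      exact h5 ⟨x, hx.1, rfl⟩
    have hkK : w'⁻¹ * w ∈ kx Δ G s c := by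
      rw [← hK]
      exact hk
    have hw'c : w' ∈ stabilizer G c := by
      have e : w' = w * (w'⁻¹ * w)⁻¹ := by group
      rw [e]
      exact mul_mem (fit_le G c hw) (inv_mem (hKc hkK))
    have h6 : w'⁻¹ * w ∈ fit G d := by
      refine hXd (hV ⟨?_, hkK⟩)
      exact (D' ⊔ D'').mul_mem ((D' ⊔ D'').inv_mem (mem_sup_right ⟨hw', hw'c⟩))
        (mem_sup_left ⟨hw, mem_stabilizer_iff.2 hwd⟩)
    have e : w = w' * (w'⁻¹ * w) := by group
    rw [e]
    exact mul_mem hw' h6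
  · refine mem_fit_of_mem_kx (H c).iso hd hw fun x hx => ?_
    by_contra hne
    exact hb ⟨d, hd, hdc, w, hw, hwd, x, hx, hne⟩

/-- The family of the Fitting subgroups. -/
def fam (hR : RankOneR.{u}) (H : ∀ c : C, Split Δ c (fit G c)) (h2 : ∀ c : C, IsPGroup 2 (fit G c))
    (c₀ : C) : Exc.Fam Δ G where
  iso := (H c₀).iso
  trans := (H c₀).trans
  thick := (H c₀).thick
  U := fit G
  fix := fun _ _ hu => smul_of_mem_fit G hu
  conj := fun _ _ _ hu => conj_mem_fit G hu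
  two := h2
  sphere := fun c => (H c).sphere
  walk1 := fun _ _ _ hcd _ hu hud => walk1 hR H h2 hcd hu hud
  three := by
    intro c d i hcd w hw hwd hwx
    have hd : d ∈ Δ.Pan i c := Or.inr hcd
    have hdc : d ≠ c := by
      rintro rfl
      rw [delta_self] at hcd
      have := congrArg cs.length hcd
      rw [cs.length_one, cs.length_simple] at this
      omega
    have hd' : (⟨d, hd⟩ : Δ.Pan i c) ≠ ⟨c, Or.inl rfl⟩ := fun h => hdc (congrArg Subtype.val h)
    have hne : ∀ v (hv : v ∈ fit G c), (∃ x ∈ Δ.Pan i c, v • x ≠ x) →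
        (H c).perm i ⟨v, (H c).le_panStab i hv⟩ ≠ 1 := by
      rintro v hv ⟨x, hx, hvx⟩ h
      rw [(H c).perm_eq_one] at h
      exact hvx (h x hx)
    constructor
    · obtain ⟨x, hx, hvx⟩ := hwx
      have hbad : Bad Δ G i c := ⟨d, hd, hdc, w, hw, hwd, x, hx, hvx⟩
      obtain ⟨e, he1, he2, he3⟩ := (hbad.panel hR (H c) (h2 c)).2.2.2.1 ⟨d, hd⟩ hd' _
        (mem_img (H c) hw) (Subtype.ext hwd) (hne w hw ⟨x, hx, hvx⟩)
      exact ⟨e, e.2, fun h => he1 (Subtype.ext h), fun h => he2 (Subtype.ext h),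
        congrArg Subtype.val he3⟩
    · intro v hv hvd hvx x hx
      have h1 := (data (H c) i).unique hR hd' _ (mem_img (H c) hw) _ (mem_img (H c) hv)
        (Subtype.ext hwd) (Subtype.ext hvd) (hne w hw hwx) (hne v hv hvx)
      have h3 := congrArg (fun σ : Equiv.Perm (Δ.Pan i c) => ((σ ⟨x, hx⟩ : Δ.Pan i c) : C)) h1
      have h4 : w • x = v • x := h3
      rw [mul_smul, ← h4, inv_smul_smul]

/-- The number of chambers is odd. -/
theorem odd_card {c : C} (H : Split Δ c (fit G c)) (h2 : IsPGroup 2 (fit G c)) : Odd (Nat.card C) := by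
  have : Fact (Nat.Prime 2) := ⟨Nat.prime_two⟩
  have h1 : MulAction.fixedPoints (fit G c) C = {c} := by
    ext d
    rw [MulAction.mem_fixedPoints, Set.mem_singleton_iff]
    constructor
    · intro hd
      by_contra hne
      have hne' : Δ.δ c d ≠ 1 := fun h => hne ((Δ.eq_one c d).1 h).symm
      obtain ⟨i, hi⟩ := cs.exists_rightDescent_of_ne_one hne'
      have hi' := cs.isRightDescent_iff.1 hi
      obtain ⟨y, hy1, hy2⟩ := Δ.exists_step c d i
      have hlt : cs.length (Δ.δ c y) < cs.length (Δ.δ c y * cs.simple i) := by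
        rw [hy2, mul_assoc, cs.simple_mul_simple_self, mul_one]
        omega
      have hyd : Δ.δ y d = cs.simple i := by rw [Δ.symm d y, hy1, cs.inv_simple]
      obtain ⟨z₁, z₂, hz, hz₁, hz₂⟩ := H.thick y i
      obtain ⟨z, hzd, hz'⟩ : ∃ z, z ≠ d ∧ Δ.δ y z = cs.simple i := by
        by_cases h : z₁ = d
        · exact ⟨z₂, fun h' => hz (h.trans h'.symm), hz₂⟩
        · exact ⟨z₁, h, hz₁⟩
      have h3 := Δ.step_lt c y d i hyd hlt
      have h4 := Δ.step_lt c y z i hz' hlt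
      obtain ⟨w, hw, hwd⟩ := H.sphere d z (h3.trans h4.symm)
      have h5 : w • d = d := hd ⟨w, hw⟩
      exact hzd (hwd.symm.trans h5)
    · rintro rfl ⟨w, hw⟩
      exact smul_of_mem_fit G hw
  have h3 := h2.card_modEq_card_fixedPoints C
  rw [h1, Nat.card_coe_set_eq, Set.ncard_singleton] at h3
  exact Nat.odd_iff.2 h3

end

/-- A simple group which is not of order two has no homomorphism onto `Z/2`. -/
theorem hom_eq_one {G : Type v} [Group G] [IsSimpleGroup G] (hG : ¬ Nat.card G ∣ 2)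
    (f : G →* Multiplicative (ZMod 2)) : f = 1 := by
  rcases f.normal_ker.eq_bot_or_eq_top with h | h
  · exfalso
    apply hG
    have h1 : Function.Injective f := (MonoidHom.ker_eq_bot_iff f).1 h
    have h2 := Subgroup.card_dvd_of_injective f h1
    have h3 : Nat.card (Multiplicative (ZMod 2)) = 2 := by
      rw [Nat.card_eq_fintype_card]
      rfl
    rwa [h3] at h2
  · ext g
    have : g ∈ f.ker := by rw [h]; trivial
    rw [MonoidHom.mem_ker] at this
    rw [this]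
    rfl

end Cfsg.Agent.SplitTwo.N168
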