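import Cfsg.Agent.SplitTwo.Reducible
import Cfsg.Agent.Lib.LocalCore

/-!
S1144, rank two, glue between [RED], [N] and [M].

* `fit G c` : the Fitting subgroup of the stabiliser of the chamber `c`, `oc p G c` : its `p`-core;
* `split_fit` : if `Split Δ c U` for one chamber, then `Split Δ d (fit G d)` for all chambers;
* `kx Δ G s c` : the elements fixing the panel of type `s` of `c` pointwise;
* `mem_fit_of_mem_kx` : `fit G c ⊓ kx = F(kx) = fit G d ⊓ kx` for all chambers `c`, `d` of a panel;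
* `split_of_bn` : the building of a split (B,N)-pair.
-/

set_option autoImplicit false
set_option linter.unusedSectionVars false

namespace Cfsg.Agent.SplitTwo.Glue

open Cfsg Cfsg.Agent.Tits.Core Cfsg.Agent.Tits.OppRes Cfsg.Agent.Tits.Rigid
open Cfsg.Agent.SplitTwo.Reducible MulAction
open Subgroup

universe u v

/-! ### Fitting subgroups and `p`-cores of chamber stabilisers -/

section Fit

variable (G : Type v) [Group G] {C : Type u} [MulAction G C]

/-- The Fitting subgroup of the stabiliser of `c`. -/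
def fit (c : C) : Subgroup G := (fittingSubgroup (stabilizer G c)).map (stabilizer G c).subtype

/-- The `p`-core of the stabiliser of `c`. -/
def oc (p : ℕ) (c : C) : Subgroup G := (pCore p (stabilizer G c)).map (stabilizer G c).subtype

theorem fit_le (c : C) : fit G c ≤ stabilizer G c := map_subtype_le _

theorem oc_le (p : ℕ) (c : C) : oc G p c ≤ stabilizer G c := map_subtype_le _

theorem smul_of_mem_fit {c : C} {u : G} (hu : u ∈ fit G c) : u • c = c :=
  mem_stabilizer_iff.mp (fit_le G c hu)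

theorem le_normalizer_fit (c : C) : stabilizer G c ≤ normalizer (fit G c : Set G) :=
  Lib.LocalCore.le_normalizer_map_fittingSubgroup _

theorem le_normalizer_oc (p : ℕ) (c : C) : stabilizer G c ≤ normalizer (oc G p c : Set G) :=
  Lib.LocalCore.le_normalizer_map_pCore _ _

theorem isNilpotent_fit [Finite G] (c : C) : Group.IsNilpotent (fit G c) := by
  have := Lib.Cores.fittingSubgroup_isNilpotent (G := stabilizer G c)
  exact (Lib.Cores.isNilpotent_map_equiv (stabilizer G c).subtype_injective _).mpr this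

theorem isPGroup_oc (p : ℕ) (c : C) : IsPGroup p (oc G p c) :=
  Lib.LocalCore.isPGroup_map_pCore _ _

theorem le_fit {c : C} {U : Subgroup G} (h1 : U ≤ stabilizer G c) (h2 : Group.IsNilpotent U)
    (h3 : stabilizer G c ≤ normalizer (U : Set G)) : U ≤ fit G c :=
  Lib.LocalCore.le_map_fittingSubgroup h1 h2 h3

theorem le_oc {p : ℕ} {c : C} {U : Subgroup G} (h1 : U ≤ stabilizer G c) (h2 : IsPGroup p U)
    (h3 : stabilizer G c ≤ normalizer (U : Set G)) : U ≤ oc G p c :=
  Lib.LocalCore.le_map_pCore h1 h2 h3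

theorem conj_mem {A B : Subgroup G} (h : A ≤ normalizer (B : Set G)) {a b : G} (ha : a ∈ A)
    (hb : b ∈ B) : a * b * a⁻¹ ∈ B := (mem_normalizer_iff.mp (h ha) b).mp hb

theorem le_normalizer_of {A B : Subgroup G} (h : ∀ a ∈ A, ∀ b ∈ B, a * b * a⁻¹ ∈ B) :
    A ≤ normalizer (B : Set G) := by
  intro a ha
  rw [mem_normalizer_iff]
  intro b
  refine ⟨h a ha b, fun hb => ?_⟩
  have := h a⁻¹ (inv_mem ha) _ hb
  have e : a⁻¹ * (a * b * a⁻¹) * a⁻¹⁻¹ = b := by group
  rwa [e] at this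

theorem conj_mem_stabilizer {g b : G} {c : C} : g * b * g⁻¹ ∈ stabilizer G (g • c) ↔
    b ∈ stabilizer G c := by
  rw [mem_stabilizer_iff, mem_stabilizer_iff, mul_smul, mul_smul, inv_smul_smul, smul_left_cancel_iff]

theorem conj_mem_fit [Finite G] {g u : G} {c : C} (hu : u ∈ fit G c) :
    g * u * g⁻¹ ∈ fit G (g • c) := by
  have h1 : (fit G c).map (MulAut.conj g).toMonoidHom ≤ fit G (g • c) := by
    refine le_fit G ?_ ?_ ?_
    · rintro _ ⟨x, hx, rfl⟩
      exact (conj_mem_stabilizer G).mpr (fit_le G c hx)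
    · exact (Lib.Cores.isNilpotent_map_equiv (MulAut.conj g).injective _).mpr (isNilpotent_fit G c)
    · refine le_normalizer_of G ?_
      rintro a ha _ ⟨x, hx, rfl⟩
      have e : a = g * (g⁻¹ * a * g) * g⁻¹ := by group
      have ha' : g⁻¹ * a * g ∈ stabilizer G c := by
        rw [e] at ha
        exact (conj_mem_stabilizer G).mp ha
      refine ⟨(g⁻¹ * a * g) * x * (g⁻¹ * a * g)⁻¹, conj_mem G (le_normalizer_fit G c) ha' hx, ?_⟩
      change g * ((g⁻¹ * a * g) * x * (g⁻¹ * a * g)⁻¹) * g⁻¹ = a * (g * x * g⁻¹) * a⁻¹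
      group
  exact h1 ⟨u, hu, rfl⟩

theorem conj_mem_fit_iff [Finite G] {g u : G} {c : C} :
    g * u * g⁻¹ ∈ fit G (g • c) ↔ u ∈ fit G c := by
  refine ⟨fun h => ?_, conj_mem_fit G⟩
  have := conj_mem_fit G (g := g⁻¹) h
  rw [inv_smul_smul] at this
  have e : g⁻¹ * (g * u * g⁻¹) * g⁻¹⁻¹ = u := by group
  rwa [e] at this

theorem fit_smul [Finite G] (g : G) (c : C) :
    fit G (g • c) = (fit G c).map (MulAut.conj g).toMonoidHom := by
  ext x
  constructor
  · intro hx
    refine ⟨g⁻¹ * x * g, ?_, by change g * (g⁻¹ * x * g) * g⁻¹ = x; group⟩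
    refine (conj_mem_fit_iff G (g := g)).mp ?_
    have e : g * (g⁻¹ * x * g) * g⁻¹ = x := by group
    rwa [e]
  · rintro ⟨y, hy, rfl⟩
    exact conj_mem_fit G hy

/-- Two chambers whose stabilisers normalise `K ≤ G_c ∩ G_d`: `F(G_c) ∩ K = F(K) = F(G_d) ∩ K`. -/
theorem mem_fit_of_mem [Finite G] {c d : C} {K : Subgroup G} (h1 : K ≤ stabilizer G c)
    (h3 : K ≤ stabilizer G d)
    (h4 : stabilizer G d ≤ normalizer (K : Set G)) {u : G} (hu : u ∈ fit G c) (huK : u ∈ K) :
    u ∈ fit G d := by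
  -- `F(G_c) ∩ K ≤ F(K)`
  have h5 : fit G c ⊓ K ≤ (fittingSubgroup K).map K.subtype := by
    refine Lib.LocalCore.le_map_fittingSubgroup inf_le_right ?_ ?_
    · have := isNilpotent_fit G c
      exact (Group.isNilpotent_congr (subgroupOfEquivOfLe
        (inf_le_left : fit G c ⊓ K ≤ fit G c))).mp inferInstance
    · refine le_normalizer_of G fun a ha b hb => mem_inf.mpr ⟨?_, ?_⟩
      · exact conj_mem G (le_normalizer_fit G c) (h1 ha) hb.1
      · exact mul_mem (mul_mem ha hb.2) (inv_mem ha)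
  -- `F(K) ≤ F(G_d)`
  have h6 : (fittingSubgroup K).map K.subtype ≤ fit G d := by
    refine le_fit G ((map_subtype_le _).trans h3) ?_ ?_
    · have := Lib.Cores.fittingSubgroup_isNilpotent (G := K)
      exact (Lib.Cores.isNilpotent_map_equiv K.subtype_injective _).mpr this
    · refine le_normalizer_of G ?_
      rintro a ha _ ⟨x, hx, rfl⟩
      have h7 := characteristic_iff_map_le.mp (Lib.Cores.fittingSubgroup_characteristic (G := K))
        (K.normalizerMonoidHom ⟨a, h4 ha⟩)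
      have h8 : (K.normalizerMonoidHom ⟨a, h4 ha⟩) x ∈ fittingSubgroup K := h7 ⟨x, hx, rfl⟩
      exact ⟨_, h8, rfl⟩
  exact h6 (h5 ⟨hu, huK⟩)

end Fit

/-! ### The family of all chambers -/

section Family

variable {I : Type*} {M : CoxeterMatrix I} {W : Type*} [Group W] {cs : CoxeterSystem M W}
variable {C : Type u} {Δ : Bldg cs C} [F : Cox cs] {G : Type v} [Group G] [Finite G] [MulAction G C]

omit F in
theorem split_fit {c : C} {U : Subgroup G} (H : Split Δ c U) (d : C) : Split Δ d (fit G d) := by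
  obtain ⟨g, rfl, -⟩ := H.trans c c d d (by
    rw [(Δ.eq_one c c).2 rfl, (Δ.eq_one d d).2 rfl])
  have hU : U ≤ fit G c := by
    refine le_fit G (fun u hu => mem_stabilizer_iff.mpr (H.fix u hu)) H.nilp
      (le_normalizer_of G fun a ha b hb => H.normal a (mem_stabilizer_iff.mp ha) b hb)
  refine ⟨H.iso, H.trans, H.thick, fun u hu => smul_of_mem_fit G hu, ?_, isNilpotent_fit G _, ?_⟩
  · intro b hb u hu
    exact conj_mem G (le_normalizer_fit G _) (mem_stabilizer_iff.mpr hb) hu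
  · intro x y hxy
    obtain ⟨u, hu, hux⟩ := H.sphere (g⁻¹ • x) (g⁻¹ • y) (by
      rw [← H.iso g c (g⁻¹ • x), ← H.iso g c (g⁻¹ • y), smul_inv_smul, smul_inv_smul, hxy])
    refine ⟨g * u * g⁻¹, conj_mem_fit G (hU hu), ?_⟩
    rw [mul_smul, mul_smul, hux, smul_inv_smul]

variable (Δ G) in
/-- The elements fixing the panel of type `s` of `c` pointwise. -/
def kx (s : I) (c : C) : Subgroup G where
  carrier := {g | ∀ x ∈ Δ.Pan s c, g • x = x}
  mul_mem' := by
    intro g h hg hh x hx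
    rw [mul_smul, hh x hx, hg x hx]
  one_mem' := fun x _ => one_smul G x
  inv_mem' := by
    intro g hg x hx
    rw [inv_smul_eq_iff, hg x hx]

omit [Finite G] in
theorem mem_kx {s : I} {c : C} {g : G} : g ∈ kx Δ G s c ↔ ∀ x ∈ Δ.Pan s c, g • x = x := Iff.rfl

theorem Pan_eq {s : I} {c d : C} (hd : d ∈ Δ.Pan s c) : Δ.Pan s d = Δ.Pan s c := by
  rw [Pan_eq_Res] at hd ⊢
  rw [Pan_eq_Res, Res_eq hd]

omit [Finite G] in
theorem kx_eq {s : I} {c d : C} (hd : d ∈ Δ.Pan s c) : kx Δ G s d = kx Δ G s c := by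
  ext g
  rw [mem_kx, mem_kx, Pan_eq hd]

omit [Finite G] in
theorem kx_le (s : I) (c : C) : kx Δ G s c ≤ stabilizer G c := fun _ hg =>
  mem_stabilizer_iff.mpr (hg c (Or.inl rfl))

omit [Finite G] in
theorem smul_mem_Pan (iso : ∀ (g : G) x y, Δ.δ (g • x) (g • y) = Δ.δ x y) {s : I} {c x : C} {g : G}
    (hx : x ∈ Δ.Pan s c) : g • x ∈ Δ.Pan s (g • c) := by
  rcases hx with rfl | hx
  · exact Or.inl rfl
  · exact Or.inr (by rw [iso]; exact hx)

omit [Finite G] in
theorem le_normalizer_kx (iso : ∀ (g : G) x y, Δ.δ (g • x) (g • y) = Δ.δ x y) (s : I) (c : C) :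
    stabilizer G c ≤ normalizer (kx Δ G s c : Set G) := by
  refine le_normalizer_of G fun a ha b hb x hx => ?_
  have h1 : a⁻¹ • x ∈ Δ.Pan s c := by
    have h2 := smul_mem_Pan iso (g := a⁻¹) hx
    rwa [mem_stabilizer_iff.mp (inv_mem ha)] at h2
  rw [mul_smul, mul_smul, hb _ h1, smul_inv_smul]

/-- `fit G c ⊓ K_x = fit G d ⊓ K_x` for two chambers of the panel `x`. -/
theorem mem_fit_of_mem_kx (iso : ∀ (g : G) x y, Δ.δ (g • x) (g • y) = Δ.δ x y) {s : I} {c d : C}
    (hd : d ∈ Δ.Pan s c) {u : G} (hu : u ∈ fit G c) (hk : u ∈ kx Δ G s c) : u ∈ fit G d := by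
  refine mem_fit_of_mem G (kx_le s c) ?_ ?_ hu hk
  · rw [← kx_eq hd]; exact kx_le s d
  · rw [← kx_eq hd]; exact le_normalizer_kx iso s d

/-- (REG) from the regularity on panels. -/
theorem reg (iso : ∀ (g : G) x y, Δ.δ (g • x) (g • y) = Δ.δ x y)
    (hreg : ∀ (c : C) (s : I) (b : C), b ∈ Δ.Pan s c → b ≠ c → ∀ u ∈ fit G c, u • b = b →
      ∀ x ∈ Δ.Pan s c, u • x = x)
    {c b : C} {s : I} (hb : b ∈ Δ.Pan s c) (hbc : b ≠ c) {u : G} (hu : u ∈ fit G c)
    (hub : u • b = b) : (∀ x ∈ Δ.Pan s c, u • x = x) ∧ ∀ d ∈ Δ.Pan s c, u ∈ fit G d :=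
  ⟨hreg c s b hb hbc u hu hub, fun _ hd => mem_fit_of_mem_kx iso hd hu (hreg c s b hb hbc u hu hub)⟩

end Family

/-! ### (B,N)-pairs -/

section BN

open Cfsg.Agent.LieExceptional.BNPairCore Cfsg.Agent.Tits.OfBN

/-- The building of a split (B,N)-pair (the construction inside helper866's
`Reducible.irreducible_of_split`). -/
theorem split_of_bn {G : Type u} [Group G] (P : Cfsg.BNPair G) {U : Subgroup G} (hUB : U ≤ P.B)
    (hUn : ∀ b ∈ P.B, ∀ u ∈ U, b * u * b⁻¹ ∈ U) (hUnil : Group.IsNilpotent U)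
    (hUT : U ⊔ (P.B ⊓ P.N) = P.B) {I : Type*} {M : CoxeterMatrix I} (e : I ≃ P.S)
    [hN : ((P.B ⊓ P.N).subgroupOf P.N).Normal]
    (cs : CoxeterSystem M (P.N ⧸ (P.B ⊓ P.N).subgroupOf P.N))
    (hcs : ∀ i, cs.simple i = QuotientGroup.mk (⟨(e i : G), P.subset (e i).2⟩ : P.N)) :
    Split (bldg P e cs hcs) (QuotientGroup.mk (1 : G) : G ⧸ P.B) U := by
  have hth := thick P e cs hcs
  have hmem : ∀ g : G, g • (QuotientGroup.mk (1 : G) : G ⧸ P.B) = QuotientGroup.mk 1 ↔ g ∈ P.B := by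
    intro g
    change (QuotientGroup.mk (g * 1) : G ⧸ P.B) = QuotientGroup.mk 1 ↔ g ∈ P.B
    rw [mul_one, eq_comm, QuotientGroup.eq, inv_one, one_mul]
  refine ⟨fun g x y => dist_smul P g x y, fun x y x' y' h => trans P x y x' y' h, hth, ?_, ?_,
    hUnil, ?_⟩
  · intro u hu
    exact (hmem u).2 (hUB hu)
  · intro b hb
    exact hUn b ((hmem b).1 hb)
  · intro x y hxy
    induction x using QuotientGroup.induction_on with
    | _ a =>
    induction y using QuotientGroup.induction_on with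
    | _ b =>
    rw [bldg_δ_mk, bldg_δ_mk, inv_one, one_mul, one_mul] at hxy
    obtain ⟨n, hn⟩ := exists_mem_C P a
    rw [wt_of_mem P hn] at hxy
    have hn' := mem_C_of_wt P hxy.symm
    have key : ∀ g ∈ C P (n : G), ∃ u ∈ U, (QuotientGroup.mk g : G ⧸ P.B) =
        QuotientGroup.mk (u * n) := by
      intro g hg
      obtain ⟨b₁, hb₁, b₂, hb₂, rfl⟩ := mem_C.1 hg
      rw [← hUT] at hb₁
      have hnorm : (P.B ⊓ P.N) ≤ Subgroup.normalizer (U : Set G) :=
        le_normalizer_of G fun t ht u hu => hUn t ht.1 u hu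
      rw [← SetLike.mem_coe, Subgroup.coe_mul_of_right_le_normalizer_left _ _ hnorm] at hb₁
      obtain ⟨u, hu, t, ht, rfl⟩ := hb₁
      refine ⟨u, hu, ?_⟩
      rw [eq_comm, QuotientGroup.eq]
      have h3 : (u * (n : G))⁻¹ * (u * t * (n : G) * b₂) = ((n : G)⁻¹ * t * (n : G)⁻¹⁻¹) * b₂ := by
        group
      rw [h3]
      exact mul_mem (P.conj_mem _ (inv_mem n.2) t ht) hb₂
    obtain ⟨u, hu, hu'⟩ := key a hn
    obtain ⟨w, hw, hw'⟩ := key b hn'
    refine ⟨w * u⁻¹, mul_mem hw (inv_mem hu), ?_⟩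
    rw [hu', hw']
    change (QuotientGroup.mk (w * u⁻¹ * (u * n)) : G ⧸ P.B) = QuotientGroup.mk (w * n)
    congr 1
    group

end BN

end Cfsg.Agent.SplitTwo.Glue
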