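import Cfsg.Agent.SplitTwo.SegMaps

/-!
# Moufang hexagons (S1144, `m = 6`), part [6a]

Shifted systems, `p`-group centre, the groups `Dc X i` of central elements of `X i` and the dichotomy
`Dc X 3 ≠ 1` or `Dc X 4 ≠ 1`.
-/

set_option autoImplicit false

namespace Cfsg.Agent.SplitTwo

open scoped commutatorElement Pointwise

universe u

variable {G : Type u} [Group G]

section Shift

variable {m : ℕ}

theorem seg_shift (X : ZMod (2 * m) → Subgroup G) (c i : ZMod (2 * m)) (k : ℕ) :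
    seg (fun j => X (j + c)) i k = seg X (i + c) k := by
  apply le_antisymm
  · refine seg_le fun r hr => ?_
    exact le_seg_one r hr (by ring)
  · refine seg_le fun r hr => ?_
    have := le_seg (fun j => X (j + c)) i (k := k) hr
    have e : i + c + (r : ℕ) = i + (r : ℕ) + c := by ring
    rw [e]; exact this

theorem Refl.shift {X : ZMod (2 * m) → Subgroup G} {c i : ZMod (2 * m)} {n : G} (h : Refl X (i + c) n) :
    Refl (fun j => X (j + c)) i n := by
  intro j x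
  have h1 := h (j + c) x
  have e : 2 * (i + c) + (m : ℕ) - (j + c) = 2 * i + (m : ℕ) - j + c := by ring
  rw [e] at h1
  exact h1

theorem Sys.shift {X : ZMod (2 * m) → Subgroup G} (S : Sys m X) (c : ZMod (2 * m)) :
    Sys m (fun j => X (j + c)) where
  three_le := S.three_le
  ne_bot := fun i => S.ne_bot (i + c)
  comm := by
    intro i k hk a ha b hb
    rw [seg_shift]
    have e : i + ((k + 1 : ℕ) : ZMod (2 * m)) + c = i + c + ((k + 1 : ℕ) : ZMod (2 * m)) := by ring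
    have h := S.comm (i + c) k hk a ha b (by rw [← e]; exact hb)
    have e2 : i + c + 1 = i + 1 + c := by ring
    rw [e2] at h
    exact h
  inter := by
    intro i x hx hx'
    rw [seg_shift] at hx'
    have e2 : i + 1 + c = i + c + 1 := by ring
    rw [e2] at hx'
    exact S.inter (i + c) x hx hx'
  mu := by
    intro i u hu hu1
    obtain ⟨v, w, hv, hw, hr⟩ := S.exists_isMu (i := i + c) hu hu1
    have e : i + c + (m : ℕ) = i + (m : ℕ) + c := by ring
    rw [e] at hv hw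
    exact ⟨v, hv, w, hw, hr.shift⟩

/-- `seg X i k` is a `p`-group. -/
theorem Sys.isPGroup_seg {X : ZMod (2 * m) → Subgroup G} (S : Sys m X) {p : ℕ}
    (hp : ∀ i, IsPGroup p (X i)) (i : ZMod (2 * m)) {k : ℕ} (hk : k ≤ m) : IsPGroup p (seg X i k) := by
  induction k with
  | zero =>
    rw [seg_zero]; exact IsPGroup.of_bot
  | succ k ih =>
    rw [seg_succ]
    have h1 : X (i + (k : ℕ)) ≤ Subgroup.normalizer ((seg X i k : Subgroup G) : Set G) := by
      intro b hb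
      rw [Subgroup.mem_normalizer_iff]
      intro y
      constructor
      · intro hy; exact S.conj_right i (by omega) hb hy
      · intro hy
        have := S.conj_right i (by omega) (inv_mem hb) hy
        have e : b⁻¹ * (b * y * b⁻¹) * b⁻¹⁻¹ = y := by group
        rwa [e] at this
    exact (ih (by omega)).to_sup_of_normal_left' (hp _) h1

/-- A non-trivial segment group of a finite `p`-group system has non-trivial centre. -/
theorem Sys.exists_center [Finite G] {X : ZMod (2 * m) → Subgroup G} (S : Sys m X) {p : ℕ}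
    (hpp : p.Prime) (hp : ∀ i, IsPGroup p (X i)) (i : ZMod (2 * m)) {k : ℕ} (hk : k + 1 ≤ m) :
    ∃ z ∈ seg X i (k + 1), z ≠ 1 ∧ ∀ y ∈ seg X i (k + 1), z * y = y * z := by
  haveI := Fact.mk hpp
  have h := S.isPGroup_seg hp i hk
  obtain ⟨x, hx, hx1⟩ := S.exists_ne_one i
  haveI : Nontrivial (seg X i (k + 1)) := by
    refine ⟨⟨⟨x, ?_⟩, 1, ?_⟩⟩
    · exact le_seg_one 0 (by omega) (by push_cast; ring) hx
    · intro e
      apply hx1
      exact congrArg Subtype.val e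
  haveI := h.center_nontrivial
  obtain ⟨z, hz⟩ := exists_ne (1 : Subgroup.center (seg X i (k + 1)))
  refine ⟨((z : seg X i (k + 1)) : G), (z : seg X i (k + 1)).2, ?_, ?_⟩
  · intro e
    apply hz
    apply Subtype.ext
    exact Subtype.ext e
  · intro y hy
    have h1 := Subgroup.mem_center_iff.mp z.2 ⟨y, hy⟩
    exact (congrArg Subtype.val h1).symm

end Shift

/-! ## `m = 6` -/

variable {X : ZMod (2 * 6) → Subgroup G}

/-- Elements of `X i` centralising `X (i-3), …, X (i+3)`. -/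
def Dc (X : ZMod (2 * 6) → Subgroup G) (i : ZMod (2 * 6)) : Subgroup G :=
  X i ⊓ Subgroup.centralizer (seg X (i - 3) 7 : Set G)

theorem mem_Dc {i : ZMod (2 * 6)} {x : G} : x ∈ Dc X i ↔ x ∈ X i ∧ ∀ y ∈ seg X (i - 3) 7, x * y = y * x := by
  unfold Dc
  rw [Subgroup.mem_inf, Subgroup.mem_centralizer_iff]
  constructor
  · rintro ⟨h1, h2⟩; exact ⟨h1, fun y hy => (h2 y hy).symm⟩
  · rintro ⟨h1, h2⟩; exact ⟨h1, fun y hy => (h2 y hy).symm⟩

/-- An element commuting with each `X (i + r)`, `r < k`, commutes with `seg X i k`. -/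
theorem commute_seg {m : ℕ} {X : ZMod (2 * m) → Subgroup G} {i : ZMod (2 * m)} {k : ℕ} {x : G}
    (h : ∀ r < k, ∀ y ∈ X (i + (r : ℕ)), x * y = y * x) : ∀ y ∈ seg X i k, x * y = y * x := by
  intro y hy
  have h1 : seg X i k ≤ Subgroup.centralizer {x} := by
    refine seg_le fun r hr y hy => ?_
    rw [Subgroup.mem_centralizer_iff]
    rintro z rfl
    exact h r hr y hy
  have h2 := h1 hy
  rw [Subgroup.mem_centralizer_iff] at h2
  exact h2 x rfl

/-- It is enough to centralise `X (i-3), …, X (i+2)`. -/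
theorem mem_Dc_of_left (S : Sys 6 X) {i : ZMod (2 * 6)} {x : G} (hx : x ∈ X i)
    (h : ∀ y ∈ seg X (i - 3) 6, x * y = y * x) : x ∈ Dc X i := by
  rw [mem_Dc]
  refine ⟨hx, ?_⟩
  have h1 := S.commute_opp' (s := 3) rfl (i - 3) (w := x)
    (by
      have e : i - 3 + ((3 : ℕ) : ZMod (2 * 6)) = i := by push_cast; ring
      rw [e]; exact hx)
    (fun a ha => h a (le_seg_one 0 (by norm_num) (by push_cast; ring) ha))
  apply commute_seg
  intro r hr y hy
  rcases Nat.lt_succ_iff_lt_or_eq.mp hr with hr | hr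
  · exact h y (le_seg X _ hr hy)
  · subst hr
    exact h1 y hy

/-- It is enough to centralise `X (i-2), …, X (i+3)`. -/
theorem mem_Dc_of_right (S : Sys 6 X) {i : ZMod (2 * 6)} {x : G} (hx : x ∈ X i)
    (h : ∀ y ∈ seg X (i - 2) 6, x * y = y * x) : x ∈ Dc X i := by
  rw [mem_Dc]
  refine ⟨hx, ?_⟩
  have h1 := S.commute_opp (s := 3) rfl (i - 3) (w := x)
    (by
      have e : i - 3 + ((3 : ℕ) : ZMod (2 * 6)) = i := by push_cast; ring
      rw [e]; exact hx)
    (fun a ha => h a (le_seg_one 5 (by norm_num) (by push_cast; ring) ha))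
  apply commute_seg
  intro r hr y hy
  rcases Nat.eq_zero_or_pos r with h0 | h0
  · subst h0
    apply h1
    have e : i - 3 + ((0 : ℕ) : ZMod (2 * 6)) = i - 3 := by push_cast; ring
    rwa [e] at hy
  · obtain ⟨s, rfl⟩ : ∃ s, r = s + 1 := ⟨r - 1, by omega⟩
    refine h y (le_seg_one s (by omega) ?_ hy)
    push_cast; ring

theorem Dc_refl {k j : ZMod (2 * 6)} {n x : G} (hr : Refl X k n) (hx : x ∈ Dc X j) :
    n * x * n⁻¹ ∈ Dc X (2 * k + (6 : ℕ) - j) := by
  rw [mem_Dc] at hx ⊢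
  refine ⟨hr.mem hx.1, ?_⟩
  intro y hy
  have h1 : n⁻¹ * y * n ∈ seg X (j - 3) 7 := by
    refine hr.seg_mem' ?_ hy
    push_cast; ring
  have h2 := hx.2 _ h1
  calc n * x * n⁻¹ * y = n * (x * (n⁻¹ * y * n)) * n⁻¹ := by group
    _ = n * ((n⁻¹ * y * n) * x) * n⁻¹ := by rw [h2]
    _ = y * (n * x * n⁻¹) := by group

theorem Dc_refl' {k j : ZMod (2 * 6)} {n x : G} (hr : Refl X k n) (hx : x ∈ Dc X j) :
    n⁻¹ * x * n ∈ Dc X (2 * k + (6 : ℕ) - j) := by
  have := Dc_refl hr.inv hx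
  rwa [inv_inv] at this

/-- `Z(X 1 ⋯ X 6) ≤ X 3 X 4` (any base point). -/
theorem center_six (S : Sys 6 X) (i : ZMod (2 * 6)) {z : G} (hz : z ∈ seg X i 6)
    (hc : ∀ y ∈ seg X i 6, z * y = y * z) : z ∈ seg X (i + 2) 2 := by
  obtain ⟨a, ha, ha1⟩ := S.exists_ne_one i
  obtain ⟨b, hb, hb1⟩ := S.exists_ne_one (i + ((6 - 1 : ℕ) : ZMod (2 * 6)))
  have h1 := S.mem_of_commute i (l := 4) (by norm_num) ha ha1
    (hc a (le_seg_one 0 (by norm_num) (by push_cast; ring) ha)).symm (k := 6) le_rfl hz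
  have h2 := S.mem_of_commute' i (l := 4) (by norm_num) (by norm_num) hb hb1
    (hc b (le_seg_one 5 (by norm_num) rfl hb)).symm hz
  exact S.seg_inter i 2 2 2 (by norm_num) h1 h2

/-- `Z(X i ⋯ X (i+4)) ≤ X (i+1) X (i+2) X (i+3)`. -/
theorem center_five (S : Sys 6 X) (i : ZMod (2 * 6)) {z : G} (hz : z ∈ seg X i 5)
    (hc : ∀ y ∈ seg X i 5, z * y = y * z) : z ∈ seg X (i + 1) 3 := by
  obtain ⟨a, ha, ha1⟩ := S.exists_ne_one i
  obtain ⟨b, hb, hb1⟩ := S.exists_ne_one (i - 1 + ((6 - 1 : ℕ) : ZMod (2 * 6)))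
  have h1 := S.mem_of_commute i (l := 4) (by norm_num) ha ha1
    (hc a (le_seg_one 0 (by norm_num) (by push_cast; ring) ha)).symm (k := 5) (by norm_num) hz
  have h2 := S.mem_of_commute' (i - 1) (l := 4) (by norm_num) (by norm_num) hb hb1
    (hc b (le_seg_one 4 (by norm_num) (by push_cast; ring) hb)).symm
    (seg_le_seg 1 (by norm_num) (by push_cast; ring) hz)
  have e : i - 1 + ((6 - 4 : ℕ) : ZMod (2 * 6)) = i + ((1 : ℕ) : ZMod (2 * 6)) := by push_cast; ring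
  rw [e] at h2
  have h3 := S.seg_inter i 1 3 1 (by norm_num) h1 h2
  have e2 : i + ((1 : ℕ) : ZMod (2 * 6)) = i + 1 := by push_cast; ring
  rw [e2] at h3
  exact h3

/-- **Dichotomy.** -/
theorem exists_Dc (S : Sys 6 X)
    (hZ : ∃ z ∈ seg X 1 6, z ≠ 1 ∧ ∀ y ∈ seg X 1 6, z * y = y * z) :
    (∃ x ∈ Dc X 3, x ≠ 1) ∨ (∃ x ∈ Dc X 4, x ≠ 1) := by
  by_contra hcon
  push Not at hcon
  obtain ⟨h3, h4⟩ := hcon
  obtain ⟨z, hz, hz1, hzc⟩ := hZ
  have hz34 := center_six S 1 hz hzc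
  have i3 : (1 : ZMod (2 * 6)) + 2 = 3 := by decide
  rw [i3] at hz34
  obtain ⟨z3, hz3, z4, hz4, hzz⟩ := (S.mem_seg_succ_left 3 (k := 1) (by norm_num)).mp hz34
  rw [seg_one] at hz4
  have i4 : (3 : ZMod (2 * 6)) + 1 = 4 := by decide
  rw [i4] at hz4
  have hz31 : z3 ≠ 1 := by
    rintro rfl
    rw [one_mul] at hzz
    subst hzz
    apply hz1
    apply h4
    refine mem_Dc_of_left S hz4 ?_
    have e : (4 : ZMod (2 * 6)) - 3 = 1 := by decide
    rw [e]; exact hzc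
  have hz41 : z4 ≠ 1 := by
    rintro rfl
    rw [mul_one] at hzz
    subst hzz
    apply hz1
    apply h3
    refine mem_Dc_of_right S hz3 ?_
    have e : (3 : ZMod (2 * 6)) - 2 = 1 := by decide
    rw [e]; exact hzc
  -- `n1` reflects `j ↦ 8 - j`, `n6` reflects `j ↦ 6 - j`
  obtain ⟨a, ha, ha1⟩ := S.exists_ne_one 1
  obtain ⟨b, hb, hb1⟩ := S.exists_ne_one 6
  have hr1 := S.refl ha ha1
  have hr6 := S.refl hb hb1
  set n1 := muMap X 1 a
  set n6 := muMap X 6 b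
  -- `y`
  obtain ⟨y5, hy5d⟩ : ∃ y5, y5 = n1 * z3 * n1⁻¹ := ⟨_, rfl⟩
  obtain ⟨y4, hy4d⟩ : ∃ y4, y4 = n1 * z4 * n1⁻¹ := ⟨_, rfl⟩
  have hy5 : y5 ∈ X 5 := by
    have := hr1.mem hz3
    have e : 2 * (1 : ZMod (2 * 6)) + ((6 : ℕ) : ZMod (2 * 6)) - 3 = 5 := by decide
    rw [e] at this
    rw [hy5d]; exact this
  have hy4 : y4 ∈ X 4 := by
    have := hr1.mem hz4
    have e : 2 * (1 : ZMod (2 * 6)) + ((6 : ℕ) : ZMod (2 * 6)) - 4 = 4 := by decide
    rw [e] at this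
    rw [hy4d]; exact this
  have hy51 : y5 ≠ 1 := by
    intro e
    apply hz31
    rw [hy5d] at e
    have : z3 = n1⁻¹ * (n1 * z3 * n1⁻¹) * n1 := by group
    rw [this, e]; group
  obtain ⟨y, hyd⟩ : ∃ y, y = y5 * y4 := ⟨_, rfl⟩
  have hyz : y = n1 * z * n1⁻¹ := by rw [hyd, hy5d, hy4d, ← hzz]; group
  have hyc : ∀ t ∈ seg X 2 5, y * t = t * y := by
    intro t ht
    have h1 : n1⁻¹ * t * n1 ∈ seg X 2 5 := hr1.seg_mem' (by decide) ht
    have h2 := hzc _ (seg_le_seg 1 (by norm_num) (by decide) h1)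
    rw [hyz]
    calc n1 * z * n1⁻¹ * t = n1 * (z * (n1⁻¹ * t * n1)) * n1⁻¹ := by group
      _ = n1 * ((n1⁻¹ * t * n1) * z) * n1⁻¹ := by rw [h2]
      _ = t * (n1 * z * n1⁻¹) := by group
  -- `x`
  obtain ⟨x1, hx1d⟩ : ∃ x1, x1 = n6 * y5 * n6⁻¹ := ⟨_, rfl⟩
  obtain ⟨x2, hx2d⟩ : ∃ x2, x2 = n6 * y4 * n6⁻¹ := ⟨_, rfl⟩
  have hx1 : x1 ∈ X 1 := by
    have := hr6.mem hy5
    have e : 2 * (6 : ZMod (2 * 6)) + ((6 : ℕ) : ZMod (2 * 6)) - 5 = 1 := by decide
    rw [e] at this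
    rw [hx1d]; exact this
  have hx2 : x2 ∈ X 2 := by
    have := hr6.mem hy4
    have e : 2 * (6 : ZMod (2 * 6)) + ((6 : ℕ) : ZMod (2 * 6)) - 4 = 2 := by decide
    rw [e] at this
    rw [hx2d]; exact this
  have hx11 : x1 ≠ 1 := by
    intro e
    apply hy51
    rw [hx1d] at e
    have : y5 = n6⁻¹ * (n6 * y5 * n6⁻¹) * n6 := by group
    rw [this, e]; group
  obtain ⟨x, hxd⟩ : ∃ x, x = x1 * x2 := ⟨_, rfl⟩
  have hxy : x = n6 * y * n6⁻¹ := by rw [hxd, hx1d, hx2d, hyd]; group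
  have hxc : ∀ t ∈ seg X 0 5, x * t = t * x := by
    intro t ht
    have h1 : n6⁻¹ * t * n6 ∈ seg X 2 5 := hr6.seg_mem' (by decide) ht
    have h2 := hyc _ h1
    rw [hxy]
    calc n6 * y * n6⁻¹ * t = n6 * (y * (n6⁻¹ * t * n6)) * n6⁻¹ := by group
      _ = n6 * ((n6⁻¹ * t * n6) * y) * n6⁻¹ := by rw [h2]
      _ = t * (n6 * y * n6⁻¹) := by group
  -- memberships
  have hx1' : x1 ∈ seg X 0 5 := le_seg_one 1 (by norm_num) (by decide) hx1
  have hx2' : x2 ∈ seg X 0 5 := le_seg_one 2 (by norm_num) (by decide) hx2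
  have hx0 : x ∈ seg X 0 5 := by rw [hxd]; exact mul_mem hx1' hx2'
  have hy5' : y5 ∈ seg X 2 5 := le_seg_one 3 (by norm_num) (by decide) hy5
  have hy4' : y4 ∈ seg X 2 5 := le_seg_one 2 (by norm_num) (by decide) hy4
  have hy0 : y ∈ seg X 2 5 := by rw [hyd]; exact mul_mem hy5' hy4'
  -- `x` normalises `seg X 2 5`, `y` normalises `seg X 0 5`
  have hxn : ∀ t ∈ seg X 2 5, x * t * x⁻¹ ∈ seg X 2 5 := by
    intro t ht
    have h1 : x2 * t * x2⁻¹ ∈ seg X 2 5 := by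
      have h2 : x2 ∈ seg X 2 5 := le_seg_one 0 (by norm_num) (by decide) hx2
      exact mul_mem (mul_mem h2 ht) (inv_mem h2)
    have h2 := S.conj_left 1 (k := 5) (by norm_num) hx1 (x := x2 * t * x2⁻¹)
      (by
        have e : (1 : ZMod (2 * 6)) + 1 = 2 := by decide
        rw [e]; exact h1)
    have e : (1 : ZMod (2 * 6)) + 1 = 2 := by decide
    rw [e] at h2
    have e2 : x * t * x⁻¹ = x1 * (x2 * t * x2⁻¹) * x1⁻¹ := by rw [hxd]; group
    rw [e2]; exact h2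
  have hyn : ∀ t ∈ seg X 0 5, y * t * y⁻¹ ∈ seg X 0 5 := by
    intro t ht
    have h1 : y4 * t * y4⁻¹ ∈ seg X 0 5 := by
      have h2 : y4 ∈ seg X 0 5 := le_seg_one 4 (by norm_num) (by decide) hy4
      exact mul_mem (mul_mem h2 ht) (inv_mem h2)
    have h2 := S.conj_right 0 (k := 5) (by norm_num) (b := y5)
      (by
        have e : (0 : ZMod (2 * 6)) + ((5 : ℕ) : ZMod (2 * 6)) = 5 := by decide
        rw [e]; exact hy5) h1
    have e2 : y * t * y⁻¹ = y5 * (y4 * t * y4⁻¹) * y5⁻¹ := by rw [hyd]; group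
    rw [e2]; exact h2
  -- inverses normalise too (finite index free: use conjugate commutation)
  obtain ⟨c, hcd⟩ : ∃ c, c = x * y * x⁻¹ * y⁻¹ := ⟨_, rfl⟩
  have hc2 : c ∈ seg X 2 5 := by rw [hcd]; exact mul_mem (hxn y hy0) (inv_mem hy0)
  have hc0 : c ∈ seg X 0 5 := by
    have e : c = x * (y * x⁻¹ * y⁻¹) := by rw [hcd]; group
    rw [e]; exact mul_mem hx0 (hyn _ (inv_mem hx0))
  -- `c` commutes with `seg X 2 5`
  have hxinv : ∀ t ∈ seg X 2 5, x⁻¹ * t * x ∈ seg X 2 5 := by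
    intro t ht
    have h1 : x1⁻¹ * t * x1 ∈ seg X 2 5 := by
      have h2 := S.conj_left 1 (k := 5) (by norm_num) (inv_mem hx1) (x := t)
        (by
          have e : (1 : ZMod (2 * 6)) + 1 = 2 := by decide
          rw [e]; exact ht)
      have e : (1 : ZMod (2 * 6)) + 1 = 2 := by decide
      rw [e, inv_inv] at h2
      exact h2
    have h2 : x2 ∈ seg X 2 5 := le_seg_one 0 (by norm_num) (by decide) hx2
    have e2 : x⁻¹ * t * x = x2⁻¹ * (x1⁻¹ * t * x1) * x2 := by rw [hxd]; group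
    rw [e2]; exact mul_mem (mul_mem (inv_mem h2) h1) h2
  have hyinv : ∀ t ∈ seg X 0 5, y⁻¹ * t * y ∈ seg X 0 5 := by
    intro t ht
    have h1 : y5⁻¹ * t * y5 ∈ seg X 0 5 := by
      have h2 := S.conj_right 0 (k := 5) (by norm_num) (b := y5⁻¹)
        (by
          have e : (0 : ZMod (2 * 6)) + ((5 : ℕ) : ZMod (2 * 6)) = 5 := by decide
          rw [e]; exact inv_mem hy5) ht
      rwa [inv_inv] at h2
    have h2 : y4 ∈ seg X 0 5 := le_seg_one 4 (by norm_num) (by decide) hy4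
    have e2 : y⁻¹ * t * y = y4⁻¹ * (y5⁻¹ * t * y5) * y4 := by rw [hyd]; group
    rw [e2]; exact mul_mem (mul_mem (inv_mem h2) h1) h2
  have hcc2 : ∀ t ∈ seg X 2 5, c * t = t * c := by
    intro t ht
    have h1 := hyc _ (hxinv t ht)
    have h2 := hyc t ht
    have h3 : y⁻¹ * t = t * y⁻¹ := by
      calc y⁻¹ * t = y⁻¹ * (t * y) * y⁻¹ := by group
        _ = y⁻¹ * (y * t) * y⁻¹ := by rw [h2]
        _ = t * y⁻¹ := by group
    rw [hcd]
    calc x * y * x⁻¹ * y⁻¹ * t = x * y * x⁻¹ * (y⁻¹ * t) := by group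
      _ = x * y * x⁻¹ * (t * y⁻¹) := by rw [h3]
      _ = x * (y * (x⁻¹ * t * x)) * x⁻¹ * y⁻¹ := by group
      _ = x * ((x⁻¹ * t * x) * y) * x⁻¹ * y⁻¹ := by rw [h1]
      _ = t * (x * y * x⁻¹ * y⁻¹) := by group
  have hcc0 : ∀ t ∈ seg X 0 5, c * t = t * c := by
    intro t ht
    have h1 := hxc _ (hyinv t ht)
    have h2 := hxc t ht
    have h3 : x⁻¹ * (y⁻¹ * t * y) = (y⁻¹ * t * y) * x⁻¹ := by
      calc x⁻¹ * (y⁻¹ * t * y) = x⁻¹ * ((y⁻¹ * t * y) * x) * x⁻¹ := by group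
        _ = x⁻¹ * (x * (y⁻¹ * t * y)) * x⁻¹ := by rw [h1]
        _ = (y⁻¹ * t * y) * x⁻¹ := by group
    rw [hcd]
    calc x * y * x⁻¹ * y⁻¹ * t = x * y * (x⁻¹ * (y⁻¹ * t * y)) * y⁻¹ := by group
      _ = x * y * ((y⁻¹ * t * y) * x⁻¹) * y⁻¹ := by rw [h3]
      _ = (x * t) * y * x⁻¹ * y⁻¹ := by group
      _ = (t * x) * y * x⁻¹ * y⁻¹ := by rw [h2]
      _ = t * (x * y * x⁻¹ * y⁻¹) := by group
  -- `c ∈ X 3`
  have hc3 : c ∈ X 3 := by
    have h1 := center_five S 2 hc2 hcc2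
    have h2 := center_five S 0 hc0 hcc0
    have e1 : (2 : ZMod (2 * 6)) + 1 = 3 := by decide
    have e2 : (0 : ZMod (2 * 6)) + 1 = 1 := by decide
    rw [e1] at h1
    rw [e2] at h2
    have h5 := S.seg_inter 1 2 1 2 (by norm_num) (x := c) h2
      (by
        have e : (1 : ZMod (2 * 6)) + ((2 : ℕ) : ZMod (2 * 6)) = 3 := by decide
        rw [e]; exact h1)
    have e : (1 : ZMod (2 * 6)) + ((2 : ℕ) : ZMod (2 * 6)) = 3 := by decide
    rw [e, seg_one] at h5
    exact h5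
  have hc1 : c = 1 := by
    apply h3
    rw [mem_Dc]
    refine ⟨hc3, commute_seg ?_⟩
    intro r hr t ht
    have e : (3 : ZMod (2 * 6)) - 3 = 0 := by decide
    rw [e, zero_add] at ht
    by_cases hr5 : r < 5
    · exact hcc0 t (le_seg_one r hr5 (by ring) ht)
    · have : r = 5 ∨ r = 6 := by omega
      rcases this with h | h
      · subst h
        exact hcc2 t (le_seg_one 3 (by norm_num) (by decide) ht)
      · subst h
        exact hcc2 t (le_seg_one 4 (by norm_num) (by decide) ht)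
  -- `x` commutes with `y5`
  have hxycomm : x * y = y * x := by
    have e : x * y = c * (y * x) := by rw [hcd]; group
    rw [e, hc1, one_mul]
  have hxy5 : y5 * x = x * y5 := by
    have h1 := hxc y4 (le_seg_one 4 (by norm_num) (by decide) hy4)
    have e : y5 = y * y4⁻¹ := by rw [hyd]; group
    have h2 : y4⁻¹ * x = x * y4⁻¹ := by
      calc y4⁻¹ * x = y4⁻¹ * (x * y4) * y4⁻¹ := by group
        _ = y4⁻¹ * (y4 * x) * y4⁻¹ := by rw [h1]
        _ = x * y4⁻¹ := by group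
    rw [e]
    calc y * y4⁻¹ * x = y * (y4⁻¹ * x) := by group
      _ = (y * x) * y4⁻¹ := by rw [h2]; group
      _ = x * (y * y4⁻¹) := by rw [← hxycomm]; group
  have hfin := S.mem_of_commute' 0 (l := 4) (by norm_num) (by norm_num) (h := y5) (z := x)
    (by
      have e : (0 : ZMod (2 * 6)) + ((6 - 1 : ℕ) : ZMod (2 * 6)) = 5 := by decide
      rw [e]; exact hy5) hy51 hxy5 (seg_mono X _ (by norm_num) hx0)
  have e6 : (0 : ZMod (2 * 6)) + ((6 - 4 : ℕ) : ZMod (2 * 6)) = 2 := by decide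
  rw [e6] at hfin
  apply hx11
  refine S.inter_left 1 (k := 4) (by norm_num) hx1 ?_
  have e7 : (1 : ZMod (2 * 6)) + 1 = 2 := by decide
  rw [e7]
  have e8 : x1 = x * x2⁻¹ := by rw [hxd]; group
  rw [e8]
  exact mul_mem hfin (inv_mem (le_seg_one 0 (by norm_num) (by decide) hx2))

/-- After a shift by `1` if necessary, `Dc X 4 ≠ 1`. -/
theorem exists_Dc_four [Finite G] (R : RootSys 6 G) :
    (∃ x ∈ Dc R.X 4, x ≠ 1) ∨ (∃ x ∈ Dc (fun i => R.X (i + 1)) 4, x ≠ 1) := by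
  have S := R.toSys
  rcases exists_Dc S (S.exists_center R.prime R.isPGroup 1 (k := 5) (by norm_num)) with ⟨x, hx, hx1⟩ | h
  · right
    -- `x ∈ Dc X 3 = Dc X' 2`, reflect by `X' 0`
    have S' := S.shift 1
    have hx' : x ∈ Dc (fun i => R.X (i + 1)) 2 := by
      rw [mem_Dc] at hx ⊢
      have e1 : (2 : ZMod (2 * 6)) + 1 = 3 := by decide
      refine ⟨by rw [e1]; exact hx.1, ?_⟩
      intro y hy
      rw [seg_shift] at hy
      have e2 : (2 : ZMod (2 * 6)) - 3 + 1 = 3 - 3 := by decide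
      rw [e2] at hy
      exact hx.2 y hy
    obtain ⟨b, hb, hb1⟩ := S'.exists_ne_one 0
    have hr := S'.refl hb hb1
    have h2 := Dc_refl hr hx'
    have e3 : 2 * (0 : ZMod (2 * 6)) + ((6 : ℕ) : ZMod (2 * 6)) - 2 = 4 := by decide
    rw [e3] at h2
    refine ⟨_, h2, ?_⟩
    intro e
    apply hx1
    have e4 : x = (muMap (fun i => R.X (i + 1)) 0 b)⁻¹ *
        (muMap (fun i => R.X (i + 1)) 0 b * x * (muMap (fun i => R.X (i + 1)) 0 b)⁻¹) *
          muMap (fun i => R.X (i + 1)) 0 b := by group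
    rw [e4, e]; group
  · exact Or.inl h

end Cfsg.Agent.SplitTwo
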