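import Mathlib

/-!
# Anisotropic cubic norm structures (S1144, m = 6)

`CubicNorm F J`: base point `e`, norm `N`, adjoint `sh` (`a#`), `cr` (`a × b`), trace form `T`.
-/

set_option autoImplicit false

namespace Cfsg.Agent.SplitTwo

/-- An anisotropic cubic norm structure with base point. -/
structure CubicNorm (F J : Type*) [Field F] [AddCommGroup J] [Module F J] where
  e : J
  N : J → F
  sh : J → J
  cr : J → J → J
  T : J → J → F
  T_comm : ∀ a b, T a b = T b a
  T_add : ∀ a b c, T (a + b) c = T a c + T b c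
  T_smul : ∀ (t : F) a b, T (t • a) b = t * T a b
  cr_comm : ∀ a b, cr a b = cr b a
  cr_add : ∀ a b c, cr (a + b) c = cr a c + cr b c
  cr_smul : ∀ (t : F) a b, cr (t • a) b = t • cr a b
  sh_add : ∀ a b, sh (a + b) = sh a + sh b + cr a b
  sh_smul : ∀ (t : F) a, sh (t • a) = t ^ 2 • sh a
  N_add : ∀ a b, N (a + b) = N a + N b + T b (sh a) + T a (sh b)
  N_smul : ∀ (t : F) a, N (t • a) = t ^ 3 * N a
  N_ne : ∀ a, a ≠ 0 → N a ≠ 0
  T_cr : ∀ a b c, T a (cr b c) = T c (cr a b)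
  sh_sh : ∀ a, sh (sh a) = N a • a
  N_sh : ∀ a, N (sh a) = N a ^ 2
  N_e : N e = 1
  sh_e : sh e = e
  base : ∀ b, T b e • e - cr e b = b

end Cfsg.Agent.SplitTwo
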