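import Mathlib
import Cfsg.Agent.SplitTwo.QuadBase
import Cfsg.Agent.SplitTwo.HexCubicDef

/-!
# Coordinates of a finite Moufang hexagon and the cubic norm structure (S1144, m = 6)
-/

set_option autoImplicit false

namespace Cfsg.Agent.SplitTwo.HexCo

open Cfsg.Agent.SplitTwo.QuadBase

variable {G : Type*} [Group G]

theorem κ_mul_left (u v w : G) : κ (u * v) w = v⁻¹ * κ u w * v * κ v w := by
  unfold κ; group

theorem κ_mul_right (u v w : G) : κ u (v * w) = κ u v * (v * κ u w * v⁻¹) := by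
  unfold κ; group

theorem mul_eq_of_κ {u v k : G} (h : κ u v = k) : v * u = u * k * v := by
  rw [← h]; unfold κ; group

theorem conj_of_κ {u v k : G} (h : κ u v = k) : u⁻¹ * v * u = k * v := by
  rw [← h]; unfold κ; group

theorem κ_swap (u v : G) : κ v u = (κ u⁻¹ v⁻¹)⁻¹ := (κ_inv_inv u v).symm

/-- Coordinates for the six positive root groups of a Moufang hexagon, before the cubic
norm structure is recognised. -/
structure Co (U1 U2 U3 U4 U5 U6 : Subgroup G) (F J : Type*) [Field F] [AddCommGroup J]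
    [Module F J] where
  x1 : J → G
  x3 : J → G
  x5 : J → G
  x2 : F → G
  x4 : F → G
  x6 : F → G
  mem1 : ∀ a, x1 a ∈ U1
  mem2 : ∀ a, x2 a ∈ U2
  mem3 : ∀ a, x3 a ∈ U3
  mem4 : ∀ a, x4 a ∈ U4
  mem5 : ∀ a, x5 a ∈ U5
  mem6 : ∀ a, x6 a ∈ U6
  surj1 : ∀ g ∈ U1, ∃ a, x1 a = g
  surj2 : ∀ g ∈ U2, ∃ a, x2 a = g
  surj3 : ∀ g ∈ U3, ∃ a, x3 a = g
  surj4 : ∀ g ∈ U4, ∃ a, x4 a = g
  surj5 : ∀ g ∈ U5, ∃ a, x5 a = g
  surj6 : ∀ g ∈ U6, ∃ a, x6 a = g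
  add1 : ∀ a b, x1 (a + b) = x1 a * x1 b
  add2 : ∀ a b, x2 (a + b) = x2 a * x2 b
  add3 : ∀ a b, x3 (a + b) = x3 a * x3 b
  add4 : ∀ a b, x4 (a + b) = x4 a * x4 b
  add5 : ∀ a b, x5 (a + b) = x5 a * x5 b
  add6 : ∀ a b, x6 (a + b) = x6 a * x6 b
  c12 : ∀ a b, Commute (x1 a) (x2 b)
  c14 : ∀ a b, Commute (x1 a) (x4 b)
  c23 : ∀ a b, Commute (x2 a) (x3 b)
  c24 : ∀ a b, Commute (x2 a) (x4 b)
  c25 : ∀ a b, Commute (x2 a) (x5 b)
  c34 : ∀ a b, Commute (x3 a) (x4 b)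
  c36 : ∀ a b, Commute (x3 a) (x6 b)
  c45 : ∀ a b, Commute (x4 a) (x5 b)
  c46 : ∀ a b, Commute (x4 a) (x6 b)
  c56 : ∀ a b, Commute (x5 a) (x6 b)
  inj1 : ∀ a, x1 a = 1 → a = 0
  inj : ∀ t c r b s t' c' r' b' s',
    x2 t * x3 c * x4 r * x5 b * x6 s = x2 t' * x3 c' * x4 r' * x5 b' * x6 s' →
      t = t' ∧ c = c' ∧ r = r' ∧ b = b' ∧ s = s'
  T : J → J → F
  S : J → J → F
  P : J → J → F
  Q : J → J → F
  M : J → J → J
  N : J → F
  B : J → F → J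
  R : J → F → F
  k13 : ∀ a c, κ (x1 a) (x3 c) = x2 (-T a c)
  k35 : ∀ c b, κ (x3 c) (x5 b) = x4 (-S c b)
  k26 : ∀ t u, κ (x2 t) (x6 u) = x4 (-(t * u))
  k15 : ∀ a b, κ (x1 a) (x5 b) = x2 (P a b) * x3 (-M a b) * x4 (Q a b)
  k16 : ∀ a t, κ (x1 a) (x6 t) = x2 (t * N a) * x3 (-B a t) * x4 (R a t) * x5 (t • a)
  N_zero : N 0 = 0
  N_ne : ∀ a, a ≠ 0 → N a ≠ 0
  /-- base point -/
  e : J
  e_ne : e ≠ 0
  N_e : N e = 1
  /-- `μ (x6 1)` -/
  n : G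
  n1 : ∀ a, n * x1 a * n⁻¹ = x5 a
  n5 : ∀ a, n * x5 a * n⁻¹ = x1 (-a)
  n3 : ∀ a, n * x3 a * n⁻¹ = x3 a
  n2 : ∀ a, n * x2 a * n⁻¹ = x4 (-a)
  n4 : ∀ a, n * x4 a * n⁻¹ = x2 a
  /-- `μ (x1 e)` -/
  w : G
  w5 : ∀ a, w⁻¹ * x5 a * w = x3 a
  w3 : ∀ a, w⁻¹ * x3 a * w = x5 (-a)
  w6 : ∀ a, w⁻¹ * x6 a * w = x2 a
  w2 : ∀ a, w⁻¹ * x2 a * w = x6 (-a)
  w4 : ∀ a, w⁻¹ * x4 a * w = x4 a
  /-- `λ (x1 a) = w⁻¹ x1 (l a) w` -/
  l : J → J
  m : J → G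
  m_e : m e = w
  m_def : ∀ a, a ≠ 0 → m a = (w⁻¹ * x1 (-l (-a)) * w) * x1 a * (w⁻¹ * x1 (l a) * w)
  m5 : ∀ a, a ≠ 0 → ∀ b, ∃ c, (m a)⁻¹ * x5 b * m a = x3 c
  m3 : ∀ a, a ≠ 0 → ∀ c, ∃ b, (m a)⁻¹ * x3 c * m a = x5 b
  sp : l (-e) = -l e → l e = e
  shift : ∀ a, a ≠ 0 → ∀ t, κ (x2 (t * N a)) (w⁻¹ * x1 (l a) * w) =
    x3 (-B a t) * x4 (R a t) * x5 (t • a) * x6 t
  shift' : ∀ t, t ≠ 0 → ∀ a, κ (n * x6 t⁻¹ * n⁻¹) (x5 (t • a)) =
    x1 a * x2 (t * N a) * x3 (-B a t) * x4 (R a t)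
  torus : ∀ u : F, u ≠ 0 → ∃ h : G, (∀ a, h * x1 a * h⁻¹ = x1 (u • a)) ∧
    (∀ t, h * x2 t * h⁻¹ = x2 (u * t)) ∧ (∀ c, h * x3 c * h⁻¹ = x3 c) ∧
    (∀ r, ∃ r', h * x4 r * h⁻¹ = x4 r') ∧ (∀ b, ∃ b', h * x5 b * h⁻¹ = x5 b') ∧
    ∀ t, h * x6 t * h⁻¹ = x6 (u⁻¹ ^ 2 * t)

namespace Co

variable {U1 U2 U3 U4 U5 U6 : Subgroup G} {F J : Type*} [Field F] [AddCommGroup J] [Module F J]
  (C : Co U1 U2 U3 U4 U5 U6 F J)

theorem zero_of_add {A : Type*} [AddGroup A] {x : A → G} (h : ∀ a b, x (a + b) = x a * x b) :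
    x 0 = 1 := by
  have := h 0 0
  rw [add_zero] at this
  exact (mul_eq_left.1 this.symm)

theorem neg_of_add {A : Type*} [AddGroup A] {x : A → G} (h : ∀ a b, x (a + b) = x a * x b) (a : A) :
    x (-a) = (x a)⁻¹ := by
  have := h (-a) a
  rw [neg_add_cancel, zero_of_add h] at this
  exact eq_inv_of_mul_eq_one_left this.symm

include C

theorem z1 : C.x1 0 = 1 := zero_of_add C.add1
theorem z2 : C.x2 0 = 1 := zero_of_add C.add2
theorem z3 : C.x3 0 = 1 := zero_of_add C.add3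
theorem z4 : C.x4 0 = 1 := zero_of_add C.add4
theorem z5 : C.x5 0 = 1 := zero_of_add C.add5
theorem z6 : C.x6 0 = 1 := zero_of_add C.add6
theorem neg1 (a : J) : C.x1 (-a) = (C.x1 a)⁻¹ := neg_of_add C.add1 a
theorem neg2 (a : F) : C.x2 (-a) = (C.x2 a)⁻¹ := neg_of_add C.add2 a
theorem neg3 (a : J) : C.x3 (-a) = (C.x3 a)⁻¹ := neg_of_add C.add3 a
theorem neg4 (a : F) : C.x4 (-a) = (C.x4 a)⁻¹ := neg_of_add C.add4 a
theorem neg5 (a : J) : C.x5 (-a) = (C.x5 a)⁻¹ := neg_of_add C.add5 a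
theorem neg6 (a : F) : C.x6 (-a) = (C.x6 a)⁻¹ := neg_of_add C.add6 a

theorem i2 {a b : F} (h : C.x2 a = C.x2 b) : a = b :=
  (C.inj a 0 0 0 0 b 0 0 0 0 (by rw [h])).1
theorem i3 {a b : J} (h : C.x3 a = C.x3 b) : a = b :=
  (C.inj 0 a 0 0 0 0 b 0 0 0 (by rw [h])).2.1
theorem i4 {a b : F} (h : C.x4 a = C.x4 b) : a = b :=
  (C.inj 0 0 a 0 0 0 0 b 0 0 (by rw [h])).2.2.1
theorem i5 {a b : J} (h : C.x5 a = C.x5 b) : a = b :=
  (C.inj 0 0 0 a 0 0 0 0 b 0 (by rw [h])).2.2.2.1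
theorem i6 {a b : F} (h : C.x6 a = C.x6 b) : a = b :=
  (C.inj 0 0 0 0 a 0 0 0 0 b (by rw [h])).2.2.2.2
theorem i1 {a b : J} (h : C.x1 a = C.x1 b) : a = b := by
  have h1 : C.x1 (a + -b) = 1 := by rw [C.add1, C.neg1, h, mul_inv_cancel]
  have := C.inj1 _ h1
  rwa [← sub_eq_add_neg, sub_eq_zero] at this

/-! ### Biadditivity of `T`, `S` -/

theorem T_add_left (a a' c : J) : C.T (a + a') c = C.T a c + C.T a' c := by
  have h := C.k13 (a + a') c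
  rw [C.add1, κ_mul_left, C.k13, C.k13] at h
  have h1 : (C.x1 a')⁻¹ * C.x2 (-C.T a c) * C.x1 a' = C.x2 (-C.T a c) := by
    rw [mul_assoc, ← (C.c12 a' _).eq]; group
  rw [h1, ← C.add2] at h
  have := C.i2 h
  linear_combination this

theorem T_add_right (a c c' : J) : C.T a (c + c') = C.T a c + C.T a c' := by
  have h := C.k13 a (c + c')
  rw [C.add3, κ_mul_right, C.k13, C.k13] at h
  have h1 : C.x3 c * C.x2 (-C.T a c') * (C.x3 c)⁻¹ = C.x2 (-C.T a c') := by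
    rw [← (C.c23 _ c).eq]; group
  rw [h1, ← C.add2] at h
  have := C.i2 h
  linear_combination this

theorem S_add_left (a a' c : J) : C.S (a + a') c = C.S a c + C.S a' c := by
  have h := C.k35 (a + a') c
  rw [C.add3, κ_mul_left, C.k35, C.k35] at h
  have h1 : (C.x3 a')⁻¹ * C.x4 (-C.S a c) * C.x3 a' = C.x4 (-C.S a c) := by
    rw [mul_assoc, ← (C.c34 a' _).eq]; group
  rw [h1, ← C.add4] at h
  have := C.i4 h
  linear_combination this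

theorem S_add_right (a c c' : J) : C.S a (c + c') = C.S a c + C.S a c' := by
  have h := C.k35 a (c + c')
  rw [C.add5, κ_mul_right, C.k35, C.k35] at h
  have h1 : C.x5 c * C.x4 (-C.S a c') * (C.x5 c)⁻¹ = C.x4 (-C.S a c') := by
    rw [← (C.c45 _ c).eq]; group
  rw [h1, ← C.add4] at h
  have := C.i4 h
  linear_combination this

theorem S_zero_left (c : J) : C.S 0 c = 0 := by
  have := C.S_add_left 0 0 c
  rw [add_zero] at this
  linear_combination -this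

theorem S_zero_right (c : J) : C.S c 0 = 0 := by
  have := C.S_add_right c 0 0
  rw [add_zero] at this
  linear_combination -this

theorem T_zero_left (c : J) : C.T 0 c = 0 := by
  have := C.T_add_left 0 0 c
  rw [add_zero] at this
  linear_combination -this

theorem T_zero_right (c : J) : C.T c 0 = 0 := by
  have := C.T_add_right c 0 0
  rw [add_zero] at this
  linear_combination -this

theorem S_neg_left (a c : J) : C.S (-a) c = -C.S a c := by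
  have := C.S_add_left (-a) a c
  rw [neg_add_cancel, C.S_zero_left] at this
  linear_combination -this

theorem S_neg_right (a c : J) : C.S a (-c) = -C.S a c := by
  have := C.S_add_right a (-c) c
  rw [neg_add_cancel, C.S_zero_right] at this
  linear_combination -this

theorem T_neg_left (a c : J) : C.T (-a) c = -C.T a c := by
  have := C.T_add_left (-a) a c
  rw [neg_add_cancel, C.T_zero_left] at this
  linear_combination -this

theorem T_neg_right (a c : J) : C.T a (-c) = -C.T a c := by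
  have := C.T_add_right a (-c) c
  rw [neg_add_cancel, C.T_zero_right] at this
  linear_combination -this

/-! ### The normal form of `U2 ⋯ U6` -/

/-- Normal form. -/
def nf (t : F) (c : J) (r : F) (b : J) (s : F) : G := C.x2 t * C.x3 c * C.x4 r * C.x5 b * C.x6 s

theorem nf_inj {t : F} {c : J} {r : F} {b : J} {s : F} {t' : F} {c' : J} {r' : F} {b' : J} {s' : F}
    (h : C.nf t c r b s = C.nf t' c' r' b' s') : t = t' ∧ c = c' ∧ r = r' ∧ b = b' ∧ s = s' :=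
  C.inj _ _ _ _ _ _ _ _ _ _ h

theorem e2 (t : F) : C.x2 t = C.nf t 0 0 0 0 := by
  simp [nf, C.z3, C.z4, C.z5, C.z6]
theorem e3 (c : J) : C.x3 c = C.nf 0 c 0 0 0 := by
  simp [nf, C.z2, C.z4, C.z5, C.z6]
theorem e4 (t : F) : C.x4 t = C.nf 0 0 t 0 0 := by
  simp [nf, C.z2, C.z3, C.z5, C.z6]
theorem e5 (b : J) : C.x5 b = C.nf 0 0 0 b 0 := by
  simp [nf, C.z2, C.z3, C.z4, C.z6]
theorem e6 (s : F) : C.x6 s = C.nf 0 0 0 0 s := by
  simp [nf, C.z2, C.z3, C.z4, C.z5]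

theorem r62 (s t : F) : C.x6 s * C.x2 t = C.x2 t * C.x4 (-(t * s)) * C.x6 s :=
  mul_eq_of_κ (C.k26 t s)

theorem r53 (b c : J) : C.x5 b * C.x3 c = C.x3 c * C.x4 (-C.S c b) * C.x5 b :=
  mul_eq_of_κ (C.k35 c b)

theorem nf_mul (t : F) (c : J) (r : F) (b : J) (s : F) (t' : F) (c' : J) (r' : F) (b' : J) (s' : F) :
    C.nf t c r b s * C.nf t' c' r' b' s' =
      C.nf (t + t') (c + c') (r + r' - t' * s - C.S c' b) (b + b') (s + s') := by
  unfold nf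
  have h1 : r + r' - t' * s - C.S c' b = r + (-(t' * s)) + (-C.S c' b) + r' := by ring
  rw [h1, C.add2, C.add3, C.add4, C.add4, C.add4, C.add5, C.add6]
  -- move `x2 t'` to the left
  calc C.x2 t * C.x3 c * C.x4 r * C.x5 b * C.x6 s * (C.x2 t' * C.x3 c' * C.x4 r' * C.x5 b' * C.x6 s')
      = C.x2 t * C.x3 c * C.x4 r * C.x5 b * (C.x6 s * C.x2 t') * C.x3 c' * C.x4 r' * C.x5 b' * C.x6 s' := by
        group
    _ = C.x2 t * C.x3 c * C.x4 r * C.x5 b * (C.x2 t' * C.x4 (-(t' * s)) * C.x6 s) * C.x3 c' * C.x4 r' *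
          C.x5 b' * C.x6 s' := by rw [C.r62]
    _ = C.x2 t * C.x3 c * C.x4 r * (C.x5 b * C.x2 t') * C.x4 (-(t' * s)) * (C.x6 s * C.x3 c') * C.x4 r' *
          C.x5 b' * C.x6 s' := by group
    _ = C.x2 t * C.x3 c * C.x4 r * (C.x2 t' * C.x5 b) * C.x4 (-(t' * s)) * (C.x3 c' * C.x6 s) * C.x4 r' *
          C.x5 b' * C.x6 s' := by rw [(C.c25 t' b).eq, (C.c36 c' s).eq]
    _ = C.x2 t * C.x3 c * (C.x4 r * C.x2 t') * (C.x5 b * C.x4 (-(t' * s))) * C.x3 c' * (C.x6 s * C.x4 r') *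
          C.x5 b' * C.x6 s' := by group
    _ = C.x2 t * C.x3 c * (C.x2 t' * C.x4 r) * (C.x4 (-(t' * s)) * C.x5 b) * C.x3 c' * (C.x4 r' * C.x6 s) *
          C.x5 b' * C.x6 s' := by rw [(C.c24 t' r).eq, (C.c45 _ b).eq, (C.c46 r' s).eq]
    _ = C.x2 t * (C.x3 c * C.x2 t') * C.x4 r * C.x4 (-(t' * s)) * (C.x5 b * C.x3 c') * C.x4 r' *
          (C.x6 s * C.x5 b') * C.x6 s' := by group
    _ = C.x2 t * (C.x2 t' * C.x3 c) * C.x4 r * C.x4 (-(t' * s)) * (C.x3 c' * C.x4 (-C.S c' b) * C.x5 b) *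
          C.x4 r' * (C.x5 b' * C.x6 s) * C.x6 s' := by rw [(C.c23 t' c).eq, C.r53, (C.c56 b' s).eq]
    _ = C.x2 t * C.x2 t' * C.x3 c * C.x4 r * (C.x4 (-(t' * s)) * C.x3 c') * C.x4 (-C.S c' b) * (C.x5 b *
          C.x4 r') * C.x5 b' * C.x6 s * C.x6 s' := by group
    _ = C.x2 t * C.x2 t' * C.x3 c * C.x4 r * (C.x3 c' * C.x4 (-(t' * s))) * C.x4 (-C.S c' b) * (C.x4 r' *
          C.x5 b) * C.x5 b' * C.x6 s * C.x6 s' := by rw [← (C.c34 c' _).eq, ← (C.c45 r' b).eq]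
    _ = C.x2 t * C.x2 t' * C.x3 c * (C.x4 r * C.x3 c') * C.x4 (-(t' * s)) * C.x4 (-C.S c' b) * C.x4 r' *
          C.x5 b * C.x5 b' * C.x6 s * C.x6 s' := by group
    _ = C.x2 t * C.x2 t' * C.x3 c * (C.x3 c' * C.x4 r) * C.x4 (-(t' * s)) * C.x4 (-C.S c' b) * C.x4 r' *
          C.x5 b * C.x5 b' * C.x6 s * C.x6 s' := by rw [← (C.c34 c' _).eq]
    _ = C.x2 t * C.x2 t' * (C.x3 c * C.x3 c') * (C.x4 r * C.x4 (-(t' * s)) * C.x4 (-C.S c' b) * C.x4 r') *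
          (C.x5 b * C.x5 b') * (C.x6 s * C.x6 s') := by group


/-! ### Conjugation by `x1 a` -/

theorem a2 (a : J) (t : F) : (C.x1 a)⁻¹ * C.x2 t * C.x1 a = C.nf t 0 0 0 0 := by
  rw [← C.e2, mul_assoc, ← (C.c12 a t).eq]; group

theorem a3 (a c : J) : (C.x1 a)⁻¹ * C.x3 c * C.x1 a = C.nf (-C.T a c) c 0 0 0 := by
  rw [conj_of_κ (C.k13 a c)]
  simp [nf, C.z4, C.z5, C.z6]

theorem a4 (a : J) (t : F) : (C.x1 a)⁻¹ * C.x4 t * C.x1 a = C.nf 0 0 t 0 0 := by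
  rw [← C.e4, mul_assoc, ← (C.c14 a t).eq]; group

theorem a5 (a b : J) : (C.x1 a)⁻¹ * C.x5 b * C.x1 a = C.nf (C.P a b) (-C.M a b) (C.Q a b) b 0 := by
  rw [conj_of_κ (C.k15 a b)]
  simp [nf, C.z6]

theorem a6 (a : J) (t : F) : (C.x1 a)⁻¹ * C.x6 t * C.x1 a =
    C.nf (t * C.N a) (-C.B a t) (C.R a t) (t • a) t := by
  rw [conj_of_κ (C.k16 a t)]
  simp [nf]

theorem conj_nf (a : J) (t : F) (c : J) (r : F) (b : J) (s : F) :
    (C.x1 a)⁻¹ * C.nf t c r b s * C.x1 a =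
      C.nf (t - C.T a c + C.P a b + s * C.N a) (c - C.M a b - C.B a s)
        (r + C.Q a b + C.R a s + C.S (C.B a s) b) (b + s • a) s := by
  have h : (C.x1 a)⁻¹ * C.nf t c r b s * C.x1 a = ((C.x1 a)⁻¹ * C.x2 t * C.x1 a) *
      ((C.x1 a)⁻¹ * C.x3 c * C.x1 a) * ((C.x1 a)⁻¹ * C.x4 r * C.x1 a) *
      ((C.x1 a)⁻¹ * C.x5 b * C.x1 a) * ((C.x1 a)⁻¹ * C.x6 s * C.x1 a) := by
    unfold nf; group
  rw [h, C.a2, C.a3, C.a4, C.a5, C.a6, C.nf_mul, C.nf_mul, C.nf_mul, C.nf_mul]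
  congr 1
  · ring
  · abel
  · simp only [C.S_zero_right, C.S_neg_left, zero_add, add_zero]
    ring
  · abel
  · ring

/-! ### The identities -/

/-- `S (c, t a) = t T (a, c)`. -/
theorem S_smul (a c : J) (t : F) : C.S c (t • a) = t * C.T a c := by
  -- conjugate `x3 c * x6 t = x6 t * x3 c` by `x1 a`
  have h : C.x3 c * C.x6 t = C.x6 t * C.x3 c := (C.c36 c t).eq
  have h1 : ((C.x1 a)⁻¹ * C.x3 c * C.x1 a) * ((C.x1 a)⁻¹ * C.x6 t * C.x1 a) =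
      ((C.x1 a)⁻¹ * C.x6 t * C.x1 a) * ((C.x1 a)⁻¹ * C.x3 c * C.x1 a) := by
    calc _ = (C.x1 a)⁻¹ * (C.x3 c * C.x6 t) * C.x1 a := by group
      _ = _ := by rw [h]; group
  rw [C.a3, C.a6, C.nf_mul, C.nf_mul] at h1
  have h2 := (C.nf_inj h1).2.2.1
  rw [C.S_zero_right] at h2
  linear_combination h2

theorem S_eq (c a : J) : C.S c a = C.T a c := by
  have := C.S_smul a c 1
  rwa [one_smul, one_mul] at this

theorem T_smul (t : F) (a c : J) : C.T (t • a) c = t * C.T a c := by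
  rw [← C.S_eq, C.S_smul]


omit C in
theorem κ_conj' (g u v : G) : g⁻¹ * κ u v * g = κ (g⁻¹ * u * g) (g⁻¹ * v * g) := by
  unfold κ; group

theorem S_comm (a c : J) : C.S a c = C.S c a := by
  have h := κ_conj' C.w (C.x3 a) (C.x5 c)
  rw [C.k35, C.w4, C.w3, C.w5, κ_swap, ← C.neg3, ← C.neg5, C.k35, ← C.neg4] at h
  have h2 := C.i4 h
  rw [neg_neg, neg_neg, C.S_neg_left] at h2
  linear_combination -h2

theorem T_comm (a c : J) : C.T a c = C.T c a := by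
  rw [← C.S_eq, ← C.S_eq, C.S_comm]

theorem T_smul_right (t : F) (a c : J) : C.T a (t • c) = t * C.T a c := by
  rw [C.T_comm, C.T_smul, C.T_comm]

/-! conjugation by `w` in the other direction -/

theorem w5' (a : J) : C.w * C.x3 a * C.w⁻¹ = C.x5 a := by
  rw [← C.w5]; group

theorem w3' (a : J) : C.w * C.x5 a * C.w⁻¹ = C.x3 (-a) := by
  have := C.w3 (-a)
  rw [neg_neg] at this
  rw [← this]; group

theorem w6' (a : F) : C.w * C.x2 a * C.w⁻¹ = C.x6 a := by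
  rw [← C.w6]; group

theorem w2' (a : F) : C.w * C.x6 a * C.w⁻¹ = C.x2 (-a) := by
  have := C.w2 (-a)
  rw [neg_neg] at this
  rw [← this]; group

theorem w4' (a : F) : C.w * C.x4 a * C.w⁻¹ = C.x4 a := by
  conv_lhs => rw [← C.w4 a]
  group

theorem n5' (a : J) : C.n⁻¹ * C.x5 a * C.n = C.x1 a := by
  rw [← C.n1]; group

theorem n1' (a : J) : C.n⁻¹ * C.x1 a * C.n = C.x5 (-a) := by
  have := C.n5 (-a)
  rw [neg_neg] at this
  rw [← this]; group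

theorem n3' (a : J) : C.n⁻¹ * C.x3 a * C.n = C.x3 a := by
  conv_lhs => rw [← C.n3 a]
  group

theorem n2' (a : F) : C.n⁻¹ * C.x2 a * C.n = C.x4 a := by
  rw [← C.n4]; group

theorem n4' (a : F) : C.n⁻¹ * C.x4 a * C.n = C.x2 (-a) := by
  have := C.n2 (-a)
  rw [neg_neg] at this
  rw [← this]; group

theorem w_nf (t : F) (c : J) (r : F) (b : J) (s : F) :
    C.w⁻¹ * C.nf t c r b s * C.w = C.nf s b (r + C.S b c + s * t) (-c) (-t) := by
  have h : C.w⁻¹ * C.nf t c r b s * C.w = (C.w⁻¹ * C.x2 t * C.w) * (C.w⁻¹ * C.x3 c * C.w) *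
      (C.w⁻¹ * C.x4 r * C.w) * (C.w⁻¹ * C.x5 b * C.w) * (C.w⁻¹ * C.x6 s * C.w) := by
    unfold nf; group
  rw [h, C.w2, C.w3, C.w4, C.w5, C.w6, C.e6, C.e5, C.e4, C.e3, C.e2, C.nf_mul, C.nf_mul, C.nf_mul,
    C.nf_mul]
  congr 1
  · ring
  · abel
  · simp only [C.S_zero_left, C.S_neg_right, zero_add, add_zero]
    ring
  · abel
  · ring

/-! ### The torus -/

theorem B_zero (t : F) : C.B 0 t = 0 ∧ C.R 0 t = 0 := by
  have h := C.k16 0 t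
  rw [C.z1, κ_one_left, smul_zero] at h
  have h2 : C.nf 0 0 0 0 0 = C.nf (t * C.N 0) (-C.B 0 t) (C.R 0 t) 0 0 := by
    rw [← C.e2, C.z2, h]; simp [nf, C.z6, C.z5]
  obtain ⟨-, h3, h4, -⟩ := C.nf_inj h2
  exact ⟨neg_eq_zero.1 h3.symm, h4.symm⟩

theorem torus_aux {u : F} (hu : u ≠ 0) (a : J) (t : F) :
    (u⁻¹ ^ 2 * t) * C.N (u • a) = u * (t * C.N a) ∧ C.B (u • a) (u⁻¹ ^ 2 * t) = C.B a t := by
  obtain ⟨h, h1, h2, h3, h4, h5, h6⟩ := C.torus u hu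
  have hk := κ_conj h (C.x1 a) (C.x6 t)
  obtain ⟨r', hr'⟩ := h4 (C.R a t)
  obtain ⟨b', hb'⟩ := h5 (t • a)
  rw [h1, h6, C.k16, C.k16] at hk
  have h7 : h * (C.x2 (t * C.N a) * C.x3 (-C.B a t) * C.x4 (C.R a t) * C.x5 (t • a)) * h⁻¹ =
      (h * C.x2 (t * C.N a) * h⁻¹) * (h * C.x3 (-C.B a t) * h⁻¹) * (h * C.x4 (C.R a t) * h⁻¹) *
        (h * C.x5 (t • a) * h⁻¹) := by group
  rw [h7, h2, h3, hr', hb'] at hk
  have h8 : C.nf (u * (t * C.N a)) (-C.B a t) r' b' 0 = C.nf (u⁻¹ ^ 2 * t * C.N (u • a))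
      (-C.B (u • a) (u⁻¹ ^ 2 * t)) (C.R (u • a) (u⁻¹ ^ 2 * t)) ((u⁻¹ ^ 2 * t) • (u • a)) 0 := by
    unfold nf
    rw [C.z6, mul_one, mul_one]
    exact hk
  obtain ⟨h9, h10, -⟩ := C.nf_inj h8
  exact ⟨h9.symm, (neg_inj.1 h10).symm⟩

theorem N_smul (u : F) (a : J) : C.N (u • a) = u ^ 3 * C.N a := by
  by_cases hu : u = 0
  · subst hu; rw [zero_smul, C.N_zero]; ring
  have h := (C.torus_aux hu a 1).1
  field_simp at h
  linear_combination h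

theorem N_neg (a : J) : C.N (-a) = -C.N a := by
  have := C.N_smul (-1) a
  rw [neg_one_smul] at this
  rw [this]; ring

/-! ### The shift relation -/

theorem κ61 (t : F) (a : J) : κ (C.x6 t) (C.x1 a) =
    (C.nf (-t * C.N (-a)) (-C.B (-a) (-t)) (C.R (-a) (-t)) (t • a) 0)⁻¹ := by
  rw [κ_swap, ← C.neg1, ← C.neg6, C.k16]
  unfold nf
  rw [C.z6, mul_one, smul_neg, neg_smul, neg_neg]

theorem shift_aux {a : J} (ha : a ≠ 0) (t : F) :
    -(t * C.N a) * C.N (-C.l a) = t ∧ -C.B (-C.l a) (-(t * C.N a)) = t • a ∧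
      C.B a t = (t * C.N a) • C.l a := by
  have h := κ_conj C.w (C.x2 (t * C.N a)) (C.w⁻¹ * C.x1 (C.l a) * C.w)
  rw [C.shift a ha t] at h
  have h1 : C.w * (C.w⁻¹ * C.x1 (C.l a) * C.w) * C.w⁻¹ = C.x1 (C.l a) := by group
  have h2 : C.w * (C.x3 (-C.B a t) * C.x4 (C.R a t) * C.x5 (t • a) * C.x6 t) * C.w⁻¹ =
      (C.w * C.x3 (-C.B a t) * C.w⁻¹) * (C.w * C.x4 (C.R a t) * C.w⁻¹) *
        (C.w * C.x5 (t • a) * C.w⁻¹) * (C.w * C.x6 t * C.w⁻¹) := by group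
  rw [h1, h2, C.w5', C.w4', C.w3', C.w2', C.w6', C.κ61] at h
  have h3 : C.nf (-(t * C.N a) * C.N (-C.l a)) (-C.B (-C.l a) (-(t * C.N a)))
      (C.R (-C.l a) (-(t * C.N a))) ((t * C.N a) • C.l a) 0 =
      C.nf t (t • a) (-C.R a t) (C.B a t) 0 := by
    rw [← inv_inj, ← h]
    unfold nf
    rw [C.z6, mul_one, C.neg5, C.neg3, C.neg4, C.neg2]
    group
  obtain ⟨h4, h5, -, h6, -⟩ := C.nf_inj h3
  exact ⟨h4, h5, h6.symm⟩

/-- The adjoint. -/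
def sh (a : J) : J := C.N a • C.l a

theorem sh_zero : C.sh 0 = 0 := by
  unfold sh; rw [C.N_zero, zero_smul]

theorem B_eq (a : J) (t : F) : C.B a t = t • C.sh a := by
  by_cases ha : a = 0
  · subst ha; rw [(C.B_zero t).1, C.sh_zero, smul_zero]
  · rw [(C.shift_aux ha t).2.2, sh, smul_smul]

theorem sh_smul (u : F) (a : J) : C.sh (u • a) = u ^ 2 • C.sh a := by
  by_cases hu : u = 0
  · subst hu; rw [zero_smul, C.sh_zero]; simp
  have h := (C.torus_aux hu a 1).2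
  rw [C.B_eq, C.B_eq, mul_one, one_smul] at h
  rw [← h, smul_smul]
  have : u ^ 2 * u⁻¹ ^ 2 = 1 := by field_simp
  rw [this, one_smul]

theorem sh_neg (a : J) : C.sh (-a) = C.sh a := by
  have := C.sh_smul (-1) a
  rw [neg_one_smul] at this
  rw [this]; simp

theorem l_neg {a : J} (ha : a ≠ 0) : C.l (-a) = -C.l a := by
  have h := C.sh_neg a
  unfold sh at h
  rw [C.N_neg] at h
  have h2 : C.N a • C.l (-a) = C.N a • (-C.l a) := by
    rw [smul_neg, ← h, neg_smul, neg_neg]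
  exact smul_right_injective J (C.N_ne a ha) h2

theorem l_e : C.l C.e = C.e := C.sp (C.l_neg C.e_ne)

theorem sh_e : C.sh C.e = C.e := by
  unfold sh; rw [C.N_e, C.l_e, one_smul]

theorem N_l {a : J} (ha : a ≠ 0) : C.N a * C.N (C.l a) = 1 := by
  have h := (C.shift_aux ha 1).1
  rw [C.N_neg] at h
  linear_combination h

theorem sh_l {a : J} (ha : a ≠ 0) : C.N a • C.sh (C.l a) = a := by
  have h := (C.shift_aux ha 1).2.1
  rw [C.B_eq, C.sh_neg, one_smul, one_mul, neg_smul, neg_neg] at h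
  exact h

theorem sh_sh (a : J) : C.sh (C.sh a) = C.N a • a := by
  by_cases ha : a = 0
  · subst ha; rw [C.sh_zero, C.sh_zero, smul_zero]
  · have h1 : C.sh a = C.N a • C.l a := rfl
    rw [h1, C.sh_smul, pow_two, mul_smul, C.sh_l ha]

theorem N_sh (a : J) : C.N (C.sh a) = C.N a ^ 2 := by
  by_cases ha : a = 0
  · subst ha; rw [C.sh_zero, C.N_zero]; ring
  · have h1 : C.sh a = C.N a • C.l a := rfl
    rw [h1, C.N_smul]
    linear_combination (C.N a ^ 2) * C.N_l ha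

/-! ### Composition with `x1 (a + b)` -/

theorem add_aux (a b : J) (t : F) :
    t * C.N (a + b) = t * C.N a - C.T b (-C.B a t) + C.P b (t • a) + t * C.N b ∧
      -C.B (a + b) t = -C.B a t - C.M b (t • a) - C.B b t := by
  have h : (C.x1 (a + b))⁻¹ * C.x6 t * C.x1 (a + b) =
      (C.x1 b)⁻¹ * ((C.x1 a)⁻¹ * C.x6 t * C.x1 a) * C.x1 b := by
    rw [C.add1]; group
  rw [C.a6, C.a6, C.conj_nf] at h
  obtain ⟨h1, h2, -⟩ := C.nf_inj h
  exact ⟨h1, h2⟩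

theorem M_eq (a b : J) : C.M b a = C.sh (a + b) - C.sh a - C.sh b := by
  have h := (C.add_aux a b 1).2
  rw [C.B_eq, C.B_eq, C.B_eq, one_smul, one_smul, one_smul, one_smul] at h
  have h2 : C.M b a = C.sh (a + b) - C.sh a - C.sh b := by
    rw [eq_sub_iff_add_eq, eq_sub_iff_add_eq]
    have := congrArg Neg.neg h
    rw [neg_neg] at this
    rw [this]; abel
  exact h2

theorem M_comm (a b : J) : C.M a b = C.M b a := by
  rw [C.M_eq, C.M_eq, add_comm]; abel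

theorem M_smul_right (b a : J) (t : F) : C.M b (t • a) = t • C.M b a := by
  have h := (C.add_aux a b t).2
  rw [C.B_eq, C.B_eq, C.B_eq] at h
  rw [C.M_eq a b, smul_sub, smul_sub]
  have h2 : C.M b (t • a) = t • C.sh (a + b) - t • C.sh a - t • C.sh b := by
    rw [eq_sub_iff_add_eq, eq_sub_iff_add_eq]
    have := congrArg Neg.neg h
    rw [neg_neg] at this
    rw [this]; abel
  exact h2

theorem M_smul (a b : J) (t : F) : C.M (t • a) b = t • C.M a b := by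
  rw [C.M_comm, C.M_smul_right, C.M_comm]

theorem M_neg (a b : J) : C.M (-a) b = -C.M a b := by
  have := C.M_smul a b (-1)
  rwa [neg_one_smul, neg_one_smul] at this

theorem P_aux (a b : J) (t : F) : C.P b (t • a) =
    t * (C.N (a + b) - C.N a - C.N b - C.T b (C.sh a)) := by
  have h := (C.add_aux a b t).1
  rw [C.B_eq, C.T_neg_right, C.T_smul_right] at h
  linear_combination -h

theorem P_smul_right (b a : J) (t : F) : C.P b (t • a) = t * C.P b a := by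
  rw [C.P_aux]
  have := C.P_aux a b 1
  rw [one_smul, one_mul] at this
  rw [this]

theorem a5_add (a b b' : J) : C.M a (b + b') = C.M a b + C.M a b' ∧
    C.P a (b + b') = C.P a b + C.P a b' := by
  have h : (C.x1 a)⁻¹ * C.x5 (b + b') * C.x1 a =
      ((C.x1 a)⁻¹ * C.x5 b * C.x1 a) * ((C.x1 a)⁻¹ * C.x5 b' * C.x1 a) := by
    rw [C.add5]; group
  rw [C.a5, C.a5, C.a5, C.nf_mul] at h
  obtain ⟨h1, h2, -⟩ := C.nf_inj h
  refine ⟨?_, h1⟩
  have := congrArg Neg.neg h2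
  rw [neg_neg] at this
  rw [this]; abel

theorem M_add_right (a b b' : J) : C.M a (b + b') = C.M a b + C.M a b' := (C.a5_add a b b').1

theorem M_add (a a' b : J) : C.M (a + a') b = C.M a b + C.M a' b := by
  rw [C.M_comm, C.M_add_right, C.M_comm b, C.M_comm b]

theorem P_eq_aux (a b : J) : C.P a b = C.T a (C.M a b) - C.T b (C.sh a) := by
  have h : C.x5 b * C.x6 1 = C.x6 1 * C.x5 b := (C.c56 b 1).eq
  have h1 : ((C.x1 a)⁻¹ * C.x5 b * C.x1 a) * ((C.x1 a)⁻¹ * C.x6 1 * C.x1 a) =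
      ((C.x1 a)⁻¹ * C.x6 1 * C.x1 a) * ((C.x1 a)⁻¹ * C.x5 b * C.x1 a) := by
    calc _ = (C.x1 a)⁻¹ * (C.x5 b * C.x6 1) * C.x1 a := by group
      _ = _ := by rw [h]; group
  rw [C.a5, C.a6, C.nf_mul, C.nf_mul] at h1
  have h2 := (C.nf_inj h1).2.2.1
  rw [C.S_neg_left, C.S_neg_left, C.S_eq, C.S_eq, C.B_eq, one_smul, one_smul] at h2
  linear_combination h2

theorem P_add_left (a b c : J) : C.P (a + b) c = C.P a c + C.T b (C.M a c) + C.P b c := by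
  have h : (C.x1 (a + b))⁻¹ * C.x5 c * C.x1 (a + b) =
      (C.x1 b)⁻¹ * ((C.x1 a)⁻¹ * C.x5 c * C.x1 a) * C.x1 b := by
    rw [C.add1]; group
  rw [C.a5, C.a5, C.conj_nf] at h
  have h1 := (C.nf_inj h).1
  rw [C.T_neg_right] at h1
  linear_combination h1

theorem sh_add (a b : J) : C.sh (a + b) = C.sh a + C.sh b + C.M a b := by
  rw [C.M_comm, C.M_eq]; abel

theorem T_cr (a b c : J) : C.T a (C.M b c) = C.T c (C.M a b) := by
  have h := C.P_add_left a b c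
  rw [C.P_eq_aux, C.P_eq_aux, C.P_eq_aux, C.M_add, C.sh_add] at h
  simp only [C.T_add_left, C.T_add_right] at h
  linear_combination h

theorem M_self (a : J) : C.M a a = (2 : F) • C.sh a := by
  rw [C.M_eq]
  have h1 : a + a = (2 : F) • a := by rw [two_smul]
  rw [h1, C.sh_smul]
  have h2 : (2 : F) ^ 2 = 2 + 1 + 1 := by norm_num
  rw [h2, add_smul, add_smul, one_smul]; abel

theorem P_eq (a b : J) : C.P a b = C.T b (C.sh a) := by
  rw [C.P_eq_aux, C.T_cr a a b, C.M_self, C.T_smul_right]; ring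

theorem N_add (a b : J) : C.N (a + b) = C.N a + C.N b + C.T b (C.sh a) + C.T a (C.sh b) := by
  have h := C.P_aux a b 1
  rw [one_smul, C.P_eq] at h
  linear_combination -h

/-! ### The base point identity and the polarised adjoint identity -/

theorem mdef {a : J} (ha : a ≠ 0) : C.m a = (C.w⁻¹ * C.x1 (C.l a) * C.w) * C.x1 a *
    (C.w⁻¹ * C.x1 (C.l a) * C.w) := by
  have := C.m_def a ha
  rwa [C.l_neg ha, neg_neg] at this

theorem y5 (a b : J) : (C.w⁻¹ * C.x1 a * C.w)⁻¹ * C.x5 b * (C.w⁻¹ * C.x1 a * C.w) =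
    C.nf 0 0 0 b (-C.T a b) := by
  have h : (C.w⁻¹ * C.x1 a * C.w)⁻¹ * C.x5 b * (C.w⁻¹ * C.x1 a * C.w) =
      C.w⁻¹ * ((C.x1 a)⁻¹ * (C.w * C.x5 b * C.w⁻¹) * C.x1 a) * C.w := by group
  rw [h, C.w3', C.a3, C.w_nf, C.T_neg_right, neg_neg, neg_neg]
  congr 1
  rw [C.S_zero_left]; ring

theorem y3 (a c : J) : (C.w⁻¹ * C.x1 a * C.w)⁻¹ * C.x3 c * (C.w⁻¹ * C.x1 a * C.w) =
    C.nf 0 c (C.Q a c + C.S c (-C.M a c)) (C.M a c) (-C.P a c) := by
  have h : (C.w⁻¹ * C.x1 a * C.w)⁻¹ * C.x3 c * (C.w⁻¹ * C.x1 a * C.w) =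
      C.w⁻¹ * ((C.x1 a)⁻¹ * (C.w * C.x3 c * C.w⁻¹) * C.x1 a) * C.w := by group
  rw [h, C.w5', C.a5, C.w_nf, neg_neg]
  congr 1
  ring

theorem base (b : J) : C.T b C.e • C.e - C.M C.e b = b := by
  have h : (C.w⁻¹ * C.x1 (-C.e) * C.w)⁻¹ * C.x3 b * (C.w⁻¹ * C.x1 (-C.e) * C.w) =
      (C.x1 C.e)⁻¹ * ((C.w⁻¹ * C.x1 C.e * C.w)⁻¹ * C.x5 b * (C.w⁻¹ * C.x1 C.e * C.w)) *
        C.x1 C.e := by
    have hw := C.mdef C.e_ne
    rw [C.m_e, C.l_e] at hw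
    have h1 : C.x3 b = C.w⁻¹ * C.x5 b * C.w := (C.w5 b).symm
    have h2 : C.x3 b = ((C.w⁻¹ * C.x1 C.e * C.w) * C.x1 C.e * (C.w⁻¹ * C.x1 C.e * C.w))⁻¹ * C.x5 b *
        ((C.w⁻¹ * C.x1 C.e * C.w) * C.x1 C.e * (C.w⁻¹ * C.x1 C.e * C.w)) := by
      rw [← hw]; exact h1
    rw [h2, C.neg1]
    group
  rw [C.y3, C.y5, C.conj_nf] at h
  have h2 := (C.nf_inj h).2.1
  rw [C.B_eq, C.sh_e, zero_sub, neg_smul, sub_neg_eq_add] at h2
  rw [C.T_comm b, sub_eq_neg_add]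
  exact h2.symm

theorem pol_aux {a : J} (ha : a ≠ 0) (c : J) :
    C.M a (C.M (C.sh a) c) = C.N a • c + C.T a c • C.sh a := by
  obtain ⟨d, hd⟩ := C.m3 a ha c
  have hm := C.mdef ha
  have h : (C.w⁻¹ * C.x1 (-C.l a) * C.w)⁻¹ * C.x5 d * (C.w⁻¹ * C.x1 (-C.l a) * C.w) =
      (C.x1 a)⁻¹ * ((C.w⁻¹ * C.x1 (C.l a) * C.w)⁻¹ * C.x3 c * (C.w⁻¹ * C.x1 (C.l a) * C.w)) *
        C.x1 a := by
    rw [← hd, hm, C.neg1]
    group
  rw [C.y3, C.y5, C.conj_nf] at h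
  have h2 := (C.nf_inj h).2.1
  rw [C.B_eq, C.P_eq, neg_smul, sub_neg_eq_add] at h2
  -- `0 = c - M a (M l c) + T c (sh l) • sh a`
  have h3 : C.N a • (0 : J) = C.N a • (c - C.M a (C.M (C.l a) c) + C.T c (C.sh (C.l a)) • C.sh a) := by
    rw [← h2]
  have h4 : C.sh a = C.N a • C.l a := rfl
  rw [smul_zero, smul_add, smul_sub, ← C.M_smul_right, ← C.M_smul, ← h4, smul_smul,
    ← C.T_smul_right, C.sh_l ha, C.T_comm c a] at h3
  rw [sub_add_eq_add_sub] at h3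
  exact (sub_eq_zero.1 h3.symm).symm

theorem sh_ne {a : J} (ha : a ≠ 0) : C.sh a ≠ 0 := by
  intro h
  have := C.N_sh a
  rw [h, C.N_zero] at this
  exact C.N_ne a ha (pow_eq_zero_iff (two_ne_zero)|>.1 this.symm)

theorem pol (a c : J) : C.M (C.sh a) (C.M a c) = C.N a • c + C.T (C.sh a) c • a := by
  by_cases ha : a = 0
  · subst ha
    have h1 : C.M 0 (C.M 0 c) = 0 := by
      have := C.M_smul 0 (C.M 0 c) (0 : F)
      rwa [zero_smul, zero_smul] at this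
    rw [C.sh_zero, h1, C.N_zero, C.T_zero_left, zero_smul, zero_smul, add_zero]
  · have h := C.pol_aux (C.sh_ne ha) c
    rw [C.sh_sh, C.M_smul, C.M_smul_right, C.N_sh] at h
    apply smul_right_injective J (C.N_ne a ha)
    change C.N a • _ = C.N a • _
    rw [h, smul_add, smul_smul, smul_smul, smul_smul]
    congr 2
    · ring
    · ring

/-! ### The remaining coordinates -/

theorem Q_eq (a b : J) : C.Q a b = C.T a (C.sh b) := by
  have h := κ_conj C.n (C.x1 a) (C.x5 b)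
  have h0 : C.n * C.x5 b * C.n⁻¹ = C.x1 (-b) := C.n5 b
  have h1 : C.n * (C.x2 (C.P a b) * C.x3 (-C.M a b) * C.x4 (C.Q a b)) * C.n⁻¹ =
      (C.n * C.x2 (C.P a b) * C.n⁻¹) * (C.n * C.x3 (-C.M a b) * C.n⁻¹) *
        (C.n * C.x4 (C.Q a b) * C.n⁻¹) := by group
  rw [C.k15, h1, C.n2, C.n3, C.n4, C.n1, h0, κ_swap, ← C.neg1, neg_neg, ← C.neg5, C.k15] at h
  have h2 : C.nf (C.Q a b) (-C.M a b) (-C.P a b) 0 0 =
      C.nf (-C.P b (-a)) (C.M b (-a)) (-C.Q b (-a)) 0 0 := by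
    have h3 : C.x4 (-C.P a b) * C.x3 (-C.M a b) * C.x2 (C.Q a b) =
        C.nf (C.Q a b) (-C.M a b) (-C.P a b) 0 0 := by
      rw [C.e2, C.e3, C.e4, C.nf_mul, C.nf_mul]
      congr 1 <;> simp [C.S_zero_left, C.S_zero_right]
    have h4 : (C.x2 (C.P b (-a)) * C.x3 (-C.M b (-a)) * C.x4 (C.Q b (-a)))⁻¹ =
        C.nf (-C.P b (-a)) (C.M b (-a)) (-C.Q b (-a)) 0 0 := by
      rw [mul_inv_rev, mul_inv_rev, ← C.neg2, ← C.neg3, ← C.neg4, neg_neg, C.e2, C.e3, C.e4,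
        C.nf_mul, C.nf_mul]
      congr 1 <;> simp [C.S_zero_left, C.S_zero_right]
    rw [← h3, h, h4]
  have h3 := (C.nf_inj h2).1
  have h4 := C.P_smul_right b a (-1)
  rw [neg_one_smul] at h4
  rw [h3, h4, C.P_eq]; ring

theorem R_eq (a : J) (t : F) : C.R a t = t ^ 2 * C.N a := by
  by_cases ht : t = 0
  · subst ht
    have h := C.k16 a 0
    rw [C.z6, κ_one_right, zero_smul] at h
    have h2 : C.nf 0 0 0 0 0 = C.nf (0 * C.N a) (-C.B a 0) (C.R a 0) 0 0 := by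
      rw [← C.e2, C.z2, h]; simp [nf, C.z6, C.z5]
    have h3 := (C.nf_inj h2).2.2.1
    rw [← h3]; ring
  · have h := κ_conj' C.n (C.n * C.x6 t⁻¹ * C.n⁻¹) (C.x5 (t • a))
    rw [C.shift' t ht a] at h
    have h1 : C.n⁻¹ * (C.n * C.x6 t⁻¹ * C.n⁻¹) * C.n = C.x6 t⁻¹ := by group
    have h2 : C.n⁻¹ * (C.x1 a * C.x2 (t * C.N a) * C.x3 (-C.B a t) * C.x4 (C.R a t)) * C.n =
        (C.n⁻¹ * C.x1 a * C.n) * (C.n⁻¹ * C.x2 (t * C.N a) * C.n) *
          (C.n⁻¹ * C.x3 (-C.B a t) * C.n) * (C.n⁻¹ * C.x4 (C.R a t) * C.n) := by group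
    rw [h1, h2, C.n1', C.n2', C.n3', C.n4', C.n5', C.κ61] at h
    have h3 : C.nf (-t⁻¹ * C.N (-(t • a))) (-C.B (-(t • a)) (-t⁻¹)) (C.R (-(t • a)) (-t⁻¹))
        (t⁻¹ • (t • a)) 0 = C.nf (C.R a t) (C.B a t) (-(t * C.N a)) a 0 := by
      rw [← inv_inj, ← h]
      unfold nf
      rw [C.z6, mul_one, C.neg5, C.neg3, C.neg2]
      have h5 : C.x4 (t * C.N a) = (C.x4 (-(t * C.N a)))⁻¹ := by rw [C.neg4, inv_inv]
      rw [h5]
      group
    have h4 := (C.nf_inj h3).1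
    rw [← h4, ← smul_neg, C.N_smul, C.N_neg]
    field_simp

/-- The cubic norm structure. -/
def cubic : CubicNorm F J where
  e := C.e
  N := C.N
  sh := C.sh
  cr := C.M
  T := C.T
  T_comm := C.T_comm
  T_add := C.T_add_left
  T_smul t a b := C.T_smul t a b
  cr_comm := C.M_comm
  cr_add := C.M_add
  cr_smul t a b := C.M_smul a b t
  sh_add := C.sh_add
  sh_smul := C.sh_smul
  N_add := C.N_add
  N_smul := C.N_smul
  N_ne := C.N_ne
  T_cr := C.T_cr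
  sh_sh := C.sh_sh
  N_sh := C.N_sh
  N_e := C.N_e
  sh_e := C.sh_e
  base := C.base

end Co

end Cfsg.Agent.SplitTwo.HexCo
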