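import Mathlib
import Cfsg.Agent.SplitTwo.HexDefs

/-!
# Moufang hexagons (S1144, [6c]): the group level facts used by the coordinatisation

`HexG U1 … U6 μ1 μ6 st y e1 e6`: the positive root groups of a `Hex`, `μ1 a`, `μ6 t` the mu-maps,
`n1 = μ1 e1`, `n6 = μ6 e6`, and
* `st a` for `1 ≠ a ∈ U1` : the element of `U1` with `(λ₁ a)⁻¹ = n1⁻¹ (st a) n1`;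
* `y t` for `1 ≠ t ∈ U6` : the element of `U6` with `κ₆ t = n6⁻¹ (y t) n6`.
-/

set_option autoImplicit false

namespace Cfsg.Agent.SplitTwo

universe u

/-- right conjugation `x ^ g = g⁻¹ x g` -/
def cj {G : Type*} [Group G] (g x : G) : G := g⁻¹ * x * g

/-- Group level data of a Moufang hexagon. -/
structure HexG {G : Type u} [Group G] (U1 U2 U3 U4 U5 U6 : Subgroup G) (μ1 μ6 st y : G → G)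
    (e1 e6 : G) : Prop where
  e1_mem : e1 ∈ U1
  e1_ne : e1 ≠ 1
  e6_mem : e6 ∈ U6
  e6_ne : e6 ≠ 1
  c11 : ∀ a ∈ U1, ∀ b ∈ U1, a * b = b * a
  c22 : ∀ a ∈ U2, ∀ b ∈ U2, a * b = b * a
  c33 : ∀ a ∈ U3, ∀ b ∈ U3, a * b = b * a
  c44 : ∀ a ∈ U4, ∀ b ∈ U4, a * b = b * a
  c55 : ∀ a ∈ U5, ∀ b ∈ U5, a * b = b * a
  c66 : ∀ a ∈ U6, ∀ b ∈ U6, a * b = b * a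
  c12 : ∀ a ∈ U1, ∀ b ∈ U2, a * b = b * a
  c14 : ∀ a ∈ U1, ∀ b ∈ U4, a * b = b * a
  c23 : ∀ a ∈ U2, ∀ b ∈ U3, a * b = b * a
  c24 : ∀ a ∈ U2, ∀ b ∈ U4, a * b = b * a
  c25 : ∀ a ∈ U2, ∀ b ∈ U5, a * b = b * a
  c34 : ∀ a ∈ U3, ∀ b ∈ U4, a * b = b * a
  c36 : ∀ a ∈ U3, ∀ b ∈ U6, a * b = b * a
  c45 : ∀ a ∈ U4, ∀ b ∈ U5, a * b = b * a
  c46 : ∀ a ∈ U4, ∀ b ∈ U6, a * b = b * a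
  c56 : ∀ a ∈ U5, ∀ b ∈ U6, a * b = b * a
  k13 : ∀ a ∈ U1, ∀ c ∈ U3, kk a c ∈ U2
  k35 : ∀ c ∈ U3, ∀ b ∈ U5, kk c b ∈ U4
  k26 : ∀ s ∈ U2, ∀ t ∈ U6, kk s t ∈ U4
  k15 : ∀ a ∈ U1, ∀ b ∈ U5, ∃ p ∈ U2, ∃ q ∈ U3, ∃ r ∈ U4, kk a b = p * q * r
  k16 : ∀ a ∈ U1, ∀ t ∈ U6, ∃ p ∈ U2, ∃ q ∈ U3, ∃ r ∈ U4, ∃ s ∈ U5, kk a t = p * q * r * s
  uniq : ∀ p ∈ U2, ∀ q ∈ U3, ∀ r ∈ U4, ∀ s ∈ U5, ∀ t ∈ U6, p * q * r * s * t = 1 →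
    p = 1 ∧ q = 1 ∧ r = 1 ∧ s = 1 ∧ t = 1
  -- the maps `μ6 t`
  m6inv : ∀ t ∈ U6, t ≠ 1 → μ6 t⁻¹ = (μ6 t)⁻¹
  m15 : ∀ t ∈ U6, t ≠ 1 → ∀ a ∈ U1, cj (μ6 t) a ∈ U5
  m51 : ∀ t ∈ U6, t ≠ 1 → ∀ a ∈ U5, cj (μ6 t) a ∈ U1
  m24 : ∀ t ∈ U6, t ≠ 1 → ∀ a ∈ U2, cj (μ6 t) a ∈ U4
  m42 : ∀ t ∈ U6, t ≠ 1 → ∀ a ∈ U4, cj (μ6 t) a ∈ U2
  m33 : ∀ t ∈ U6, t ≠ 1 → ∀ a ∈ U3, cj (μ6 t) a = a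
  m66 : ∀ t ∈ U6, t ≠ 1 → ∀ u ∈ U6, cj (μ6 e6)⁻¹ (cj (μ6 t) u) ∈ U6
  -- the maps `μ1 a`
  m1inv : ∀ a ∈ U1, a ≠ 1 → μ1 a⁻¹ = (μ1 a)⁻¹
  m62 : ∀ a ∈ U1, a ≠ 1 → ∀ t ∈ U6, cj (μ1 a) t ∈ U2
  m26 : ∀ a ∈ U1, a ≠ 1 → ∀ t ∈ U2, cj (μ1 a) t ∈ U6
  m53 : ∀ a ∈ U1, a ≠ 1 → ∀ t ∈ U5, cj (μ1 a) t ∈ U3
  m35 : ∀ a ∈ U1, a ≠ 1 → ∀ t ∈ U3, cj (μ1 a) t ∈ U5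
  m44 : ∀ a ∈ U1, a ≠ 1 → ∀ t ∈ U4, cj (μ1 a) t = t
  /-- `n1²` normalises `U1` -/
  m11 : ∀ a ∈ U1, cj (μ1 e1) (cj (μ1 e1) a) ∈ U1
  m11' : ∀ a ∈ U1, cj (μ1 e1)⁻¹ (cj (μ1 e1)⁻¹ a) ∈ U1
  -- Tits-Weiss 6.4
  tw5 : ∀ a ∈ U1, ∀ t ∈ U6, t ≠ 1 → ∀ p ∈ U2, ∀ q ∈ U3, ∀ r ∈ U4, ∀ s ∈ U5,
    kk a t = p * q * r * s → s = cj (μ6 t) a
  tw2 : ∀ a ∈ U1, a ≠ 1 → ∀ t ∈ U6, ∀ p ∈ U2, ∀ q ∈ U3, ∀ r ∈ U4, ∀ s ∈ U5,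
    kk a t = p * q * r * s → p = (cj (μ1 a) t)⁻¹
  tw24 : ∀ b ∈ U2, ∀ t ∈ U6, t ≠ 1 → kk b t = cj (μ6 t) b
  -- `y`
  y_mem : ∀ t ∈ U6, t ≠ 1 → y t ∈ U6
  y_ne : ∀ t ∈ U6, t ≠ 1 → y t ≠ 1
  y2 : ∀ t ∈ U6, t ≠ 1 → ∀ b ∈ U2, cj (μ6 (y t)) b = cj (μ6 e6)⁻¹ (cj (μ6 t) (cj (μ6 e6) b))
  y1 : ∀ t ∈ U6, t ≠ 1 → ∀ a ∈ U1, cj (μ6 (y t)) a = cj (μ6 e6)⁻¹ (cj (μ6 t) (cj (μ6 e6) a))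
  /-- the fourth component of `[a, t]` -/
  y4 : ∀ a ∈ U1, a ≠ 1 → ∀ t ∈ U6, t ≠ 1 → ∀ p ∈ U2, ∀ q ∈ U3, ∀ r ∈ U4, ∀ s ∈ U5,
    kk a t = p * q * r * s →
    r = cj (μ6 e6) (cj (μ1 (cj (μ6 e6)⁻¹ (cj (μ6 t) a)))⁻¹ (y t⁻¹))
  -- `st`
  st_mem : ∀ a ∈ U1, a ≠ 1 → st a ∈ U1
  st_ne : ∀ a ∈ U1, a ≠ 1 → st a ≠ 1
  st_surj : ∀ b ∈ U1, b ≠ 1 → ∃ a ∈ U1, a ≠ 1 ∧ st a = b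
  /-- Tits-Weiss 6.4 (ii) -/
  st_rot : ∀ a ∈ U1, a ≠ 1 → ∀ t ∈ U6, ∀ p ∈ U2, ∀ q ∈ U3, ∀ r ∈ U4, ∀ s ∈ U5,
    kk a t = p * q * r * s →
    kk (cj (μ1 e1)⁻¹ p) (st a) = cj (μ1 e1)⁻¹ (q * r * s * t⁻¹)
  st_mu : ∀ a ∈ U1, a ≠ 1 → μ1 a = cj (μ1 e1) (st a⁻¹) * a * (cj (μ1 e1) (st a))⁻¹
  st_special : (∀ a ∈ U1, a ≠ 1 → st a⁻¹ = (st a)⁻¹) → cj (μ1 e1) (cj (μ1 e1) (st e1⁻¹)) = e1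

end Cfsg.Agent.SplitTwo
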