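import Mathlib
import Cfsg.Agent.SplitTwo.HexG

/-!
# Moufang hexagons (S1144, [6c]): the field, the module and the parametrisations (interface)

`HexF` is the output of the field part (HexField.lean) and the input of the identities (HexIdent.lean).
-/

set_option autoImplicit false

namespace Cfsg.Agent.SplitTwo

universe u v w

/-- `HexG` with a field `F`, an `F`-module `J` and parametrisations of `U1, U5` by `J` and of `U2, U4, U6` by `F`. -/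
structure HexF {G : Type u} [Group G] {F : Type v} {J : Type w} [Field F] [AddCommGroup J] [Module F J]
    (U1 U2 U3 U4 U5 U6 : Subgroup G) (μ1 μ6 st y : G → G) (e1 e6 : G)
    (x1 x5 : J → G) (x2 x4 x6 : F → G) (N : J → F) (ε : J) : Prop where
  hG : HexG U1 U2 U3 U4 U5 U6 μ1 μ6 st y e1 e6
  add1 : ∀ a b, x1 (a + b) = x1 a * x1 b
  add5 : ∀ a b, x5 (a + b) = x5 a * x5 b
  add2 : ∀ a b, x2 (a + b) = x2 a * x2 b
  add4 : ∀ a b, x4 (a + b) = x4 a * x4 b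
  add6 : ∀ a b, x6 (a + b) = x6 a * x6 b
  inj1 : Function.Injective x1
  inj5 : Function.Injective x5
  inj2 : Function.Injective x2
  inj4 : Function.Injective x4
  inj6 : Function.Injective x6
  mem1 : ∀ g, g ∈ U1 ↔ ∃ a, x1 a = g
  mem5 : ∀ g, g ∈ U5 ↔ ∃ a, x5 a = g
  mem2 : ∀ g, g ∈ U2 ↔ ∃ a, x2 a = g
  mem4 : ∀ g, g ∈ U4 ↔ ∃ a, x4 a = g
  mem6 : ∀ g, g ∈ U6 ↔ ∃ a, x6 a = g
  one1 : x1 ε = e1
  one6 : x6 1 = e6
  /-- `φ` : the fifth component of `[x1 a, x6 t]` -/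
  p2 : ∀ t, t ≠ 0 → ∀ a, cj (μ6 (x6 t)) (x1 a) = x5 (-(t • a))
  p3 : ∀ s t, kk (x2 s) (x6 t) = x4 (s * t)
  p4 : ∀ t, cj (μ1 e1) (x6 t) = x2 t
  p4' : ∀ t, cj (μ1 e1) (x2 t) = x6 (-t)
  p5 : ∀ a, a ≠ 0 → ∀ t, cj (μ1 (x1 a)) (x6 t) = x2 (t * N a)
  N_zero : N 0 = 0
  N_ne : ∀ a, a ≠ 0 → N a ≠ 0

end Cfsg.Agent.SplitTwo
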