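import Mathlib
import Cfsg.Agent.SplitTwo.HexF

/-!
# Moufang hexagons (S1144, [6c]): collection in `U1 ⋯ U6` and the identities it forces

`HexC`: parametrised positive root groups with unknown structure functions `A, M, P, Q, R, T, T'`.
The overlaps of the collection process give the identities of a cubic norm structure
(up to the homogeneity, which comes from the torus, see HexIdent.lean).
-/

set_option autoImplicit false
set_option linter.unusedSimpArgs false

namespace Cfsg.Agent.SplitTwo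

universe u v w

/-- Parametrised positive part with unknown structure functions. -/
structure HexC {G : Type u} [Group G] {F : Type v} {J : Type w} [Field F] [AddCommGroup J] [Module F J]
    (x1 x3 x5 : J → G) (x2 x4 x6 : F → G) (N : J → F) (A : J → F → J) (M : J → F → F)
    (P Q T T' : J → J → F) (R : J → J → J) : Prop where
  add1 : ∀ a b, x1 (a + b) = x1 a * x1 b
  add3 : ∀ a b, x3 (a + b) = x3 a * x3 b
  add5 : ∀ a b, x5 (a + b) = x5 a * x5 b
  add2 : ∀ a b, x2 (a + b) = x2 a * x2 b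
  add4 : ∀ a b, x4 (a + b) = x4 a * x4 b
  add6 : ∀ a b, x6 (a + b) = x6 a * x6 b
  uniq : ∀ s c r b t, x2 s * x3 c * x4 r * x5 b * x6 t = 1 → s = 0 ∧ c = 0 ∧ r = 0 ∧ b = 0 ∧ t = 0
  r12 : ∀ a b, x1 a * x2 b = x2 b * x1 a
  r14 : ∀ a b, x1 a * x4 b = x4 b * x1 a
  r23 : ∀ a b, x2 a * x3 b = x3 b * x2 a
  r24 : ∀ a b, x2 a * x4 b = x4 b * x2 a
  r25 : ∀ a b, x2 a * x5 b = x5 b * x2 a
  r34 : ∀ a b, x3 a * x4 b = x4 b * x3 a
  r36 : ∀ a b, x3 a * x6 b = x6 b * x3 a
  r45 : ∀ a b, x4 a * x5 b = x5 b * x4 a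
  r46 : ∀ a b, x4 a * x6 b = x6 b * x4 a
  r56 : ∀ a b, x5 a * x6 b = x6 b * x5 a
  r13 : ∀ a c, kk (x1 a) (x3 c) = x2 (T a c)
  r35 : ∀ c b, kk (x3 c) (x5 b) = x4 (T' c b)
  r26 : ∀ s t, kk (x2 s) (x6 t) = x4 (s * t)
  r15 : ∀ a b, kk (x1 a) (x5 b) = x2 (-(P a b)) * x3 (R a b) * x4 (Q a b)
  r16 : ∀ a t, kk (x1 a) (x6 t) = x2 (-(t * N a)) * x3 (A a t) * x4 (M a t) * x5 (-(t • a))

theorem mul_ext_of {G : Type*} [Group G] {p q r : G} (h : p * q = r) (g : G) : p * (q * g) = r * g := by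
  rw [← mul_assoc, h]

theorem map_zero_of {G : Type*} [Group G] {J : Type*} [AddCommGroup J] {x : J → G}
    (h : ∀ a b, x (a + b) = x a * x b) : x 0 = 1 := by
  have := h 0 0
  rw [add_zero] at this
  exact (left_eq_mul.mp this)

theorem map_neg_of {G : Type*} [Group G] {J : Type*} [AddCommGroup J] {x : J → G}
    (h : ∀ a b, x (a + b) = x a * x b) (a : J) : x (-a) = (x a)⁻¹ := by
  rw [eq_inv_iff_mul_eq_one, ← h, neg_add_cancel, map_zero_of h]

theorem kk_swap {G : Type*} [Group G] (a b : G) : b * a = a * b * kk b a := by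
  unfold kk; group

theorem kk_inv {G : Type*} [Group G] (a b : G) : (kk a b)⁻¹ = kk b a := by
  unfold kk; group

namespace HexC

variable {G : Type u} [Group G] {F : Type v} {J : Type w} [Field F] [AddCommGroup J] [Module F J]
  {x1 x3 x5 : J → G} {x2 x4 x6 : F → G} {N : J → F} {A : J → F → J} {M : J → F → F}
  {P Q T T' : J → J → F} {R : J → J → J} (h : HexC x1 x3 x5 x2 x4 x6 N A M P Q T T' R)

include h

theorem z1 : x1 0 = 1 := map_zero_of h.add1
theorem z2 : x2 0 = 1 := map_zero_of h.add2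
theorem z3 : x3 0 = 1 := map_zero_of h.add3
theorem z4 : x4 0 = 1 := map_zero_of h.add4
theorem z5 : x5 0 = 1 := map_zero_of h.add5
theorem z6 : x6 0 = 1 := map_zero_of h.add6
theorem n1 (a : J) : (x1 a)⁻¹ = x1 (-a) := (map_neg_of h.add1 a).symm
theorem n2 (a : F) : (x2 a)⁻¹ = x2 (-a) := (map_neg_of h.add2 a).symm
theorem n3 (a : J) : (x3 a)⁻¹ = x3 (-a) := (map_neg_of h.add3 a).symm
theorem n4 (a : F) : (x4 a)⁻¹ = x4 (-a) := (map_neg_of h.add4 a).symm
theorem n5 (a : J) : (x5 a)⁻¹ = x5 (-a) := (map_neg_of h.add5 a).symm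
theorem n6 (a : F) : (x6 a)⁻¹ = x6 (-a) := (map_neg_of h.add6 a).symm
theorem m1 (a b : J) : x1 a * x1 b = x1 (a + b) := (h.add1 a b).symm
theorem m1' (a b : J) (g : G) : x1 a * (x1 b * g) = x1 (a + b) * g := mul_ext_of (h.m1 a b) g
theorem m2 (a b : F) : x2 a * x2 b = x2 (a + b) := (h.add2 a b).symm
theorem m2' (a b : F) (g : G) : x2 a * (x2 b * g) = x2 (a + b) * g := mul_ext_of (h.m2 a b) g
theorem m3 (a b : J) : x3 a * x3 b = x3 (a + b) := (h.add3 a b).symm
theorem m3' (a b : J) (g : G) : x3 a * (x3 b * g) = x3 (a + b) * g := mul_ext_of (h.m3 a b) g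
theorem m4 (a b : F) : x4 a * x4 b = x4 (a + b) := (h.add4 a b).symm
theorem m4' (a b : F) (g : G) : x4 a * (x4 b * g) = x4 (a + b) * g := mul_ext_of (h.m4 a b) g
theorem m5 (a b : J) : x5 a * x5 b = x5 (a + b) := (h.add5 a b).symm
theorem m5' (a b : J) (g : G) : x5 a * (x5 b * g) = x5 (a + b) * g := mul_ext_of (h.m5 a b) g
theorem m6 (a b : F) : x6 a * x6 b = x6 (a + b) := (h.add6 a b).symm
theorem m6' (a b : F) (g : G) : x6 a * (x6 b * g) = x6 (a + b) * g := mul_ext_of (h.m6 a b) g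
theorem q21 (b : F) (a : J) : x2 b * x1 a = x1 a * x2 b := (h.r12 a b).symm
theorem q21' (b : F) (a : J) (g : G) : x2 b * (x1 a * g) = x1 a * (x2 b * g) := by
  rw [mul_ext_of (h.q21 b a) g, mul_assoc]
theorem q41 (b : F) (a : J) : x4 b * x1 a = x1 a * x4 b := (h.r14 a b).symm
theorem q41' (b : F) (a : J) (g : G) : x4 b * (x1 a * g) = x1 a * (x4 b * g) := by
  rw [mul_ext_of (h.q41 b a) g, mul_assoc]
theorem q32 (b : J) (a : F) : x3 b * x2 a = x2 a * x3 b := (h.r23 a b).symm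
theorem q32' (b : J) (a : F) (g : G) : x3 b * (x2 a * g) = x2 a * (x3 b * g) := by
  rw [mul_ext_of (h.q32 b a) g, mul_assoc]
theorem q42 (b : F) (a : F) : x4 b * x2 a = x2 a * x4 b := (h.r24 a b).symm
theorem q42' (b : F) (a : F) (g : G) : x4 b * (x2 a * g) = x2 a * (x4 b * g) := by
  rw [mul_ext_of (h.q42 b a) g, mul_assoc]
theorem q52 (b : J) (a : F) : x5 b * x2 a = x2 a * x5 b := (h.r25 a b).symm
theorem q52' (b : J) (a : F) (g : G) : x5 b * (x2 a * g) = x2 a * (x5 b * g) := by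
  rw [mul_ext_of (h.q52 b a) g, mul_assoc]
theorem q43 (b : F) (a : J) : x4 b * x3 a = x3 a * x4 b := (h.r34 a b).symm
theorem q43' (b : F) (a : J) (g : G) : x4 b * (x3 a * g) = x3 a * (x4 b * g) := by
  rw [mul_ext_of (h.q43 b a) g, mul_assoc]
theorem q63 (b : F) (a : J) : x6 b * x3 a = x3 a * x6 b := (h.r36 a b).symm
theorem q63' (b : F) (a : J) (g : G) : x6 b * (x3 a * g) = x3 a * (x6 b * g) := by
  rw [mul_ext_of (h.q63 b a) g, mul_assoc]
theorem q54 (b : J) (a : F) : x5 b * x4 a = x4 a * x5 b := (h.r45 a b).symm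
theorem q54' (b : J) (a : F) (g : G) : x5 b * (x4 a * g) = x4 a * (x5 b * g) := by
  rw [mul_ext_of (h.q54 b a) g, mul_assoc]
theorem q64 (b : F) (a : F) : x6 b * x4 a = x4 a * x6 b := (h.r46 a b).symm
theorem q64' (b : F) (a : F) (g : G) : x6 b * (x4 a * g) = x4 a * (x6 b * g) := by
  rw [mul_ext_of (h.q64 b a) g, mul_assoc]
theorem q65 (b : F) (a : J) : x6 b * x5 a = x5 a * x6 b := (h.r56 a b).symm
theorem q65' (b : F) (a : J) (g : G) : x6 b * (x5 a * g) = x5 a * (x6 b * g) := by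
  rw [mul_ext_of (h.q65 b a) g, mul_assoc]

theorem q53 (b c : J) : x5 b * x3 c = x3 c * (x4 (-(T' c b)) * x5 b) := by
  rw [kk_swap (x3 c) (x5 b), ← kk_inv, h.r35, h.n4, mul_assoc, h.r45]

theorem q53' (b c : J) (g : G) : x5 b * (x3 c * g) = x3 c * (x4 (-(T' c b)) * (x5 b * g)) := by
  rw [mul_ext_of (h.q53 b c) g, mul_assoc, mul_assoc]

theorem q62 (t s : F) : x6 t * x2 s = x2 s * (x4 (-(s * t)) * x6 t) := by
  rw [kk_swap (x2 s) (x6 t), ← kk_inv, h.r26, h.n4, mul_assoc, h.r46]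

theorem q62' (t s : F) (g : G) : x6 t * (x2 s * g) = x2 s * (x4 (-(s * t)) * (x6 t * g)) := by
  rw [mul_ext_of (h.q62 t s) g, mul_assoc, mul_assoc]

theorem q31 (c a : J) : x3 c * x1 a = x1 a * (x2 (-(T a c)) * x3 c) := by
  rw [kk_swap (x1 a) (x3 c), ← kk_inv, h.r13, h.n2, mul_assoc, h.r23]

theorem q31' (c a : J) (g : G) : x3 c * (x1 a * g) = x1 a * (x2 (-(T a c)) * (x3 c * g)) := by
  rw [mul_ext_of (h.q31 c a) g, mul_assoc, mul_assoc]


theorem nf_inj {s s' r r' t t' : F} {c c' b b' : J}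
    (e : x2 s * (x3 c * (x4 r * (x5 b * x6 t))) = x2 s' * (x3 c' * (x4 r' * (x5 b' * x6 t')))) :
    s = s' ∧ c = c' ∧ r = r' ∧ b = b' ∧ t = t' := by
  have e1 : x4 (-r') * (x3 (-c') * (x2 (-s') * (x2 s * (x3 c * (x4 r * (x5 b * x6 t)))))) * (x6 (-t') * x5 (-b')) =
      x4 (-r') * (x3 (-c') * (x2 (-s') * (x2 s' * (x3 c' * (x4 r' * (x5 b' * x6 t')))))) * (x6 (-t') * x5 (-b')) := by
    rw [e]
  simp only [mul_assoc, h.q32, h.q32', h.q42, h.q42', h.q52, h.q52', h.q43, h.q43', h.q63, h.q63', h.q54, h.q54', h.q64, h.q64', h.q65, h.q65', h.q53, h.q53', h.q62, h.q62', h.m2, h.m2', h.m3, h.m3', h.m4, h.m4', h.m5, h.m5', h.m6, h.m6', add_neg_cancel, neg_add_cancel, h.z2, h.z3, h.z4, h.z5, h.z6, mul_one, one_mul] at e1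
  have e2 := h.uniq (-s' + s) (-c' + c) (-r' + r) (b + -b') (t + -t')
    (by simp only [mul_assoc]; exact e1)
  obtain ⟨a1, a2, a3, a4, a5⟩ := e2
  refine ⟨?_, ?_, ?_, ?_, ?_⟩
  · exact (neg_add_eq_zero.mp a1).symm
  · exact (neg_add_eq_zero.mp a2).symm
  · exact (neg_add_eq_zero.mp a3).symm
  · exact add_neg_eq_zero.mp a4
  · exact add_neg_eq_zero.mp a5

theorem inj4 {r r' : F} (e : x4 r = x4 r') : r = r' := by
  have := h.nf_inj (s := 0) (s' := 0) (c := 0) (c' := 0) (r := r) (r' := r') (b := 0) (b' := 0) (t := 0) (t' := 0)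
    (by rw [e])
  exact this.2.2.1

theorem inj2 {r r' : F} (e : x2 r = x2 r') : r = r' := by
  have := h.nf_inj (s := r) (s' := r') (c := 0) (c' := 0) (r := 0) (r' := 0) (b := 0) (b' := 0) (t := 0) (t' := 0)
    (by rw [e])
  exact this.1

theorem inj3 {r r' : J} (e : x3 r = x3 r') : r = r' := by
  have := h.nf_inj (s := 0) (s' := 0) (c := r) (c' := r') (r := 0) (r' := 0) (b := 0) (b' := 0) (t := 0) (t' := 0)
    (by rw [e])
  exact this.2.1

theorem inj5 {r r' : J} (e : x5 r = x5 r') : r = r' := by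
  have := h.nf_inj (s := 0) (s' := 0) (c := 0) (c' := 0) (r := 0) (r' := 0) (b := r) (b' := r') (t := 0) (t' := 0)
    (by rw [e])
  exact this.2.2.2.1

theorem inj6 {r r' : F} (e : x6 r = x6 r') : r = r' := by
  have := h.nf_inj (s := 0) (s' := 0) (c := 0) (c' := 0) (r := 0) (r' := 0) (b := 0) (b' := 0) (t := r) (t' := r')
    (by rw [e])
  exact this.2.2.2.2

theorem T'_add_left (c c' b : J) : T' (c + c') b = T' c b + T' c' b := by
  have e := h.q53 b (c + c')
  rw [h.add3, ← mul_assoc, h.q53] at e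
  simp only [mul_assoc, h.q32, h.q32', h.q42, h.q42', h.q52, h.q52', h.q43, h.q43', h.q63, h.q63', h.q54, h.q54', h.q64, h.q64', h.q65, h.q65', h.q53, h.q53', h.q62, h.q62', h.m2, h.m2', h.m3, h.m3', h.m4, h.m4', h.m5, h.m5', h.m6, h.m6'] at e
  have e2 := h.inj4 (mul_right_cancel (mul_left_cancel e))
  linear_combination e2

theorem T'_add_right (c b b' : J) : T' c (b + b') = T' c b + T' c b' := by
  have e := h.q53 (b + b') c
  rw [h.add5, mul_assoc, h.q53] at e
  simp only [mul_assoc, h.q32, h.q32', h.q42, h.q42', h.q52, h.q52', h.q43, h.q43', h.q63, h.q63', h.q54, h.q54', h.q64, h.q64', h.q65, h.q65', h.q53, h.q53', h.q62, h.q62', h.m2, h.m2', h.m3, h.m3', h.m4, h.m4', h.m5, h.m5', h.m6, h.m6'] at e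
  have e2 := h.inj4 (mul_right_cancel (mul_left_cancel e))
  linear_combination e2

theorem T_add_left (a a' c : J) : T (a + a') c = T a c + T a' c := by
  have e := h.q31 c (a + a')
  rw [h.add1, ← mul_assoc, h.q31] at e
  simp only [mul_assoc, h.q32, h.q32', h.q42, h.q42', h.q52, h.q52', h.q43, h.q43', h.q63, h.q63', h.q54, h.q54', h.q64, h.q64', h.q65, h.q65', h.q53, h.q53', h.q62, h.q62', h.m2, h.m2', h.m3, h.m3', h.m4, h.m4', h.m5, h.m5', h.m6, h.m6', h.q21, h.q21', h.q41, h.q41', h.q31, h.q31', h.m1, h.m1'] at e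
  have e2 := h.inj2 (mul_right_cancel (mul_left_cancel e))
  linear_combination e2

theorem T_add_right (a c c' : J) : T a (c + c') = T a c + T a c' := by
  have e := h.q31 (c + c') a
  rw [h.add3, mul_assoc, h.q31] at e
  simp only [mul_assoc, h.q32, h.q32', h.q42, h.q42', h.q52, h.q52', h.q43, h.q43', h.q63, h.q63', h.q54, h.q54', h.q64, h.q64', h.q65, h.q65', h.q53, h.q53', h.q62, h.q62', h.m2, h.m2', h.m3, h.m3', h.m4, h.m4', h.m5, h.m5', h.m6, h.m6', h.q21, h.q21', h.q41, h.q41', h.q31, h.q31', h.m1, h.m1'] at e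
  have e2 := h.inj2 (mul_right_cancel (mul_left_cancel e))
  linear_combination e2

theorem T'_zero_left (b : J) : T' 0 b = 0 := by
  have := h.T'_add_left 0 0 b
  rw [add_zero] at this
  linear_combination -this

theorem T'_zero_right (b : J) : T' b 0 = 0 := by
  have := h.T'_add_right b 0 0
  rw [add_zero] at this
  linear_combination -this

theorem T_zero_left (b : J) : T 0 b = 0 := by
  have := h.T_add_left 0 0 b
  rw [add_zero] at this
  linear_combination -this

theorem T_zero_right (b : J) : T b 0 = 0 := by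
  have := h.T_add_right b 0 0
  rw [add_zero] at this
  linear_combination -this

theorem T'_neg_left (c b : J) : T' (-c) b = -T' c b := by
  have := h.T'_add_left c (-c) b
  rw [add_neg_cancel, h.T'_zero_left] at this
  linear_combination -this

theorem T'_neg_right (c b : J) : T' c (-b) = -T' c b := by
  have := h.T'_add_right c b (-b)
  rw [add_neg_cancel, h.T'_zero_right] at this
  linear_combination -this

theorem T_neg_left (c b : J) : T (-c) b = -T c b := by
  have := h.T_add_left c (-c) b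
  rw [add_neg_cancel, h.T_zero_left] at this
  linear_combination -this

theorem T_neg_right (c b : J) : T c (-b) = -T c b := by
  have := h.T_add_right c b (-b)
  rw [add_neg_cancel, h.T_zero_right] at this
  linear_combination -this

theorem q51 (b a : J) : x5 b * x1 a =
    x1 a * (x2 (P a b) * (x3 (-(R a b)) * (x4 (T' (R a b) b + -(Q a b)) * x5 b))) := by
  rw [kk_swap (x1 a) (x5 b), ← kk_inv, h.r15]
  simp only [mul_assoc, h.q32, h.q32', h.q42, h.q42', h.q52, h.q52', h.q43, h.q43', h.q63, h.q63', h.q54, h.q54', h.q64, h.q64', h.q65, h.q65', h.q53, h.q53', h.q62, h.q62', h.m2, h.m2', h.m3, h.m3', h.m4, h.m4', h.m5, h.m5', h.m6, h.m6', h.n2, h.n3, h.n4, h.n5, h.n6, mul_inv_rev, neg_neg, h.T'_neg_left]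

theorem q51' (b a : J) (g : G) : x5 b * (x1 a * g) =
    x1 a * (x2 (P a b) * (x3 (-(R a b)) * (x4 (T' (R a b) b + -(Q a b)) * (x5 b * g)))) := by
  rw [mul_ext_of (h.q51 b a) g]
  simp only [mul_assoc]

theorem q61 (t : F) (a : J) : x6 t * x1 a =
    x1 a * (x2 (t * N a) * (x3 (-(A a t)) * (x4 (-(M a t) + (T' (A a t) (t • a) - t * N a * t)) *
      (x5 (t • a) * x6 t)))) := by
  rw [kk_swap (x1 a) (x6 t), ← kk_inv, h.r16]
  simp only [mul_assoc, h.q32, h.q32', h.q42, h.q42', h.q52, h.q52', h.q43, h.q43', h.q63, h.q63', h.q54, h.q54', h.q64, h.q64', h.q65, h.q65', h.q53, h.q53', h.q62, h.q62', h.m2, h.m2', h.m3, h.m3', h.m4, h.m4', h.m5, h.m5', h.m6, h.m6', h.n2, h.n3, h.n4, h.n5, h.n6, mul_inv_rev, neg_neg, h.T'_neg_left]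
  congr 4
  congr 1
  ring

theorem q61' (t : F) (a : J) (g : G) : x6 t * (x1 a * g) =
    x1 a * (x2 (t * N a) * (x3 (-(A a t)) * (x4 (-(M a t) + (T' (A a t) (t • a) - t * N a * t)) *
      (x5 (t • a) * (x6 t * g))))) := by
  rw [mul_ext_of (h.q61 t a) g]
  simp only [mul_assoc]

theorem nf3 {s s' r r' : F} {c c' : J} (e : x2 s * (x3 c * x4 r) = x2 s' * (x3 c' * x4 r')) :
    s = s' ∧ c = c' ∧ r = r' := by
  have := h.nf_inj (s := s) (s' := s') (c := c) (c' := c') (r := r) (r' := r') (b := 0) (b' := 0) (t := 0) (t' := 0)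
    (by rw [h.z5, h.z6]; simp only [mul_one]; exact e)
  exact ⟨this.1, this.2.1, this.2.2.1⟩

theorem nf4 {s s' r r' : F} {c c' b b' : J}
    (e : x2 s * (x3 c * (x4 r * x5 b)) = x2 s' * (x3 c' * (x4 r' * x5 b'))) :
    s = s' ∧ c = c' ∧ r = r' ∧ b = b' := by
  have := h.nf_inj (s := s) (s' := s') (c := c) (c' := c') (r := r) (r' := r') (b := b) (b' := b') (t := 0) (t' := 0)
    (by rw [h.z6]; simp only [mul_one]; exact e)
  exact ⟨this.1, this.2.1, this.2.2.1, this.2.2.2.1⟩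

/-! ### overlaps -/

theorem ov3 (a a' b : J) : P (a + a') b = P a b + P a' b + T a' (R a b) ∧
    R (a + a') b = R a b + R a' b ∧ Q (a + a') b = Q a b + Q a' b := by
  have e := h.r15 (a + a') b
  have e0 : kk (x1 (a + a')) (x5 b) = (x1 a')⁻¹ * kk (x1 a) (x5 b) * x1 a' * kk (x1 a') (x5 b) := by
    rw [h.add1]; unfold kk; group
  rw [e0, h.r15, h.r15] at e
  simp only [mul_assoc, h.q32, h.q32', h.q42, h.q42', h.q52, h.q52', h.q43, h.q43', h.q63, h.q63', h.q54, h.q54', h.q64, h.q64', h.q65, h.q65', h.q53, h.q53', h.q62, h.q62', h.m2, h.m2', h.m3, h.m3', h.m4, h.m4', h.m5, h.m5', h.m6, h.m6', h.q21, h.q21', h.q41, h.q41', h.q31, h.q31', h.m1, h.m1', h.n1, neg_add_cancel, h.z1, one_mul] at e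
  obtain ⟨f1, f2, f3⟩ := h.nf3 e
  refine ⟨?_, ?_, ?_⟩
  · linear_combination f1
  · rw [← f2]
  · rw [← f3]

theorem ov4 (a b b' : J) : P a (b + b') = P a b + P a b' ∧
    R a (b + b') = R a b + R a b' ∧ Q a (b + b') = Q a b + Q a b' + T' (R a b) b' := by
  have e := h.r15 a (b + b')
  have e0 : kk (x1 a) (x5 (b + b')) = kk (x1 a) (x5 b') * ((x5 b')⁻¹ * kk (x1 a) (x5 b) * x5 b') := by
    rw [h.add5]; unfold kk; group
  rw [e0, h.r15, h.r15] at e
  simp only [mul_assoc, h.q32, h.q32', h.q42, h.q42', h.q52, h.q52', h.q43, h.q43', h.q63, h.q63', h.q54, h.q54', h.q64, h.q64', h.q65, h.q65', h.q53, h.q53', h.q62, h.q62', h.m2, h.m2', h.m3, h.m3', h.m4, h.m4', h.m5, h.m5', h.m6, h.m6', h.q21, h.q21', h.q41, h.q41', h.q31, h.q31', h.m1, h.m1', h.n5, neg_add_cancel, h.z5, one_mul, mul_one, h.T'_neg_right, neg_neg] at e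
  obtain ⟨f1, f2, f3⟩ := h.nf3 e
  refine ⟨?_, ?_, ?_⟩
  · linear_combination f1
  · rw [← f2]; abel
  · rw [← f3]; ring


theorem R_zero_left (b : J) : R 0 b = 0 := by
  have := (h.ov3 0 0 b).2.1
  rw [add_zero] at this
  exact left_eq_add.mp this

theorem R_zero_right (b : J) : R b 0 = 0 := by
  have := (h.ov4 b 0 0).2.1
  rw [add_zero] at this
  exact left_eq_add.mp this

theorem R_neg_left (a b : J) : R (-a) b = -R a b := by
  have := (h.ov3 a (-a) b).2.1
  rw [add_neg_cancel, h.R_zero_left] at this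
  exact (neg_eq_of_add_eq_zero_right this.symm).symm

theorem R_neg_right (a b : J) : R a (-b) = -R a b := by
  have := (h.ov4 a b (-b)).2.1
  rw [add_neg_cancel, h.R_zero_right] at this
  exact (neg_eq_of_add_eq_zero_right this.symm).symm

theorem P_zero_right (b : J) : P b 0 = 0 := by
  have := (h.ov4 b 0 0).1
  rw [add_zero] at this
  exact left_eq_add.mp this

theorem P_neg_right (a b : J) : P a (-b) = -P a b := by
  have := (h.ov4 a b (-b)).1
  rw [add_neg_cancel, h.P_zero_right] at this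
  exact (neg_eq_of_add_eq_zero_right this.symm).symm

/-- symmetry of the trilinear form -/
theorem tri1 (a a' b : J) : T a' (R a b) = T a (R a' b) := by
  have e1 := (h.ov3 a a' b).1
  have e2 := (h.ov3 a' a b).1
  rw [add_comm] at e2
  linear_combination e2 - e1

theorem tri2 (a b b' : J) : T' (R a b) b' = T' (R a b') b := by
  have e1 := (h.ov4 a b b').2.2
  have e2 := (h.ov4 a b' b).2.2
  rw [add_comm] at e2
  linear_combination e2 - e1

theorem ov6 (a c : J) (u : F) : T' c (u • a) = u * T a c := by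
  have e := h.q31 c a
  have e0 : x6 u * (x3 c * x1 a) = x3 c * (x6 u * x1 a) := by
    rw [← mul_assoc, h.q63, mul_assoc]
  rw [h.q61, h.q31] at e0
  simp only [mul_assoc, h.q32, h.q32', h.q42, h.q42', h.q52, h.q52', h.q43, h.q43', h.q63, h.q63', h.q54, h.q54', h.q64, h.q64', h.q65, h.q65', h.q53, h.q53', h.q62, h.q62', h.m2, h.m2', h.m3, h.m3', h.m4, h.m4', h.m5, h.m5', h.m6, h.m6', h.q21, h.q21', h.q41, h.q41', h.q31, h.q31', h.m1, h.m1', h.q61, h.q61'] at e0
  have e3 := h.nf_inj (mul_left_cancel e0)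
  linear_combination -e3.2.2.1

theorem T'_eq (c a : J) : T' c a = T a c := by
  have := h.ov6 a c 1
  rwa [one_smul, one_mul] at this

theorem T_smul_left (u : F) (a c : J) : T (u • a) c = u * T a c := by
  rw [← h.T'_eq, h.ov6]

/-- `u P(a, b) = T(ua, a × b) - T(b, A(a, u))` -/
theorem ov5 (a b : J) (u : F) : u * P a b = T' (R a b) (u • a) - T' (A a u) b := by
  have e0 : x6 u * (x5 b * x1 a) = x5 b * (x6 u * x1 a) := by
    rw [← mul_assoc, h.q65, mul_assoc]
  rw [h.q61, h.q51] at e0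
  simp only [mul_assoc, h.q32, h.q32', h.q42, h.q42', h.q52, h.q52', h.q43, h.q43', h.q63, h.q63', h.q54, h.q54', h.q64, h.q64', h.q65, h.q65', h.q53, h.q53', h.q62, h.q62', h.m2, h.m2', h.m3, h.m3', h.m4, h.m4', h.m5, h.m5', h.m6, h.m6', h.q21, h.q21', h.q41, h.q41', h.q31, h.q31', h.m1, h.m1', h.q61, h.q61', h.q51, h.q51'] at e0
  have e3 := h.nf_inj (mul_left_cancel e0)
  have e4 := e3.2.2.1
  simp only [h.T'_add_left, h.T'_add_right, h.T'_neg_left, h.T'_neg_right] at e4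
  linear_combination -e4

/-- additivity in the first variable -/
theorem ov1 (a b : J) (t : F) :
    t * N (a + b) = t * N a + t * N b + T b (A a t) + P b (t • a) ∧
    A (a + b) t = A a t + A b t + R b (t • a) ∧
    M (a + b) t = M a t + M b t - Q b (-(t • a)) + T' (R b (t • a)) (t • a) + T' (A b t) (t • a) := by
  have e := h.r16 (a + b) t
  have e0 : kk (x1 (a + b)) (x6 t) = (x1 b)⁻¹ * kk (x1 a) (x6 t) * x1 b * kk (x1 b) (x6 t) := by
    rw [h.add1]; unfold kk; group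
  rw [e0, h.r16, h.r16] at e
  simp only [mul_assoc, h.q32, h.q32', h.q42, h.q42', h.q52, h.q52', h.q43, h.q43', h.q63, h.q63', h.q54, h.q54', h.q64, h.q64', h.q65, h.q65', h.q53, h.q53', h.q62, h.q62', h.m2, h.m2', h.m3, h.m3', h.m4, h.m4', h.m5, h.m5', h.m6, h.m6', h.q21, h.q21', h.q41, h.q41', h.q31, h.q31', h.m1, h.m1', h.q51, h.q51', h.n1, neg_add_cancel, h.z1, one_mul, h.T'_neg_left, h.T'_neg_right,
    h.R_neg_right, h.P_neg_right, neg_neg] at e
  obtain ⟨f1, f2, f3, f4⟩ := h.nf4 e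
  refine ⟨?_, ?_, ?_⟩
  · linear_combination f1
  · rw [← f2]; abel
  · rw [← f3]; ring

/-- additivity in the second variable -/
theorem ov2 (a : J) (t u : F) :
    A a (t + u) = A a t + A a u ∧
    M a (t + u) = M a t + M a u - t * u * N a + T' (A a t) (u • a) := by
  have e := h.r16 a (t + u)
  have e0 : kk (x1 a) (x6 (t + u)) = kk (x1 a) (x6 u) * ((x6 u)⁻¹ * kk (x1 a) (x6 t) * x6 u) := by
    rw [h.add6]; unfold kk; group
  rw [e0, h.r16, h.r16] at e
  simp only [mul_assoc, h.q32, h.q32', h.q42, h.q42', h.q52, h.q52', h.q43, h.q43', h.q63, h.q63', h.q54, h.q54', h.q64, h.q64', h.q65, h.q65', h.q53, h.q53', h.q62, h.q62', h.m2, h.m2', h.m3, h.m3', h.m4, h.m4', h.m5, h.m5', h.m6, h.m6', h.q21, h.q21', h.q41, h.q41', h.q31, h.q31', h.m1, h.m1', h.n6, neg_add_cancel, h.z6, one_mul, mul_one, h.T'_neg_right, neg_neg] at e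
  obtain ⟨f1, f2, f3, f4⟩ := h.nf4 e
  refine ⟨?_, ?_⟩
  · rw [← f2]; abel
  · rw [← f3]; ring

end HexC

end Cfsg.Agent.SplitTwo
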