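import Mathlib
import Cfsg.Agent.SplitTwo.HexCubicDef

/-!
# Finite anisotropic cubic norm structures

A finite anisotropic cubic norm structure `(F, J)` is either `J = F e` or a cubic field extension of `F`, with the
usual norm, adjoint and trace form.
-/

set_option autoImplicit false

namespace Cfsg.Agent.SplitTwo

namespace CubicNorm

universe u v

variable {F : Type u} {J : Type v} [Field F] [AddCommGroup J] [Module F J] (C : CubicNorm F J)

theorem T_add' (a b c : J) : C.T a (b + c) = C.T a b + C.T a c := by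
  rw [C.T_comm a, C.T_add, C.T_comm b, C.T_comm c]

theorem T_smul' (t : F) (a b : J) : C.T a (t • b) = t * C.T a b := by
  rw [C.T_comm a, C.T_smul, C.T_comm b]

theorem T_neg (a b : J) : C.T (-a) b = - C.T a b := by
  rw [← neg_one_smul F a, C.T_smul, neg_one_mul]

theorem T_neg' (a b : J) : C.T a (-b) = - C.T a b := by
  rw [C.T_comm, C.T_neg, C.T_comm]

theorem T_sub (a b c : J) : C.T (a - b) c = C.T a c - C.T b c := by
  rw [sub_eq_add_neg, C.T_add, C.T_neg, sub_eq_add_neg]

theorem T_sub' (a b c : J) : C.T a (b - c) = C.T a b - C.T a c := by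
  rw [sub_eq_add_neg, C.T_add', C.T_neg', sub_eq_add_neg]

theorem cr_add' (a b c : J) : C.cr a (b + c) = C.cr a b + C.cr a c := by
  rw [C.cr_comm a, C.cr_add, C.cr_comm b, C.cr_comm c]

theorem cr_smul' (t : F) (a b : J) : C.cr a (t • b) = t • C.cr a b := by
  rw [C.cr_comm a, C.cr_smul, C.cr_comm b]

theorem cr_neg (a b : J) : C.cr (-a) b = - C.cr a b := by
  rw [← neg_one_smul F a, C.cr_smul, neg_one_smul]

theorem cr_neg' (a b : J) : C.cr a (-b) = - C.cr a b := by
  rw [C.cr_comm, C.cr_neg, C.cr_comm]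

theorem cr_sub' (a b c : J) : C.cr a (b - c) = C.cr a b - C.cr a c := by
  rw [sub_eq_add_neg, C.cr_add', C.cr_neg', sub_eq_add_neg]

theorem N_zero : C.N 0 = 0 := by
  have := C.N_smul 0 0
  simpa using this

theorem sh_zero : C.sh 0 = 0 := by
  have := C.sh_smul 0 0
  simpa using this

theorem e_ne : C.e ≠ 0 := by
  intro h
  have := C.N_e
  rw [h, C.N_zero] at this
  exact zero_ne_one this

theorem cr_e' (b : J) : C.cr C.e b = C.T b C.e • C.e - b := by
  rw [eq_sub_iff_add_eq, ← eq_sub_iff_add_eq']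
  exact (C.base b).symm

theorem cr_self (a : J) : C.cr a a = (2 : F) • C.sh a := by
  have h1 := C.sh_add a a
  have h2 := C.sh_smul 2 a
  rw [two_smul] at h2
  rw [h2] at h1
  have h3 : C.cr a a = (2 : F) ^ 2 • C.sh a - (C.sh a + C.sh a) := by rw [h1]; abel
  rw [h3, ← two_smul F, ← sub_smul]
  congr 1; ring

theorem T_e_e : C.T C.e C.e = 3 := by
  have h1 := C.cr_e' C.e
  rw [C.cr_self, C.sh_e] at h1
  have h2 : (C.T C.e C.e - 3) • C.e = 0 := by
    have : (C.T C.e C.e - 3) • C.e = (C.T C.e C.e • C.e - C.e) - (2 : F) • C.e := by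
      rw [sub_smul, sub_sub]
      congr 1
      rw [show (3 : F) = 1 + 2 by norm_num, add_smul, one_smul]
    rw [this, h1, sub_self]
  exact sub_eq_zero.1 ((smul_eq_zero.1 h2).resolve_right C.e_ne)

theorem T_e_cr (a b : J) : C.T C.e (C.cr a b) = C.T a C.e * C.T b C.e - C.T a b := by
  rw [C.T_cr, C.cr_e', C.T_sub', C.T_smul', C.T_comm b a]

theorem T_self (a : J) : C.T a a = C.T a C.e ^ 2 - 2 * C.T (C.sh a) C.e := by
  have h1 := C.T_e_cr a a
  rw [C.cr_self, C.T_smul', C.T_comm C.e] at h1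
  linear_combination h1

theorem cr_self_sh (a : J) : C.cr a (C.sh a) =
    (C.T a C.e * C.T (C.sh a) C.e - C.N a) • C.e - C.T (C.sh a) C.e • a - C.T a C.e • C.sh a := by
  have h1 := C.sh_sh (a + C.e)
  have h2 : C.sh (a + C.e) = (C.sh a + (-1 : F) • a) + (1 + C.T a C.e) • C.e := by
    rw [C.sh_add, C.sh_e, C.cr_comm, C.cr_e']
    module
  rw [h2, C.sh_add, C.sh_add, C.sh_smul, C.sh_smul, C.sh_e, C.sh_sh, C.cr_smul', C.cr_smul', C.cr_add,
    C.cr_comm (C.sh a) C.e, C.cr_smul, C.cr_comm a C.e, C.cr_e', C.cr_e', C.N_add, C.N_e, C.sh_e,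
    C.T_comm C.e (C.sh a), C.cr_comm (C.sh a) a] at h1
  have h3 : C.cr a (C.sh a) = C.N a • a + (-1 : F) ^ 2 • C.sh a + (1 + C.T a C.e) ^ 2 • C.e +
      (1 + C.T a C.e) • ((C.T (C.sh a) C.e • C.e - C.sh a) + (-1 : F) • (C.T a C.e • C.e - a)) -
      (C.N a + 1 + C.T (C.sh a) C.e + C.T a C.e) • (a + C.e) := by
    rw [← h1]
    module
  rw [h3]
  module

theorem T_self_sh (a : J) : C.T a (C.sh a) = 3 * C.N a := by
  have h1 := C.T_e_cr a (C.sh a)
  rw [C.cr_self_sh, C.T_sub', C.T_sub', C.T_smul', C.T_smul', C.T_smul', C.T_e_e, C.T_comm C.e a,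
    C.T_comm C.e (C.sh a)] at h1
  linear_combination h1

theorem T_sh_sh (a : J) : C.T (C.sh a) (C.sh a) = C.T (C.sh a) C.e ^ 2 - 2 * C.N a * C.T a C.e := by
  rw [C.T_self, C.sh_sh, C.T_smul]
  ring

/-- the norm of `x e + y a + z a^#` -/
theorem N_span (a : J) (x y z : F) : C.N (x • C.e + y • a + z • C.sh a) =
    x ^ 3 + y ^ 3 * C.N a + x * y ^ 2 * C.T (C.sh a) C.e + x ^ 2 * y * C.T a C.e + z ^ 3 * C.N a ^ 2 +
      z * (x ^ 2 * C.T (C.sh a) C.e + y ^ 2 * (C.T (C.sh a) C.e ^ 2 - 2 * C.N a * C.T a C.e) +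
        x * y * (C.T a C.e * C.T (C.sh a) C.e - 3 * C.N a)) +
      z ^ 2 * C.N a * (x * C.T a C.e + y * (C.T a C.e ^ 2 - 2 * C.T (C.sh a) C.e)) := by
  simp only [C.N_add, C.N_smul, C.sh_add, C.sh_smul, C.N_e, C.sh_e, C.N_sh, C.sh_sh, C.T_add, C.T_add', C.T_smul,
    C.T_smul', C.T_sub', C.cr_smul, C.cr_smul', C.cr_e', C.T_comm C.e, C.T_comm (C.sh a) a, C.T_self_sh,
    C.T_sh_sh, C.T_self]
  ring

theorem sh_span (a : J) (x y z : F) : C.sh (x • C.e + y • a + z • C.sh a) =
    (x ^ 2 + x * y * C.T a C.e + x * z * C.T (C.sh a) C.e + y * z * (C.T a C.e * C.T (C.sh a) C.e - C.N a)) • C.e +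
    (z ^ 2 * C.N a - x * y - y * z * C.T (C.sh a) C.e) • a +
    (y ^ 2 - x * z - y * z * C.T a C.e) • C.sh a := by
  simp only [C.sh_add, C.sh_smul, C.sh_e, C.sh_sh, C.cr_add, C.cr_smul, C.cr_smul',
    C.cr_e', C.cr_self_sh]
  module

theorem T_span (a : J) (x y z x' y' z' : F) :
    C.T (x • C.e + y • a + z • C.sh a) (x' • C.e + y' • a + z' • C.sh a) =
      3 * (x * x') + (x * y' + x' * y) * C.T a C.e + (x * z' + x' * z) * C.T (C.sh a) C.e +
      y * y' * (C.T a C.e ^ 2 - 2 * C.T (C.sh a) C.e) + (y * z' + y' * z) * (3 * C.N a) +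
      z * z' * (C.T (C.sh a) C.e ^ 2 - 2 * C.N a * C.T a C.e) := by
  simp only [C.T_add, C.T_add', C.T_smul, C.T_smul', C.T_e_e, C.T_comm C.e, C.T_comm (C.sh a) a, C.T_self_sh,
    C.T_sh_sh, C.T_self]
  ring

/-- the "characteristic polynomial" of an element outside `F e` has no root -/
theorem no_root (a : J) (ha : ∀ t : F, a ≠ t • C.e) (X : F) :
    X ^ 3 - C.T a C.e * X ^ 2 + C.T (C.sh a) C.e * X - C.N a ≠ 0 := by
  have h1 : C.N (X • C.e + (-1 : F) • a) = X ^ 3 - C.T a C.e * X ^ 2 + C.T (C.sh a) C.e * X - C.N a := by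
    have := C.N_span a X (-1) 0
    rw [zero_smul, add_zero] at this
    rw [this]; ring
  rw [← h1]
  apply C.N_ne
  intro h
  apply ha X
  rw [neg_one_smul, ← sub_eq_add_neg, sub_eq_zero] at h
  exact h.symm

theorem T_sum {σ : Type*} (s : Finset σ) (f : σ → J) (b : J) : C.T (∑ i ∈ s, f i) b = ∑ i ∈ s, C.T (f i) b := by
  classical
  induction s using Finset.induction_on with
  | empty =>
    have := C.T_smul 0 0 b
    simpa using this
  | insert a s ha ih => rw [Finset.sum_insert ha, Finset.sum_insert ha, C.T_add, ih]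

theorem cr_sum {σ : Type*} (s : Finset σ) (f : σ → J) (b : J) : C.cr (∑ i ∈ s, f i) b = ∑ i ∈ s, C.cr (f i) b := by
  classical
  induction s using Finset.induction_on with
  | empty =>
    have := C.cr_smul 0 0 b
    simpa using this
  | insert a s ha ih => rw [Finset.sum_insert ha, Finset.sum_insert ha, C.cr_add, ih]

open MvPolynomial in
theorem exists_poly_sh {σ : Type*} (w : J) (v : σ → J) (s : Finset σ) : ∃ P : MvPolynomial σ F, P.totalDegree ≤ 2 ∧
    ∀ x : σ → F, eval x P = C.T w (C.sh (∑ i ∈ s, x i • v i)) := by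
  classical
  induction s using Finset.induction_on with
  | empty =>
    refine ⟨0, by simp, fun x => ?_⟩
    have := C.T_smul' 0 w 0
    rw [Finset.sum_empty, C.sh_zero]
    simpa using this.symm
  | insert a s ha ih =>
    obtain ⟨P, hP, hPe⟩ := ih
    refine ⟨MvPolynomial.C (C.T w (C.sh (v a))) * X a ^ 2 + P +
      ∑ i ∈ s, MvPolynomial.C (C.T w (C.cr (v a) (v i))) * (X a * X i), ?_, fun x => ?_⟩
    · refine (totalDegree_add _ _).trans (max_le ((totalDegree_add _ _).trans (max_le ?_ hP)) ?_)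
      · refine (totalDegree_mul _ _).trans ?_
        rw [totalDegree_C, totalDegree_X_pow]
      · refine totalDegree_finsetSum_le fun i _ => ?_
        refine (totalDegree_mul _ _).trans ?_
        rw [totalDegree_C, zero_add]
        refine (totalDegree_mul _ _).trans ?_
        rw [totalDegree_X, totalDegree_X]
    · rw [Finset.sum_insert ha, C.sh_add, C.T_add', C.T_add', C.sh_smul, C.T_smul', ← hPe, C.cr_smul, C.T_smul',
        C.cr_comm, C.cr_sum, C.T_comm w (∑ i ∈ s, _), C.T_sum]
      simp only [map_add, map_mul, map_sum, eval_C, eval_X, map_pow, C.cr_smul, C.T_smul, Finset.mul_sum]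
      congr 1
      · ring
      · refine Finset.sum_congr rfl fun i _ => ?_
        rw [C.cr_comm (v i), C.T_comm _ w]
        ring

open MvPolynomial in
theorem exists_poly {σ : Type*} (v : σ → J) (s : Finset σ) : ∃ P : MvPolynomial σ F, P.totalDegree ≤ 3 ∧
    ∀ x : σ → F, eval x P = C.N (∑ i ∈ s, x i • v i) := by
  classical
  induction s using Finset.induction_on with
  | empty =>
    refine ⟨0, by simp, fun x => ?_⟩
    rw [Finset.sum_empty, C.N_zero, map_zero]
  | insert a s ha ih =>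
    obtain ⟨P, hP, hPe⟩ := ih
    obtain ⟨Q, hQ, hQe⟩ := C.exists_poly_sh (v a) v s
    refine ⟨MvPolynomial.C (C.N (v a)) * X a ^ 3 + P +
      (∑ i ∈ s, MvPolynomial.C (C.T (v i) (C.sh (v a))) * (X a ^ 2 * X i)) + X a * Q, ?_, fun x => ?_⟩
    · refine (totalDegree_add _ _).trans (max_le ((totalDegree_add _ _).trans
        (max_le ((totalDegree_add _ _).trans (max_le ?_ hP)) ?_)) ?_)
      · refine (totalDegree_mul _ _).trans ?_
        rw [totalDegree_C, totalDegree_X_pow]
      · refine totalDegree_finsetSum_le fun i _ => ?_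
        refine (totalDegree_mul _ _).trans ?_
        rw [totalDegree_C, zero_add]
        refine (totalDegree_mul _ _).trans ?_
        rw [totalDegree_X_pow, totalDegree_X]
      · refine (totalDegree_mul _ _).trans ?_
        rw [totalDegree_X]
        omega
    · rw [Finset.sum_insert ha, C.N_add, C.N_smul, C.sh_smul, C.T_smul', C.T_smul, C.T_sum]
      simp only [map_add, map_mul, map_sum, eval_C, eval_X, map_pow, C.T_smul, Finset.mul_sum, hPe, hQe]
      congr 2
      · ring
      · refine Finset.sum_congr rfl fun i _ => ?_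
        ring

include C in
theorem finrank_le [Finite F] [Finite J] : Module.finrank F J ≤ 3 := by
  classical
  by_contra hn
  rw [not_le] at hn
  have := Fintype.ofFinite F
  obtain ⟨p, hp⟩ := CharP.exists F
  have hpp : Fact p.Prime := ⟨CharP.char_is_prime F p⟩
  let B := Module.finBasis F J
  let v : Fin 4 → J := fun i => B (Fin.castLE (by omega) i)
  have hv : LinearIndependent F v := B.linearIndependent.comp _ (Fin.castLE_injective _)
  obtain ⟨P, hP, hPe⟩ := C.exists_poly v Finset.univ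
  have hdvd := char_dvd_card_solutions p (f := P) (by rw [Fintype.card_fin]; omega)
  have h0 : MvPolynomial.eval (fun _ => (0 : F)) P = 0 := by
    rw [hPe]; simp [C.N_zero]
  have hone : ∃ x : Fin 4 → F, MvPolynomial.eval x P = 0 ∧ x ≠ fun _ => 0 := by
    by_contra hcon
    push Not at hcon
    have : Fintype.card {x : Fin 4 → F // MvPolynomial.eval x P = 0} = 1 := by
      rw [Fintype.card_eq_one_iff]
      exact ⟨⟨_, h0⟩, fun y => Subtype.ext (hcon y.1 y.2)⟩
    rw [this] at hdvd
    exact hpp.out.one_lt.ne' (Nat.dvd_one.1 hdvd)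
  obtain ⟨x, hx, hx0⟩ := hone
  rw [hPe] at hx
  have hs : ∑ i, x i • v i = 0 := by
    by_contra h
    exact C.N_ne _ h hx
  apply hx0
  funext i
  exact Fintype.linearIndependent_iff.1 hv x hs i

end CubicNorm

namespace Cub

universe u

open Polynomial


section mat

variable {F K : Type*} [Field F] [Field K] [Algebra F K] (b : Module.Basis (Fin 3) F K) {θ : K} {τ σ ν : F}
  (h0 : b 0 = 1) (h1 : b 1 = θ) (h2 : b 2 = θ ^ 2)
  (hθ : θ ^ 3 = algebraMap F K τ * θ ^ 2 - algebraMap F K σ * θ + algebraMap F K ν)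

include h0 h1 h2 hθ

theorem leftMul (A B C : F) : Algebra.leftMulMatrix b (algebraMap F K A + algebraMap F K B * θ + algebraMap F K C * θ ^ 2) =
    !![A, C * ν, (B + C * τ) * ν; B, A - C * σ, C * ν - (B + C * τ) * σ; C, B + C * τ, A - C * σ + (B + C * τ) * τ] := by
  ext i j
  rw [Algebra.leftMulMatrix_eq_repr_mul]
  have key : ∀ (c : Fin 3 → F) (k : K), k = algebraMap F K (c 0) + algebraMap F K (c 1) * θ + algebraMap F K (c 2) * θ ^ 2 →
      b.repr k i = c i := by
    intro c k hk
    have : k = ∑ l, c l • b l := by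
      rw [Fin.sum_univ_three, h0, h1, h2, hk]
      simp only [Algebra.smul_def, mul_one]
    rw [this, Module.Basis.repr_sum_self]
  fin_cases j
  · rw [key ![A, B, C] _ (by simp [h0])]
    fin_cases i <;> rfl
  · rw [key ![C * ν, A - C * σ, B + C * τ] _ (by
      simp only [h1, Fin.mk_one, Fin.isValue, Matrix.cons_val_zero, Matrix.cons_val_one, Matrix.cons_val, map_mul, map_add, map_sub]
      linear_combination (algebraMap F K C) * hθ)]
    fin_cases i <;> rfl
  · rw [key ![(B + C * τ) * ν, C * ν - (B + C * τ) * σ, A - C * σ + (B + C * τ) * τ] _ (by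
      simp only [h2, Fin.reduceFinMk, Fin.isValue, Matrix.cons_val_zero, Matrix.cons_val_one, Matrix.cons_val, map_mul, map_add, map_sub]
      linear_combination (algebraMap F K B + algebraMap F K C * θ + algebraMap F K C * algebraMap F K τ) * hθ)]
    fin_cases i <;> rfl

theorem norm_eq (x y z : F) : Algebra.norm F (algebraMap F K x + algebraMap F K y * θ +
      algebraMap F K z * (θ ^ 2 - algebraMap F K τ * θ + algebraMap F K σ)) =
    x ^ 3 + y ^ 3 * ν + x * y ^ 2 * σ + x ^ 2 * y * τ + z ^ 3 * ν ^ 2 +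
      z * (x ^ 2 * σ + y ^ 2 * (σ ^ 2 - 2 * ν * τ) + x * y * (τ * σ - 3 * ν)) +
      z ^ 2 * ν * (x * τ + y * (τ ^ 2 - 2 * σ)) := by
  have h := leftMul b h0 h1 h2 hθ (x + z * σ) (y - z * τ) z
  have e : algebraMap F K x + algebraMap F K y * θ + algebraMap F K z * (θ ^ 2 - algebraMap F K τ * θ + algebraMap F K σ) =
      algebraMap F K (x + z * σ) + algebraMap F K (y - z * τ) * θ + algebraMap F K z * θ ^ 2 := by
    simp only [map_add, map_sub, map_mul]; ring
  rw [e, Algebra.norm_eq_matrix_det b, h, Matrix.det_fin_three]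
  simp only [Matrix.of_apply, Matrix.cons_val', Matrix.cons_val_zero, Matrix.cons_val_one, Matrix.cons_val_fin_one, Matrix.cons_val, Fin.isValue]
  ring

theorem trace_eq (A B C : F) : Algebra.trace F K (algebraMap F K A + algebraMap F K B * θ + algebraMap F K C * θ ^ 2) =
    3 * A + B * τ + C * (τ ^ 2 - 2 * σ) := by
  have h := leftMul b h0 h1 h2 hθ A B C
  rw [Algebra.trace_eq_matrix_trace b, h, Matrix.trace_fin_three]
  simp only [Matrix.of_apply, Matrix.cons_val', Matrix.cons_val_zero, Matrix.cons_val_one, Matrix.cons_val_fin_one, Matrix.cons_val, Fin.isValue]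
  ring

omit h0 h1 h2 in
theorem ne_zero_θ (hν : ν ≠ 0) : θ ≠ 0 := by
  intro h
  rw [h] at hθ
  apply hν
  have : algebraMap F K ν = 0 := by
    rw [← sub_eq_zero] at hθ
    have h3 : (0 : K) ^ 3 - (algebraMap F K τ * 0 ^ 2 - algebraMap F K σ * 0 + algebraMap F K ν) = 0 := hθ
    simpa using h3
  exact (map_eq_zero _).1 this

end mat

theorem exists_basis {F : Type u} [Field F] (τ σ ν : F) (hroot : ∀ X : F, X ^ 3 - τ * X ^ 2 + σ * X - ν ≠ 0) :
    ∃ (K : Type u) (_ : Field K) (_ : Algebra F K) (b : Module.Basis (Fin 3) F K) (θ : K),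
      b 0 = 1 ∧ b 1 = θ ∧ b 2 = θ ^ 2 ∧ θ ^ 3 = algebraMap F K τ * θ ^ 2 - algebraMap F K σ * θ + algebraMap F K ν := by
  let f : F[X] := X ^ 3 - C τ * X ^ 2 + C σ * X - C ν
  have hd : f.natDegree = 3 := by
    simp only [f]; compute_degree!
  have hf0 : f ≠ 0 := by
    intro h; rw [h, natDegree_zero] at hd; omega
  have hirr : Irreducible f := by
    rw [Polynomial.irreducible_iff_roots_eq_zero_of_degree_le_three (by omega) (by omega)]
    rw [Multiset.eq_zero_iff_forall_notMem]
    intro r hr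
    rw [mem_roots hf0, IsRoot.def] at hr
    apply hroot r
    simpa [f] using hr
  have : Fact (Irreducible f) := ⟨hirr⟩
  let pb := AdjoinRoot.powerBasis hf0
  have hdim : pb.dim = 3 := hd
  refine ⟨AdjoinRoot f, inferInstance, inferInstance, pb.basis.reindex (finCongr hdim), AdjoinRoot.root f, ?_, ?_, ?_, ?_⟩
  · rw [Module.Basis.reindex_apply, pb.basis_eq_pow]; simp
  · rw [Module.Basis.reindex_apply, pb.basis_eq_pow]; simp [pb]
  · rw [Module.Basis.reindex_apply, pb.basis_eq_pow]; simp [pb]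
  · have h := AdjoinRoot.eval₂_root f
    simp only [f, eval₂_sub, eval₂_add, eval₂_mul, eval₂_pow, eval₂_X, eval₂_C] at h
    have h' : AdjoinRoot.of f = algebraMap F (AdjoinRoot f) := rfl
    rw [← h']
    linear_combination h

end Cub

namespace CubicNorm

universe u v

variable {F : Type u} {J : Type v} [Field F] [AddCommGroup J] [Module F J] (C : CubicNorm F J)

include C in
/-- A finite anisotropic cubic norm structure is `F e` or a cubic field extension. -/
theorem scalar_or_cubic [Finite F] [Finite J] :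
    (∀ a : J, ∃ t : F, a = t • C.e) ∨
    ∃ (K : Type u) (_ : Field K) (_ : Algebra F K) (L : J ≃ₗ[F] K), Module.finrank F K = 3 ∧ L C.e = 1 ∧
      (∀ a, C.N a = Algebra.norm F (L a)) ∧ (∀ a, L (C.sh a) = algebraMap F K (C.N a) * (L a)⁻¹) ∧
      ∀ a b, C.T a b = Algebra.trace F K (L a * L b) := by
  by_cases hall : ∀ a : J, ∃ t : F, a = t • C.e
  · exact Or.inl hall
  right
  push Not at hall
  obtain ⟨a₀, ha₀⟩ := hall
  obtain ⟨K, _, _, b, θ, h0, h1, h2, hθ⟩ := Cub.exists_basis (C.T a₀ C.e) (C.T (C.sh a₀) C.e) (C.N a₀) (C.no_root a₀ ha₀)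
  have hnorm := Cub.norm_eq b h0 h1 h2 hθ
  have htr := Cub.trace_eq b h0 h1 h2 hθ
  have hN := C.N_span a₀
  have hS := C.sh_span a₀
  have hT := C.T_span a₀
  generalize hτ : C.T a₀ C.e = τ at *
  generalize hσ : C.T (C.sh a₀) C.e = σ at *
  generalize hν : C.N a₀ = ν at *
  let M : K →ₗ[F] J := b.constr F ![C.e, a₀, C.sh a₀ + τ • a₀ - σ • C.e]
  have hM0 : M 1 = C.e := by
    rw [← h0]; simp [M]
  have hM1 : M θ = a₀ := by
    rw [← h1]; simp [M]
  have hM2 : M (θ ^ 2) = C.sh a₀ + τ • a₀ - σ • C.e := by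
    rw [← h2]; simp [M]
  have hMk : ∀ x y z : F, M (algebraMap F K x + algebraMap F K y * θ +
      algebraMap F K z * (θ ^ 2 - algebraMap F K τ * θ + algebraMap F K σ)) = x • C.e + y • a₀ + z • C.sh a₀ := by
    intro x y z
    have e : algebraMap F K x + algebraMap F K y * θ + algebraMap F K z * (θ ^ 2 - algebraMap F K τ * θ + algebraMap F K σ) =
        (x + z * σ) • (1 : K) + (y - z * τ) • θ + z • θ ^ 2 := by
      simp only [Algebra.smul_def, map_add, map_sub, map_mul]; ring
    rw [e, map_add, map_add, map_smul, map_smul, map_smul, hM0, hM1, hM2]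
    module
  have hex : ∀ k : K, ∃ x y z : F, k = algebraMap F K x + algebraMap F K y * θ +
      algebraMap F K z * (θ ^ 2 - algebraMap F K τ * θ + algebraMap F K σ) := by
    intro k
    refine ⟨b.repr k 0 - b.repr k 2 * σ, b.repr k 1 + b.repr k 2 * τ, b.repr k 2, ?_⟩
    conv_lhs => rw [← b.sum_repr k, Fin.sum_univ_three, h0, h1, h2]
    simp only [Algebra.smul_def, map_add, map_sub, map_mul]
    ring
  have hMN : ∀ k : K, C.N (M k) = Algebra.norm F k := by
    intro k
    obtain ⟨x, y, z, rfl⟩ := hex k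
    rw [hMk, hN, hnorm]
  have hfK : Module.finrank F K = 3 := by
    rw [Module.finrank_eq_card_basis b, Fintype.card_fin]
  have hfin : FiniteDimensional F K := Module.Basis.finiteDimensional_of_finite b
  have hinj : Function.Injective M := by
    rw [← LinearMap.ker_eq_bot, LinearMap.ker_eq_bot']
    intro k hk
    have h3 := hMN k
    rw [hk, C.N_zero] at h3
    exact Algebra.norm_eq_zero_iff.1 h3.symm
  have hfJ : Module.finrank F J = 3 := by
    refine le_antisymm C.finrank_le ?_
    rw [← hfK]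
    exact LinearMap.finrank_le_finrank_of_injective hinj
  have hbij : Function.Bijective M :=
    ⟨hinj, (LinearMap.injective_iff_surjective_of_finrank_eq_finrank (by rw [hfK, hfJ])).1 hinj⟩
  let E : K ≃ₗ[F] J := LinearEquiv.ofBijective M hbij
  have hE : ∀ k, E k = M k := fun k => rfl
  refine ⟨K, inferInstance, inferInstance, E.symm, hfK, ?_, ?_, ?_, ?_⟩
  · rw [LinearEquiv.symm_apply_eq, hE, hM0]
  · intro a
    obtain ⟨k, rfl⟩ := E.surjective a
    rw [LinearEquiv.symm_apply_apply, hE, hMN]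
  · intro a
    obtain ⟨k, rfl⟩ := E.surjective a
    rw [LinearEquiv.symm_apply_apply]
    by_cases hk : k = 0
    · rw [hk, map_zero, C.sh_zero, map_zero, inv_zero, mul_zero]
    rw [eq_mul_inv_iff_mul_eq₀ hk]
    obtain ⟨x, y, z, rfl⟩ := hex k
    have h3 : E.symm (C.sh (E (algebraMap F K x + algebraMap F K y * θ +
        algebraMap F K z * (θ ^ 2 - algebraMap F K τ * θ + algebraMap F K σ)))) =
        algebraMap F K (x ^ 2 + x * y * τ + x * z * σ + y * z * (τ * σ - ν)) +
        algebraMap F K (z ^ 2 * ν - x * y - y * z * σ) * θ +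
        algebraMap F K (y ^ 2 - x * z - y * z * τ) * (θ ^ 2 - algebraMap F K τ * θ + algebraMap F K σ) := by
      rw [LinearEquiv.symm_apply_eq, hE, hE, hMk, hMk, hS]
    rw [h3, hE, hMk, hN]
    simp only [map_add, map_sub, map_mul, map_pow, map_ofNat]
    linear_combination (algebraMap F K z * (algebraMap F K y ^ 2 - algebraMap F K x * algebraMap F K z - algebraMap F K y * algebraMap F K z * algebraMap F K τ) * θ +
      ((algebraMap F K y - algebraMap F K z * algebraMap F K τ) * (algebraMap F K y ^ 2 - algebraMap F K x * algebraMap F K z - algebraMap F K y * algebraMap F K z * algebraMap F K τ) +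
      algebraMap F K z * ((algebraMap F K z ^ 2 * algebraMap F K ν - algebraMap F K x * algebraMap F K y - algebraMap F K y * algebraMap F K z * algebraMap F K σ) - (algebraMap F K y ^ 2 - algebraMap F K x * algebraMap F K z - algebraMap F K y * algebraMap F K z * algebraMap F K τ) * algebraMap F K τ) +
      algebraMap F K τ * (algebraMap F K z * (algebraMap F K y ^ 2 - algebraMap F K x * algebraMap F K z - algebraMap F K y * algebraMap F K z * algebraMap F K τ)))) * hθ
  · intro a a'
    obtain ⟨k, rfl⟩ := E.surjective a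
    obtain ⟨k', rfl⟩ := E.surjective a'
    rw [LinearEquiv.symm_apply_apply, LinearEquiv.symm_apply_apply, hE, hE]
    obtain ⟨x, y, z, rfl⟩ := hex k
    obtain ⟨x', y', z', rfl⟩ := hex k'
    rw [hMk, hMk, hT]
    have h4 : (algebraMap F K x + algebraMap F K y * θ +
        algebraMap F K z * (θ ^ 2 - algebraMap F K τ * θ + algebraMap F K σ)) * (algebraMap F K x' + algebraMap F K y' * θ +
        algebraMap F K z' * (θ ^ 2 - algebraMap F K τ * θ + algebraMap F K σ)) =
        algebraMap F K ((x + z * σ) * (x' + z' * σ) + ((y - z * τ) * z' + z * (y' - z' * τ)) * ν + z * z' * τ * ν) +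
        algebraMap F K ((x + z * σ) * (y' - z' * τ) + (y - z * τ) * (x' + z' * σ) - ((y - z * τ) * z' + z * (y' - z' * τ)) * σ +
          z * z' * (ν - τ * σ)) * θ +
        algebraMap F K ((x + z * σ) * z' + (y - z * τ) * (y' - z' * τ) + z * (x' + z' * σ) + ((y - z * τ) * z' + z * (y' - z' * τ)) * τ +
          z * z' * (τ ^ 2 - σ)) * θ ^ 2 := by
      simp only [map_add, map_sub, map_mul, map_pow]
      linear_combination ((algebraMap F K y - algebraMap F K z * algebraMap F K τ) * algebraMap F K z' +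
        algebraMap F K z * (algebraMap F K y' - algebraMap F K z' * algebraMap F K τ) +
        algebraMap F K z * algebraMap F K z' * (θ + algebraMap F K τ)) * hθ
    rw [h4, htr]
    ring

/-- The case `J = F e`. -/
theorem exists_scalar (h : ∀ a : J, ∃ t : F, a = t • C.e) : ∃ L : J ≃ₗ[F] F, L C.e = 1 ∧ (∀ a, C.N a = L a ^ 3) ∧
    (∀ a, L (C.sh a) = L a ^ 2) ∧ (∀ a b, C.T a b = 3 * (L a * L b)) ∧ ∀ a b, L (C.cr a b) = 2 * (L a * L b) := by
  let M : F →ₗ[F] J := LinearMap.toSpanSingleton F J C.e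
  have hM : ∀ t, M t = t • C.e := fun t => rfl
  have hbij : Function.Bijective M := by
    refine ⟨fun s t hst => ?_, fun a => ?_⟩
    · rw [hM, hM, ← sub_eq_zero, ← sub_smul] at hst
      exact sub_eq_zero.1 ((smul_eq_zero.1 hst).resolve_right C.e_ne)
    · obtain ⟨t, rfl⟩ := h a
      exact ⟨t, rfl⟩
  let E : F ≃ₗ[F] J := LinearEquiv.ofBijective M hbij
  have hE : ∀ t, E t = t • C.e := fun t => rfl
  refine ⟨E.symm, ?_, ?_, ?_, ?_, ?_⟩
  · rw [LinearEquiv.symm_apply_eq, hE, one_smul]
  · intro a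
    obtain ⟨t, rfl⟩ := E.surjective a
    rw [LinearEquiv.symm_apply_apply, hE, C.N_smul, C.N_e, mul_one]
  · intro a
    obtain ⟨t, rfl⟩ := E.surjective a
    rw [LinearEquiv.symm_apply_apply, LinearEquiv.symm_apply_eq, hE, hE, C.sh_smul, C.sh_e]
  · intro a a'
    obtain ⟨t, rfl⟩ := E.surjective a
    obtain ⟨s, rfl⟩ := E.surjective a'
    rw [LinearEquiv.symm_apply_apply, LinearEquiv.symm_apply_apply, hE, hE, C.T_smul, C.T_smul', C.T_e_e]
    ring
  · intro a a'
    obtain ⟨t, rfl⟩ := E.surjective a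
    obtain ⟨s, rfl⟩ := E.surjective a'
    rw [LinearEquiv.symm_apply_apply, LinearEquiv.symm_apply_apply, LinearEquiv.symm_apply_eq, hE, hE, hE, C.cr_smul,
      C.cr_smul', C.cr_self, C.sh_e, smul_smul, smul_smul]
    congr 1; ring

end CubicNorm

end Cfsg.Agent.SplitTwo
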