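import Mathlib
import Cfsg.Agent.SplitTwo.QuadBase
import Cfsg.Agent.TitsThree.FieldSet

/-!
# The field of a Moufang quadrangle

`exists_field_of_maps`: additive families of bijections closed under `b a⁻¹ b` come from a field.
-/

set_option autoImplicit false

universe u

namespace Cfsg.Agent.SplitTwo.QuadField

open Cfsg.Agent.TitsThree.FieldSet

/-- Additive families of bijections `X → W` closed under `(a, b) ↦ b a⁻¹ b` come from a field. -/
theorem exists_field_of_maps {A : Type*} [Group A] {X : Type u} {W : Type*} [AddCommGroup X]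
    [AddCommGroup W] [Finite X] [Nontrivial X] (Θ : A → (X →+ W))
    (hmul : ∀ a b, Θ (a * b) = Θ a + Θ b) (hbij : ∀ a, a ≠ 1 → Function.Bijective (Θ a))
    (e : A) (he : e ≠ 1)
    (hinv : ∀ a, a ≠ 1 → ∃ d, ∀ v w, Θ a v = Θ e w → Θ d w = Θ e v) :
    ∃ (F : Type u) (_ : Field F) (_ : Module F X) (ι : A → F), Finite F ∧
      Function.Bijective ι ∧ (∀ a b, ι (a * b) = ι a + ι b) ∧ ι e = 1 ∧
      ∀ a v, Θ a v = Θ e (ι a • v) := by
  classical
  have h1 : Θ 1 = 0 := by
    have := hmul 1 1
    rw [mul_one] at this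
    simpa using this
  have hneg : ∀ a, Θ a⁻¹ = -Θ a := by
    intro a
    have := hmul a⁻¹ a
    rw [inv_mul_cancel, h1] at this
    exact (neg_eq_of_add_eq_zero_left this.symm).symm
  let E : X ≃+ W := AddEquiv.ofBijective (Θ e) (hbij e he)
  have hE : ∀ v, E v = Θ e v := fun v => rfl
  let L : A → AddMonoid.End X := fun a => (E.symm : W →+ X).comp (Θ a)
  have hL : ∀ a v, Θ e (L a v) = Θ a v := by
    intro a v
    rw [← hE]
    exact E.apply_symm_apply _
  have hLmul : ∀ a b, L (a * b) = L a + L b := by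
    intro a b
    ext v
    apply (hbij e he).1
    change _ = Θ e (L a v + L b v)
    rw [hL, map_add, hL, hL, hmul]
    rfl
  have hLe : L e = 1 := by
    ext v
    apply (hbij e he).1
    rw [hL]; rfl
  have hL1 : L 1 = 0 := by
    ext v
    apply (hbij e he).1
    rw [hL, h1]; simp
  have hLinj : Function.Injective L := by
    intro a b hab
    by_contra hne
    have hne' : a * b⁻¹ ≠ 1 := fun h => hne (mul_inv_eq_one.1 h)
    obtain ⟨v, hv⟩ := exists_ne (0 : X)
    apply hv
    apply (hbij _ hne').1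
    rw [hmul, hneg, map_zero]
    have e1 : Θ a v = Θ b v := by rw [← hL a, ← hL b, hab]
    simp [e1]
  let S : AddSubgroup (AddMonoid.End X) :=
    { carrier := Set.range L
      zero_mem' := ⟨1, hL1⟩
      add_mem' := by
        rintro _ _ ⟨a, rfl⟩ ⟨b, rfl⟩
        exact ⟨a * b, hLmul a b⟩
      neg_mem' := by
        rintro _ ⟨a, rfl⟩
        refine ⟨a⁻¹, ?_⟩
        ext v
        apply (hbij e he).1
        change _ = Θ e (-L a v)
        rw [hL, hneg, AddMonoidHom.neg_apply, map_neg, hL] }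
  have hS : DivSet S :=
    { one_mem := ⟨e, hLe⟩
      inv := by
        rintro _ ⟨a, rfl⟩ ha0
        have ha1 : a ≠ 1 := by
          rintro rfl; exact ha0 hL1
        obtain ⟨d, hd⟩ := hinv a ha1
        refine ⟨L d, ⟨d, rfl⟩, ?_, ?_⟩
        · ext w
          obtain ⟨v, hv⟩ := (hbij a ha1).2 (Θ e w)
          have h2 := hd v w hv
          have h3 : L d w = v := by
            apply (hbij e he).1
            rw [hL, h2]
          apply (hbij e he).1
          change Θ e (L a (L d w)) = Θ e w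
          rw [h3, hL, hv]
        · ext v
          have h2 := hd v (L a v) (hL a v).symm
          apply (hbij e he).1
          change Θ e (L d (L a v)) = Θ e v
          rw [hL, h2] }
  haveI : Finite (AddMonoid.End X) :=
    Finite.of_injective (fun f : AddMonoid.End X => (f : X → X)) (fun f g hfg =>
      AddMonoidHom.ext (fun x => congrFun hfg x))
  haveI : Nontrivial (AddMonoid.End X) := by
    obtain ⟨v, hv⟩ := exists_ne (0 : X)
    exact ⟨⟨0, 1, fun h01 => hv (by
      have := congrArg (fun f : AddMonoid.End X => f v) h01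
      exact this.symm)⟩⟩
  refine ⟨hS.subring, hS.field, inferInstance, fun a => ⟨L a, ⟨a, rfl⟩⟩, inferInstance,
    ⟨fun a b hab => hLinj (congrArg Subtype.val hab), ?_⟩, ?_, ?_, ?_⟩
  · rintro ⟨_, ⟨a, rfl⟩⟩
    exact ⟨a, rfl⟩
  · intro a b
    exact Subtype.ext (hLmul a b)
  · exact Subtype.ext hLe
  · intro a v
    exact (hL a v).symm

/-! ### Abelian quotients, with maps defined on the whole group -/

/-- An abelian quotient `U / Z` as an additive group, with a class map on the whole group. -/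
theorem exists_quot {G : Type u} [Group G] [Finite G] (U Z : Subgroup G) (hle : Z ≤ U)
    (hc : ∀ x ∈ U, ∀ y ∈ U, x⁻¹ * y⁻¹ * x * y ∈ Z) :
    ∃ (X : Type u) (_ : AddCommGroup X) (cl : G → X), Finite X ∧
      (∀ x ∈ U, ∀ y ∈ U, cl (x * y) = cl x + cl y) ∧ (∀ x ∈ U, cl x = 0 ↔ x ∈ Z) ∧
      ∀ v, ∃ x ∈ U, cl x = v := by
  classical
  let N : Subgroup U := Z.subgroupOf U
  have hN : N.Normal := by
    refine ⟨fun z hz g => ?_⟩
    rw [Subgroup.mem_subgroupOf] at hz ⊢
    have h1 := hc _ (U.inv_mem g.2) _ z.2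
    have h2 := Z.mul_mem hz h1
    have e : (z : G) * (((g : G)⁻¹)⁻¹ * (z : G)⁻¹ * (g : G)⁻¹ * z) = z * (g * (z : G)⁻¹ * (g : G)⁻¹ * z) := by
      group
    have h3 := Z.inv_mem (Z.mul_mem h1 (Z.inv_mem hz))
    have e3 : (((g : G)⁻¹)⁻¹ * (z : G)⁻¹ * (g : G)⁻¹ * z * (z : G)⁻¹)⁻¹ = g * z * (g : G)⁻¹ := by
      group
    rw [e3] at h3
    simpa using h3
  let Qc : CommGroup (U ⧸ N) :=
    { QuotientGroup.Quotient.group N with
      mul_comm := by
        intro x y
        induction x using QuotientGroup.induction_on with | H x => ?_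
        induction y using QuotientGroup.induction_on with | H y => ?_
        change ((x * y : U) : U ⧸ N) = ((y * x : U) : U ⧸ N)
        rw [QuotientGroup.eq, Subgroup.mem_subgroupOf]
        have h1 := hc _ y.2 _ x.2
        have e : (((x * y)⁻¹ * (y * x) : U) : G) = (y : G)⁻¹ * (x : G)⁻¹ * y * x := by
          push_cast; group
        rw [e]; exact h1 }
  refine ⟨Additive (U ⧸ N), @Additive.addCommGroup _ Qc,
    fun g => if hg : g ∈ U then Additive.ofMul ((⟨g, hg⟩ : U) : U ⧸ N) else 0, ?_, ?_, ?_, ?_⟩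
  · exact inferInstanceAs (Finite (U ⧸ N))
  · intro x hx y hy
    simp only [dif_pos hx, dif_pos hy, dif_pos (U.mul_mem hx hy)]
    rfl
  · intro x hx
    simp only [dif_pos hx]
    have : (Additive.ofMul (((⟨x, hx⟩ : U) : U ⧸ N)) = (0 : Additive (U ⧸ N))) ↔
        (((⟨x, hx⟩ : U) : U ⧸ N) = 1) := Iff.rfl
    rw [this, QuotientGroup.eq_one_iff, Subgroup.mem_subgroupOf]
  · intro v
    obtain ⟨w, rfl⟩ := Additive.ofMul.surjective v
    induction w using QuotientGroup.induction_on with | H w => ?_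
    exact ⟨w, w.2, by simp⟩

end Cfsg.Agent.SplitTwo.QuadField
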