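import Mathlib
import Cfsg.Agent.SplitTwo.HexF
import Cfsg.Agent.SplitTwo.QuadField

/-!
# Moufang hexagons (S1144, [6c-2]): the field and the module

`exists_hexF : HexG → HexF`.
-/

set_option autoImplicit false

namespace Cfsg.Agent.SplitTwo.HexField

open Cfsg.Agent.SplitTwo

universe u v

/-! ### Generalities -/

section Gen

variable {G : Type u} [Group G]

theorem cj_mul (g x y : G) : cj g (x * y) = cj g x * cj g y := by unfold cj; group

theorem cj_one (g : G) : cj g 1 = 1 := by unfold cj; group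

theorem cj_inv (g x : G) : cj g x⁻¹ = (cj g x)⁻¹ := by unfold cj; group

theorem cj_inj {g x y : G} (h : cj g x = cj g y) : x = y := by
  unfold cj at h
  simpa using h

theorem cj_cj_inv (g x : G) : cj g (cj g⁻¹ x) = x := by unfold cj; group

theorem cj_inv_cj (g x : G) : cj g⁻¹ (cj g x) = x := by unfold cj; group

theorem cj_kk (g x y : G) : cj g (kk x y) = kk (cj g x) (cj g y) := by unfold cj kk; group

theorem kk_inv (x y : G) : kk y x = (kk x y)⁻¹ := by unfold kk; group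

theorem kk_mul_right (x y z : G) : kk x (y * z) = kk x z * cj z (kk x y) := by unfold cj kk; group

theorem kk_one_right (x : G) : kk x 1 = 1 := by unfold kk; group

/-- An abelian subgroup as an additive group. -/
theorem exists_add (U : Subgroup G) (hc : ∀ a ∈ U, ∀ b ∈ U, a * b = b * a) :
    ∃ (A : Type u) (_ : AddCommGroup A) (f : A → G), (∀ a b, f (a + b) = f a * f b) ∧
      Function.Injective f ∧ ∀ g, g ∈ U ↔ ∃ a, f a = g := by
  let i : CommGroup U :=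
    { (inferInstance : Group U) with
      mul_comm := fun a b => Subtype.ext (hc a a.2 b b.2) }
  refine ⟨Additive U, inferInstance, fun a => (a.toMul : G), fun _ _ => rfl, ?_, ?_⟩
  · intro a b hab
    exact Additive.toMul.injective (Subtype.ext hab)
  · intro g
    exact ⟨fun hg => ⟨Additive.ofMul ⟨g, hg⟩, rfl⟩, fun ⟨a, ha⟩ => ha ▸ (a.toMul).2⟩

theorem map_zero_of {A : Type v} [AddCommGroup A] {f : A → G} (hf : ∀ a b, f (a + b) = f a * f b) :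
    f 0 = 1 := by
  have := hf 0 0
  rw [add_zero] at this
  exact (mul_eq_left.mp this.symm)

theorem map_neg_of {A : Type v} [AddCommGroup A] {f : A → G} (hf : ∀ a b, f (a + b) = f a * f b) (a : A) :
    f (-a) = (f a)⁻¹ := by
  have h := hf (-a) a
  rw [neg_add_cancel, map_zero_of hf] at h
  exact eq_inv_of_mul_eq_one_left h.symm

/-- A multiplicative map of subgroups as a homomorphism of additive groups. -/
theorem exists_hom {A A' : Type v} [AddCommGroup A] [AddCommGroup A'] {f : A → G} {f' : A' → G}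
    (hf : ∀ a b, f (a + b) = f a * f b) (hf' : ∀ a b, f' (a + b) = f' a * f' b)
    (hi : Function.Injective f') (φ : G → G) (h : ∀ a, ∃ a', f' a' = φ (f a))
    (hφ : ∀ a b, φ (f a * f b) = φ (f a) * φ (f b)) : ∃ Φ : A →+ A', ∀ a, f' (Φ a) = φ (f a) := by
  choose g hg using h
  refine ⟨AddMonoidHom.mk' g ?_, hg⟩
  intro a b
  apply hi
  rw [hf', hg, hg, hg, hf, hφ]

end Gen

section Mod

/-- The first factor of a product with a diagonal action. -/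
theorem exists_mod1 {F A1 A2 : Type*} [Field F] [AddCommGroup A1] [AddCommGroup A2]
    [iM : Module F (A1 × A2)] (h1 : ∀ (s : F) (a : A1), (s • ((a, 0) : A1 × A2)).2 = 0) :
    ∃ _ : Module F A1, ∀ (s : F) (a : A1), (s • a : A1) = (s • ((a, 0) : A1 × A2)).1 := by
  have hp : ∀ (s : F) (a : A1), (s • ((a, 0) : A1 × A2)) = ((s • ((a, 0) : A1 × A2)).1, 0) :=
    fun s a => Prod.ext rfl (h1 s a)
  refine ⟨
    { smul := fun s a => (s • ((a, 0) : A1 × A2)).1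
      one_smul := ?_
      mul_smul := ?_
      smul_zero := ?_
      smul_add := ?_
      add_smul := ?_
      zero_smul := ?_ }, fun _ _ => rfl⟩
  · intro s t a
    change ((s * t) • ((a, 0) : A1 × A2)).1 = (s • (((t • ((a, 0) : A1 × A2)).1, 0) : A1 × A2)).1
    rw [← hp, mul_smul]
  · intro a
    change ((1 : F) • ((a, 0) : A1 × A2)).1 = a
    rw [one_smul]
  · intro s
    change (s • ((0, 0) : A1 × A2)).1 = 0
    have : ((0, 0) : A1 × A2) = 0 := rfl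
    rw [this, smul_zero]; rfl
  · intro s a b
    change (s • ((a + b, 0) : A1 × A2)).1 = (s • ((a, 0) : A1 × A2)).1 + (s • ((b, 0) : A1 × A2)).1
    have : ((a + b, 0) : A1 × A2) = (a, 0) + (b, 0) := by simp
    rw [this, smul_add]; rfl
  · intro s t a
    change ((s + t) • ((a, 0) : A1 × A2)).1 = (s • ((a, 0) : A1 × A2)).1 + (t • ((a, 0) : A1 × A2)).1
    rw [add_smul]; rfl
  · intro a
    change ((0 : F) • ((a, 0) : A1 × A2)).1 = 0
    rw [zero_smul]; rfl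

/-- The second factor of a product with a diagonal action. -/
theorem exists_mod2 {F A1 A2 : Type*} [Field F] [AddCommGroup A1] [AddCommGroup A2]
    [iM : Module F (A1 × A2)] (h1 : ∀ (s : F) (a : A2), (s • ((0, a) : A1 × A2)).1 = 0) :
    ∃ _ : Module F A2, ∀ (s : F) (a : A2), (s • a : A2) = (s • ((0, a) : A1 × A2)).2 := by
  have hp : ∀ (s : F) (a : A2), (s • ((0, a) : A1 × A2)) = (0, (s • ((0, a) : A1 × A2)).2) :=
    fun s a => Prod.ext (h1 s a) rfl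
  refine ⟨
    { smul := fun s a => (s • ((0, a) : A1 × A2)).2
      one_smul := ?_
      mul_smul := ?_
      smul_zero := ?_
      smul_add := ?_
      add_smul := ?_
      zero_smul := ?_ }, fun _ _ => rfl⟩
  · intro s t a
    change ((s * t) • ((0, a) : A1 × A2)).2 = (s • ((0, (t • ((0, a) : A1 × A2)).2) : A1 × A2)).2
    rw [← hp, mul_smul]
  · intro a
    change ((1 : F) • ((0, a) : A1 × A2)).2 = a
    rw [one_smul]
  · intro s
    change (s • ((0, 0) : A1 × A2)).2 = 0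
    have : ((0, 0) : A1 × A2) = 0 := rfl
    rw [this, smul_zero]; rfl
  · intro s a b
    change (s • ((0, a + b) : A1 × A2)).2 = (s • ((0, a) : A1 × A2)).2 + (s • ((0, b) : A1 × A2)).2
    have : ((0, a + b) : A1 × A2) = (0, a) + (0, b) := by simp
    rw [this, smul_add]; rfl
  · intro s t a
    change ((s + t) • ((0, a) : A1 × A2)).2 = (s • ((0, a) : A1 × A2)).2 + (t • ((0, a) : A1 × A2)).2
    rw [add_smul]; rfl
  · intro a
    change ((0 : F) • ((0, a) : A1 × A2)).2 = 0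
    rw [zero_smul]; rfl

end Mod

section Main

variable {G : Type u} [Group G] {U1 U2 U3 U4 U5 U6 : Subgroup G} {μ1 μ6 st y : G → G} {e1 e6 : G}

/-- `q s = s q z` with `z ∈ U4` for `q ∈ U3`, `s ∈ U5`. -/
theorem swap35 (h : HexG U1 U2 U3 U4 U5 U6 μ1 μ6 st y e1 e6) {q s : G} (hq : q ∈ U3) (hs : s ∈ U5) :
    ∃ z ∈ U4, s * q = q * s * z := by
  refine ⟨(kk q s)⁻¹, inv_mem (h.k35 q hq s hs), ?_⟩
  unfold kk; group

theorem uniq4 (h : HexG U1 U2 U3 U4 U5 U6 μ1 μ6 st y e1 e6) {p q r s p' q' r' s' : G}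
    (hp : p ∈ U2) (hq : q ∈ U3) (hr : r ∈ U4) (hs : s ∈ U5) (hp' : p' ∈ U2) (hq' : q' ∈ U3)
    (hr' : r' ∈ U4) (hs' : s' ∈ U5) (e : p * q * r * s = p' * q' * r' * s') :
    p = p' ∧ q = q' ∧ r = r' ∧ s = s' := by
  obtain ⟨z, hz, ez⟩ := swap35 h (inv_mem hq') (mul_mem hs (inv_mem hs'))
  have e1 : (p'⁻¹ * p) * (q * q'⁻¹) * (r * r'⁻¹ * z) * (s * s'⁻¹) * 1 = 1 := by
    have c1 : r'⁻¹ * q'⁻¹ = q'⁻¹ * r'⁻¹ := (h.c34 _ (inv_mem hq') _ (inv_mem hr')).symm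
    have c2 : r'⁻¹ * (s * s'⁻¹) = (s * s'⁻¹) * r'⁻¹ := h.c45 _ (inv_mem hr') _ (mul_mem hs (inv_mem hs'))
    have c3 : z * (s * s'⁻¹) = (s * s'⁻¹) * z := h.c45 _ hz _ (mul_mem hs (inv_mem hs'))
    have c4 : (r * r'⁻¹) * q'⁻¹ = q'⁻¹ * (r * r'⁻¹) :=
      (h.c34 _ (inv_mem hq') _ (mul_mem hr (inv_mem hr'))).symm
    have c5 : (s * s'⁻¹) * r'⁻¹ = r'⁻¹ * (s * s'⁻¹) := c2.symm
    calc (p'⁻¹ * p) * (q * q'⁻¹) * (r * r'⁻¹ * z) * (s * s'⁻¹) * 1
        = p'⁻¹ * p * q * (q'⁻¹ * (r * r'⁻¹)) * (z * (s * s'⁻¹)) := by group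
      _ = p'⁻¹ * p * q * (r * r'⁻¹ * q'⁻¹) * ((s * s'⁻¹) * z) := by rw [c4, c3]
      _ = p'⁻¹ * p * q * r * r'⁻¹ * (q'⁻¹ * (s * s'⁻¹) * z) := by group
      _ = p'⁻¹ * p * q * r * r'⁻¹ * ((s * s'⁻¹) * q'⁻¹) := by rw [ez]
      _ = p'⁻¹ * p * q * r * (r'⁻¹ * (s * s'⁻¹)) * q'⁻¹ := by group
      _ = p'⁻¹ * p * q * r * ((s * s'⁻¹) * r'⁻¹) * q'⁻¹ := by rw [c2]
      _ = p'⁻¹ * (p * q * r * s) * s'⁻¹ * r'⁻¹ * q'⁻¹ := by group
      _ = 1 := by rw [e]; group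
  obtain ⟨h1, h2, h3, h4, -⟩ := h.uniq _ (mul_mem (inv_mem hp') hp) _ (mul_mem hq (inv_mem hq')) _
    (mul_mem (mul_mem hr (inv_mem hr')) hz) _ (mul_mem hs (inv_mem hs')) 1 (one_mem _) e1
  have hs2 : s = s' := mul_inv_eq_one.mp h4
  have hz1 : z = 1 := by
    rw [hs2, mul_inv_cancel, one_mul, mul_one] at ez
    exact (mul_eq_left.mp ez.symm)
  rw [hz1, mul_one] at h3
  exact ⟨(inv_mul_eq_one.mp h1).symm, mul_inv_eq_one.mp h2, mul_inv_eq_one.mp h3, hs2⟩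

/-- The last component of `[a, t]` is multiplicative in `t`. -/
theorem comp5_mul (h : HexG U1 U2 U3 U4 U5 U6 μ1 μ6 st y e1 e6) {a t u p q r s p' q' r' s' : G}
    (hu : u ∈ U6)
    (hp : p ∈ U2) (hq : q ∈ U3) (hr : r ∈ U4) (hs : s ∈ U5) (hp' : p' ∈ U2) (hq' : q' ∈ U3)
    (hr' : r' ∈ U4) (hs' : s' ∈ U5) (e : kk a t = p * q * r * s) (e' : kk a u = p' * q' * r' * s') :
    ∃ p'' ∈ U2, ∃ q'' ∈ U3, ∃ r'' ∈ U4, kk a (t * u) = p'' * q'' * r'' * (s' * s) := by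
  obtain ⟨z, hz, ez⟩ := swap35 h hq hs'
  have hk := h.k26 p hp u hu
  have c1 : cj u (p * q * r * s) = p * kk p u * q * r * s := by
    have e1 : cj u p = p * kk p u := by unfold cj kk; group
    have e2 : cj u q = q := by
      unfold cj; rw [mul_assoc, h.c36 q hq u hu]; group
    have e3 : cj u r = r := by
      unfold cj; rw [mul_assoc, h.c46 r hr u hu]; group
    have e4 : cj u s = s := by
      unfold cj; rw [mul_assoc, h.c56 s hs u hu]; group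
    rw [cj_mul, cj_mul, cj_mul, e1, e2, e3, e4]
  refine ⟨p' * p, mul_mem hp' hp, q' * q, mul_mem hq' hq, r' * kk p u * z * r,
    mul_mem (mul_mem (mul_mem hr' hk) hz) hr, ?_⟩
  rw [kk_mul_right, e', e, c1]
  obtain ⟨k, hkd⟩ : ∃ k, k = kk p u := ⟨_, rfl⟩
  rw [← hkd] at hk ⊢
  calc p' * q' * r' * s' * (p * k * q * r * s)
      = p' * q' * r' * (s' * p) * k * q * r * s := by group
    _ = p' * q' * r' * (p * s') * k * q * r * s := by rw [h.c25 p hp s' hs']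
    _ = p' * q' * (r' * p) * (s' * k) * q * r * s := by group
    _ = p' * q' * (p * r') * (k * s') * q * r * s := by rw [h.c24 p hp r' hr', h.c45 k hk s' hs']
    _ = p' * (q' * p) * r' * k * (s' * q) * r * s := by group
    _ = p' * (p * q') * r' * k * (q * s' * z) * r * s := by rw [h.c23 p hp q' hq', ez]
    _ = p' * p * q' * (r' * k * q) * (s' * (z * r)) * s := by group
    _ = p' * p * q' * (q * (r' * k)) * ((z * r) * s') * s := by
        rw [h.c34 q hq (r' * k) (mul_mem hr' hk), h.c45 (z * r) (mul_mem hz hr) s' hs']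
    _ = p' * p * (q' * q) * (r' * k * z * r) * (s' * s) := by group

/-- Parametrisation of a subgroup by an additive group. -/
structure Par (U : Subgroup G) {A : Type v} [AddCommGroup A] (f : A → G) : Prop where
  add : ∀ a b, f (a + b) = f a * f b
  inj : Function.Injective f
  mem : ∀ g, g ∈ U ↔ ∃ a, f a = g

theorem Par.m {U : Subgroup G} {A : Type v} [AddCommGroup A] {f : A → G} (h : Par U f) (a : A) :
    f a ∈ U := (h.mem _).mpr ⟨a, rfl⟩

theorem Par.zero {U : Subgroup G} {A : Type v} [AddCommGroup A] {f : A → G} (h : Par U f) :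
    f 0 = 1 := map_zero_of h.add

theorem Par.neg {U : Subgroup G} {A : Type v} [AddCommGroup A] {f : A → G} (h : Par U f) (a : A) :
    f (-a) = (f a)⁻¹ := map_neg_of h.add a

/-- The maps `U1 → U5`. -/
theorem exists_phi1 (h : HexG U1 U2 U3 U4 U5 U6 μ1 μ6 st y e1 e6) {A1 A5 : Type v} [AddCommGroup A1]
    [AddCommGroup A5] {f1 : A1 → G} {f5 : A5 → G} (h1 : Par U1 f1) (h5 : Par U5 f5) :
    ∃ Φ : U6 → (A1 →+ A5), (∀ t : U6, (t : G) ≠ 1 → ∀ a, f5 (Φ t a) = cj (μ6 t) (f1 a)) ∧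
      (∀ t u, Φ (t * u) = Φ t + Φ u) := by
  classical
  have key : ∀ t : U6, ∃ Φ : A1 →+ A5, ∀ a, f5 (Φ a) = if (t : G) = 1 then 1 else cj (μ6 t) (f1 a) := by
    intro t
    by_cases ht : (t : G) = 1
    · refine ⟨0, fun a => ?_⟩
      rw [if_pos ht]
      exact h5.zero
    · simp only [if_neg ht]
      exact exists_hom h1.add h5.add h5.inj (fun x => cj (μ6 t) x)
        (fun a => (h5.mem _).mp (h.m15 t t.2 ht _ (h1.m a))) (fun a b => cj_mul _ _ _)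
  choose Φ hΦ using key
  refine ⟨Φ, fun t ht a => by rw [hΦ, if_neg ht], ?_⟩
  have comp : ∀ (t : U6) (a : A1), ∃ p ∈ U2, ∃ q ∈ U3, ∃ r ∈ U4,
      kk (f1 a) t = p * q * r * f5 (Φ t a) := by
    intro t a
    by_cases ht : (t : G) = 1
    · refine ⟨1, one_mem _, 1, one_mem _, 1, one_mem _, ?_⟩
      rw [hΦ, if_pos ht, ht, kk_one_right]; group
    · obtain ⟨p, hp, q, hq, r, hr, s, hs, e⟩ := h.k16 _ (h1.m a) t t.2
      have := h.tw5 _ (h1.m a) t t.2 ht p hp q hq r hr s hs e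
      refine ⟨p, hp, q, hq, r, hr, ?_⟩
      rw [hΦ, if_neg ht, ← this]; exact e
  intro t u
  ext a
  apply h5.inj
  obtain ⟨p, hp, q, hq, r, hr, e⟩ := comp t a
  obtain ⟨p', hp', q', hq', r', hr', e'⟩ := comp u a
  obtain ⟨p'', hp'', q'', hq'', r'', hr'', e''⟩ :=
    comp5_mul h u.2 hp hq hr (h5.m _) hp' hq' hr' (h5.m _) e e'
  obtain ⟨p0, hp0, q0, hq0, r0, hr0, e0⟩ := comp (t * u) a
  have e1 : p0 * q0 * r0 * f5 (Φ (t * u) a) = p'' * q'' * r'' * (f5 (Φ u a) * f5 (Φ t a)) := by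
    rw [← e0, ← e'']; rfl
  rw [(uniq4 h hp0 hq0 hr0 (h5.m _) hp'' hq'' hr'' (mul_mem (h5.m _) (h5.m _)) e1).2.2.2,
    AddMonoidHom.add_apply, h5.add]
  exact h.c55 _ (h5.m _) _ (h5.m _)

/-- The maps `U2 → U4`. -/
theorem exists_phi2 (h : HexG U1 U2 U3 U4 U5 U6 μ1 μ6 st y e1 e6) {A2 A4 : Type v} [AddCommGroup A2]
    [AddCommGroup A4] {f2 : A2 → G} {f4 : A4 → G} (h2 : Par U2 f2) (h4 : Par U4 f4) :
    ∃ Φ : U6 → (A2 →+ A4), (∀ t : U6, (t : G) ≠ 1 → ∀ a, f4 (Φ t a) = cj (μ6 t) (f2 a)) ∧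
      (∀ t u, Φ (t * u) = Φ t + Φ u) ∧ (∀ (t : U6) a, f4 (Φ t a) = kk (f2 a) (t : G)) := by
  have key : ∀ t : U6, ∃ Φ : A2 →+ A4, ∀ a, f4 (Φ a) = kk (f2 a) (t : G) := by
    intro t
    apply exists_hom h2.add h4.add h4.inj (fun x => kk x (t : G))
      (fun a => (h4.mem _).mp (h.k26 _ (h2.m a) t t.2))
    intro a b
    have e : kk (f2 a * f2 b) (t : G) = cj (f2 b) (kk (f2 a) (t : G)) * kk (f2 b) (t : G) := by
      unfold cj kk; group
    have e1 : cj (f2 b) (kk (f2 a) (t : G)) = kk (f2 a) (t : G) := by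
      unfold cj
      rw [mul_assoc, ← h.c24 _ (h2.m b) _ (h.k26 _ (h2.m a) t t.2)]
      group
    rw [e, e1]
  choose Φ hΦ using key
  refine ⟨Φ, fun t ht a => by rw [hΦ, h.tw24 _ (h2.m a) t t.2 ht], ?_, hΦ⟩
  intro t u
  ext a
  apply h4.inj
  rw [AddMonoidHom.add_apply, h4.add, hΦ, hΦ, hΦ]
  have e : kk (f2 a) ((t * u : U6) : G) = kk (f2 a) (u : G) * cj (u : G) (kk (f2 a) (t : G)) := by
    push_cast
    exact kk_mul_right _ _ _
  have e1 : cj (u : G) (kk (f2 a) (t : G)) = kk (f2 a) (t : G) := by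
    unfold cj
    rw [mul_assoc, h.c46 _ (h.k26 _ (h2.m a) t t.2) u u.2]
    group
  rw [e, e1]
  exact h.c44 _ (h.k26 _ (h2.m a) u u.2) _ (h.k26 _ (h2.m a) t t.2)

theorem bij_of {A A' : Type v} [AddCommGroup A] [AddCommGroup A'] {U U' : Subgroup G} {f : A → G}
    {f' : A' → G} (h : Par U f) (h' : Par U' f') {Φ : A →+ A'} {g : G}
    (hΦ : ∀ a, f' (Φ a) = cj g (f a)) (hb : ∀ w ∈ U', cj g⁻¹ w ∈ U) : Function.Bijective Φ := by
  constructor
  · intro a b hab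
    apply h.inj
    apply cj_inj (g := g)
    rw [← hΦ, ← hΦ, hab]
  · intro w
    obtain ⟨a, ha⟩ := (h.mem _).mp (hb _ (h'.m w))
    refine ⟨a, h'.inj ?_⟩
    rw [hΦ, ha, cj_cj_inv]

theorem exists_par (U : Subgroup G) (hc : ∀ a ∈ U, ∀ b ∈ U, a * b = b * a) :
    ∃ (A : Type u) (_ : AddCommGroup A) (f : A → G), Par U f := by
  obtain ⟨A, i, f, h1, h2, h3⟩ := exists_add U hc
  exact ⟨A, i, f, h1, h2, h3⟩

/-- `Θ` is closed under inversion. -/
theorem exists_inv (h : HexG U1 U2 U3 U4 U5 U6 μ1 μ6 st y e1 e6) {A1 A2 A4 A5 : Type v}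
    [AddCommGroup A1] [AddCommGroup A2] [AddCommGroup A4] [AddCommGroup A5]
    {f1 : A1 → G} {f2 : A2 → G} {f4 : A4 → G} {f5 : A5 → G} (h1 : Par U1 f1) (h2 : Par U2 f2)
    (h4 : Par U4 f4) (h5 : Par U5 f5) {Φ1 : U6 → (A1 →+ A5)} {Φ2 : U6 → (A2 →+ A4)}
    (hΦ1 : ∀ t : U6, (t : G) ≠ 1 → ∀ a, f5 (Φ1 t a) = cj (μ6 t) (f1 a))
    (hΦ2 : ∀ t : U6, (t : G) ≠ 1 → ∀ a, f4 (Φ2 t a) = cj (μ6 t) (f2 a))
    (hm1 : ∀ t u, Φ1 (t * u) = Φ1 t + Φ1 u) (hm2 : ∀ t u, Φ2 (t * u) = Φ2 t + Φ2 u)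
    (t : U6) (ht : (t : G) ≠ 1) : ∃ d : U6,
      (∀ v w, Φ1 t v = Φ1 ⟨e6, h.e6_mem⟩ w → Φ1 d w = Φ1 ⟨e6, h.e6_mem⟩ v) ∧
      (∀ v w, Φ2 t v = Φ2 ⟨e6, h.e6_mem⟩ w → Φ2 d w = Φ2 ⟨e6, h.e6_mem⟩ v) := by
  have neg1 : ∀ a, Φ1 a⁻¹ = -Φ1 a := by
    intro a
    have h0 : Φ1 1 = 0 := by
      have := hm1 1 1
      rw [mul_one] at this
      simpa using this
    have := hm1 a⁻¹ a
    rw [inv_mul_cancel, h0] at this
    exact (neg_eq_of_add_eq_zero_left this.symm).symm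
  have neg2 : ∀ a, Φ2 a⁻¹ = -Φ2 a := by
    intro a
    have h0 : Φ2 1 = 0 := by
      have := hm2 1 1
      rw [mul_one] at this
      simpa using this
    have := hm2 a⁻¹ a
    rw [inv_mul_cancel, h0] at this
    exact (neg_eq_of_add_eq_zero_left this.symm).symm
  have hti : (t : G)⁻¹ ≠ 1 := inv_ne_one.mpr ht
  have hti' : (t : G)⁻¹ ∈ U6 := inv_mem t.2
  obtain ⟨d, hd⟩ : ∃ d : U6, (d : G) = y (t : G)⁻¹ := ⟨⟨_, h.y_mem _ hti' hti⟩, rfl⟩
  have hd1 : (d : G) ≠ 1 := hd ▸ h.y_ne _ hti' hti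
  have he : ((⟨e6, h.e6_mem⟩ : U6) : G) ≠ 1 := h.e6_ne
  have hei : (((⟨e6, h.e6_mem⟩ : U6)⁻¹ : U6) : G) ≠ 1 := inv_ne_one.mpr h.e6_ne
  have hmi : μ6 (((⟨e6, h.e6_mem⟩ : U6)⁻¹ : U6) : G) = (μ6 e6)⁻¹ := h.m6inv e6 h.e6_mem h.e6_ne
  refine ⟨d⁻¹, ?_, ?_⟩
  · intro v w hvw
    have e1' : f5 (Φ1 t v) = f5 (Φ1 ⟨e6, h.e6_mem⟩ w) := by rw [hvw]
    rw [hΦ1 t ht, hΦ1 _ he] at e1'
    have e2 : f5 (Φ1 d w) = f5 (Φ1 (⟨e6, h.e6_mem⟩ : U6)⁻¹ v) := by
      rw [hΦ1 d hd1, hd, h.y1 _ hti' hti _ (h1.m w), hΦ1 _ hei, hmi]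
      change cj (μ6 e6)⁻¹ (cj (μ6 (t : G)⁻¹) (cj (μ6 ((⟨e6, h.e6_mem⟩ : U6) : G)) (f1 w))) = _
      rw [← e1', h.m6inv _ t.2 ht, cj_inv_cj]
    have e3 := h5.inj e2
    rw [neg1, AddMonoidHom.neg_apply, e3, neg1, AddMonoidHom.neg_apply, neg_neg]
  · intro v w hvw
    have e1' : f4 (Φ2 t v) = f4 (Φ2 ⟨e6, h.e6_mem⟩ w) := by rw [hvw]
    rw [hΦ2 t ht, hΦ2 _ he] at e1'
    have e2 : f4 (Φ2 d w) = f4 (Φ2 (⟨e6, h.e6_mem⟩ : U6)⁻¹ v) := by
      rw [hΦ2 d hd1, hd, h.y2 _ hti' hti _ (h2.m w), hΦ2 _ hei, hmi]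
      change cj (μ6 e6)⁻¹ (cj (μ6 (t : G)⁻¹) (cj (μ6 ((⟨e6, h.e6_mem⟩ : U6) : G)) (f2 w))) = _
      rw [← e1', h.m6inv _ t.2 ht, cj_inv_cj]
    have e3 := h4.inj e2
    rw [neg2, AddMonoidHom.neg_apply, e3, neg2, AddMonoidHom.neg_apply, neg_neg]

/-- The field. -/
theorem exists_field (h : HexG U1 U2 U3 U4 U5 U6 μ1 μ6 st y e1 e6) {A1 A2 A4 A5 : Type u}
    [AddCommGroup A1] [AddCommGroup A2] [AddCommGroup A4] [AddCommGroup A5] [Finite A1] [Finite A2]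
    {f1 : A1 → G} {f2 : A2 → G} {f4 : A4 → G} {f5 : A5 → G} (h1 : Par U1 f1) (h2 : Par U2 f2)
    (h4 : Par U4 f4) (h5 : Par U5 f5) {Φ1 : U6 → (A1 →+ A5)} {Φ2 : U6 → (A2 →+ A4)}
    (hΦ1 : ∀ t : U6, (t : G) ≠ 1 → ∀ a, f5 (Φ1 t a) = cj (μ6 t) (f1 a))
    (hΦ2 : ∀ t : U6, (t : G) ≠ 1 → ∀ a, f4 (Φ2 t a) = cj (μ6 t) (f2 a))
    (hm1 : ∀ t u, Φ1 (t * u) = Φ1 t + Φ1 u) (hm2 : ∀ t u, Φ2 (t * u) = Φ2 t + Φ2 u) :
    ∃ (F : Type u) (_ : Field F) (_ : Finite F) (_ : Module F A1) (_ : Module F A2) (ι : U6 → F),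
      Function.Bijective ι ∧ (∀ a b, ι (a * b) = ι a + ι b) ∧ ι ⟨e6, h.e6_mem⟩ = 1 ∧
      (∀ t a, Φ1 t a = Φ1 ⟨e6, h.e6_mem⟩ (ι t • a)) ∧ (∀ t a, Φ2 t a = Φ2 ⟨e6, h.e6_mem⟩ (ι t • a)) := by
  have hb1 : ∀ t : U6, (t : G) ≠ 1 → Function.Bijective (Φ1 t) := by
    intro t ht
    refine bij_of h1 h5 (g := μ6 t) (hΦ1 t ht) ?_
    intro w hw
    rw [← h.m6inv _ t.2 ht]
    exact h.m51 _ (inv_mem t.2) (inv_ne_one.mpr ht) w hw
  have hb2 : ∀ t : U6, (t : G) ≠ 1 → Function.Bijective (Φ2 t) := by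
    intro t ht
    refine bij_of h2 h4 (g := μ6 t) (hΦ2 t ht) ?_
    intro w hw
    rw [← h.m6inv _ t.2 ht]
    exact h.m42 _ (inv_mem t.2) (inv_ne_one.mpr ht) w hw
  have hne : ∀ t : U6, t ≠ 1 → (t : G) ≠ 1 := fun t ht h' => ht (Subtype.ext h')
  have he1 : (⟨e6, h.e6_mem⟩ : U6) ≠ 1 := fun h' => h.e6_ne (congrArg Subtype.val h')
  have hnt : Nontrivial (A1 × A2) := by
    obtain ⟨a, ha⟩ := (h1.mem _).mp h.e1_mem
    have ha0 : a ≠ 0 := by
      rintro rfl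
      rw [h1.zero] at ha
      exact h.e1_ne ha.symm
    exact ⟨⟨(a, 0), 0, fun h' => ha0 (congrArg Prod.fst h')⟩⟩
  obtain ⟨F, iF, iM, ι, hfin, hι, hadd, hone, hΘ⟩ := QuadField.exists_field_of_maps (A := U6)
    (X := A1 × A2) (W := A5 × A4) (fun t => (Φ1 t).prodMap (Φ2 t))
    (by
      intro a b
      ext v
      all_goals simp [hm1, hm2])
    (by
      intro t ht
      have b1 := hb1 t (hne t ht)
      have b2 := hb2 t (hne t ht)
      exact Function.Bijective.prodMap b1 b2)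
    ⟨e6, h.e6_mem⟩ he1
    (by
      intro t ht
      obtain ⟨d, hd1, hd2⟩ := exists_inv h h1 h2 h4 h5 hΦ1 hΦ2 hm1 hm2 t (hne t ht)
      refine ⟨d, ?_⟩
      rintro ⟨v1, v2⟩ ⟨w1, w2⟩ hvw
      have e1' := congrArg Prod.fst hvw
      have e2' := congrArg Prod.snd hvw
      exact Prod.ext (hd1 v1 w1 e1') (hd2 v2 w2 e2'))
  have hA : ∀ (s : F) (a : A1), (s • ((a, 0) : A1 × A2)).2 = 0 := by
    intro s a
    obtain ⟨t, rfl⟩ := hι.2 s
    have h' := congrArg Prod.snd (hΘ t (a, 0))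
    change Φ2 t 0 = Φ2 ⟨e6, h.e6_mem⟩ (ι t • ((a, 0) : A1 × A2)).2 at h'
    rw [map_zero] at h'
    apply (hb2 ⟨e6, h.e6_mem⟩ h.e6_ne).1
    rw [map_zero]; exact h'.symm
  have hB : ∀ (s : F) (a : A2), (s • ((0, a) : A1 × A2)).1 = 0 := by
    intro s a
    obtain ⟨t, rfl⟩ := hι.2 s
    have h' := congrArg Prod.fst (hΘ t (0, a))
    change Φ1 t 0 = Φ1 ⟨e6, h.e6_mem⟩ (ι t • ((0, a) : A1 × A2)).1 at h'
    rw [map_zero] at h'
    apply (hb1 ⟨e6, h.e6_mem⟩ h.e6_ne).1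
    rw [map_zero]; exact h'.symm
  obtain ⟨i1, hi1⟩ := exists_mod1 hA
  obtain ⟨i2, hi2⟩ := exists_mod2 hB
  refine ⟨F, iF, hfin, i1, i2, ι, hι, hadd, hone, ?_, ?_⟩
  · intro t a
    rw [hi1]
    exact congrArg Prod.fst (hΘ t (a, 0))
  · intro t a
    rw [hi2]
    exact congrArg Prod.snd (hΘ t (0, a))

/-- The action of `μ1 a` on `U6` and `U2`. -/
theorem exists_scal (h : HexG U1 U2 U3 U4 U5 U6 μ1 μ6 st y e1 e6) {F : Type u} [Field F]
    {x2 x4 x6 : F → G} (h2 : Par U2 x2) (h4 : Par U4 x4) (h6 : Par U6 x6)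
    (p3 : ∀ s t, kk (x2 s) (x6 t) = x4 (s * t)) {a : G} (ha : a ∈ U1) (ha1 : a ≠ 1) :
    ∃ c : F, c ≠ 0 ∧ (∀ t, cj (μ1 a) (x6 t) = x2 (t * c)) ∧ ∀ s, cj (μ1 a) (x2 s) = x6 (-(s * c⁻¹)) := by
  choose g hg using fun t => (h2.mem _).mp (h.m62 a ha ha1 _ (h6.m t))
  choose χ hχ using fun s => (h6.mem _).mp (h.m26 a ha ha1 _ (h2.m s))
  have key : ∀ s t, s * t = -(g t * χ s) := by
    intro s t
    apply h4.inj
    have e1' : cj (μ1 a) (x4 (s * t)) = x4 (s * t) := h.m44 a ha ha1 _ (h4.m _)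
    rw [← e1', ← p3 s t, cj_kk, ← hg, ← hχ, kk_inv, p3, h4.neg]
  have k11 := key 1 1
  rw [one_mul] at k11
  have hc : g 1 ≠ 0 := by
    intro h0
    rw [h0, zero_mul, neg_zero] at k11
    exact one_ne_zero k11
  have hχ1 : χ 1 = -(g 1)⁻¹ := by
    have h3 : g 1 * χ 1 = -1 := by linear_combination k11
    rw [eq_neg_iff_add_eq_zero]
    have h4' : g 1 * (χ 1 + (g 1)⁻¹) = 0 := by
      rw [mul_add, h3, mul_inv_cancel₀ hc]; ring
    exact (mul_eq_zero.mp h4').resolve_left hc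
  refine ⟨g 1, hc, fun t => ?_, fun s => ?_⟩
  · rw [← hg]
    congr 1
    have := key 1 t
    rw [hχ1, one_mul] at this
    field_simp at this
    exact this.symm
  · rw [← hχ]
    congr 1
    have h3 := key s 1
    rw [mul_one] at h3
    have h4' : g 1 * (χ s + s * (g 1)⁻¹) = 0 := by
      have h5 : g 1 * (s * (g 1)⁻¹) = s := by
        rw [mul_comm s, ← mul_assoc, mul_inv_cancel₀ hc, one_mul]
      rw [mul_add, h5]
      linear_combination h3
    have h6' := (mul_eq_zero.mp h4').resolve_left hc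
    linear_combination h6'

theorem exists_hexF_aux [Finite G] (h : HexG U1 U2 U3 U4 U5 U6 μ1 μ6 st y e1 e6) :
    ∃ (F : Type u) (_ : Field F) (_ : Finite F) (J : Type u) (_ : AddCommGroup J) (_ : Module F J)
      (x1 x5 : J → G) (x2 x4 x6 : F → G) (N : J → F) (ε : J),
      HexF U1 U2 U3 U4 U5 U6 μ1 μ6 st y e1 e6 x1 x5 x2 x4 x6 N ε := by
  classical
  obtain ⟨A1, _, f1, h1⟩ := exists_par U1 h.c11
  obtain ⟨A2, _, f2, h2⟩ := exists_par U2 h.c22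
  obtain ⟨A4, _, f4, h4⟩ := exists_par U4 h.c44
  obtain ⟨A5, _, f5, h5⟩ := exists_par U5 h.c55
  have : Finite A1 := Finite.of_injective f1 h1.inj
  have : Finite A2 := Finite.of_injective f2 h2.inj
  obtain ⟨Φ1, hΦ1, hm1⟩ := exists_phi1 h h1 h5
  obtain ⟨Φ2, hΦ2, hm2, hk2⟩ := exists_phi2 h h2 h4
  obtain ⟨F, iF, hF, i1, i2, ι, hι, hadd, hone, hs1, hs2⟩ :=
    exists_field h h1 h2 h4 h5 hΦ1 hΦ2 hm1 hm2
  obtain ⟨e, he⟩ : ∃ e : U6, e = ⟨e6, h.e6_mem⟩ := ⟨_, rfl⟩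
  have heG : (e : G) = e6 := by rw [he]
  have he1 : (e : G) ≠ 1 := heG ▸ h.e6_ne
  rw [← he] at hone
  simp only [← he] at hs1 hs2
  -- the basis element of `U2`
  obtain ⟨b0, hb0⟩ := (h2.mem _).mp (h.m62 e1 h.e1_mem h.e1_ne e6 h.e6_mem)
  have hb0' : b0 ≠ 0 := by
    rintro rfl
    rw [h2.zero] at hb0
    apply h.e6_ne
    apply cj_inj (g := μ1 e1)
    rw [cj_one, ← hb0]
  -- `x6`
  obtain ⟨ιe, hιe⟩ : ∃ ιe : U6 ≃ F, ∀ t, ιe t = ι t := ⟨Equiv.ofBijective ι hι, fun _ => rfl⟩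
  have h6 : Par U6 (fun t : F => ((ιe.symm t : U6) : G)) := by
    refine ⟨?_, ?_, ?_⟩
    · intro s t
      change ((ιe.symm (s + t) : U6) : G) = ((ιe.symm s * ιe.symm t : U6) : G)
      congr 1
      rw [Equiv.symm_apply_eq, hιe, hadd, ← hιe, ← hιe, Equiv.apply_symm_apply, Equiv.apply_symm_apply]
    · intro s t hst
      exact ιe.symm.injective (Subtype.ext hst)
    · intro g
      constructor
      · intro hg
        exact ⟨ιe ⟨g, hg⟩, by simp⟩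
      · rintro ⟨t, rfl⟩
        exact (ιe.symm t).2
  obtain ⟨x6, hx6⟩ : ∃ x6 : F → G, x6 = fun t : F => ((ιe.symm t : U6) : G) := ⟨_, rfl⟩
  rw [← hx6] at h6
  have hx6' : ∀ t : F, ∃ t' : U6, (t' : G) = x6 t ∧ ι t' = t := by
    intro t
    refine ⟨ιe.symm t, by rw [hx6], ?_⟩
    rw [← hιe, Equiv.apply_symm_apply]
  have hx61 : x6 1 = e6 := by
    rw [hx6]
    change ((ιe.symm 1 : U6) : G) = e6
    rw [← heG]
    congr 1
    rw [Equiv.symm_apply_eq, hιe, hone]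
  -- `U2` is one-dimensional
  have hinj : Function.Injective (fun s : F => s • b0) := by
    intro s t hst
    exact smul_left_injective F hb0' hst
  have hbij : Function.Bijective (fun s : F => s • b0) := by
    apply hinj.bijective_of_nat_card_le
    have hmem : ∀ b : A2, cj (μ1 e1)⁻¹ (f2 b) ∈ U6 := by
      intro b
      rw [← h.m1inv _ h.e1_mem h.e1_ne]
      exact h.m26 _ (inv_mem h.e1_mem) (inv_ne_one.mpr h.e1_ne) _ (h2.m b)
    refine Nat.card_le_card_of_injective (fun b => ιe ⟨_, hmem b⟩) ?_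
    intro b b' hbb
    have h3 := congrArg Subtype.val (ιe.injective hbb)
    exact h2.inj (cj_inj h3)
  have h2' : Par U2 (fun s : F => f2 (s • b0)) := by
    refine ⟨?_, ?_, ?_⟩
    · intro s t
      change f2 ((s + t) • b0) = _
      rw [add_smul, h2.add]
    · intro s t hst
      exact hinj (h2.inj hst)
    · intro g
      rw [h2.mem]
      constructor
      · rintro ⟨b, rfl⟩
        obtain ⟨s, hs⟩ := hbij.2 b
        exact ⟨s, by rw [← hs]⟩
      · rintro ⟨s, rfl⟩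
        exact ⟨_, rfl⟩
  have hb4 : Function.Bijective (Φ2 e) := by
    refine bij_of h2 h4 (g := μ6 e) (hΦ2 e he1) ?_
    intro w hw
    rw [← h.m6inv _ e.2 he1]
    exact h.m42 _ (inv_mem e.2) (inv_ne_one.mpr he1) w hw
  have hb5 : Function.Bijective (Φ1 e) := by
    refine bij_of h1 h5 (g := μ6 e) (hΦ1 e he1) ?_
    intro w hw
    rw [← h.m6inv _ e.2 he1]
    exact h.m51 _ (inv_mem e.2) (inv_ne_one.mpr he1) w hw
  have h4' : Par U4 (fun s : F => f4 (Φ2 e (s • b0))) := by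
    refine ⟨?_, ?_, ?_⟩
    · intro s t
      change f4 (Φ2 e ((s + t) • b0)) = _
      rw [add_smul, map_add, h4.add]
    · intro s t hst
      exact hinj (hb4.1 (h4.inj hst))
    · intro g
      rw [h4.mem]
      constructor
      · rintro ⟨b, rfl⟩
        obtain ⟨b', rfl⟩ := hb4.2 b
        obtain ⟨s, hs⟩ := hbij.2 b'
        exact ⟨s, by rw [← hs]⟩
      · rintro ⟨s, rfl⟩
        exact ⟨_, rfl⟩
  have h5' : Par U5 (fun a : A1 => f5 (-Φ1 e a)) := by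
    refine ⟨?_, ?_, ?_⟩
    · intro s t
      rw [map_add, neg_add, h5.add]
    · intro s t hst
      exact hb5.1 (neg_injective (h5.inj hst))
    · intro g
      rw [h5.mem]
      constructor
      · rintro ⟨b, rfl⟩
        obtain ⟨b', hb'⟩ := hb5.2 (-b)
        exact ⟨b', by rw [hb', neg_neg]⟩
      · rintro ⟨s, rfl⟩
        exact ⟨_, rfl⟩
  obtain ⟨x2, hx2⟩ : ∃ x2 : F → G, x2 = fun s : F => f2 (s • b0) := ⟨_, rfl⟩
  obtain ⟨x4, hx4⟩ : ∃ x4 : F → G, x4 = fun s : F => f4 (Φ2 e (s • b0)) := ⟨_, rfl⟩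
  obtain ⟨x5, hx5⟩ : ∃ x5 : A1 → G, x5 = fun a : A1 => f5 (-Φ1 e a) := ⟨_, rfl⟩
  rw [← hx2] at h2'
  rw [← hx4] at h4'
  rw [← hx5] at h5'
  have p3 : ∀ s t, kk (x2 s) (x6 t) = x4 (s * t) := by
    intro s t
    obtain ⟨t', ht', hι'⟩ := hx6' t
    rw [← ht', hx2, ← hk2, hs2, hι', smul_smul, hx4, mul_comm]
  obtain ⟨c1, -, hc1, hc1'⟩ := exists_scal h h2' h4' h6 p3 h.e1_mem h.e1_ne
  have hc11 : c1 = 1 := by
    have e1' := hc1 1
    rw [hx61, one_mul, ← hb0] at e1'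
    have e2 : x2 1 = f2 b0 := by rw [hx2]; simp
    rw [← e2] at e1'
    exact (h2'.inj e1').symm
  subst hc11
  have hN : ∀ a : A1, ∃ c : F, (a = 0 → c = 0) ∧ (a ≠ 0 → c ≠ 0 ∧ ∀ t, cj (μ1 (f1 a)) (x6 t) = x2 (t * c)) := by
    intro a
    by_cases ha : a = 0
    · exact ⟨0, fun _ => rfl, fun h' => absurd ha h'⟩
    · have ha1 : f1 a ≠ 1 := by
        rw [← h1.zero]
        exact fun h' => ha (h1.inj h')
      obtain ⟨c, hc, hc', -⟩ := exists_scal h h2' h4' h6 p3 (h1.m a) ha1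
      exact ⟨c, fun h' => absurd h' ha, fun _ => ⟨hc, hc'⟩⟩
  choose N hN1 hN2 using hN
  obtain ⟨ε, hε⟩ := (h1.mem _).mp h.e1_mem
  refine ⟨F, iF, hF, A1, inferInstance, i1, f1, x5, x2, x4, x6, N, ε, ?_⟩
  exact
    { hG := h
      add1 := h1.add
      add5 := h5'.add
      add2 := h2'.add
      add4 := h4'.add
      add6 := h6.add
      inj1 := h1.inj
      inj5 := h5'.inj
      inj2 := h2'.inj
      inj4 := h4'.inj
      inj6 := h6.inj
      mem1 := h1.mem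
      mem5 := h5'.mem
      mem2 := h2'.mem
      mem4 := h4'.mem
      mem6 := h6.mem
      one1 := hε
      one6 := hx61
      p2 := by
        intro t ht a
        obtain ⟨t', ht', hι'⟩ := hx6' t
        have hne : (t' : G) ≠ 1 := by
          rw [ht', ← h6.zero]
          exact fun h' => ht (h6.inj h')
        rw [← ht', ← hΦ1 t' hne, hs1, hι', hx5]
        simp
      p3 := p3
      p4 := fun t => by rw [hc1, mul_one]
      p4' := fun t => by rw [hc1', inv_one, mul_one]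
      p5 := fun a ha => (hN2 a ha).2
      N_zero := hN1 0 rfl
      N_ne := fun a ha => (hN2 a ha).1 }

/-- Change of the field along an isomorphism. -/
theorem transport {F F' : Type*} [Field F] [Field F'] (σ : F' ≃+* F) {J : Type v} [AddCommGroup J]
    [Module F J] {x1 x5 : J → G} {x2 x4 x6 : F → G} {N : J → F} {ε : J}
    (H : HexF U1 U2 U3 U4 U5 U6 μ1 μ6 st y e1 e6 x1 x5 x2 x4 x6 N ε) :
    ∃ _ : Module F' J, HexF U1 U2 U3 U4 U5 U6 μ1 μ6 st y e1 e6 x1 x5 (fun t : F' => x2 (σ t))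
      (fun t => x4 (σ t)) (fun t => x6 (σ t)) (fun a => σ.symm (N a)) ε := by
  have hmem : ∀ {U : Subgroup G} {x : F → G}, (∀ g, g ∈ U ↔ ∃ a, x a = g) →
      ∀ g, g ∈ U ↔ ∃ a : F', x (σ a) = g := by
    intro U x hx g
    rw [hx]
    constructor
    · rintro ⟨a, rfl⟩
      exact ⟨σ.symm a, by rw [RingEquiv.apply_symm_apply]⟩
    · rintro ⟨a, rfl⟩
      exact ⟨_, rfl⟩
  let iM : Module F' J := Module.compHom J (σ : F' →+* F)
  refine ⟨iM, ?_⟩
  exact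
    { hG := H.hG
      add1 := H.add1
      add5 := H.add5
      add2 := fun a b => by rw [map_add, H.add2]
      add4 := fun a b => by rw [map_add, H.add4]
      add6 := fun a b => by rw [map_add, H.add6]
      inj1 := H.inj1
      inj5 := H.inj5
      inj2 := H.inj2.comp σ.injective
      inj4 := H.inj4.comp σ.injective
      inj6 := H.inj6.comp σ.injective
      mem1 := H.mem1
      mem5 := H.mem5
      mem2 := hmem H.mem2
      mem4 := hmem H.mem4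
      mem6 := hmem H.mem6
      one1 := H.one1
      one6 := by rw [map_one, H.one6]
      p2 := by
        intro t ht a
        exact H.p2 (σ t) (by rwa [Ne, map_eq_zero_iff σ σ.injective]) a
      p3 := fun s t => by rw [H.p3, map_mul]
      p4 := fun t => H.p4 _
      p4' := fun t => by rw [H.p4', map_neg]
      p5 := fun a ha t => by rw [H.p5 a ha, map_mul, RingEquiv.apply_symm_apply]
      N_zero := by rw [H.N_zero, map_zero]
      N_ne := fun a ha => by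
        rw [Ne, map_eq_zero_iff σ.symm σ.symm.injective]
        exact H.N_ne a ha }

/-- **[6c-2]** The field and the module of a Moufang hexagon. -/
theorem exists_hexF [Finite G] (h : HexG U1 U2 U3 U4 U5 U6 μ1 μ6 st y e1 e6) :
    ∃ (F : Type) (_ : Field F) (_ : Finite F) (J : Type u) (_ : AddCommGroup J) (_ : Module F J)
      (x1 x5 : J → G) (x2 x4 x6 : F → G) (N : J → F) (ε : J),
      HexF U1 U2 U3 U4 U5 U6 μ1 μ6 st y e1 e6 x1 x5 x2 x4 x6 N ε := by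
  obtain ⟨F, _, _, J, _, _, x1, x5, x2, x4, x6, N, ε, H⟩ := exists_hexF_aux h
  obtain ⟨i, H'⟩ := transport (Shrink.ringEquiv.{0} F) H
  exact ⟨Shrink.{0} F, inferInstance, Finite.of_equiv F (equivShrink.{0} F), J, inferInstance, i,
    _, _, _, _, _, _, _, H'⟩

end Main

end Cfsg.Agent.SplitTwo.HexField
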