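import Cfsg.Agent.SplitTwo.MuMaps

/-!
# Root group systems of rank two: the segment groups `seg X i k = ⟨X i, …, X (i+k-1)⟩` (S1144)

Products, intersections, action of reflections, and the main lemma `seg_conj_disjoint`:
if `z ∈ X (i+1) ⋯ X (i+m)` is not in `X (i+1) ⋯ X (i+m-1)` and `b + d < m`, then
`(X (i+1) ⋯ X (i+b))^z ∩ X (i+1) ⋯ X (i+d) = 1`.
-/

set_option autoImplicit false

namespace Cfsg.Agent.SplitTwo

open scoped commutatorElement Pointwise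

universe u

variable {m : ℕ} {G : Type u} [Group G]

theorem le_seg_one {X : ZMod (2 * m) → Subgroup G} {i j : ZMod (2 * m)} {k : ℕ} (r : ℕ) (hr : r < k)
    (hj : j = i + (r : ℕ)) : X j ≤ seg X i k := by
  rw [hj]; exact le_seg X i hr

theorem seg_le_seg {X : ZMod (2 * m) → Subgroup G} {i j : ZMod (2 * m)} {k l : ℕ} (r : ℕ) (hr : r + l ≤ k)
    (hj : j = i + (r : ℕ)) : seg X j l ≤ seg X i k := by
  rw [hj]; exact seg_shift_le X i hr

namespace Sys

variable {X : ZMod (2 * m) → Subgroup G} (S : Sys m X)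

include S

theorem mem_seg_add (i : ZMod (2 * m)) (a : ℕ) {b : ℕ} : a + b ≤ m → ∀ {x : G}, x ∈ seg X i (a + b) →
    ∃ p ∈ seg X i a, ∃ q ∈ seg X (i + (a : ℕ)) b, p * q = x := by
  induction b with
  | zero => intro _ x hx; exact ⟨x, hx, 1, one_mem _, mul_one x⟩
  | succ b ih =>
    intro h x hx
    obtain ⟨s, hs, t, ht, rfl⟩ := (S.mem_seg_succ i (k := a + b) (by omega)).mp hx
    obtain ⟨p, hp, q, hq, rfl⟩ := ih (by omega) hs
    refine ⟨p, hp, q * t, mul_mem (seg_mono X _ (Nat.le_succ b) hq) (le_seg_one b (by omega) ?_ ht), by group⟩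
    push_cast; ring

theorem seg_disjoint {a b : ℕ} : ∀ (i : ZMod (2 * m)), a + b ≤ m → ∀ {x : G}, x ∈ seg X i a →
    x ∈ seg X (i + (a : ℕ)) b → x = 1 := by
  induction a with
  | zero =>
    intro i _ x hx _
    rw [seg_zero] at hx
    exact Subgroup.mem_bot.mp hx
  | succ a ih =>
    intro i h x hx hx'
    obtain ⟨c, hc, s, hs, rfl⟩ := (S.mem_seg_succ_left i (k := a) (by omega)).mp hx
    have e : i + ((a + 1 : ℕ) : ZMod (2 * m)) = i + 1 + (a : ℕ) := by push_cast; ring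
    rw [e] at hx'
    have hc1 : c = 1 := by
      apply S.inter_left i (k := a + b) (by omega) hc
      have h2 : c = (c * s) * s⁻¹ := by group
      rw [h2]
      exact mul_mem (seg_shift_le X (i + 1) (by omega) hx') (inv_mem (seg_mono X _ (by omega) hs))
    subst hc1
    rw [one_mul] at hx' ⊢
    exact ih (i + 1) (by omega) hs hx'

/-- Intersection of two overlapping segments. -/
theorem seg_inter (i : ZMod (2 * m)) (a k l : ℕ) (h : a + k + l ≤ m) {x : G} (hx : x ∈ seg X i (a + k))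
    (hx' : x ∈ seg X (i + (a : ℕ)) (k + l)) : x ∈ seg X (i + (a : ℕ)) k := by
  obtain ⟨p, hp, q, hq, rfl⟩ := S.mem_seg_add i a (by omega) hx
  have hp1 : p = 1 := by
    apply S.seg_disjoint i (a := a) (b := k + l) (by omega) hp
    have h2 : p = (p * q) * q⁻¹ := by group
    rw [h2]
    exact mul_mem hx' (inv_mem (seg_mono X _ (by omega) hq))
  subst hp1
  rw [one_mul]; exact hq

end Sys

theorem Refl.seg_mem {X : ZMod (2 * m) → Subgroup G} {i : ZMod (2 * m)} {n : G} (h : Refl X i n)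
    {j j' : ZMod (2 * m)} {k : ℕ} (hj : j' = 2 * i + (m : ℕ) - j - (k : ℕ) + 1) {x : G} (hx : x ∈ seg X j k) :
    n * x * n⁻¹ ∈ seg X j' k := by
  have key : seg X j k ≤ (seg X j' k).comap (MulAut.conj n).toMonoidHom := by
    refine seg_le fun r hr => ?_
    intro y hy
    rw [Subgroup.mem_comap]
    change n * y * n⁻¹ ∈ seg X j' k
    refine le_seg_one (k - 1 - r) (by omega) ?_ (h.mem hy)
    rw [hj]
    have h1 : k = (k - 1 - r) + 1 + r := by omega
    have h2 : (k : ZMod (2 * m)) = ((k - 1 - r : ℕ) : ZMod (2 * m)) + 1 + r := by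
      conv_lhs => rw [h1]
      push_cast; ring
    rw [h2]; ring
  exact key hx

theorem Refl.seg_mem' {X : ZMod (2 * m) → Subgroup G} {i : ZMod (2 * m)} {n : G} (h : Refl X i n)
    {j j' : ZMod (2 * m)} {k : ℕ} (hj : j' = 2 * i + (m : ℕ) - j - (k : ℕ) + 1) {x : G} (hx : x ∈ seg X j k) :
    n⁻¹ * x * n ∈ seg X j' k := by
  have := h.inv.seg_mem hj hx
  rwa [inv_inv] at this

namespace Sys

variable {X : ZMod (2 * m) → Subgroup G} (S : Sys m X)

include S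

/-- **Main lemma** (special case `z = y u`, `u ∈ X (i + m)`). -/
theorem seg_conj_disjoint (i : ZMod (2 * m)) {b d : ℕ} (hbd : b + d < m) {x z : G}
    (hz : z ∈ seg X (i + 1) m) (hz' : z ∉ seg X (i + 1) (m - 1)) (hx : x ∈ seg X (i + 1) b)
    (hx' : z⁻¹ * x * z ∈ seg X (i + 1) d) : x = 1 := by
  have h3 := S.three_le
  have hm1 : ((m - 1 : ℕ) : ZMod (2 * m)) = m - 1 := by
    rw [Nat.cast_sub (by omega)]; norm_num
  have hmm : m = (m - 1) + 1 := by omega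
  obtain ⟨y, hy, w, hw, rfl⟩ : ∃ s ∈ seg X (i + 1) (m - 1), ∃ t ∈ X (i + (m : ℕ)), s * t = z := by
    have hz2 : z ∈ seg X (i + 1) ((m - 1) + 1) := by
      have e : (m - 1) + 1 = m := by omega
      rw [e]; exact hz
    obtain ⟨s, hs, t, ht, e⟩ := (S.mem_seg_succ (i + 1) (k := m - 1) (by omega)).mp hz2
    refine ⟨s, hs, t, ?_, e⟩
    have e2 : i + 1 + ((m - 1 : ℕ) : ZMod (2 * m)) = i + (m : ℕ) := by rw [hm1]; ring
    rwa [e2] at ht
  have hw1 : w ≠ 1 := by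
    rintro rfl
    rw [mul_one] at hz'
    exact hz' hy
  obtain ⟨k, l, hk, hl, hr⟩ := S.exists_isMu hw hw1
  have e0 : i + (m : ℕ) + (m : ℕ) = i := by rw [add_assoc, two_m_cast, add_zero]
  rw [e0] at hk hl
  -- `w = k⁻¹ n l⁻¹`
  obtain ⟨n, hn⟩ : ∃ n, n = k * w * l := ⟨_, rfl⟩
  rw [← hn] at hr
  have hwn : w = k⁻¹ * n * l⁻¹ := by rw [hn]; group
  -- reflection on indices
  have hidx : ∀ j : ZMod (2 * m), 2 * (i + (m : ℕ)) + (m : ℕ) - j = 2 * i + (m : ℕ) - j := by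
    intro j
    have : 2 * (i + (m : ℕ)) + (m : ℕ) - j = 2 * i + (m : ℕ) - j + ((m : ZMod (2 * m)) + m) := by ring
    rw [this, two_m_cast, add_zero]
  -- `P = x^{z n}`
  have hP : n⁻¹ * ((y * w)⁻¹ * x * (y * w)) * n ∈ seg X (i + (m : ℕ) - (d : ℕ)) d := by
    refine hr.seg_mem' ?_ hx'
    rw [sub_sub _ _ ((d : ℕ) : ZMod (2 * m)), hidx]
    ring
  -- `y k⁻¹ = p q`
  have hyk : y * k⁻¹ ∈ seg X i ((b + 1) + (m - 1 - b)) := by
    have e1 : (b + 1) + (m - 1 - b) = m := by omega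
    rw [e1]
    refine mul_mem (seg_le_seg 1 (by omega) (by push_cast; ring) hy) (inv_mem ?_)
    exact le_seg_one 0 (by omega) (by push_cast; ring) hk
  obtain ⟨p, hp, q, hq, hpq⟩ := S.mem_seg_add i (b + 1) (by omega) hyk
  -- `n l⁻¹ n = n² ŵ`
  have hŵ : n⁻¹ * l⁻¹ * n ∈ X (i + (m : ℕ)) := by
    have := hr.mem' (inv_mem hl)
    rw [hidx] at this
    have e2 : 2 * i + (m : ℕ) - i = i + (m : ℕ) := by ring
    rwa [e2] at this
  have hzn : (y * w) * n = p * (q * (n * n) * (n⁻¹ * l⁻¹ * n)) := by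
    rw [hwn]
    calc y * (k⁻¹ * n * l⁻¹) * n = (y * k⁻¹) * (n * l⁻¹ * n) := by group
      _ = (p * q) * (n * l⁻¹ * n) := by rw [hpq]
      _ = _ := by group
  have hmain : p⁻¹ * x * p = (q * (n * n) * (n⁻¹ * l⁻¹ * n)) *
      (n⁻¹ * ((y * w)⁻¹ * x * (y * w)) * n) * (q * (n * n) * (n⁻¹ * l⁻¹ * n))⁻¹ := by
    have e1 : n⁻¹ * ((y * w)⁻¹ * x * (y * w)) * n = ((y * w) * n)⁻¹ * x * ((y * w) * n) := by group
    rw [e1, hzn]
    group
  -- left side in `seg X i (b+1)`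
  have hleft : p⁻¹ * x * p ∈ seg X i (b + 1) :=
    mul_mem (mul_mem (inv_mem hp) (seg_le_seg 1 (by omega) (by push_cast; ring) hx)) hp
  -- right side in `seg X (i+b+1) (m-1-b)`
  have hright : p⁻¹ * x * p ∈ seg X (i + ((b + 1 : ℕ) : ZMod (2 * m))) (m - 1 - b) := by
    rw [hmain]
    have hsub : seg X (i + (m : ℕ) - (d : ℕ)) d ≤ seg X (i + ((b + 1 : ℕ) : ZMod (2 * m))) (m - 1 - b) := by
      refine seg_le_seg (m - 1 - b - d) (by omega) ?_
      have h1 : m = (b + 1) + (m - 1 - b - d) + d := by omega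
      have h2 := congrArg (Nat.cast : ℕ → ZMod (2 * m)) h1
      rw [Nat.cast_add, Nat.cast_add] at h2
      calc i + (m : ZMod (2 * m)) - (d : ℕ)
          = i + (((b + 1 : ℕ) : ZMod (2 * m)) + ((m - 1 - b - d : ℕ) : ZMod (2 * m)) + d) - (d : ℕ) := by
            exact congrArg (fun t => i + t - (d : ZMod (2 * m))) h2
        _ = _ := by ring
    have s1 : (n⁻¹ * l⁻¹ * n) * (n⁻¹ * ((y * w)⁻¹ * x * (y * w)) * n) * (n⁻¹ * l⁻¹ * n)⁻¹ ∈
        seg X (i + (m : ℕ) - (d : ℕ)) d := by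
      refine S.conj_right (i + (m : ℕ) - (d : ℕ)) (k := d) (by omega) ?_ hP
      rw [sub_add_cancel]; exact hŵ
    have s2 : n * ((n⁻¹ * l⁻¹ * n) * (n⁻¹ * ((y * w)⁻¹ * x * (y * w)) * n) * (n⁻¹ * l⁻¹ * n)⁻¹) * n⁻¹ ∈
        seg X (2 * i + (m : ℕ) - (i + (m : ℕ) - (d : ℕ)) - (d : ℕ) + 1) d := by
      refine hr.seg_mem ?_ s1
      rw [hidx]
    have s3 : n * (n * ((n⁻¹ * l⁻¹ * n) * (n⁻¹ * ((y * w)⁻¹ * x * (y * w)) * n) * (n⁻¹ * l⁻¹ * n)⁻¹) * n⁻¹) * n⁻¹ ∈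
        seg X (i + (m : ℕ) - (d : ℕ)) d := by
      refine hr.seg_mem ?_ s2
      rw [hidx]; ring
    have e3 : (q * (n * n) * (n⁻¹ * l⁻¹ * n)) * (n⁻¹ * ((y * w)⁻¹ * x * (y * w)) * n) *
        (q * (n * n) * (n⁻¹ * l⁻¹ * n))⁻¹ =
        q * (n * (n * ((n⁻¹ * l⁻¹ * n) * (n⁻¹ * ((y * w)⁻¹ * x * (y * w)) * n) * (n⁻¹ * l⁻¹ * n)⁻¹) * n⁻¹) * n⁻¹) *
          q⁻¹ := by
      group
    rw [e3]
    exact mul_mem (mul_mem hq (hsub s3)) (inv_mem hq)
  have h1 := S.seg_disjoint i (a := b + 1) (b := m - 1 - b) (by omega) hleft hright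
  have h2 : x = p * (p⁻¹ * x * p) * p⁻¹ := by group
  rw [h2, h1]; group

/-- Mirrored main lemma: `z ∈ X i ⋯ X (i+m-1)` not in `X (i+1) ⋯ X (i+m-1)`. -/
theorem seg_conj_disjoint' (i : ZMod (2 * m)) {b d : ℕ} (hbd : b + d < m) {x z : G}
    (hz : z ∈ seg X i m) (hz' : z ∉ seg X (i + 1) (m - 1)) (hx : x ∈ seg X (i + ((m - b : ℕ) : ZMod (2 * m))) b)
    (hx' : z⁻¹ * x * z ∈ seg X (i + ((m - d : ℕ) : ZMod (2 * m))) d) : x = 1 := by
  have h3 := S.three_le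
  have hc : ∀ r : ℕ, r ≤ m → ((m - r : ℕ) : ZMod (2 * m)) = m - r := fun r hr => by
    rw [Nat.cast_sub hr]
  refine S.neg.seg_conj_disjoint (-i - (m : ℕ)) hbd (z := z) ?_ ?_ ?_ ?_
  · rw [seg_neg]
    have e : -(-i - (m : ZMod (2 * m)) + 1) - (m : ℕ) + 1 = i := by ring
    rw [e]; exact hz
  · rw [seg_neg]
    have e : -(-i - (m : ZMod (2 * m)) + 1) - ((m - 1 : ℕ) : ZMod (2 * m)) + 1 = i + 1 := by
      rw [hc 1 (by omega)]; push_cast; ring
    rw [e]; exact hz'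
  · rw [seg_neg]
    have e : -(-i - (m : ZMod (2 * m)) + 1) - (b : ℕ) + 1 = i + ((m - b : ℕ) : ZMod (2 * m)) := by
      rw [hc b (by omega)]; ring
    rw [e]; exact hx
  · rw [seg_neg]
    have e : -(-i - (m : ZMod (2 * m)) + 1) - (d : ℕ) + 1 = i + ((m - d : ℕ) : ZMod (2 * m)) := by
      rw [hc d (by omega)]; ring
    rw [e]; exact hx'

/-- **Commuting lemma.** If `h ∈ X i`, `h ≠ 1`, commutes with `z ∈ X i ⋯ X (i+k-1)`, `k ≤ m`, `2 k > m + 2`, then
`z ∈ X i ⋯ X (i+k-2)`. -/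
theorem mem_of_commute_step (i : ZMod (2 * m)) {k : ℕ} (hk : k + 1 ≤ m) (hk' : m + 2 < 2 * (k + 1)) {h z : G}
    (hh : h ∈ X i) (hh1 : h ≠ 1) (hz : z ∈ seg X i (k + 1)) (hc : h * z = z * h) : z ∈ seg X i k := by
  by_contra hcon
  have hcast : ((m - (k + 1) : ℕ) : ZMod (2 * m)) = m - (k + 1) := by
    rw [Nat.cast_sub hk]; push_cast; ring
  set j : ZMod (2 * m) := i - ((m - (k + 1) : ℕ) : ZMod (2 * m)) - 1 with hj
  have e1 : i = j + 1 + ((m - (k + 1) : ℕ) : ZMod (2 * m)) := by rw [hj]; ring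
  apply hh1
  refine S.seg_conj_disjoint j (b := m - (k + 1) + 1) (d := m - (k + 1) + 1) (by omega) (z := z) ?_ ?_ ?_ ?_
  · exact seg_le_seg (m - (k + 1)) (by omega) e1 hz
  · intro hz'
    apply hcon
    have h1 := S.seg_inter (j + 1) (m - (k + 1)) k 1 (by omega) (x := z)
      (by
        have : m - (k + 1) + k = m - 1 := by omega
        rw [this]; exact hz')
      (by rw [← e1]; exact hz)
    rw [← e1] at h1
    exact h1
  · exact le_seg_one (m - (k + 1)) (by omega) e1 hh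
  · have e : z⁻¹ * h * z = h := by rw [mul_assoc, hc]; group
    rw [e]
    exact le_seg_one (m - (k + 1)) (by omega) e1 hh

/-- **Commuting lemma**, final form: `h ∈ X i`, `h ≠ 1` commuting with `z ∈ X i ⋯ X (i+k-1)`, `k ≤ m`, gives
`z ∈ X i ⋯ X (i+l-1)` whenever `m ≤ 2 l - 2 + 1`. -/
theorem mem_of_commute (i : ZMod (2 * m)) {l : ℕ} (hl : m < 2 * l) {h z : G} (hh : h ∈ X i) (hh1 : h ≠ 1)
    (hc : h * z = z * h) : ∀ {k : ℕ}, k ≤ m → z ∈ seg X i k → z ∈ seg X i l := by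
  intro k
  induction k with
  | zero => intro _ hz; exact seg_mono X i (Nat.zero_le l) hz
  | succ k ih =>
    intro hk hz
    by_cases hkl : k + 1 ≤ l
    · exact seg_mono X i hkl hz
    · exact ih (by omega) (S.mem_of_commute_step i hk (by omega) hh hh1 hz hc)

/-- Mirrored commuting lemma: `h ∈ X (i+m-1)`, `h ≠ 1` commuting with `z ∈ X i ⋯ X (i+m-1)` gives
`z ∈ X (i+m-l) ⋯ X (i+m-1)` whenever `m < 2 l`. -/
theorem mem_of_commute' (i : ZMod (2 * m)) {l : ℕ} (hl : m < 2 * l) (hlm : l ≤ m) {h z : G}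
    (hh : h ∈ X (i + ((m - 1 : ℕ) : ZMod (2 * m)))) (hh1 : h ≠ 1)
    (hc : h * z = z * h) (hz : z ∈ seg X i m) : z ∈ seg X (i + ((m - l : ℕ) : ZMod (2 * m))) l := by
  have h3 := S.three_le
  have hcast : ∀ r : ℕ, r ≤ m → ((m - r : ℕ) : ZMod (2 * m)) = m - r := fun r hr => by
    rw [Nat.cast_sub hr]
  have h1 := S.neg.mem_of_commute (-(i + ((m - 1 : ℕ) : ZMod (2 * m)))) hl (h := h) (z := z)
    (by change h ∈ X (-(-(i + ((m - 1 : ℕ) : ZMod (2 * m))))); rw [neg_neg]; exact hh) hh1 hc (k := m) le_rfl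
    (by
      rw [seg_neg]
      have e : -(-(i + ((m - 1 : ℕ) : ZMod (2 * m)))) - (m : ℕ) + 1 = i := by
        rw [hcast 1 (by omega)]; push_cast; ring
      rw [e]; exact hz)
  rw [seg_neg] at h1
  have e : -(-(i + ((m - 1 : ℕ) : ZMod (2 * m)))) - (l : ℕ) + 1 = i + ((m - l : ℕ) : ZMod (2 * m)) := by
    rw [hcast 1 (by omega), hcast l hlm]; push_cast; ring
  rw [e] at h1
  exact h1

/-- **Lemma X** (`m = 2 s`): `w ∈ X (i+s)` commuting with one `1 ≠ a ∈ X (i+2s)` commutes with the partners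
`κ(a), λ(a) ∈ X i` and with `μ(a)`. -/
theorem commute_partner {s : ℕ} (hs : m = 2 * s) (i : ZMod (2 * m)) {w a : G} (hw : w ∈ X (i + (s : ℕ)))
    (ha : a ∈ X (i + (m : ℕ))) (ha1 : a ≠ 1) (hc : w * a = a * w) :
    kap X (i + (m : ℕ)) a * w = w * kap X (i + (m : ℕ)) a ∧
      lam X (i + (m : ℕ)) a * w = w * lam X (i + (m : ℕ)) a := by
  have h3 := S.three_le
  have e0 : i + (m : ℕ) + (m : ℕ) = i := by rw [add_assoc, two_m_cast, add_zero]
  have hk := S.kap_mem ha ha1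
  have hl := S.lam_mem ha ha1
  have hr := S.refl ha ha1
  rw [e0] at hk hl
  set k := kap X (i + (m : ℕ)) a with hkd
  set l := lam X (i + (m : ℕ)) a with hld
  have hmu : muMap X (i + (m : ℕ)) a = k * a * l := rfl
  have hms : (m : ZMod (2 * m)) = (s : ZMod (2 * m)) + s := by
    have := congrArg (Nat.cast : ℕ → ZMod (2 * m)) hs
    push_cast at this
    exact this.trans (two_mul _)
  have hs1 : i + (s : ℕ) = i + (((s - 1) + 1 : ℕ) : ZMod (2 * m)) := by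
    have : s = (s - 1) + 1 := by omega
    conv_lhs => rw [this]
  -- for `t ∈ X i`: `[t, w] ∈ seg (i+1) (s-1)`
  have hcw : ∀ t ∈ X i, ⁅t, w⁆ ∈ seg X (i + 1) (s - 1) := by
    intro t ht
    exact S.comm i (s - 1) (by omega) t ht w (by rw [← hs1]; exact hw)
  -- `w' = μ⁻¹ w μ`
  have hw' : (k * a * l)⁻¹ * w * (k * a * l) ∈ X (i + (s : ℕ)) := by
    have := hr.mem' hw
    rw [hmu] at this
    have e1 : 2 * (i + (m : ℕ)) + (m : ℕ) - (i + (s : ℕ)) = i + (s : ℕ) := by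
      have e2 : 2 * (i + (m : ℕ)) + (m : ℕ) - (i + (s : ℕ)) =
        i + ((m : ZMod (2 * m)) + m) + m - s := by ring
      rw [e2, two_m_cast, hms]; ring
    rwa [e1] at this
  have hsub1 : seg X (i + 1) (s - 1) ≤ seg X (i + 1) s := seg_mono X _ (by omega)
  have hXs : X (i + (s : ℕ)) ≤ seg X (i + 1) s := by
    refine le_seg_one (s - 1) (by omega) ?_
    rw [hs1]; push_cast; ring
  -- `r = w⁻¹ k⁻¹ w k`
  obtain ⟨r, hrd⟩ : ∃ r, r = w⁻¹ * (k⁻¹ * w * k) := ⟨_, rfl⟩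
  have hr1 : r ∈ seg X (i + 1) (s - 1) := by
    have h1 := hcw k⁻¹ (inv_mem hk)
    rw [commutatorElement_def] at h1
    -- r = w⁻¹ (k⁻¹ w k w⁻¹) w ; use that X (i+s) normalises the segment
    have h2 := S.conj_right (i + 1) (k := s - 1) (by omega) (b := w⁻¹)
      (by
        have e : i + 1 + ((s - 1 : ℕ) : ZMod (2 * m)) = i + (s : ℕ) := by rw [hs1]; push_cast; ring
        rw [e]; exact inv_mem hw) h1
    have e : w⁻¹ * (k⁻¹ * w * k⁻¹⁻¹ * w⁻¹) * w⁻¹⁻¹ = r := by rw [hrd]; group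
    rw [e] at h2
    exact h2
  have hkw : k⁻¹ * w * k = w * r := by rw [hrd]; group
  have hwa : a⁻¹ * w * a = w := by rw [mul_assoc, hc]; group
  have hra : a⁻¹ * r * a = w⁻¹ * (l * ((k * a * l)⁻¹ * w * (k * a * l)) * l⁻¹) := by
    have e1 : l * ((k * a * l)⁻¹ * w * (k * a * l)) * l⁻¹ = a⁻¹ * (k⁻¹ * w * k) * a := by group
    rw [e1, hkw]
    have e2 : a⁻¹ * (w * r) * a = (a⁻¹ * w * a) * (a⁻¹ * r * a) := by group
    rw [e2, hwa]; group
  have hcw' : l * ((k * a * l)⁻¹ * w * (k * a * l)) * l⁻¹ ∈ seg X (i + 1) s := by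
    have h1 := S.comm i (s - 1) (by omega) l hl _ (by rw [← hs1]; exact hw')
    have e : l * ((k * a * l)⁻¹ * w * (k * a * l)) * l⁻¹ =
        ⁅l, (k * a * l)⁻¹ * w * (k * a * l)⁆ * ((k * a * l)⁻¹ * w * (k * a * l)) := by
      rw [commutatorElement_def]; group
    rw [e]
    exact mul_mem (hsub1 h1) (hXs hw')
  have hra' : a⁻¹ * r * a ∈ seg X (i + 1) s := by
    rw [hra]
    exact mul_mem (inv_mem (hXs hw)) hcw'
  have hm1 : ((m - 1 : ℕ) : ZMod (2 * m)) = m - 1 := by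
    rw [Nat.cast_sub (by omega)]; norm_num
  have hrr : r = 1 := by
    refine S.seg_conj_disjoint i (b := s - 1) (d := s) (by omega) (z := a) ?_ ?_ hr1 hra'
    · refine le_seg_one (m - 1) (by omega) ?_ ha
      rw [hm1]; ring
    · intro hcon
      apply ha1
      refine S.seg_disjoint (i + 1) (a := m - 1) (b := 1) (by omega) hcon ?_
      rw [seg_one]
      have e : i + 1 + ((m - 1 : ℕ) : ZMod (2 * m)) = i + (m : ℕ) := by rw [hm1]; ring
      rw [e]; exact ha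
  have hkw' : k * w = w * k := by
    rw [hrr, mul_one] at hkw
    calc k * w = k * (k⁻¹ * w * k) := by rw [hkw]
      _ = w * k := by group
  refine ⟨hkw', ?_⟩
  -- now `w' = l⁻¹ w l`
  have e3 : (k * a * l)⁻¹ * w * (k * a * l) = l⁻¹ * w * l := by
    have e4 : (k * a * l)⁻¹ * w * (k * a * l) = l⁻¹ * (a⁻¹ * (k⁻¹ * (w * k)) * a) * l := by group
    rw [e4, ← hkw']
    have e5 : l⁻¹ * (a⁻¹ * (k⁻¹ * (k * w)) * a) * l = l⁻¹ * (a⁻¹ * w * a) * l := by group
    rw [e5, hwa]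
  rw [e3] at hw'
  have h6 : l⁻¹ * w * l * w⁻¹ = 1 := by
    apply S.seg_disjoint (i + 1) (a := s - 1) (b := 1) (by omega)
    · have h1 := hcw l⁻¹ (inv_mem hl)
      rw [commutatorElement_def, inv_inv] at h1
      exact h1
    · rw [seg_one]
      have e : i + 1 + ((s - 1 : ℕ) : ZMod (2 * m)) = i + (s : ℕ) := by rw [hs1]; push_cast; ring
      rw [e]
      exact mul_mem hw' (inv_mem hw)
  have h7 : l⁻¹ * w * l = w := mul_inv_eq_one.mp h6
  calc l * w = l * (l⁻¹ * w * l) := by rw [h7]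
    _ = w * l := by group

/-- `w ∈ X (i+s)` (`m = 2 s`) commuting with `X (i+m)` commutes with `X i`. -/
theorem commute_opp {s : ℕ} (hs : m = 2 * s) (i : ZMod (2 * m)) {w : G} (hw : w ∈ X (i + (s : ℕ)))
    (hc : ∀ a ∈ X (i + (m : ℕ)), w * a = a * w) : ∀ f ∈ X i, w * f = f * w := by
  intro f hf
  obtain ⟨a, ha, ha1⟩ := S.exists_ne_one (i + (m : ℕ))
  obtain ⟨h1, h2⟩ := S.commute_partner hs i hw ha ha1 (hc a ha)
  have hr := S.refl ha ha1
  have hmu : muMap X (i + (m : ℕ)) a * w = w * muMap X (i + (m : ℕ)) a := by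
    unfold muMap
    calc kap X (i + (m : ℕ)) a * a * lam X (i + (m : ℕ)) a * w
        = kap X (i + (m : ℕ)) a * a * (lam X (i + (m : ℕ)) a * w) := by group
      _ = kap X (i + (m : ℕ)) a * (a * w) * lam X (i + (m : ℕ)) a := by rw [h2]; group
      _ = (kap X (i + (m : ℕ)) a * w) * a * lam X (i + (m : ℕ)) a := by rw [← hc a ha]; group
      _ = w * (kap X (i + (m : ℕ)) a * a * lam X (i + (m : ℕ)) a) := by rw [h1]; group
  set n := muMap X (i + (m : ℕ)) a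
  have hn : n * f * n⁻¹ ∈ X (i + (m : ℕ)) := by
    have := hr.mem hf
    have e : 2 * (i + (m : ℕ)) + (m : ℕ) - i = i + (m : ℕ) := by
      have e2 : 2 * (i + (m : ℕ)) + (m : ℕ) - i = i + (m : ℕ) + ((m : ZMod (2 * m)) + m) := by ring
      rw [e2, two_m_cast, add_zero]
    rwa [e] at this
  have h3 := hc _ hn
  have h4 : w = n * w * n⁻¹ := by rw [hmu]; group
  rw [h4] at h3
  have h5 : n * (w * f) * n⁻¹ = n * (f * w) * n⁻¹ := by
    calc n * (w * f) * n⁻¹ = n * w * n⁻¹ * (n * f * n⁻¹) := by group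
      _ = n * f * n⁻¹ * (n * w * n⁻¹) := h3
      _ = n * (f * w) * n⁻¹ := by group
  exact mul_left_cancel (mul_right_cancel h5)

/-- `w ∈ X (i+s)` (`m = 2 s`) commuting with `X i` commutes with `X (i+m)`. -/
theorem commute_opp' {s : ℕ} (hs : m = 2 * s) (i : ZMod (2 * m)) {w : G} (hw : w ∈ X (i + (s : ℕ)))
    (hc : ∀ a ∈ X i, w * a = a * w) : ∀ f ∈ X (i + (m : ℕ)), w * f = f * w := by
  intro f hf
  have hms : (m : ZMod (2 * m)) = (s : ZMod (2 * m)) + s := by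
    have := congrArg (Nat.cast : ℕ → ZMod (2 * m)) hs
    push_cast at this
    exact this.trans (two_mul _)
  have h := S.neg.commute_opp hs (-(i + (m : ℕ))) (w := w)
    (by
      change w ∈ X (-(-(i + (m : ℕ)) + (s : ℕ)))
      have e : -(-(i + (m : ZMod (2 * m))) + (s : ℕ)) = i + (s : ℕ) := by rw [hms]; ring
      rw [e]; exact hw)
    (by
      intro a ha
      change a ∈ X (-(-(i + (m : ℕ)) + (m : ℕ))) at ha
      have e : -(-(i + (m : ZMod (2 * m))) + (m : ℕ)) = i := by ring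
      rw [e] at ha
      exact hc a ha)
  apply h
  change f ∈ X (-(-(i + (m : ℕ))))
  rw [neg_neg]; exact hf

end Sys

end Cfsg.Agent.SplitTwo
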