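import Cfsg.Agent.SplitTwo.HexG
import Cfsg.Agent.SplitTwo.SegMaps

/-!
# Moufang hexagons (S1144, [6c-1]): `Hex X` gives the group level data `HexG`
-/

set_option autoImplicit false

namespace Cfsg.Agent.SplitTwo

open scoped commutatorElement

universe u

variable {G : Type u} [Group G] {X : ZMod (2 * 6) → Subgroup G}

namespace HexGOfHex

/-! ## reflections and partners, any index -/

theorem cj_mem {i j j' : ZMod (2 * 6)} {n x : G} (h : Refl X i n)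
    (hj : 2 * i + ((6 : ℕ) : ZMod (2 * 6)) - j = j') (hx : x ∈ X j) : cj n x ∈ X j' := by
  rw [← hj]; exact h.mem' hx

theorem cj_inv_mem {i j j' : ZMod (2 * 6)} {n x : G} (h : Refl X i n)
    (hj : 2 * i + ((6 : ℕ) : ZMod (2 * 6)) - j = j') (hx : x ∈ X j) : cj n⁻¹ x ∈ X j' := by
  have := h.mem hx
  unfold cj
  rw [inv_inv, ← hj]
  exact this

theorem cj_cj_inv (n x : G) : cj n (cj n⁻¹ x) = x := by unfold cj; group

theorem cj_inv_cj (n x : G) : cj n⁻¹ (cj n x) = x := by unfold cj; group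

theorem cj_mul (n x y : G) : cj n (x * y) = cj n x * cj n y := by unfold cj; group

theorem cj_inv (n x : G) : cj n x⁻¹ = (cj n x)⁻¹ := by unfold cj; group

theorem cj_one (n : G) : cj n 1 = 1 := by unfold cj; group

theorem cj_kk (n x y : G) : cj n (kk x y) = kk (cj n x) (cj n y) := by unfold cj kk; group

theorem cj_ne_one {n x : G} (h : x ≠ 1) : cj n x ≠ 1 := by
  intro h1
  apply h
  have := congrArg (cj n⁻¹) h1
  rwa [cj_inv_cj, cj_one] at this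

theorem isMu_conj {i j j' : ZMod (2 * 6)} {n u v w : G} (h : Refl X i n)
    (hj : 2 * i + ((6 : ℕ) : ZMod (2 * 6)) - j = j') (hm : IsMu X j u v w) :
    IsMu X j' (cj n u) (cj n v) (cj n w) := by
  obtain ⟨hv, hw, hr⟩ := hm
  have h12 : ((6 : ℕ) : ZMod (2 * 6)) + ((6 : ℕ) : ZMod (2 * 6)) = 0 := two_m_cast 6
  have e1 : 2 * i + ((6 : ℕ) : ZMod (2 * 6)) - (j + ((6 : ℕ) : ZMod (2 * 6))) = j' + ((6 : ℕ) : ZMod (2 * 6)) := by
    rw [← hj]
    linear_combination -h12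
  refine ⟨cj_mem h e1 hv, cj_mem h e1 hw, ?_⟩
  intro k x
  have e2 : (cj n v * cj n u * cj n w) * x * (cj n v * cj n u * cj n w)⁻¹ =
      n⁻¹ * ((v * u * w) * (n * x * n⁻¹) * (v * u * w)⁻¹) * n := by unfold cj; group
  rw [e2]
  have h1 := h.inv (2 * j + ((6 : ℕ) : ZMod (2 * 6)) - (2 * i + ((6 : ℕ) : ZMod (2 * 6)) - k))
    ((v * u * w) * (n * x * n⁻¹) * (v * u * w)⁻¹)
  rw [inv_inv] at h1
  have e3 : 2 * i + ((6 : ℕ) : ZMod (2 * 6)) -
      (2 * j + ((6 : ℕ) : ZMod (2 * 6)) - (2 * i + ((6 : ℕ) : ZMod (2 * 6)) - k)) =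
      2 * j' + ((6 : ℕ) : ZMod (2 * 6)) - k := by
    rw [← hj]
    linear_combination -h12
  rw [e3] at h1
  rw [h1, hr, h]

theorem muMap_conj (S : Sys 6 X) {i j j' : ZMod (2 * 6)} {n u : G} (h : Refl X i n)
    (hj : 2 * i + ((6 : ℕ) : ZMod (2 * 6)) - j = j') (hu : u ∈ X j) (hu1 : u ≠ 1) :
    muMap X j' (cj n u) = cj n (muMap X j u) := by
  rw [S.muMap_eq (cj_mem h hj hu) (cj_ne_one hu1) (isMu_conj h hj (S.isMu hu hu1))]
  unfold muMap
  rw [cj_mul, cj_mul]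

theorem isMu_rot {i : ZMod (2 * 6)} {u v w : G} (hu : u ∈ X i) (hm : IsMu X i u v w) :
    IsMu X (i + ((6 : ℕ) : ZMod (2 * 6))) w u (cj (v * u * w) v) := by
  obtain ⟨hv, hw, hr⟩ := hm
  have h12 : ((6 : ℕ) : ZMod (2 * 6)) + ((6 : ℕ) : ZMod (2 * 6)) = 0 := two_m_cast 6
  have e1 : i + ((6 : ℕ) : ZMod (2 * 6)) + ((6 : ℕ) : ZMod (2 * 6)) = i := by rw [add_assoc, h12, add_zero]
  refine ⟨by rw [e1]; exact hu, cj_mem hr ?_ hv, ?_⟩
  · rw [e1]; ring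
  · have e2 : u * w * cj (v * u * w) v = v * u * w := by unfold cj; group
    rw [e2]
    intro j x
    have e3 : 2 * (i + ((6 : ℕ) : ZMod (2 * 6))) + ((6 : ℕ) : ZMod (2 * 6)) - j =
        2 * i + ((6 : ℕ) : ZMod (2 * 6)) - j := by linear_combination h12
    rw [e3]
    exact hr j x

theorem isMu_rot' {i : ZMod (2 * 6)} {u v w : G} (hu : u ∈ X i) (hm : IsMu X i u v w) :
    IsMu X (i + ((6 : ℕ) : ZMod (2 * 6))) v (cj (v * u * w)⁻¹ w) u := by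
  obtain ⟨hv, hw, hr⟩ := hm
  have h12 : ((6 : ℕ) : ZMod (2 * 6)) + ((6 : ℕ) : ZMod (2 * 6)) = 0 := two_m_cast 6
  have e1 : i + ((6 : ℕ) : ZMod (2 * 6)) + ((6 : ℕ) : ZMod (2 * 6)) = i := by rw [add_assoc, h12, add_zero]
  refine ⟨cj_inv_mem hr ?_ hw, by rw [e1]; exact hu, ?_⟩
  · rw [e1]; ring
  · have e2 : cj (v * u * w)⁻¹ w * v * u = v * u * w := by unfold cj; group
    rw [e2]
    intro j x
    have e3 : 2 * (i + ((6 : ℕ) : ZMod (2 * 6))) + ((6 : ℕ) : ZMod (2 * 6)) - j =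
        2 * i + ((6 : ℕ) : ZMod (2 * 6)) - j := by linear_combination h12
    rw [e3]
    exact hr j x

theorem kap_ne (S : Sys 6 X) {i : ZMod (2 * 6)} {u : G} (hu : u ∈ X i) (hu1 : u ≠ 1) : kap X i u ≠ 1 := by
  intro hk
  obtain ⟨hv, hw, hr⟩ := S.isMu hu hu1
  rw [hk, one_mul] at hr
  obtain ⟨x, hx, hx1⟩ := S.exists_ne_one (i + ((6 : ℕ) : ZMod (2 * 6)))
  apply hx1
  set w := lam X i u
  have h1 := hr.mem hx
  have e1 : 2 * i + ((6 : ℕ) : ZMod (2 * 6)) - (i + ((6 : ℕ) : ZMod (2 * 6))) = i := by ring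
  rw [e1] at h1
  have h2 : w * x * w⁻¹ ∈ X i := by
    have h3 : w * x * w⁻¹ = u⁻¹ * ((u * w) * x * (u * w)⁻¹) * u := by group
    rw [h3]
    exact mul_mem (mul_mem (inv_mem hu) h1) hu
  have h4 : w * x * w⁻¹ = 1 := by
    refine S.free (i := i) (mul_mem (mul_mem hw hx) (inv_mem hw)) fun y => ?_
    constructor
    · intro hy
      have h5 : y = (w * x * w⁻¹)⁻¹ * ((w * x * w⁻¹) * y * (w * x * w⁻¹)⁻¹) * (w * x * w⁻¹) := by group
      rw [h5]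
      exact mul_mem (mul_mem (inv_mem h2) hy) h2
    · intro hy
      exact mul_mem (mul_mem h2 hy) (inv_mem h2)
  calc x = w⁻¹ * (w * x * w⁻¹) * w := by group
    _ = 1 := by rw [h4]; group

theorem lam_ne (S : Sys 6 X) {i : ZMod (2 * 6)} {u : G} (hu : u ∈ X i) (hu1 : u ≠ 1) : lam X i u ≠ 1 := by
  have h := kap_ne S (inv_mem hu) (inv_ne_one.mpr hu1)
  rw [S.kap_inv hu hu1] at h
  exact fun h1 => h (by rw [h1, inv_one])

/-! ## segments -/

theorem split_one (S : Sys 6 X) {i : ZMod (2 * 6)} {k : ℕ} (hk : k < 6) {s b : G} (hs : s ∈ seg X i k)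
    (hb : b ∈ X (i + (k : ℕ))) (h : s * b = 1) : s = 1 ∧ b = 1 := by
  have h1 : b = s⁻¹ := (inv_eq_of_mul_eq_one_right h).symm
  have h2 : b = 1 := S.inter_right i hk b hb (by rw [h1]; exact inv_mem hs)
  subst h2
  rw [mul_one] at h
  exact ⟨h, rfl⟩

theorem mem_seg3 (S : Sys 6 X) {x : G} : x ∈ seg X 2 3 ↔ ∃ p ∈ X 2, ∃ q ∈ X 3, ∃ r ∈ X 4, x = p * q * r := by
  constructor
  · intro hx
    obtain ⟨a, ha, r, hr, rfl⟩ := (S.mem_seg_succ 2 (k := 2) (by norm_num)).mp hx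
    obtain ⟨b, hb, q, hq, rfl⟩ := (S.mem_seg_succ 2 (k := 1) (by norm_num)).mp ha
    rw [seg_one] at hb
    exact ⟨b, hb, q, hq, r, hr, rfl⟩
  · rintro ⟨p, hp, q, hq, r, hr, rfl⟩
    exact mul_mem (mul_mem (le_seg_one 0 (by norm_num) (by decide) hp)
      (le_seg_one 1 (by norm_num) (by decide) hq)) (le_seg_one 2 (by norm_num) (by decide) hr)

theorem mem_seg4 (S : Sys 6 X) {x : G} : x ∈ seg X 2 4 ↔
    ∃ p ∈ X 2, ∃ q ∈ X 3, ∃ r ∈ X 4, ∃ s ∈ X 5, x = p * q * r * s := by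
  constructor
  · intro hx
    obtain ⟨a, ha, s, hs, rfl⟩ := (S.mem_seg_succ 2 (k := 3) (by norm_num)).mp hx
    obtain ⟨p, hp, q, hq, r, hr, rfl⟩ := (mem_seg3 S).mp ha
    exact ⟨p, hp, q, hq, r, hr, s, hs, rfl⟩
  · rintro ⟨p, hp, q, hq, r, hr, s, hs, rfl⟩
    exact mul_mem (seg_mono X 2 (by norm_num) ((mem_seg3 S).mpr ⟨p, hp, q, hq, r, hr, rfl⟩))
      (le_seg_one 3 (by norm_num) (by decide) hs)

theorem uniq (S : Sys 6 X) : ∀ p ∈ X 2, ∀ q ∈ X 3, ∀ r ∈ X 4, ∀ s ∈ X 5, ∀ t ∈ X 6, p * q * r * s * t = 1 →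
    p = 1 ∧ q = 1 ∧ r = 1 ∧ s = 1 ∧ t = 1 := by
  intro p hp q hq r hr s hs t ht h
  have h2 : p ∈ seg X 2 1 := by rw [seg_one]; exact hp
  have h3 : p * q ∈ seg X 2 2 := mul_mem (seg_mono X 2 (by norm_num) h2) (le_seg_one 1 (by norm_num) (by decide) hq)
  have h4 : p * q * r ∈ seg X 2 3 :=
    mul_mem (seg_mono X 2 (by norm_num) h3) (le_seg_one 2 (by norm_num) (by decide) hr)
  have h5 : p * q * r * s ∈ seg X 2 4 :=
    mul_mem (seg_mono X 2 (by norm_num) h4) (le_seg_one 3 (by norm_num) (by decide) hs)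
  obtain ⟨e5, rfl⟩ := split_one S (by norm_num) h5 (b := t) ht h
  obtain ⟨e4, rfl⟩ := split_one S (by norm_num) h4 (b := s) hs e5
  obtain ⟨e3, rfl⟩ := split_one S (by norm_num) h3 (b := r) hr e4
  obtain ⟨e2, rfl⟩ := split_one S (by norm_num) h2 (b := q) hq e3
  exact ⟨e2, rfl, rfl, rfl, rfl⟩

theorem disj (S : Sys 6 X) {i j : ZMod (2 * 6)} (r : ℕ) (hr : r < 5) (hj : j = i + 1 + ((r : ℕ) : ZMod (2 * 6)))
    {x : G} (hx : x ∈ X i) (hx' : x ∈ X j) : x = 1 :=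
  S.inter_left i (k := 5) (by norm_num) hx (le_seg_one r hr hj hx')

/-! ## the relations of a `Hex` -/

section H

variable (H : Hex X)

include H

theorem ev_comm (i : ZMod (2 * 6)) {j l : ZMod (2 * 6)} (k : ℕ) (hk : k ≤ 3) (hj : j = 2 * i)
    (hl : l = 2 * i + ((k : ℕ) : ZMod (2 * 6)) ∨ l = 2 * i - ((k : ℕ) : ZMod (2 * 6))) {a b : G}
    (ha : a ∈ X j) (hb : b ∈ X l) : a * b = b * a := by
  rcases hl with hl | hl
  · exact H.even_right i k hk a (by rw [← hj]; exact ha) b (by rw [← hl]; exact hb)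
  · exact H.even_left i k hk a (by rw [← hj]; exact ha) b (by rw [← hl]; exact hb)

theorem k26 {s t : G} (hs : s ∈ X 2) (ht : t ∈ X 6) : kk s t ∈ X 4 := by
  have h := H.even_four 1 s⁻¹ (inv_mem hs) t⁻¹ (inv_mem (by
    have e : (2 * 1 + 4 : ZMod (2 * 6)) = 6 := by decide
    rw [e]; exact ht))
  have e : (2 * 1 + 2 : ZMod (2 * 6)) = 4 := by decide
  rw [e, commutatorElement_def, inv_inv, inv_inv] at h
  exact h

theorem k04 {s t : G} (hs : s ∈ X 0) (ht : t ∈ X 4) : kk s t ∈ X 2 := by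
  have h := H.even_four 0 s⁻¹ (inv_mem (by rw [mul_zero]; exact hs)) t⁻¹ (inv_mem (by
    have e : (2 * 0 + 4 : ZMod (2 * 6)) = 4 := by decide
    rw [e]; exact ht))
  have e : (2 * 0 + 2 : ZMod (2 * 6)) = 2 := by decide
  rw [e, commutatorElement_def, inv_inv, inv_inv] at h
  exact h

theorem k40 {s t : G} (hs : s ∈ X 4) (ht : t ∈ X 0) : kk s t ∈ X 2 := by
  have h : kk s t = (kk t s)⁻¹ := by unfold kk; group
  rw [h]
  exact inv_mem (k04 H ht hs)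

theorem kk_seg (i : ZMod (2 * 6)) (k : ℕ) (hk : k + 1 < 6) {j j' : ZMod (2 * 6)}
    (hj : j = i + ((k + 1 : ℕ) : ZMod (2 * 6))) (hj' : j' = i + 1) {a b : G} (ha : a ∈ X i) (hb : b ∈ X j) :
    kk a b ∈ seg X j' k := by
  have h := H.sys.comm i k hk a⁻¹ (inv_mem ha) b⁻¹ (inv_mem (by rw [← hj]; exact hb))
  rw [commutatorElement_def, inv_inv, inv_inv, ← hj'] at h
  exact h

theorem kk_seg' (i : ZMod (2 * 6)) (k : ℕ) (hk : k + 1 < 6) {j j' : ZMod (2 * 6)}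
    (hj : j = i + ((k + 1 : ℕ) : ZMod (2 * 6))) (hj' : j' = i + 1) {a b : G} (ha : a ∈ X i) (hb : b ∈ X j) :
    kk b a ∈ seg X j' k := by
  have h : kk b a = (kk a b)⁻¹ := by unfold kk; group
  rw [h]
  exact inv_mem (kk_seg H i k hk hj hj' ha hb)

theorem k13 {a c : G} (ha : a ∈ X 1) (hc : c ∈ X 3) : kk a c ∈ X 2 := by
  have h := kk_seg H 1 1 (by norm_num) (by decide) (j' := 2) (by decide) ha hc
  rwa [seg_one] at h

theorem k35 {a c : G} (ha : a ∈ X 3) (hc : c ∈ X 5) : kk a c ∈ X 4 := by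
  have h := kk_seg H 3 1 (by norm_num) (by decide) (j' := 4) (by decide) ha hc
  rwa [seg_one] at h

theorem k15 {a b : G} (ha : a ∈ X 1) (hb : b ∈ X 5) : kk a b ∈ seg X 2 3 :=
  kk_seg H 1 3 (by norm_num) (by decide) (by decide) ha hb

theorem k16 {a b : G} (ha : a ∈ X 1) (hb : b ∈ X 6) : kk a b ∈ seg X 2 4 :=
  kk_seg H 1 4 (by norm_num) (by decide) (by decide) ha hb

/-! ## the mu-maps -/

theorem reflSix {t : G} (ht : t ∈ X 6) (h1 : t ≠ 1) : Refl X 6 (muMap X 6 t) := H.sys.refl ht h1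

theorem reflOne {t : G} (ht : t ∈ X 1) (h1 : t ≠ 1) : Refl X 1 (muMap X 1 t) := H.sys.refl ht h1

theorem kapSix {t : G} (ht : t ∈ X 6) (h1 : t ≠ 1) : kap X 6 t ∈ X 0 := by
  have h := H.sys.kap_mem ht h1
  have e : (6 : ZMod (2 * 6)) + ((6 : ℕ) : ZMod (2 * 6)) = 0 := by decide
  rwa [e] at h

theorem lamSix {t : G} (ht : t ∈ X 6) (h1 : t ≠ 1) : lam X 6 t ∈ X 0 := by
  have h := H.sys.lam_mem ht h1
  have e : (6 : ZMod (2 * 6)) + ((6 : ℕ) : ZMod (2 * 6)) = 0 := by decide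
  rwa [e] at h

theorem kapOne {t : G} (ht : t ∈ X 1) (h1 : t ≠ 1) : kap X 1 t ∈ X 7 := by
  have h := H.sys.kap_mem ht h1
  have e : (1 : ZMod (2 * 6)) + ((6 : ℕ) : ZMod (2 * 6)) = 7 := by decide
  rwa [e] at h

theorem lamOne {t : G} (ht : t ∈ X 1) (h1 : t ≠ 1) : lam X 1 t ∈ X 7 := by
  have h := H.sys.lam_mem ht h1
  have e : (1 : ZMod (2 * 6)) + ((6 : ℕ) : ZMod (2 * 6)) = 7 := by decide
  rwa [e] at h

theorem m33 {t : G} (ht : t ∈ X 6) (h1 : t ≠ 1) {a : G} (ha : a ∈ X 3) : cj (muMap X 6 t) a = a := by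
  have c0 : ∀ k ∈ X 0, k * a = a * k := fun k hk =>
    ev_comm H 0 3 le_rfl (by decide) (Or.inl (by decide : (3 : ZMod (2 * 6)) = _)) hk ha
  have c6 : t * a = a * t := ev_comm H 3 3 le_rfl (by decide) (Or.inr (by decide : (3 : ZMod (2 * 6)) = _)) ht ha
  have hk := c0 _ (kapSix H ht h1)
  have hl := c0 _ (lamSix H ht h1)
  unfold cj muMap
  calc (kap X 6 t * t * lam X 6 t)⁻¹ * a * (kap X 6 t * t * lam X 6 t)
      = (lam X 6 t)⁻¹ * t⁻¹ * (kap X 6 t)⁻¹ * (a * kap X 6 t) * t * lam X 6 t := by group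
    _ = (lam X 6 t)⁻¹ * t⁻¹ * (a * t) * lam X 6 t := by rw [← hk]; group
    _ = (lam X 6 t)⁻¹ * (a * lam X 6 t) := by rw [← c6]; group
    _ = a := by rw [← hl]; group

theorem m44 {a : G} (ha : a ∈ X 1) (h1 : a ≠ 1) {t : G} (ht : t ∈ X 4) : cj (muMap X 1 a) t = t := by
  have c7 : ∀ k ∈ X 7, t * k = k * t := fun k hk =>
    ev_comm H 2 3 le_rfl (by decide) (Or.inl (by decide : (7 : ZMod (2 * 6)) = _)) ht hk
  have c6 : t * a = a * t := ev_comm H 2 3 le_rfl (by decide) (Or.inr (by decide : (1 : ZMod (2 * 6)) = _)) ht ha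
  have hk := c7 _ (kapOne H ha h1)
  have hl := c7 _ (lamOne H ha h1)
  unfold cj muMap
  calc (kap X 1 a * a * lam X 1 a)⁻¹ * t * (kap X 1 a * a * lam X 1 a)
      = (lam X 1 a)⁻¹ * a⁻¹ * (kap X 1 a)⁻¹ * (t * kap X 1 a) * a * lam X 1 a := by group
    _ = (lam X 1 a)⁻¹ * a⁻¹ * (t * a) * lam X 1 a := by rw [hk]; group
    _ = (lam X 1 a)⁻¹ * (t * lam X 1 a) := by rw [c6]; group
    _ = t := by rw [hl]; group

/-- Tits-Weiss 6.4 (ii) -/
theorem tw5 {a t : G} (ha : a ∈ X 1) (ht : t ∈ X 6) (h1 : t ≠ 1) {d s : G} (hd : d ∈ seg X 2 3) (hs : s ∈ X 5)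
    (h : kk a t = d * s) : s = cj (muMap X 6 t) a := by
  have S := H.sys
  have e6 : (1 : ZMod (2 * 6)) + ((6 - 1 : ℕ) : ZMod (2 * 6)) = 6 := by decide
  have e5 : (1 : ZMod (2 * 6)) + ((6 - 2 : ℕ) : ZMod (2 * 6)) = 5 := by decide
  have e2 : (1 : ZMod (2 * 6)) + 1 = 2 := by decide
  have h2 := S.tw_right (i := 1) (a := a) (x := t⁻¹) (c := s) (d := d) ha (by rw [e6]; exact inv_mem ht)
    (inv_ne_one.mpr h1) (by rw [e5]; exact hs) (by rw [e2]; exact hd) (by rw [inv_inv]; exact h)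
  rw [e6, S.muMap_inv ht h1, inv_inv] at h2
  exact h2.symm

/-- Tits-Weiss 6.4 (i) -/
theorem tw2 {a t : G} (ha : a ∈ X 1) (h1 : a ≠ 1) (ht : t ∈ X 6) {p d : G} (hp : p ∈ X 2) (hd : d ∈ seg X 3 3)
    (h : kk a t = p * d) : p = (cj (muMap X 1 a) t)⁻¹ := by
  have S := H.sys
  have e6 : (1 : ZMod (2 * 6)) + ((6 - 1 : ℕ) : ZMod (2 * 6)) = 6 := by decide
  have e2 : (1 : ZMod (2 * 6)) + 1 = 2 := by decide
  have e3 : (2 : ZMod (2 * 6)) + 1 = 3 := by decide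
  have h2 := S.tw_left (i := 1) (a := a) (x := t⁻¹) (c := p) (d := d) ha h1 (by rw [e6]; exact inv_mem ht)
    (by rw [e2]; exact hp) (by rw [e2, e3]; exact hd) (by rw [inv_inv]; exact h)
  rw [← h2, ← cj_inv]
  rfl

theorem disj24 {x : G} (h2 : x ∈ X 2) (h4 : x ∈ X 4) : x = 1 :=
  disj H.sys 1 (by norm_num) (by decide) h2 h4

theorem tw24 {b t : G} (hb : b ∈ X 2) (ht : t ∈ X 6) (h1 : t ≠ 1) : kk b t = cj (muMap X 6 t) b := by
  obtain ⟨e, he⟩ : ∃ e, e = kk b t := ⟨_, rfl⟩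
  have he4 : e ∈ X 4 := he ▸ k26 H hb ht
  have hl := lamSix H ht h1
  have hk := kapSix H ht h1
  have hm := cj_mem (reflSix H ht h1) (j' := 4) (by decide) hb
  have cbk : kap X 6 t * b = b * kap X 6 t :=
    ev_comm H 0 2 (by norm_num) (by decide) (Or.inl (by decide : (2 : ZMod (2 * 6)) = _)) hk hb
  have cbl : lam X 6 t * b = b * lam X 6 t :=
    ev_comm H 0 2 (by norm_num) (by decide) (Or.inl (by decide : (2 : ZMod (2 * 6)) = _)) hl hb
  have hz := k40 H he4 hl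
  have ebt : t⁻¹ * b * t = b * e := by rw [he]; unfold kk; group
  have e1 : cj (muMap X 6 t) b = b * (e * kk e (lam X 6 t)) := by
    unfold cj muMap
    calc (kap X 6 t * t * lam X 6 t)⁻¹ * b * (kap X 6 t * t * lam X 6 t)
        = (lam X 6 t)⁻¹ * (t⁻¹ * ((kap X 6 t)⁻¹ * (b * kap X 6 t)) * t) * lam X 6 t := by group
      _ = (lam X 6 t)⁻¹ * (t⁻¹ * b * t) * lam X 6 t := by rw [← cbk]; group
      _ = (lam X 6 t)⁻¹ * (b * lam X 6 t) * ((lam X 6 t)⁻¹ * e * lam X 6 t) := by rw [ebt]; group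
      _ = b * ((lam X 6 t)⁻¹ * e * lam X 6 t) := by rw [← cbl]; group
      _ = b * (e * kk e (lam X 6 t)) := by unfold kk; group
  have c24 : b * e = e * b := ev_comm H 1 2 (by norm_num) (by decide)
    (Or.inl (by decide : (4 : ZMod (2 * 6)) = _)) hb he4
  have e2 : e⁻¹ * cj (muMap X 6 t) b = b * kk e (lam X 6 t) := by
    rw [e1, ← mul_assoc b, c24]; group
  have h3 : e⁻¹ * cj (muMap X 6 t) b = 1 := by
    apply disj24 H
    · rw [e2]; exact mul_mem hb hz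
    · exact mul_mem (inv_mem he4) hm
  rw [← he]
  exact inv_mul_eq_one.mp h3

theorem tw24' {b t : G} (hb : b ∈ X 4) (ht : t ∈ X 6) (h1 : t ≠ 1) :
    kk b (kap X 6 t) = cj (muMap X 6 t) b := by
  have hl := lamSix H ht h1
  have hk := kapSix H ht h1
  obtain ⟨f, hf⟩ : ∃ f, f = kk b (kap X 6 t) := ⟨_, rfl⟩
  have hf2 : f ∈ X 2 := hf ▸ k40 H hb hk
  have hm := cj_mem (reflSix H ht h1) (j' := 2) (by decide) hb
  obtain ⟨c, hc⟩ : ∃ c, c = cj (muMap X 6 t) b := ⟨_, rfl⟩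
  rw [← hc] at hm
  have ccl : lam X 6 t * c = c * lam X 6 t :=
    ev_comm H 0 2 (by norm_num) (by decide) (Or.inl (by decide : (2 : ZMod (2 * 6)) = _)) hl hm
  have cbt : t * b = b * t := ev_comm H 3 2 (by norm_num) (by decide)
    (Or.inr (by decide : (4 : ZMod (2 * 6)) = _)) ht hb
  have hz := k26 H hf2 ht
  have ebk : (kap X 6 t)⁻¹ * b * kap X 6 t = b * f := by rw [hf]; unfold kk; group
  have e1 : c = b * (f * kk f t) := by
    calc c = c * lam X 6 t * (lam X 6 t)⁻¹ := by group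
      _ = lam X 6 t * c * (lam X 6 t)⁻¹ := by rw [← ccl]
      _ = t⁻¹ * ((kap X 6 t)⁻¹ * b * kap X 6 t) * t := by rw [hc]; unfold cj muMap; group
      _ = t⁻¹ * (b * t) * (t⁻¹ * f * t) := by rw [ebk]; group
      _ = b * (t⁻¹ * f * t) := by rw [← cbt]; group
      _ = b * (f * kk f t) := by unfold kk; group
  have c24 : f * b = b * f := ev_comm H 1 2 (by norm_num) (by decide)
    (Or.inl (by decide : (4 : ZMod (2 * 6)) = _)) hf2 hb
  have e2 : f⁻¹ * c = b * kk f t := by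
    rw [e1, ← mul_assoc b, ← c24]; group
  have h3 : f⁻¹ * c = 1 := by
    apply disj24 H
    · exact mul_mem (inv_mem hf2) hm
    · rw [e2]; exact mul_mem hb hz
  rw [← hf, ← hc]
  exact inv_mul_eq_one.mp h3

/-! ## the map `y` -/

theorem y_mem {e t : G} (he : e ∈ X 6) (he1 : e ≠ 1) (ht : t ∈ X 6) (h1 : t ≠ 1) :
    cj (muMap X 6 e)⁻¹ (kap X 6 t) ∈ X 6 :=
  cj_inv_mem (reflSix H he he1) (by decide) (kapSix H ht h1)

theorem y_ne {e t : G} (ht : t ∈ X 6) (h1 : t ≠ 1) :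
    cj (muMap X 6 e)⁻¹ (kap X 6 t) ≠ 1 :=
  cj_ne_one (kap_ne H.sys ht h1)

theorem y2 {e t b : G} (he : e ∈ X 6) (he1 : e ≠ 1) (ht : t ∈ X 6) (h1 : t ≠ 1) (hb : b ∈ X 2) :
    cj (muMap X 6 (cj (muMap X 6 e)⁻¹ (kap X 6 t))) b =
      cj (muMap X 6 e)⁻¹ (cj (muMap X 6 t) (cj (muMap X 6 e) b)) := by
  rw [← tw24 H hb (y_mem H he he1 ht h1) (y_ne H ht h1),
    ← tw24' H (cj_mem (reflSix H he he1) (by decide) hb) ht h1, cj_kk, cj_inv_cj]

/-- the `X 1`-component of `[b, κ(t)]` is `b ^ μ(t)` -/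
theorem y1_aux {b t : G} (hb : b ∈ X 5) (ht : t ∈ X 6) (h1 : t ≠ 1) :
    ∃ z ∈ seg X 2 3, kk b (kap X 6 t) = cj (muMap X 6 t) b * z := by
  have S := H.sys
  have hl := lamSix H ht h1
  have hk := kapSix H ht h1
  obtain ⟨c, hc⟩ : ∃ c, c = cj (muMap X 6 t) b := ⟨_, rfl⟩
  have hm : c ∈ X 1 := hc ▸ cj_mem (reflSix H ht h1) (by decide) hb
  rw [← hc]
  have ccl : lam X 6 t * c = c * lam X 6 t :=
    ev_comm H 0 1 (by norm_num) (by decide) (Or.inl (by decide : (1 : ZMod (2 * 6)) = _)) hl hm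
  have e1 : (kap X 6 t)⁻¹ * b * kap X 6 t = c * kk c t⁻¹ := by
    calc (kap X 6 t)⁻¹ * b * kap X 6 t = t * (lam X 6 t * c * (lam X 6 t)⁻¹) * t⁻¹ := by
          rw [hc]; unfold cj muMap; group
      _ = t * c * t⁻¹ := by rw [ccl]; group
      _ = c * kk c t⁻¹ := by unfold kk; group
  have e2 : kk b (kap X 6 t) = c * (kk c b * b⁻¹ * kk c t⁻¹) := by
    calc kk b (kap X 6 t) = b⁻¹ * ((kap X 6 t)⁻¹ * b * kap X 6 t) := by unfold kk; group
      _ = b⁻¹ * (c * kk c t⁻¹) := by rw [e1]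
      _ = c * (kk c b * b⁻¹ * kk c t⁻¹) := by unfold kk; group
  refine ⟨_, ?_, e2⟩
  have hz2 : kk c b * b⁻¹ * kk c t⁻¹ ∈ seg X 2 (3 + 1) :=
    mul_mem (mul_mem (seg_mono X 2 (by norm_num) (k15 H hm hb))
      (le_seg_one 3 (by norm_num) (by decide) (inv_mem hb))) (k16 H hm (inv_mem ht))
  have hz1 : kk c b * b⁻¹ * kk c t⁻¹ ∈ seg X 1 (1 + 3) := by
    have e3 : kk c b * b⁻¹ * kk c t⁻¹ = c⁻¹ * kk b (kap X 6 t) := by rw [e2]; group
    rw [e3]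
    refine mul_mem (inv_mem (le_seg_one 0 (by norm_num) (by decide) hm)) ?_
    exact kk_seg' H 0 4 (by norm_num) (by decide) (by decide) hk hb
  have h2 := S.seg_inter 1 1 3 1 (by norm_num) hz1 (by
    have e : (1 : ZMod (2 * 6)) + ((1 : ℕ) : ZMod (2 * 6)) = 2 := by decide
    rw [e]; exact hz2)
  have e : (1 : ZMod (2 * 6)) + ((1 : ℕ) : ZMod (2 * 6)) = 2 := by decide
  rw [e] at h2
  exact h2

theorem y1 {e t a : G} (he : e ∈ X 6) (he1 : e ≠ 1) (ht : t ∈ X 6) (h1 : t ≠ 1) (ha : a ∈ X 1) :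
    cj (muMap X 6 (cj (muMap X 6 e)⁻¹ (kap X 6 t))) a =
      cj (muMap X 6 e)⁻¹ (cj (muMap X 6 t) (cj (muMap X 6 e) a)) := by
  have S := H.sys
  have hr := reflSix H he he1
  have hb : cj (muMap X 6 e) a ∈ X 5 := cj_mem hr (by decide) ha
  obtain ⟨z, hz, e1⟩ := y1_aux H hb ht h1
  have hs : cj (muMap X 6 e)⁻¹ (cj (muMap X 6 t) (cj (muMap X 6 e) a)) ∈ X 5 :=
    cj_inv_mem hr (j := 1) (by decide) (cj_mem (reflSix H ht h1) (by decide) hb)
  have hz' : cj (muMap X 6 e)⁻¹ z ∈ seg X 2 3 := by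
    unfold cj
    rw [inv_inv]
    exact hr.seg_mem (by decide) hz
  have e2 := congrArg (cj (muMap X 6 e)⁻¹) e1
  rw [cj_kk, cj_inv_cj, cj_mul] at e2
  obtain ⟨s, hsd⟩ : ∃ s, s = cj (muMap X 6 e)⁻¹ (cj (muMap X 6 t) (cj (muMap X 6 e) a)) := ⟨_, rfl⟩
  rw [← hsd] at hs e2 ⊢
  have hd : s * cj (muMap X 6 e)⁻¹ z * s⁻¹ ∈ seg X 2 3 := by
    refine S.conj_right 2 (k := 3) (by norm_num) ?_ hz'
    have e : (2 : ZMod (2 * 6)) + ((3 : ℕ) : ZMod (2 * 6)) = 5 := by decide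
    rw [e]; exact hs
  exact (tw5 H ha (y_mem H he he1 ht h1) (y_ne H ht h1) hd hs (by rw [e2]; group)).symm

/-- the fourth component -/
theorem y4 {e t a : G} (he : e ∈ X 6) (he1 : e ≠ 1) (ha : a ∈ X 1) (ha1 : a ≠ 1) (ht : t ∈ X 6) (h1 : t ≠ 1)
    {p q r s : G} (hp : p ∈ X 2) (hq : q ∈ X 3) (hr : r ∈ X 4) (hs : s ∈ X 5) (h : kk a t = p * q * r * s) :
    r = cj (muMap X 6 e) (cj (muMap X 1 (cj (muMap X 6 e)⁻¹ (cj (muMap X 6 t) a)))⁻¹
      (cj (muMap X 6 e)⁻¹ (kap X 6 t⁻¹))) := by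
  have S := H.sys
  have hre := reflSix H he he1
  have hrt := reflSix H ht h1
  have ht' := inv_mem ht
  have h1' : t⁻¹ ≠ 1 := inv_ne_one.mpr h1
  have hd : p * q * r ∈ seg X 2 3 := (mem_seg3 S).mpr ⟨p, hp, q, hq, r, hr, rfl⟩
  have e5 : s = cj (muMap X 6 t) a := tw5 H ha ht h1 hd hs h
  have hs1 : s ≠ 1 := by rw [e5]; exact cj_ne_one ha1
  have hk := kapSix H ht' h1'
  have hl := lamSix H ht' h1'
  have cal : lam X 6 t⁻¹ * a = a * lam X 6 t⁻¹ :=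
    ev_comm H 0 1 (by norm_num) (by decide) (Or.inl (by decide : (1 : ZMod (2 * 6)) = _)) hl ha
  have e1 : t⁻¹ * a * t = a * (p * q * r * s) := by rw [← h]; unfold kk; group
  have e2 : (kap X 6 t⁻¹)⁻¹ * s * kap X 6 t⁻¹ = a * (p * q * r * s) := by
    have e3 : s = muMap X 6 t⁻¹ * a * (muMap X 6 t⁻¹)⁻¹ := by
      rw [e5, S.muMap_inv ht h1]; unfold cj; group
    calc (kap X 6 t⁻¹)⁻¹ * s * kap X 6 t⁻¹
        = t⁻¹ * (lam X 6 t⁻¹ * a) * (lam X 6 t⁻¹)⁻¹ * t := by rw [e3]; unfold muMap; group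
      _ = t⁻¹ * a * t := by rw [cal]; group
      _ = a * (p * q * r * s) := e1
  have e05 : (0 : ZMod (2 * 6)) + ((6 - 1 : ℕ) : ZMod (2 * 6)) = 5 := by decide
  have e04 : (0 : ZMod (2 * 6)) + ((6 - 2 : ℕ) : ZMod (2 * 6)) = 4 := by decide
  have h2 := S.tw_right (i := 0) (a := kap X 6 t⁻¹) (x := s) (c := r) (d := a * p * q) hk
    (by rw [e05]; exact hs) hs1 (by rw [e04]; exact hr)
    (by
      rw [zero_add]
      exact mul_mem (mul_mem (le_seg_one 0 (by norm_num) (by decide) ha)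
        (le_seg_one 1 (by norm_num) (by decide) hp)) (le_seg_one 2 (by norm_num) (by decide) hq))
    (by
      calc (kap X 6 t⁻¹)⁻¹ * s * kap X 6 t⁻¹ * s⁻¹ = a * (p * q * r * s) * s⁻¹ := by rw [e2]
        _ = a * p * q * r := by group)
  rw [e05] at h2
  have hs' : cj (muMap X 6 e)⁻¹ s ∈ X 1 := cj_inv_mem hre (by decide) hs
  have h3 := muMap_conj S hre (j := 1) (j' := 5) (by decide) hs' (cj_ne_one hs1)
  rw [cj_cj_inv] at h3
  rw [← h2, h3, ← e5]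
  unfold cj
  group

/-! ## the map `st` -/

theorem st_mem {e a : G} (he : e ∈ X 1) (he1 : e ≠ 1) (ha : a ∈ X 1) (h1 : a ≠ 1) :
    cj (muMap X 1 e)⁻¹ (lam X 1 a)⁻¹ ∈ X 1 :=
  cj_inv_mem (reflOne H he he1) (by decide) (inv_mem (lamOne H ha h1))

theorem st_surj {e b : G} (he : e ∈ X 1) (he1 : e ≠ 1) (hb : b ∈ X 1) (h1 : b ≠ 1) :
    ∃ a ∈ X 1, a ≠ 1 ∧ cj (muMap X 1 e)⁻¹ (lam X 1 a)⁻¹ = b := by
  have S := H.sys
  have hr := reflOne H he he1
  -- `z = (b ^ n)⁻¹ ∈ X 7`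
  have hz : (cj (muMap X 1 e) b)⁻¹ ∈ X 7 := inv_mem (cj_mem hr (by decide) hb)
  have hz1 : (cj (muMap X 1 e) b)⁻¹ ≠ 1 := inv_ne_one.mpr (cj_ne_one h1)
  have hk := S.kap_mem hz hz1
  have e71 : (7 : ZMod (2 * 6)) + ((6 : ℕ) : ZMod (2 * 6)) = 1 := by decide
  have h2 := isMu_rot' hz (S.isMu hz hz1)
  rw [e71] at hk h2
  refine ⟨kap X 7 (cj (muMap X 1 e) b)⁻¹, hk, kap_ne S hz hz1, ?_⟩
  rw [S.lam_eq hk (kap_ne S hz hz1) h2, inv_inv, cj_inv_cj]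

theorem st_rot {e a t : G} (ha : a ∈ X 1) (ha1 : a ≠ 1) (ht : t ∈ X 6)
    {p q r s : G} (hp : p ∈ X 2) (hq : q ∈ X 3) (hr : r ∈ X 4) (hs : s ∈ X 5) (h : kk a t = p * q * r * s) :
    kk (cj (muMap X 1 e)⁻¹ p) (cj (muMap X 1 e)⁻¹ (lam X 1 a)⁻¹) = cj (muMap X 1 e)⁻¹ (q * r * s * t⁻¹) := by
  have hd : q * r * s ∈ seg X 3 3 :=
    mul_mem (mul_mem (le_seg_one 0 (by norm_num) (by decide) hq)
      (le_seg_one 1 (by norm_num) (by decide) hr)) (le_seg_one 2 (by norm_num) (by decide) hs)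
  have e1 := tw2 H ha ha1 ht hp hd (by rw [h]; group)
  have hk := kapOne H ha ha1
  have ctk : t * kap X 1 a = kap X 1 a * t :=
    ev_comm H 3 1 (by norm_num) (by decide) (Or.inl (by decide : (7 : ZMod (2 * 6)) = _)) ht hk
  have e2 : kap X 1 a * t⁻¹ = t⁻¹ * kap X 1 a := by
    calc kap X 1 a * t⁻¹ = t⁻¹ * (t * kap X 1 a) * t⁻¹ := by group
      _ = t⁻¹ * kap X 1 a := by rw [ctk]; group
  have e3 : lam X 1 a * p * (lam X 1 a)⁻¹ = p * q * r * s * t⁻¹ := by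
    calc lam X 1 a * p * (lam X 1 a)⁻¹
        = a⁻¹ * ((kap X 1 a)⁻¹ * (t⁻¹ * kap X 1 a)) * a := by
          rw [e1, ← cj_inv]; unfold cj muMap; group
      _ = kk a t * t⁻¹ := by rw [← e2]; unfold kk; group
      _ = p * q * r * s * t⁻¹ := by rw [h]
  rw [← cj_kk]
  congr 1
  calc kk p (lam X 1 a)⁻¹ = p⁻¹ * (lam X 1 a * p * (lam X 1 a)⁻¹) := by unfold kk; group
    _ = q * r * s * t⁻¹ := by rw [e3]; group

theorem st_mu {e a : G} (ha : a ∈ X 1) (h1 : a ≠ 1) :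
    muMap X 1 a = cj (muMap X 1 e) (cj (muMap X 1 e)⁻¹ (lam X 1 a⁻¹)⁻¹) * a *
      (cj (muMap X 1 e) (cj (muMap X 1 e)⁻¹ (lam X 1 a)⁻¹))⁻¹ := by
  rw [cj_cj_inv, cj_cj_inv, H.sys.lam_inv ha h1, inv_inv, inv_inv]
  rfl

theorem st_special {e : G} (he : e ∈ X 1) (he1 : e ≠ 1)
    (hyp : ∀ a ∈ X 1, a ≠ 1 → cj (muMap X 1 e)⁻¹ (lam X 1 a⁻¹)⁻¹ = (cj (muMap X 1 e)⁻¹ (lam X 1 a)⁻¹)⁻¹) :
    cj (muMap X 1 e) (cj (muMap X 1 e) (cj (muMap X 1 e)⁻¹ (lam X 1 e⁻¹)⁻¹)) = e := by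
  have S := H.sys
  have hre := reflOne H he he1
  -- `κ = λ` on `X 1`
  have hkl : ∀ a ∈ X 1, a ≠ 1 → kap X 1 a = lam X 1 a := by
    intro a ha h1
    have h2 := congrArg (cj (muMap X 1 e)) (hyp a ha h1)
    rw [← cj_inv, cj_cj_inv, cj_cj_inv, S.lam_inv ha h1, inv_inv, inv_inv] at h2
    exact h2
  -- `c = st e⁻¹`, `κ(e) = c ^ n`
  obtain ⟨c, hcd⟩ : ∃ c, c = cj (muMap X 1 e)⁻¹ (lam X 1 e⁻¹)⁻¹ := ⟨_, rfl⟩
  have hc : c ∈ X 1 := hcd ▸ st_mem H he he1 (inv_mem he) (inv_ne_one.mpr he1)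
  have hcn : cj (muMap X 1 e) c = kap X 1 e := by
    rw [hcd, cj_cj_inv, S.lam_inv he he1, inv_inv]
  have hc1 : c ≠ 1 := by
    intro h
    rw [h, cj_one] at hcn
    exact kap_ne S he he1 hcn.symm
  rw [← hcd]
  -- first: partner of `λ(e) = c ^ n` in `X 7`
  have e17 : (1 : ZMod (2 * 6)) + ((6 : ℕ) : ZMod (2 * 6)) = 7 := by decide
  have h1 := isMu_rot he (S.isMu he he1)
  rw [e17] at h1
  change IsMu X 7 (lam X 1 e) e (cj (muMap X 1 e) (kap X 1 e)) at h1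
  rw [← hkl e he he1, ← hcn] at h1
  -- second: conjugate of the partners of `c`
  have h2 := isMu_conj hre (j := 1) (j' := 7) (by decide) (S.isMu hc hc1)
  rw [← hkl c hc hc1] at h2
  obtain ⟨h3, h4⟩ := S.isMu_unique h1 h2
  exact h4.trans h3.symm

end H

/-- **[6c-1]** -/
theorem hexG_of_hex (H : Hex X) {e1 e6 : G} (he1 : e1 ∈ X 1) (he1' : e1 ≠ 1) (he6 : e6 ∈ X 6) (he6' : e6 ≠ 1) :
    ∃ μ1 μ6 st y : G → G, HexG (X 1) (X 2) (X 3) (X 4) (X 5) (X 6) μ1 μ6 st y e1 e6 := by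
  have S := H.sys
  refine ⟨muMap X 1, muMap X 6, fun a => cj (muMap X 1 e1)⁻¹ (lam X 1 a)⁻¹,
    fun t => cj (muMap X 6 e6)⁻¹ (kap X 6 t), ?_⟩
  have o1 : (2 * 0 + 1 : ZMod (2 * 6)) = 1 := by decide
  have o3 : (2 * 1 + 1 : ZMod (2 * 6)) = 3 := by decide
  have o5 : (2 * 2 + 1 : ZMod (2 * 6)) = 5 := by decide
  have oc1 := H.odd_comm 0
  have oc3 := H.odd_comm 1
  have oc5 := H.odd_comm 2
  rw [o1] at oc1
  rw [o3] at oc3
  rw [o5] at oc5
  exact {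
    e1_mem := he1
    e1_ne := he1'
    e6_mem := he6
    e6_ne := he6'
    c11 := oc1
    c22 := fun a ha b hb => ev_comm H 1 0 (by norm_num) (by decide) (Or.inl (by decide)) ha hb
    c33 := oc3
    c44 := fun a ha b hb => ev_comm H 2 0 (by norm_num) (by decide) (Or.inl (by decide)) ha hb
    c55 := oc5
    c66 := fun a ha b hb => ev_comm H 3 0 (by norm_num) (by decide) (Or.inl (by decide)) ha hb
    c12 := fun a ha b hb => (ev_comm H 1 1 (by norm_num) (by decide) (Or.inr (by decide)) hb ha).symm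
    c14 := fun a ha b hb => (ev_comm H 2 3 (by norm_num) (by decide) (Or.inr (by decide)) hb ha).symm
    c23 := fun a ha b hb => ev_comm H 1 1 (by norm_num) (by decide) (Or.inl (by decide)) ha hb
    c24 := fun a ha b hb => ev_comm H 1 2 (by norm_num) (by decide) (Or.inl (by decide)) ha hb
    c25 := fun a ha b hb => ev_comm H 1 3 (by norm_num) (by decide) (Or.inl (by decide)) ha hb
    c34 := fun a ha b hb => (ev_comm H 2 1 (by norm_num) (by decide) (Or.inr (by decide)) hb ha).symm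
    c36 := fun a ha b hb => (ev_comm H 3 3 (by norm_num) (by decide) (Or.inr (by decide)) hb ha).symm
    c45 := fun a ha b hb => ev_comm H 2 1 (by norm_num) (by decide) (Or.inl (by decide)) ha hb
    c46 := fun a ha b hb => ev_comm H 2 2 (by norm_num) (by decide) (Or.inl (by decide)) ha hb
    c56 := fun a ha b hb => (ev_comm H 3 1 (by norm_num) (by decide) (Or.inr (by decide)) hb ha).symm
    k13 := fun a ha c hc => k13 H ha hc
    k35 := fun a ha c hc => k35 H ha hc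
    k26 := fun a ha c hc => k26 H ha hc
    k15 := fun a ha b hb => (mem_seg3 S).mp (k15 H ha hb)
    k16 := fun a ha b hb => (mem_seg4 S).mp (k16 H ha hb)
    uniq := uniq S
    m6inv := fun t ht h1 => S.muMap_inv ht h1
    m15 := fun t ht h1 a ha => cj_mem (reflSix H ht h1) (by decide) ha
    m51 := fun t ht h1 a ha => cj_mem (reflSix H ht h1) (by decide) ha
    m24 := fun t ht h1 a ha => cj_mem (reflSix H ht h1) (by decide) ha
    m42 := fun t ht h1 a ha => cj_mem (reflSix H ht h1) (by decide) ha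
    m33 := fun t ht h1 a ha => m33 H ht h1 ha
    m66 := fun t ht h1 u hu => cj_inv_mem (reflSix H he6 he6') (j := 0) (by decide)
      (cj_mem (reflSix H ht h1) (by decide) hu)
    m1inv := fun a ha h1 => S.muMap_inv ha h1
    m62 := fun a ha h1 t ht => cj_mem (reflOne H ha h1) (by decide) ht
    m26 := fun a ha h1 t ht => cj_mem (reflOne H ha h1) (by decide) ht
    m53 := fun a ha h1 t ht => cj_mem (reflOne H ha h1) (by decide) ht
    m35 := fun a ha h1 t ht => cj_mem (reflOne H ha h1) (by decide) ht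
    m44 := fun a ha h1 t ht => m44 H ha h1 ht
    m11 := fun a ha => cj_mem (reflOne H he1 he1') (j := 7) (by decide)
      (cj_mem (reflOne H he1 he1') (by decide) ha)
    m11' := fun a ha => cj_inv_mem (reflOne H he1 he1') (j := 7) (by decide)
      (cj_inv_mem (reflOne H he1 he1') (by decide) ha)
    tw5 := fun a ha t ht h1 p hp q hq r hr s hs h =>
      tw5 H ha ht h1 ((mem_seg3 S).mpr ⟨p, hp, q, hq, r, hr, rfl⟩) hs h
    tw2 := fun a ha ha1 t ht p hp q hq r hr s hs h =>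
      tw2 H ha ha1 ht hp (mul_mem (mul_mem (le_seg_one 0 (by norm_num) (by decide) hq)
        (le_seg_one 1 (by norm_num) (by decide) hr)) (le_seg_one 2 (by norm_num) (by decide) hs))
        (by rw [h]; group)
    tw24 := fun b hb t ht h1 => tw24 H hb ht h1
    y_mem := fun t ht h1 => y_mem H he6 he6' ht h1
    y_ne := fun t ht h1 => y_ne H ht h1
    y2 := fun t ht h1 b hb => y2 H he6 he6' ht h1 hb
    y1 := fun t ht h1 a ha => y1 H he6 he6' ht h1 ha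
    y4 := fun a ha ha1 t ht h1 p hp q hq r hr s hs h => y4 H he6 he6' ha ha1 ht h1 hp hq hr hs h
    st_mem := fun a ha h1 => st_mem H he1 he1' ha h1
    st_ne := fun a ha h1 => cj_ne_one (inv_ne_one.mpr (lam_ne S ha h1))
    st_surj := fun b hb h1 => st_surj H he1 he1' hb h1
    st_rot := fun a ha ha1 t ht p hp q hq r hr s hs h => st_rot H ha ha1 ht hp hq hr hs h
    st_mu := fun a ha h1 => st_mu H ha h1
    st_special := fun hyp => st_special H he1 he1' hyp }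

end HexGOfHex

end Cfsg.Agent.SplitTwo
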