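import Mathlib
import Cfsg.Agent.SplitTwo.HexColl

/-!
# Moufang hexagons (S1144, [6c]): from `HexF` to structure functions (`HexK`)
-/

set_option autoImplicit false
set_option linter.unusedSimpArgs false

namespace Cfsg.Agent.SplitTwo

universe u v w

section cj
variable {G : Type*} [Group G]

theorem cj_mul (g a b : G) : cj g (a * b) = cj g a * cj g b := by unfold cj; group
theorem cj_inv (g a : G) : cj g a⁻¹ = (cj g a)⁻¹ := by unfold cj; group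
theorem cj_one (g : G) : cj g 1 = 1 := by unfold cj; group
theorem cj_cj_inv (g a : G) : cj g (cj g⁻¹ a) = a := by unfold cj; group
theorem cj_inv_cj (g a : G) : cj g⁻¹ (cj g a) = a := by unfold cj; group
theorem cj_mul_left (g k a : G) : cj (g * k) a = cj k (cj g a) := by unfold cj; group
theorem cj_kk (g a b : G) : cj g (kk a b) = kk (cj g a) (cj g b) := by unfold cj kk; group
theorem cj_inj {g a b : G} (h : cj g a = cj g b) : a = b := by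
  rw [← cj_inv_cj g a, h, cj_inv_cj]
theorem cj_eq_iff {g a b : G} : cj g a = b ↔ a = cj g⁻¹ b := by
  constructor
  · rintro rfl; rw [cj_inv_cj]
  · rintro rfl; rw [cj_cj_inv]

end cj

/-- Structure functions together with the action of `n1` and of the torus. -/
structure HexK {G : Type u} [Group G] {F : Type v} {J : Type w} [Field F] [AddCommGroup J] [Module F J]
    (x1 x3 x5 : J → G) (x2 x4 x6 : F → G) (N : J → F) (A : J → F → J) (M : J → F → F)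
    (P Q T T' : J → J → F) (R : J → J → J) (n1 : G) (ss : J → J) (ε : J) : Prop where
  c : HexC x1 x3 x5 x2 x4 x6 N A M P Q T T' R
  ε_ne : ε ≠ 0
  inj1 : Function.Injective x1
  N_ne : ∀ a, a ≠ 0 → N a ≠ 0
  N_one : N ε = 1
  j6 : ∀ t, cj n1 (x6 t) = x2 t
  j2 : ∀ t, cj n1 (x2 t) = x6 (-t)
  j4 : ∀ t, cj n1 (x4 t) = x4 t
  j3 : ∀ a, cj n1 (x3 a) = x5 (-a)
  j5 : ∀ b, ∃ a, cj n1⁻¹ (x3 b) = x5 a
  j1 : ∀ b, ∃ a, cj n1⁻¹ (cj n1⁻¹ (x1 b)) = x1 a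
  tor : ∀ t, t ≠ 0 → ∃ g, (∀ a, cj g (x1 a) = x1 (t • a)) ∧ (∀ s, cj g (x2 s) = x2 (s * t)) ∧
    (∀ a, cj g (x3 a) = x3 a) ∧ (∀ s, cj g (x4 s) = x4 (s * t⁻¹)) ∧ (∀ b, ∃ a, cj g (x5 b) = x5 a) ∧
    (∀ u, ∃ v, cj g (x6 u) = x6 v)
  four : ∀ a, a ≠ 0 → ∀ t, t ≠ 0 → M a t = -(t⁻¹ * N (-(t • a)))
  ss_ne : ∀ a, a ≠ 0 → ss a ≠ 0
  ss_surj : ∀ b, b ≠ 0 → ∃ a, a ≠ 0 ∧ ss a = b
  rot : ∀ a, a ≠ 0 → ∀ t, kk (cj n1⁻¹ (x2 (-(t * N a)))) (x1 (ss a)) =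
    cj n1⁻¹ (x3 (A a t) * x4 (M a t) * x5 (-(t • a)) * x6 (-t))
  special : (∀ a, a ≠ 0 → ss (-a) = -(ss a)) → cj n1 (cj n1 (x1 (ss (-ε)))) = x1 ε
  mu : n1 = cj n1 (x1 (ss (-ε))) * x1 ε * (cj n1 (x1 (ss ε)))⁻¹

theorem exists_hexK {G : Type u} [Group G] {F : Type v} {J : Type w} [Field F] [AddCommGroup J] [Module F J]
    {U1 U2 U3 U4 U5 U6 : Subgroup G} {μ1 μ6 st y : G → G} {e1 e6 : G}
    {x1 x5 : J → G} {x2 x4 x6 : F → G} {N : J → F} {ε : J}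
    (h : HexF U1 U2 U3 U4 U5 U6 μ1 μ6 st y e1 e6 x1 x5 x2 x4 x6 N ε) :
    ∃ (x3 : J → G) (A : J → F → J) (M : J → F → F) (P Q T T' : J → J → F) (R : J → J → J) (n1 : G) (ss : J → J),
      HexK x1 x3 x5 x2 x4 x6 N A M P Q T T' R n1 ss ε ∧ (∀ g, g ∈ U3 ↔ ∃ a, x3 a = g) := by
  classical
  have hG := h.hG
  have z1 : x1 0 = 1 := map_zero_of h.add1
  have z5 : x5 0 = 1 := map_zero_of h.add5
  have z2 : x2 0 = 1 := map_zero_of h.add2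
  have z4 : x4 0 = 1 := map_zero_of h.add4
  have z6 : x6 0 = 1 := map_zero_of h.add6
  have g1 : ∀ a, x1 a ∈ U1 := fun a => (h.mem1 _).2 ⟨a, rfl⟩
  have g5 : ∀ a, x5 a ∈ U5 := fun a => (h.mem5 _).2 ⟨a, rfl⟩
  have g2 : ∀ a, x2 a ∈ U2 := fun a => (h.mem2 _).2 ⟨a, rfl⟩
  have g4 : ∀ a, x4 a ∈ U4 := fun a => (h.mem4 _).2 ⟨a, rfl⟩
  have g6 : ∀ a, x6 a ∈ U6 := fun a => (h.mem6 _).2 ⟨a, rfl⟩
  have ne1 : ∀ a, a ≠ 0 → x1 a ≠ 1 := fun a ha e => ha (h.inj1 (by rw [e, z1]))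
  have ne6 : ∀ a, a ≠ 0 → x6 a ≠ 1 := fun a ha e => ha (h.inj6 (by rw [e, z6]))
  have ng1 : ∀ a, x1 (-a) = (x1 a)⁻¹ := map_neg_of h.add1
  have ng2 : ∀ a, x2 (-a) = (x2 a)⁻¹ := map_neg_of h.add2
  have ng4 : ∀ a, x4 (-a) = (x4 a)⁻¹ := map_neg_of h.add4
  have ng5 : ∀ a, x5 (-a) = (x5 a)⁻¹ := map_neg_of h.add5
  have ng6 : ∀ a, x6 (-a) = (x6 a)⁻¹ := map_neg_of h.add6
  set n1 : G := μ1 e1 with hn1
  set n6 : G := μ6 e6 with hn6
  have hε : ε ≠ 0 := by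
    rintro rfl
    exact hG.e1_ne (by rw [← h.one1, z1])
  have hn1' : n1⁻¹ = μ1 e1⁻¹ := (hG.m1inv e1 hG.e1_mem hG.e1_ne).symm
  have e1i : e1⁻¹ ∈ U1 := inv_mem hG.e1_mem
  have e1n : e1⁻¹ ≠ 1 := inv_ne_one.2 hG.e1_ne
  -- `x3`
  obtain ⟨x3, hx3⟩ : ∃ x3 : J → G, ∀ a, x3 a = cj n1⁻¹ (x5 (-a)) := ⟨_, fun _ => rfl⟩
  have g3 : ∀ a, x3 a ∈ U3 := by
    intro a
    rw [hx3, hn1']
    exact hG.m53 _ e1i e1n _ (g5 _)
  have add3 : ∀ a b, x3 (a + b) = x3 a * x3 b := by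
    intro a b
    rw [hx3, hx3, hx3, neg_add, h.add5, cj_mul]
  have j3 : ∀ a, cj n1 (x3 a) = x5 (-a) := by
    intro a; rw [hx3, cj_cj_inv]
  have mem3 : ∀ g, g ∈ U3 ↔ ∃ a, x3 a = g := by
    intro g
    constructor
    · intro hg
      obtain ⟨b, hb⟩ := (h.mem5 _).1 (hG.m35 e1 hG.e1_mem hG.e1_ne g hg)
      refine ⟨-b, ?_⟩
      rw [hx3, neg_neg, hb, ← hn1, cj_inv_cj]
    · rintro ⟨a, rfl⟩; exact g3 a
  have z3 : x3 0 = 1 := map_zero_of add3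
  have inj3 : Function.Injective x3 := by
    intro a b hab
    have : cj n1 (x3 a) = cj n1 (x3 b) := by rw [hab]
    rw [j3, j3] at this
    exact neg_injective (h.inj5 this)
  -- structure functions
  have hT : ∀ a c, ∃ s, kk (x1 a) (x3 c) = x2 s := fun a c => by
    obtain ⟨s, hs⟩ := (h.mem2 _).1 (hG.k13 _ (g1 a) _ (g3 c)); exact ⟨s, hs.symm⟩
  choose T hT using hT
  have hT' : ∀ c b, ∃ s, kk (x3 c) (x5 b) = x4 s := fun c b => by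
    obtain ⟨s, hs⟩ := (h.mem4 _).1 (hG.k35 _ (g3 c) _ (g5 b)); exact ⟨s, hs.symm⟩
  choose T' hT' using hT'
  have hPQR : ∀ a b, ∃ p r q, kk (x1 a) (x5 b) = x2 (-p) * x3 r * x4 q := fun a b => by
    obtain ⟨p, hp, q, hq, r, hr, e⟩ := hG.k15 _ (g1 a) _ (g5 b)
    obtain ⟨p', rfl⟩ := (h.mem2 _).1 hp
    obtain ⟨q', rfl⟩ := (mem3 _).1 hq
    obtain ⟨r', rfl⟩ := (h.mem4 _).1 hr
    exact ⟨-p', q', r', by rw [neg_neg]; exact e⟩
  choose P R Q hPQR using hPQR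
  have kk1 : ∀ g : G, kk g 1 = 1 := fun g => by unfold kk; group
  have kk1' : ∀ g : G, kk 1 g = 1 := fun g => by unfold kk; group
  -- five component of `[x1 a, x6 t]` and second component
  have h16 : ∀ a t, ∃ c r, kk (x1 a) (x6 t) = x2 (-(t * N a)) * x3 c * x4 r * x5 (-(t • a)) := by
    intro a t
    by_cases ht : t = 0
    · subst ht
      refine ⟨0, 0, ?_⟩
      rw [z6, kk1, zero_mul, neg_zero, z2, z3, z4, zero_smul, neg_zero, z5]; simp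
    by_cases ha : a = 0
    · subst ha
      refine ⟨0, 0, ?_⟩
      rw [z1, kk1', h.N_zero, mul_zero, neg_zero, z2, z3, z4, smul_zero, neg_zero, z5]; simp
    obtain ⟨p, hp, q, hq, r, hr, s, hs, e⟩ := hG.k16 _ (g1 a) _ (g6 t)
    have e5 := hG.tw5 _ (g1 a) _ (g6 t) (ne6 t ht) p hp q hq r hr s hs e
    have e2 := hG.tw2 _ (g1 a) (ne1 a ha) _ (g6 t) p hp q hq r hr s hs e
    rw [h.p2 t ht] at e5
    rw [h.p5 a ha, ← ng2] at e2
    obtain ⟨q', rfl⟩ := (mem3 _).1 hq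
    obtain ⟨r', rfl⟩ := (h.mem4 _).1 hr
    refine ⟨q', r', ?_⟩
    rw [e, e5, e2]
  choose A M h16 using h16
  -- the structure `HexC`
  have C : HexC x1 x3 x5 x2 x4 x6 N A M P Q T T' R :=
    { add1 := h.add1, add3 := add3, add5 := h.add5, add2 := h.add2, add4 := h.add4, add6 := h.add6
      uniq := by
        intro s c r b t e
        obtain ⟨a1, a2, a3, a4, a5⟩ := hG.uniq _ (g2 s) _ (g3 c) _ (g4 r) _ (g5 b) _ (g6 t) e
        exact ⟨h.inj2 (by rw [a1, z2]), inj3 (by rw [a2, z3]), h.inj4 (by rw [a3, z4]),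
          h.inj5 (by rw [a4, z5]), h.inj6 (by rw [a5, z6])⟩
      r12 := fun a b => hG.c12 _ (g1 a) _ (g2 b)
      r14 := fun a b => hG.c14 _ (g1 a) _ (g4 b)
      r23 := fun a b => hG.c23 _ (g2 a) _ (g3 b)
      r24 := fun a b => hG.c24 _ (g2 a) _ (g4 b)
      r25 := fun a b => hG.c25 _ (g2 a) _ (g5 b)
      r34 := fun a b => hG.c34 _ (g3 a) _ (g4 b)
      r36 := fun a b => hG.c36 _ (g3 a) _ (g6 b)
      r45 := fun a b => hG.c45 _ (g4 a) _ (g5 b)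
      r46 := fun a b => hG.c46 _ (g4 a) _ (g6 b)
      r56 := fun a b => hG.c56 _ (g5 a) _ (g6 b)
      r13 := hT, r35 := hT', r26 := h.p3, r15 := hPQR, r16 := h16 }
  -- `ss`
  have hss : ∀ a, ∃ b, a ≠ 0 → x1 b = st (x1 a) := by
    intro a
    by_cases ha : a = 0
    · exact ⟨0, fun h' => absurd ha h'⟩
    · obtain ⟨b, hb⟩ := (h.mem1 _).1 (hG.st_mem _ (g1 a) (ne1 a ha))
      exact ⟨b, fun _ => hb⟩
  choose ss hss using hss
  -- action of `n6`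
  have e6x : e6 = x6 1 := h.one6.symm
  have six1 : ∀ a, cj n6 (x1 a) = x5 (-a) := by
    intro a
    have := h.p2 1 one_ne_zero a
    rwa [h.one6, one_smul] at this
  have six2 : ∀ t, t ≠ 0 → ∀ s, cj (μ6 (x6 t)) (x2 s) = x4 (s * t) := by
    intro t ht s
    rw [← hG.tw24 _ (g2 s) _ (g6 t) (ne6 t ht), h.p3]
  have six4 : ∀ t, t ≠ 0 → ∀ s, cj (μ6 (x6 t)) (x4 s) = x2 (-(s * t⁻¹)) := by
    intro t ht s
    have h1 := six2 (-t) (neg_ne_zero.2 ht) (-(s * t⁻¹))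
    rw [ng6, hG.m6inv _ (g6 t) (ne6 t ht)] at h1
    have e : -(s * t⁻¹) * -t = s := by field_simp
    rw [e] at h1
    rw [← h1, cj_cj_inv]
  have six42 : ∀ s, cj n6 (x4 s) = x2 (-s) := by
    intro s
    have := six4 1 one_ne_zero s
    rwa [h.one6, inv_one, mul_one] at this
  have six22 : ∀ s, cj n6 (x2 s) = x4 s := by
    intro s
    have := six2 1 one_ne_zero s
    rwa [h.one6, mul_one] at this
  -- `y (x6 t) = x6 t⁻¹`
  have hy : ∀ t, t ≠ 0 → y (x6 t) = x6 t⁻¹ := by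
    intro t ht
    obtain ⟨v, hv⟩ := (h.mem6 _).1 (hG.y_mem _ (g6 t) (ne6 t ht))
    have hv0 : v ≠ 0 := by
      rintro rfl
      exact hG.y_ne _ (g6 t) (ne6 t ht) (by rw [← hv, z6])
    have h1 := hG.y2 _ (g6 t) (ne6 t ht) _ (g2 1)
    rw [← hv, six2 v hv0, ← hn6, six22, six4 t ht] at h1
    have h2 : cj n6⁻¹ (x2 (-(1 * t⁻¹))) = x4 (1 * t⁻¹) := by
      rw [← six42, cj_inv_cj]
    rw [h2] at h1
    have h3 := h.inj4 h1
    rw [one_mul, one_mul] at h3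
    rw [← hv, h3]
  refine ⟨x3, A, M, P, Q, T, T', R, n1, ss, ?_, mem3⟩
  refine
    { c := C, ε_ne := hε, inj1 := h.inj1, N_ne := h.N_ne, N_one := ?_, j6 := h.p4, j2 := h.p4'
      j4 := fun t => hG.m44 e1 hG.e1_mem hG.e1_ne _ (g4 t), j3 := j3, j5 := ?_, j1 := ?_, tor := ?_
      four := ?_, ss_ne := ?_, ss_surj := ?_, rot := ?_, special := ?_, mu := ?_ }
  · have h1 := h.p5 ε hε 1
    rw [h.one1, h.p4, one_mul] at h1
    exact (h.inj2 h1).symm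
  · intro b
    have h1 : cj n1⁻¹ (x3 b) ∈ U5 := by
      rw [hn1']; exact hG.m35 _ e1i e1n _ (g3 b)
    obtain ⟨a, ha⟩ := (h.mem5 _).1 h1
    exact ⟨a, ha.symm⟩
  · intro b
    obtain ⟨a, ha⟩ := (h.mem1 _).1 (hG.m11' _ (g1 b))
    exact ⟨a, ha.symm⟩
  · intro t ht
    refine ⟨μ6 (x6 t) * n6⁻¹, ?_, ?_, ?_, ?_, ?_, ?_⟩
    · intro a
      rw [cj_mul_left, h.p2 t ht, ← six1, cj_inv_cj]
    · intro s
      rw [cj_mul_left, six2 t ht, ← six22, cj_inv_cj]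
    · intro a
      rw [cj_mul_left, hG.m33 _ (g6 t) (ne6 t ht) _ (g3 a)]
      have := hG.m33 _ hG.e6_mem hG.e6_ne _ (g3 a)
      rw [← hn6] at this
      exact (cj_eq_iff.1 this).symm
    · intro s
      rw [cj_mul_left, six4 t ht, ← six42, cj_inv_cj]
    · intro b
      rw [cj_mul_left]
      obtain ⟨a, ha⟩ := (h.mem1 _).1 (hG.m51 _ (g6 t) (ne6 t ht) _ (g5 b))
      rw [← ha]
      have h1 : cj n6⁻¹ (x1 a) ∈ U5 := by
        have h2 : n6⁻¹ = μ6 e6⁻¹ := (hG.m6inv e6 hG.e6_mem hG.e6_ne).symm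
        rw [h2]
        exact hG.m15 _ (inv_mem hG.e6_mem) (inv_ne_one.2 hG.e6_ne) _ (g1 a)
      obtain ⟨d, hd⟩ := (h.mem5 _).1 h1
      exact ⟨d, hd.symm⟩
    · intro u
      rw [cj_mul_left]
      obtain ⟨a, ha⟩ := (h.mem6 _).1 (hG.m66 _ (g6 t) (ne6 t ht) _ (g6 u))
      exact ⟨a, ha.symm⟩
  · intro a ha t ht
    have h1 := hG.y4 _ (g1 a) (ne1 a ha) _ (g6 t) (ne6 t ht) _ (g2 _) _ (g3 _) _ (g4 _) _ (g5 _) (h16 a t)
    have h2 : cj n6⁻¹ (cj (μ6 (x6 t)) (x1 a)) = x1 (t • a) := by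
      rw [h.p2 t ht, ← six1, cj_inv_cj]
    have hta : t • a ≠ 0 := smul_ne_zero ht ha
    rw [← hn6, h2, ← ng6, hy (-t) (neg_ne_zero.2 ht), ← hG.m1inv _ (g1 _) (ne1 _ hta), ← ng1,
      h.p5 _ (neg_ne_zero.2 hta), six22] at h1
    have h3 := h.inj4 h1
    rw [h3]
    rw [inv_neg]; ring
  · intro a ha e
    have h1 := hss a ha
    rw [e, z1] at h1
    exact hG.st_ne _ (g1 a) (ne1 a ha) h1.symm
  · intro b hb
    obtain ⟨a, ha, ha1, e⟩ := hG.st_surj _ (g1 b) (ne1 b hb)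
    obtain ⟨a, rfl⟩ := (h.mem1 _).1 ha
    have ha0 : a ≠ 0 := by rintro rfl; exact ha1 z1
    refine ⟨a, ha0, h.inj1 ?_⟩
    rw [hss a ha0, e]
  · intro a ha t
    rw [hss a ha, ng6]
    exact hG.st_rot _ (g1 a) (ne1 a ha) _ (g6 t) _ (g2 _) _ (g3 _) _ (g4 _) _ (g5 _) (h16 a t)
  · intro hs
    have h1 := hG.st_special (by
      intro a ha ha1
      obtain ⟨a, rfl⟩ := (h.mem1 _).1 ha
      have ha0 : a ≠ 0 := by rintro rfl; exact ha1 z1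
      rw [← ng1, ← hss _ (neg_ne_zero.2 ha0), ← hss a ha0, hs a ha0, ng1])
    rw [← h.one1, ← ng1, ← hss _ (neg_ne_zero.2 hε)] at h1
    rw [h.one1] at h1 ⊢
    exact h1
  · have h1 := hG.st_mu e1 hG.e1_mem hG.e1_ne
    rw [← hn1] at h1
    have h2 : st e1⁻¹ = x1 (ss (-ε)) := by rw [hss _ (neg_ne_zero.2 hε), ng1, h.one1]
    have h3 : st e1 = x1 (ss ε) := by rw [hss _ hε, h.one1]
    rw [h2, h3] at h1
    rw [h.one1]
    exact h1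

end Cfsg.Agent.SplitTwo
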