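import Mathlib
import Cfsg.Agent.SplitTwo.HexK

/-!
# Moufang hexagons (S1144, [6c]): the identities of a cubic norm structure
-/

set_option autoImplicit false
set_option linter.unusedSimpArgs false

namespace Cfsg.Agent.SplitTwo

universe u v w

namespace HexK

variable {G : Type u} [Group G] {F : Type v} {J : Type w} [Field F] [AddCommGroup J] [Module F J]
  {x1 x3 x5 : J → G} {x2 x4 x6 : F → G} {N : J → F} {A : J → F → J} {M : J → F → F}
  {P Q T T' : J → J → F} {R : J → J → J} {n1 : G} {ss : J → J} {ε : J}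
  (k : HexK x1 x3 x5 x2 x4 x6 N A M P Q T T' R n1 ss ε)

include k

theorem i2 (s : F) : cj n1⁻¹ (x2 s) = x6 s := (cj_eq_iff.1 (k.j6 s)).symm
theorem i6 (t : F) : cj n1⁻¹ (x6 t) = x2 (-t) := by
  have := (cj_eq_iff.1 (k.j2 (-t))).symm
  rwa [neg_neg] at this
theorem i4 (t : F) : cj n1⁻¹ (x4 t) = x4 t := (cj_eq_iff.1 (k.j4 t)).symm
theorem i5 (b : J) : cj n1⁻¹ (x5 b) = x3 (-b) := by
  have := (cj_eq_iff.1 (k.j3 (-b))).symm
  rwa [neg_neg] at this

theorem exists_rho : ∃ ρ : J → J, ∀ b, cj n1⁻¹ (x3 b) = x5 (ρ b) := by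
  choose ρ hρ using k.j5
  exact ⟨ρ, hρ⟩

/-- the rotated relation, in components -/
theorem rot_comp {ρ : J → J} (hρ : ∀ b, cj n1⁻¹ (x3 b) = x5 (ρ b)) (a : J) (ha : a ≠ 0) (t : F) :
    -(t * N a) * N (ss a) = t ∧ A (ss a) (-(t * N a)) = -(t • a) ∧
    M (ss a) (-(t * N a)) = -(M a t) ∧ (-(t * N a)) • ss a = ρ (A a t) := by
  have e := k.rot a ha t
  rw [k.i2, cj_mul, cj_mul, cj_mul, hρ, k.i4, k.i5, k.i6, neg_neg, neg_neg] at e
  have e1 : kk (x1 (ss a)) (x6 (-(t * N a))) = (x5 (ρ (A a t)) * x4 (M a t) * x3 (t • a) * x2 t)⁻¹ := by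
    rw [← e, kk_inv]
  rw [k.c.r16] at e1
  simp only [mul_inv_rev, k.c.n2, k.c.n3, k.c.n4, k.c.n5, mul_assoc] at e1
  obtain ⟨f1, f2, f3, f4⟩ := k.c.nf4 e1
  exact ⟨neg_inj.1 f1, f2, f3, neg_inj.1 f4⟩

theorem A_zero_right (a : J) : A a 0 = 0 := by
  have := (k.c.ov2 a 0 0).1
  rw [add_zero] at this
  exact left_eq_add.mp this

theorem A_neg_right (a : J) (t : F) : A a (-t) = -A a t := by
  have := (k.c.ov2 a t (-t)).1
  rw [add_neg_cancel, k.A_zero_right] at this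
  exact (neg_eq_of_add_eq_zero_right this.symm).symm

theorem A_zero_left (t : F) : A 0 t = 0 := by
  have e := k.c.r16 0 t
  have e1 : kk (x1 0) (x6 t) = 1 := by rw [k.c.z1]; unfold kk; group
  rw [e1] at e
  have e2 : x2 0 * (x3 0 * (x4 0 * x5 0)) = x2 (-(t * N 0)) * (x3 (A 0 t) * (x4 (M 0 t) * x5 (-(t • (0 : J))))) := by
    rw [k.c.z2, k.c.z3, k.c.z4, k.c.z5]
    simp only [mul_one]
    rw [e]; simp only [mul_assoc]
  exact (k.c.nf4 e2).2.1.symm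

theorem N_ss (a : J) (ha : a ≠ 0) : N a * N (ss a) = -1 := by
  obtain ⟨ρ, hρ⟩ := k.exists_rho
  have := (k.rot_comp hρ a ha 1).1
  linear_combination -this

theorem A_ss (a : J) (ha : a ≠ 0) (t : F) : A (ss a) t = (t * (N a)⁻¹) • a := by
  obtain ⟨ρ, hρ⟩ := k.exists_rho
  have h1 := (k.rot_comp hρ a ha (t * (N a)⁻¹)).2.1
  have hN := k.N_ne a ha
  rw [k.A_neg_right, inv_mul_cancel_right₀ hN] at h1
  exact neg_inj.1 h1

theorem A_eq (b : J) (t : F) : A b t = t • A b 1 := by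
  by_cases hb : b = 0
  · subst hb; rw [k.A_zero_left, k.A_zero_left, smul_zero]
  obtain ⟨a, ha, rfl⟩ := k.ss_surj b hb
  rw [k.A_ss a ha, k.A_ss a ha, one_mul, smul_smul]

/-- homogeneity, from the torus -/
theorem homog (t : F) (ht : t ≠ 0) (a : J) : N (t • a) = t ^ 3 * N a ∧ A (t • a) 1 = t ^ 2 • A a 1 := by
  obtain ⟨g, h1, h2, h3, h4, h5, h6⟩ := k.tor t ht
  -- the action on `x6`
  have h6' : ∀ u, cj g (x6 u) = x6 (u * t⁻¹ * t⁻¹) := by
    intro u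
    obtain ⟨v, hv⟩ := h6 u
    have e := congrArg (cj g) (k.c.r26 1 u)
    rw [cj_kk, h2, hv, h4, k.c.r26] at e
    have e2 := k.c.inj4 e
    have e3 : v = u * t⁻¹ * t⁻¹ := by
      have : t * v = u * t⁻¹ := by linear_combination e2
      field_simp at this ⊢
      linear_combination this
    rw [hv, e3]
  obtain ⟨b, hb⟩ := h5 (-((1 : F) • a))
  have e := congrArg (cj g) (k.c.r16 a 1)
  rw [cj_kk, h1, h6', cj_mul, cj_mul, cj_mul, h2, h3, h4, hb, k.c.r16] at e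
  simp only [mul_assoc] at e
  obtain ⟨f1, f2, -, -⟩ := k.c.nf4 e
  constructor
  · have : t⁻¹ * t⁻¹ * N (t • a) = N a * t := by linear_combination -f1
    field_simp at this
    linear_combination this
  · rw [k.A_eq] at f2
    rw [← f2, smul_smul]
    have : t ^ 2 * (1 * (t⁻¹ * t⁻¹)) = 1 := by field_simp
    rw [this, one_smul]

theorem N_zero : N 0 = 0 := by
  have e := k.c.r16 0 1
  have e1 : kk (x1 0) (x6 1) = 1 := by rw [k.c.z1]; unfold kk; group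
  rw [e1] at e
  have e2 : x2 0 * (x3 0 * (x4 0 * x5 0)) = x2 (-(1 * N 0)) * (x3 (A 0 1) * (x4 (M 0 1) * x5 (-((1 : F) • (0 : J))))) := by
    rw [k.c.z2, k.c.z3, k.c.z4, k.c.z5]
    simp only [mul_one]
    rw [e]; simp only [mul_assoc]
  have := (k.c.nf4 e2).1
  linear_combination this

theorem N_smul (t : F) (a : J) : N (t • a) = t ^ 3 * N a := by
  by_cases ht : t = 0
  · subst ht; rw [zero_smul, k.N_zero]; ring
  · exact (k.homog t ht a).1

theorem sh_smul (t : F) (a : J) : A (t • a) 1 = t ^ 2 • A a 1 := by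
  by_cases ht : t = 0
  · subst ht; rw [zero_smul, k.A_zero_left]; simp
  · exact (k.homog t ht a).2

theorem N_neg (a : J) : N (-a) = -N a := by
  have := k.N_smul (-1) a
  rw [neg_one_smul] at this
  rw [this]; ring

theorem sh_neg (a : J) : A (-a) 1 = A a 1 := by
  have := k.sh_smul (-1) a
  rw [neg_one_smul] at this
  rw [this]; simp

theorem sh_add (a b : J) : A (a + b) 1 = A a 1 + A b 1 + R b a := by
  have := (k.c.ov1 a b 1).2.1
  rwa [one_smul] at this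

theorem R_symm (a b : J) : R a b = R b a := by
  have h1 := k.sh_add a b
  have h2 := k.sh_add b a
  rw [add_comm b a, h1, add_comm (A b 1) (A a 1)] at h2
  exact (add_left_cancel h2).symm

theorem R_smul_right (t : F) (a b : J) : R b (t • a) = t • R b a := by
  have h1 := (k.c.ov1 a b t).2.1
  rw [k.A_eq, k.A_eq a, k.A_eq b, k.sh_add a b, smul_add, smul_add] at h1
  exact (add_left_cancel h1).symm

theorem R_smul_left (t : F) (a b : J) : R (t • a) b = t • R a b := by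
  rw [k.R_symm, k.R_smul_right, k.R_symm]

theorem R_self (a : J) : R a a = (2 : F) • A a 1 := by
  have h1 := k.sh_add a a
  have h2 := k.sh_smul 2 a
  rw [two_smul] at h2
  rw [h2] at h1
  have h3 : R a a = (2 : F) ^ 2 • A a 1 - (A a 1 + A a 1) := by rw [h1]; abel
  rw [h3, ← two_smul F (A a 1), ← sub_smul]
  congr 1; norm_num

/-- total symmetry of `T c (a × b)` -/
theorem tri1 (a a' b : J) : T a' (R a b) = T a (R a' b) := k.c.tri1 a a' b

theorem tri2 (a b b' : J) : T b' (R a b) = T b (R a b') := by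
  have := k.c.tri2 a b b'
  rwa [k.c.T'_eq, k.c.T'_eq] at this

theorem T_smul_left (t : F) (a c : J) : T (t • a) c = t * T a c := k.c.T_smul_left t a c

theorem P_eq (a b : J) : P a b = T b (A a 1) := by
  have h1 := k.c.ov5 a b 1
  rw [one_smul, one_mul, k.c.T'_eq, k.c.T'_eq] at h1
  have h2 : T a (R a b) = T b (R a a) := by
    rw [k.tri2 a a b]
  -- `T b (2 • c) = 2 * T b c` by additivity
  have h3 : T b (R a a) = T b (A a 1) + T b (A a 1) := by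
    rw [k.R_self, two_smul, k.c.T_add_right]
  rw [h1, h2, h3]; ring

theorem N_add (a b : J) : N (a + b) = N a + N b + T b (A a 1) + T a (A b 1) := by
  have h1 := (k.c.ov1 a b 1).1
  rw [one_smul, k.P_eq] at h1
  linear_combination h1

theorem T_smul_sh (t : F) (a b : J) : T b (t • A a 1) = t * T b (A a 1) := by
  have h1 := (k.c.ov1 a b t).1
  rw [k.P_eq, k.A_eq a, k.T_smul_left, k.N_add] at h1
  linear_combination -h1

theorem ss_sh (a : J) (ha : a ≠ 0) : A (ss a) 1 = (N a)⁻¹ • a := by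
  rw [k.A_ss a ha, one_mul]

/-- every element is a multiple of some `b^#` -/
theorem exists_sh (a : J) : ∃ (s : F) (b : J), a = s • A b 1 := by
  by_cases ha : a = 0
  · exact ⟨0, 0, by rw [zero_smul, ha]⟩
  refine ⟨N a, ss a, ?_⟩
  rw [k.ss_sh a ha, smul_smul, mul_inv_cancel₀ (k.N_ne a ha), one_smul]

theorem T_smul_right (t : F) (b y : J) : T b (t • y) = t * T b y := by
  obtain ⟨s, a, rfl⟩ := k.exists_sh y
  rw [smul_smul, k.T_smul_sh, k.T_smul_sh]; ring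

theorem ss_neg (a : J) (ha : a ≠ 0) : ss (-a) = -ss a := by
  obtain ⟨c, hc, hc'⟩ := k.ss_surj (-ss a) (neg_ne_zero.2 (k.ss_ne a ha))
  have h1 := k.ss_sh c hc
  rw [hc', k.sh_neg, k.ss_sh a ha] at h1
  have h2 := k.N_ss c hc
  rw [hc', k.N_neg] at h2
  have h3 := k.N_ss a ha
  have hNa := k.N_ne a ha
  have hNc := k.N_ne c hc
  have hs := k.N_ne _ (k.ss_ne a ha)
  have h4 : N c = -N a := by
    have : N (ss a) * (N c + N a) = 0 := by linear_combination -h2 + h3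
    rcases mul_eq_zero.1 this with h | h
    · exact absurd h hs
    · linear_combination h
  rw [h4] at h1
  have h5 : c = -a := by
    have h6 := congrArg (fun z => (-N a) • z) h1
    simp only [smul_smul] at h6
    rw [mul_inv_cancel₀ (neg_ne_zero.2 hNa), one_smul] at h6
    rw [← h6, neg_mul, mul_inv_cancel₀ hNa, neg_one_smul]
  rw [← h5, hc']

/-- the action of `n1⁻²` -/
theorem rho_props {ρ : J → J} (hρ : ∀ b, cj n1⁻¹ (x3 b) = x5 (ρ b)) (a : J) :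
    cj n1⁻¹ (cj n1⁻¹ (x1 a)) = x1 (ρ a) ∧ N (ρ a) = N a ∧ A (ρ a) 1 = ρ (A a 1) := by
  obtain ⟨η, hη⟩ := k.j1 a
  have s6 : cj n1⁻¹ (cj n1⁻¹ (x6 1)) = x6 (-1) := by rw [k.i6, k.i2]
  have s2 : ∀ t, cj n1⁻¹ (cj n1⁻¹ (x2 t)) = x2 (-t) := fun t => by rw [k.i2, k.i6]
  have s4 : ∀ t, cj n1⁻¹ (cj n1⁻¹ (x4 t)) = x4 t := fun t => by rw [k.i4, k.i4]
  have s3 : ∀ b, cj n1⁻¹ (cj n1⁻¹ (x3 b)) = x3 (-(ρ b)) := fun b => by rw [hρ, k.i5]
  have s5 : ∀ b, cj n1⁻¹ (cj n1⁻¹ (x5 (-b))) = x5 (ρ b) := fun b => by rw [k.i5, hρ, neg_neg]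
  have e := congrArg (fun z => cj n1⁻¹ (cj n1⁻¹ z)) (k.c.r16 a 1)
  have e0 : cj n1⁻¹ (cj n1⁻¹ (kk (x1 a) (x6 1))) = kk (x1 η) (x6 (-1)) := by rw [cj_kk, cj_kk, hη, s6]
  simp only [e0] at e
  simp only [cj_mul, s2, s3, s4, s5, one_smul, k.c.r16, mul_assoc] at e
  obtain ⟨f1, f2, -, f4⟩ := k.c.nf4 e
  rw [neg_smul, neg_neg, one_smul] at f4
  rw [k.A_neg_right, neg_inj] at f2
  refine ⟨by rw [hη, f4], ?_, ?_⟩
  · rw [← f4]; linear_combination f1
  · rw [← f4]; exact f2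

theorem rho_eq {ρ : J → J} (hρ : ∀ b, cj n1⁻¹ (x3 b) = x5 (ρ b)) :
    A ε 1 = ε ∧ ρ ε = ε := by
  have inj : ∀ a b, ρ a = ρ b → a = b := by
    intro a b e
    have : cj n1⁻¹ (x3 a) = cj n1⁻¹ (x3 b) := by rw [hρ, hρ, e]
    exact k.c.inj3 (cj_inj this)
  have h1 := k.special k.ss_neg
  rw [cj_eq_iff, cj_eq_iff, (k.rho_props hρ ε).1] at h1
  have h2 := k.inj1 h1
  rw [k.ss_neg ε k.ε_ne] at h2
  have h3 := (k.rot_comp hρ ε k.ε_ne 1).2.2.2
  rw [k.N_one, mul_one, neg_one_smul, h2] at h3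
  have h4 : A ε 1 = ε := (inj _ _ h3).symm
  refine ⟨h4, ?_⟩
  have h5 := k.ss_sh ε k.ε_ne
  rw [k.N_one, inv_one, one_smul] at h5
  have h6 : ss ε = -ρ ε := by rw [← h2, neg_neg]
  rw [h6, k.sh_neg, (k.rho_props hρ ε).2.2, h4] at h5
  exact h5

theorem sh_one : A ε 1 = ε := by
  obtain ⟨ρ, hρ⟩ := k.exists_rho
  exact (k.rho_eq hρ).1

theorem ss_one : ss ε = -ε := by
  obtain ⟨ρ, hρ⟩ := k.exists_rho
  have h1 := k.special k.ss_neg
  rw [cj_eq_iff, cj_eq_iff, (k.rho_props hρ ε).1, (k.rho_eq hρ).2] at h1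
  have h2 := k.inj1 h1
  rw [k.ss_neg ε k.ε_ne] at h2
  exact neg_eq_iff_eq_neg.1 h2

theorem braid : x1 ε * n1 * x1 ε = n1 * x1 (-ε) * n1 := by
  have h := k.mu
  rw [k.ss_neg ε k.ε_ne, k.ss_one, neg_neg, ← k.c.n1, cj_inv, inv_inv] at h
  rw [← k.c.n1]
  set e := x1 ε
  have h1 : n1 * n1 = e * n1 * e * n1⁻¹ * e * n1 := by
    calc n1 * n1 = n1 * (cj n1 e * e * cj n1 e) := by rw [← h]
      _ = e * n1 * e * n1⁻¹ * e * n1 := by unfold cj; group
  have h2 : n1 = e * n1 * e * n1⁻¹ * e := mul_right_cancel h1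
  calc e * n1 * e = (e * n1 * e * n1⁻¹ * e) * e⁻¹ * n1 := by group
    _ = n1 * e⁻¹ * n1 := by rw [← h2]

theorem key (d : J) {ρ : J → J} (hρ : ∀ b, cj n1⁻¹ (x3 b) = x5 (ρ b)) (b : J) (hd : ρ b = d) :
    R ε d = T ε d • ε - d ∧ b = d ∧ P ε d = T ε d := by
  have e : cj (x1 ε * n1 * x1 ε) (x3 (-d)) = cj (n1 * x1 (-ε) * n1) (x3 (-d)) := by rw [k.braid]
  have c1 : cj (x1 ε) (x3 (-d)) = x2 (T ε d) * x3 (-d) := by
    unfold cj
    rw [mul_assoc, k.c.q31, ← mul_assoc, inv_mul_cancel, one_mul, k.c.T_neg_right, neg_neg]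
  have c2 : cj n1 (x2 (T ε d) * x3 (-d)) = x5 d * x6 (-(T ε d)) := by
    rw [cj_mul, k.j2, k.j3, neg_neg, k.c.q65]
  have c3 : cj (x1 ε) (x5 d * x6 (-(T ε d))) = (x1 ε)⁻¹ * (x5 d * (x6 (-(T ε d)) * x1 ε)) := by
    unfold cj; simp only [mul_assoc]
  have d1 : cj n1 (x3 (-d)) = x5 d := by rw [k.j3, neg_neg]
  have d2 : cj (x1 (-ε)) (x5 d) = x2 (P (-ε) d) * (x3 (-(R (-ε) d)) * (x4 (T' (R (-ε) d) d + -(Q (-ε) d)) * x5 d)) := by
    unfold cj
    rw [mul_assoc, k.c.q51, ← mul_assoc, inv_mul_cancel, one_mul]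
  have d3 : cj n1 (x5 d) = x3 b := by
    rw [cj_eq_iff, hρ, hd]
  have d4 : cj n1 (x2 (P (-ε) d) * (x3 (-(R (-ε) d)) * (x4 (T' (R (-ε) d) d + -(Q (-ε) d)) * x5 d))) =
      x6 (-(P (-ε) d)) * (x5 (R (-ε) d) * (x4 (T' (R (-ε) d) d + -(Q (-ε) d)) * x3 b)) := by
    rw [cj_mul, cj_mul, cj_mul, k.j2, k.j3, k.j4, d3, neg_neg]
  rw [cj_mul_left, cj_mul_left, c1, c2, c3, cj_mul_left, cj_mul_left, d1, d2, d4, inv_mul_eq_iff_eq_mul] at e
  rw [k.c.q61] at e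
  simp only [mul_assoc, k.c.q32, k.c.q32', k.c.q42, k.c.q42', k.c.q52, k.c.q52', k.c.q43, k.c.q43', k.c.q63, k.c.q63', k.c.q54, k.c.q54', k.c.q64, k.c.q64', k.c.q65, k.c.q65', k.c.q53, k.c.q53', k.c.q62, k.c.q62', k.c.m2, k.c.m2', k.c.m3, k.c.m3', k.c.m4, k.c.m4', k.c.m5, k.c.m5', k.c.m6, k.c.m6', k.c.q21, k.c.q21', k.c.q41, k.c.q41', k.c.q31, k.c.q31', k.c.m1, k.c.m1', k.c.q51, k.c.q51'] at e
  have e' := mul_left_cancel (a := x1 ε) e
  rw [← one_mul (x3 b * _), ← k.c.z2] at e'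
  obtain ⟨f1, f2, f3, f4, f5⟩ := k.c.nf_inj e'
  rw [k.A_eq, k.sh_one] at f2
  rw [k.c.R_neg_left] at f4
  rw [neg_smul] at f2 f4
  have g1 : R ε d = T ε d • ε - d := by
    have : -(T ε d • ε) + d = -R ε d := by rw [← f4]; abel
    have h2 : R ε d = -(-R ε d) := by rw [neg_neg]
    rw [h2, ← this]; abel
  refine ⟨g1, ?_, ?_⟩
  · rw [← f2, g1]; abel
  · rw [k.N_one] at f1; linear_combination f1

theorem cr_one (d : J) : R ε d = T ε d • ε - d := by
  obtain ⟨ρ, hρ⟩ := k.exists_rho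
  -- `ρ = id` on its range, hence everywhere
  have h1 : ∀ b, ρ b = b := fun b => ((k.key _ hρ b rfl).2.1).symm
  exact (k.key d hρ d (h1 d)).1

theorem rho_id {ρ : J → J} (hρ : ∀ b, cj n1⁻¹ (x3 b) = x5 (ρ b)) (b : J) : ρ b = b :=
  ((k.key _ hρ b rfl).2.1).symm

theorem ss_eq (a : J) (ha : a ≠ 0) : A a 1 = (-(N a)) • ss a := by
  obtain ⟨ρ, hρ⟩ := k.exists_rho
  have h3 := (k.rot_comp hρ a ha 1).2.2.2
  rw [k.rho_id hρ, one_mul] at h3
  exact h3.symm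

theorem sh_sh (a : J) : A (A a 1) 1 = N a • a := by
  by_cases ha : a = 0
  · subst ha; rw [k.A_zero_left, k.A_zero_left, smul_zero]
  have hN := k.N_ne a ha
  rw [k.ss_eq a ha, k.sh_smul, k.ss_sh a ha, smul_smul]
  congr 1
  field_simp

theorem T_one_symm (a : J) : T ε a = T a ε := by
  obtain ⟨ρ, hρ⟩ := k.exists_rho
  have h1 := (k.key a hρ a (k.rho_id hρ a)).2.2
  rw [k.P_eq, k.sh_one] at h1
  exact h1.symm

theorem T_symm (a b : J) : T a b = T b a := by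
  have h1 := k.tri2 ε a b
  rw [k.cr_one, k.cr_one, sub_eq_add_neg, k.c.T_add_right, k.T_smul_right, k.c.T_neg_right,
    sub_eq_add_neg, k.c.T_add_right, k.T_smul_right, k.c.T_neg_right, ← k.T_one_symm a, ← k.T_one_symm b] at h1
  linear_combination h1

theorem M_eq (a : J) (t : F) : M a t = t ^ 2 * N a := by
  by_cases ha : a = 0
  · subst ha
    have e := k.c.r16 0 t
    have e1 : kk (x1 0) (x6 t) = 1 := by rw [k.c.z1]; unfold kk; group
    rw [e1] at e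
    have e2 : x2 0 * (x3 0 * (x4 0 * x5 0)) =
        x2 (-(t * N 0)) * (x3 (A 0 t) * (x4 (M 0 t) * x5 (-(t • (0 : J))))) := by
      rw [k.c.z2, k.c.z3, k.c.z4, k.c.z5]
      simp only [mul_one]
      rw [e]; simp only [mul_assoc]
    rw [← (k.c.nf4 e2).2.2.1, k.N_zero, mul_zero]
  by_cases ht : t = 0
  · subst ht
    have e := (k.c.ov2 a 0 0).2
    rw [add_zero, zero_smul, k.c.T'_zero_right] at e
    linear_combination -e
  rw [k.four a ha t ht, k.N_neg, k.N_smul]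
  field_simp

theorem Q_eq (a b : J) : Q a b = T a (A b 1) := by
  have h1 := (k.c.ov1 (-b) a 1).2.2
  simp only [one_smul, k.M_eq, k.c.T'_eq, neg_neg, k.sh_add, k.N_add, k.N_neg, k.sh_neg, k.c.R_neg_right,
    k.c.T_neg_left, k.c.T_neg_right, k.c.T_add_right, k.P_eq] at h1
  have h2 : T b (R a b) = T a (A b 1) + T a (A b 1) := by
    rw [k.R_symm, k.tri2 b a b, k.R_self, two_smul, k.c.T_add_right]
  linear_combination h1 + h2

/-- The cubic norm structure. -/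
noncomputable def cubicSys : CubicSys F J where
  one := ε
  N := N
  sh := fun a => A a 1
  T := LinearMap.mk₂ F T k.c.T_add_left (fun t a b => k.T_smul_left t a b) k.c.T_add_right
    (fun t a b => k.T_smul_right t a b)
  cr := LinearMap.mk₂ F R (fun a b c => (k.c.ov3 a b c).2.1) (fun t a b => k.R_smul_left t a b)
    (fun a b c => (k.c.ov4 a b c).2.1) (fun t a b => k.R_smul_right t b a)
  T_symm := fun a b => k.T_symm a b
  cr_symm := fun a b => k.R_symm a b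
  T_cr := fun a b c => by
    change T (R a b) c = T a (R b c)
    rw [k.T_symm (R a b) c, k.tri1 a c b, k.R_symm c b]
  sh_smul := fun t a => k.sh_smul t a
  sh_add := fun a b => by
    change A (a + b) 1 = A a 1 + A b 1 + R a b
    rw [k.sh_add, k.R_symm]
  N_smul := fun t a => k.N_smul t a
  N_add := fun a b => by
    change N (a + b) = N a + N b + T (A a 1) b + T a (A b 1)
    rw [k.N_add, k.T_symm b]
  sh_sh := fun a => k.sh_sh a
  sh_one := k.sh_one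
  one_ne := k.ε_ne
  cr_one := fun a => by
    change R ε a = T a ε • ε - a
    rw [k.cr_one, k.T_one_symm]
  N_ne := fun a ha => k.N_ne a ha

end HexK

/-- Positive relations over a cubic norm structure (Tits-Weiss 16.8). -/
structure HexJ {G : Type u} [Group G] {F : Type v} {J : Type w} [Field F] [AddCommGroup J] [Module F J]
    (C : CubicSys F J) (x1 x3 x5 : J → G) (x2 x4 x6 : F → G) : Prop where
  add1 : ∀ a b, x1 (a + b) = x1 a * x1 b
  add3 : ∀ a b, x3 (a + b) = x3 a * x3 b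
  add5 : ∀ a b, x5 (a + b) = x5 a * x5 b
  add2 : ∀ a b, x2 (a + b) = x2 a * x2 b
  add4 : ∀ a b, x4 (a + b) = x4 a * x4 b
  add6 : ∀ a b, x6 (a + b) = x6 a * x6 b
  r12 : ∀ a b, x1 a * x2 b = x2 b * x1 a
  r14 : ∀ a b, x1 a * x4 b = x4 b * x1 a
  r23 : ∀ a b, x2 a * x3 b = x3 b * x2 a
  r24 : ∀ a b, x2 a * x4 b = x4 b * x2 a
  r25 : ∀ a b, x2 a * x5 b = x5 b * x2 a
  r34 : ∀ a b, x3 a * x4 b = x4 b * x3 a
  r36 : ∀ a b, x3 a * x6 b = x6 b * x3 a
  r45 : ∀ a b, x4 a * x5 b = x5 b * x4 a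
  r46 : ∀ a b, x4 a * x6 b = x6 b * x4 a
  r56 : ∀ a b, x5 a * x6 b = x6 b * x5 a
  r13 : ∀ a c, kk (x1 a) (x3 c) = x2 (C.T a c)
  r35 : ∀ c b, kk (x3 c) (x5 b) = x4 (C.T c b)
  r26 : ∀ s t, kk (x2 s) (x6 t) = x4 (s * t)
  r15 : ∀ a b, kk (x1 a) (x5 b) = x2 (-(C.T (C.sh a) b)) * x3 (C.cr a b) * x4 (C.T a (C.sh b))
  r16 : ∀ a t, kk (x1 a) (x6 t) = x2 (-(t * C.N a)) * x3 (t • C.sh a) * x4 (t ^ 2 * C.N a) * x5 (-(t • a))

theorem HexK.hexJ {G : Type u} [Group G] {F : Type v} {J : Type w} [Field F] [AddCommGroup J] [Module F J]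
    {x1 x3 x5 : J → G} {x2 x4 x6 : F → G} {N : J → F} {A : J → F → J} {M : J → F → F}
    {P Q T T' : J → J → F} {R : J → J → J} {n1 : G} {ss : J → J} {ε : J}
    (k : HexK x1 x3 x5 x2 x4 x6 N A M P Q T T' R n1 ss ε) : HexJ k.cubicSys x1 x3 x5 x2 x4 x6 where
  add1 := k.c.add1
  add3 := k.c.add3
  add5 := k.c.add5
  add2 := k.c.add2
  add4 := k.c.add4
  add6 := k.c.add6
  r12 := k.c.r12
  r14 := k.c.r14
  r23 := k.c.r23
  r24 := k.c.r24
  r25 := k.c.r25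
  r34 := k.c.r34
  r36 := k.c.r36
  r45 := k.c.r45
  r46 := k.c.r46
  r56 := k.c.r56
  r13 := k.c.r13
  r35 := fun c b => by
    rw [k.c.r35, k.c.T'_eq, k.T_symm]; rfl
  r26 := k.c.r26
  r15 := fun a b => by
    rw [k.c.r15, k.P_eq, k.Q_eq, k.T_symm b]; rfl
  r16 := fun a t => by
    rw [k.c.r16, k.A_eq, k.M_eq]; rfl

/-- **Output of the identities**: `HexF` gives a cubic norm structure and the positive relations. -/
theorem exists_hexJ {G : Type u} [Group G] {F : Type v} {J : Type w} [Field F] [AddCommGroup J] [Module F J]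
    {U1 U2 U3 U4 U5 U6 : Subgroup G} {μ1 μ6 st y : G → G} {e1 e6 : G}
    {x1 x5 : J → G} {x2 x4 x6 : F → G} {N : J → F} {ε : J}
    (h : HexF U1 U2 U3 U4 U5 U6 μ1 μ6 st y e1 e6 x1 x5 x2 x4 x6 N ε) :
    ∃ (C : CubicSys F J) (x3 : J → G), HexJ C x1 x3 x5 x2 x4 x6 ∧ Function.Injective x3 ∧
      (∀ g, g ∈ U3 ↔ ∃ a, x3 a = g) := by
  obtain ⟨x3, A, M, P, Q, T, T', R, n1, ss, k, hm⟩ := exists_hexK h
  exact ⟨k.cubicSys, x3, k.hexJ, fun a b e => k.c.inj3 e, hm⟩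

end Cfsg.Agent.SplitTwo
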