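import Cfsg.Agent.SplitTwo.ZSys
import Cfsg.Agent.SplitTwo.HexDefs
import Cfsg.Agent.SplitTwo.HexCentre

/-!
# Structure of Moufang hexagons (S1144, `m = 6`, part [6b])

`hex_of_Dc : Sys 6 X → (∃ x ∈ Dc X 4, x ≠ 1) → Hex X` and `hex_of_rootSys`.
-/

set_option autoImplicit false

namespace Cfsg.Agent.SplitTwo.HexS

open scoped commutatorElement
open ZS

universe u

variable {G : Type u} [Group G] {X : ℤ → Subgroup G}

/-- elements of `X k` commuting with `X (k-3), …, X (k+3)` -/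
def Dz (X : ℤ → Subgroup G) (k : ℤ) : Subgroup G := X k ⊓ Subgroup.centralizer (J X (k - 3) (k + 3) : Set G)

/-- the centre of `J k (k+4)` -/
def W (X : ℤ → Subgroup G) (k : ℤ) : Subgroup G := J X k (k + 4) ⊓ Subgroup.centralizer (J X k (k + 4) : Set G)

theorem mem_Dz {k : ℤ} {x : G} : x ∈ Dz X k ↔ x ∈ X k ∧ ∀ y ∈ J X (k - 3) (k + 3), x * y = y * x := by
  unfold Dz
  rw [Subgroup.mem_inf, Subgroup.mem_centralizer_iff]
  exact and_congr Iff.rfl (forall₂_congr fun _ _ => eq_comm)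

theorem mem_W {k : ℤ} {x : G} : x ∈ W X k ↔ x ∈ J X k (k + 4) ∧ ∀ y ∈ J X k (k + 4), x * y = y * x := by
  unfold W
  rw [Subgroup.mem_inf, Subgroup.mem_centralizer_iff]
  exact and_congr Iff.rfl (forall₂_congr fun _ _ => eq_comm)

theorem commJ {a b : ℤ} {x : G} (h : ∀ l, a ≤ l → l ≤ b → ∀ y ∈ X l, x * y = y * x) :
    ∀ y ∈ J X a b, x * y = y * x := by
  intro y hy
  have h1 : J X a b ≤ Subgroup.centralizer {x} := by
    refine J_le fun l h1 h2 z hz => ?_
    rw [Subgroup.mem_centralizer_singleton_iff]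
    exact (h l h1 h2 z hz).symm
  exact (Subgroup.mem_centralizer_singleton_iff.1 (h1 hy)).symm

theorem Dz_comm {k l : ℤ} {x y : G} (hx : x ∈ Dz X k) (hy : y ∈ X l) (h1 : k - 3 ≤ l) (h2 : l ≤ k + 3) :
    x * y = y * x := (mem_Dz.1 hx).2 y (mem_J hy h1 h2)

theorem Dz_le {k : ℤ} {x : G} (hx : x ∈ Dz X k) : x ∈ X k := (mem_Dz.1 hx).1

theorem Dz_le_W {k j : ℤ} (h1 : k - 3 ≤ j) (h2 : j ≤ k - 1) {x : G} (hx : x ∈ Dz X k) : x ∈ W X j := by
  refine mem_W.2 ⟨mem_J (Dz_le hx) (by omega) (by omega), fun y hy => ?_⟩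
  exact (mem_Dz.1 hx).2 y (J_mono (by omega) (by omega) hy)

theorem W_comm {k : ℤ} {x y : G} (hx : x ∈ W X k) (hy : y ∈ W X k) : x * y = y * x :=
  (mem_W.1 hx).2 y (mem_W.1 hy).1

section

variable (S : ZSys 6 X)
include S

theorem W_le {k : ℤ} {w : G} (hw : w ∈ W X k) : w ∈ J X (k + 1) (k + 3) := by
  obtain ⟨h1, h2⟩ := mem_W.1 hw
  obtain ⟨h, hh, hh1⟩ := S.exists_ne k
  obtain ⟨h', hh', hh1'⟩ := S.exists_ne (k + 4)
  have h3 := S.comm_top (r := 3) (by norm_num) (by omega) hh hh1 h1 (h2 h (mem_J hh le_rfl (by omega)))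
  have h4 := S.comm_bot (r := 3) (by norm_num) (by omega) hh' hh1' h1 (h2 h' (mem_J hh' (by omega) le_rfl))
  exact S.inter_J k h3 h4 le_rfl (by omega) (by omega) (by omega) (by omega) (by omega)

theorem W_conj {k : ℤ} {x w : G} (hx : x ∈ J X (k - 1) (k + 5)) (hw : w ∈ W X k) : x * w * x⁻¹ ∈ W X k := by
  obtain ⟨h1, h2⟩ := mem_W.1 hw
  have hn := S.le_normalizer (a := k) (b := k + 4) (by omega) (J_mono (by omega) (by omega) hx)
  rw [Subgroup.mem_normalizer_iff] at hn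
  refine mem_W.2 ⟨(hn w).1 h1, fun y hy => ?_⟩
  have h3 : x⁻¹ * y * x ∈ J X k (k + 4) := by
    rw [hn (x⁻¹ * y * x)]
    have e : x * (x⁻¹ * y * x) * x⁻¹ = y := by group
    rw [e]; exact hy
  have h4 := h2 _ h3
  calc x * w * x⁻¹ * y = x * (w * (x⁻¹ * y * x)) * x⁻¹ := by group
    _ = x * ((x⁻¹ * y * x) * w) * x⁻¹ := by rw [h4]
    _ = y * (x * w * x⁻¹) := by group

theorem W_inter {k : ℤ} {x : G} (h1 : x ∈ W X k) (h2 : x ∈ W X (k + 2)) : x ∈ Dz X (k + 3) := by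
  have h3 := W_le S h1
  have h4 := W_le S h2
  have h5 : x ∈ J X (k + 3) (k + 3) :=
    S.inter_J (k + 1) h3 h4 le_rfl (by omega) (by omega) (by omega) (by omega) (by omega)
  refine mem_Dz.2 ⟨mem_of_J_self h5 le_rfl, commJ fun l hl1 hl2 y hy => ?_⟩
  by_cases h : l ≤ k + 4
  · exact (mem_W.1 h1).2 y (mem_J hy (by omega) h)
  · exact (mem_W.1 h2).2 y (mem_J hy (by omega) (by omega))

/-- `[D k, W (k-5)] ≤ D (k-2)` -/
theorem br1 {k : ℤ} {z w : G} (hz : z ∈ Dz X k) (hw : w ∈ W X (k - 5)) : ⁅z, w⁆ ∈ Dz X (k - 2) := by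
  have h1 : ⁅z, w⁆ ∈ W X (k - 5) := by
    rw [commutatorElement_def]
    exact mul_mem (W_conj S (mem_J (Dz_le hz) (by omega) (by omega)) hw) (inv_mem hw)
  have h2 : ⁅z, w⁆ ∈ W X (k - 5 + 2) := by
    have hz' : z ∈ W X (k - 5 + 2) := Dz_le_W (by omega) (by omega) hz
    have e : ⁅z, w⁆ = z * (w * z⁻¹ * w⁻¹) := by rw [commutatorElement_def]; group
    rw [e]
    exact mul_mem hz' (W_conj S (J_mono (by omega) (by omega) (W_le S hw)) (inv_mem hz'))
  have h3 := W_inter S h1 h2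
  rwa [show k - 5 + 3 = k - 2 by ring] at h3

/-- `[D k, W (k+1)] ≤ D (k+2)` -/
theorem br2 {k : ℤ} {z w : G} (hz : z ∈ Dz X k) (hw : w ∈ W X (k + 1)) : ⁅z, w⁆ ∈ Dz X (k + 2) := by
  have h1 : ⁅z, w⁆ ∈ W X (k + 1) := by
    rw [commutatorElement_def]
    exact mul_mem (W_conj S (mem_J (Dz_le hz) (by omega) (by omega)) hw) (inv_mem hw)
  have h2 : ⁅z, w⁆ ∈ W X (k - 1) := by
    have hz' : z ∈ W X (k - 1) := Dz_le_W (by omega) (by omega) hz
    have e : ⁅z, w⁆ = z * (w * z⁻¹ * w⁻¹) := by rw [commutatorElement_def]; group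
    rw [e]
    exact mul_mem hz' (W_conj S (J_mono (by omega) (by omega) (W_le S hw)) (inv_mem hz'))
  have h3 := W_inter S h2 (by rwa [show k - 1 + 2 = k + 1 by ring])
  rwa [show k - 1 + 3 = k + 2 by ring] at h3

end

theorem Dz_refl {c k k' : ℤ} {n x : G} (h : ZS.Refl X c n) (hx : x ∈ Dz X k) (hk : k' = c - k) :
    n * x * n⁻¹ ∈ Dz X k' := by
  subst hk
  refine mem_Dz.2 ⟨h.mem (Dz_le hx), fun y hy => ?_⟩
  have h1 : n⁻¹ * y * n ∈ J X (k - 3) (k + 3) := h.mem_J_inv hy (by omega) (by omega)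
  have h2 := (mem_Dz.1 hx).2 _ h1
  calc n * x * n⁻¹ * y = n * (x * (n⁻¹ * y * n)) * n⁻¹ := by group
    _ = n * ((n⁻¹ * y * n) * x) * n⁻¹ := by rw [h2]
    _ = y * (n * x * n⁻¹) := by group

theorem Dz_rev (s k : ℤ) : Dz (fun k => X (s - k)) k = Dz X (s - k) := by
  unfold Dz
  rw [ZSys.J_rev, show s - (k + 3) = s - k - 3 by ring, show s - (k - 3) = s - k + 3 by ring]

section

variable (S : ZSys 6 X)
include S

theorem refl_at (c : ℤ) (hc : Even c) : ∃ n, ZS.Refl X c n := by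
  obtain ⟨t, ht⟩ := hc
  obtain ⟨n, hn⟩ := S.exists_refl (t + 3)
  rw [show 2 * (t + 3) - 6 = c by omega] at hn
  exact ⟨n, hn⟩

/-- the bracket with `1 ≠ z ∈ D k` maps `D (k-4)` onto `D (k-2)` -/
theorem surj_left [Finite G] {k : ℤ} {z : G} (hz : z ∈ Dz X k) (hz1 : z ≠ 1) {d : G} (hd : d ∈ Dz X (k - 2)) :
    ∃ e ∈ Dz X (k - 4), ⁅z, e⁆ = d := by
  obtain ⟨n, hn⟩ := S.exists_refl k
  let f : Dz X (k - 4) → Dz X (k - 2) := fun e => ⟨⁅z, (e : G)⁆, br1 S hz (Dz_le_W (by omega) (by omega) e.2)⟩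
  let g : Dz X (k - 2) → Dz X (k - 4) := fun e => ⟨n * e * n⁻¹, Dz_refl hn e.2 (by omega)⟩
  have hg : Function.Injective g := by
    intro a b hab
    have : n * (a : G) * n⁻¹ = n * b * n⁻¹ := congrArg Subtype.val hab
    exact Subtype.ext (by simpa using this)
  have hf : Function.Injective f := by
    intro a b hab
    have h1 : ⁅z, (a : G)⁆ = ⁅z, (b : G)⁆ := congrArg Subtype.val hab
    simp only [commutatorElement_def] at h1
    have h2 : (b : G)⁻¹ * a * z = z * ((b : G)⁻¹ * a) := by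
      have h3 : (a : G) * z⁻¹ * (a : G)⁻¹ = b * z⁻¹ * (b : G)⁻¹ := by
        have := congrArg (fun t => z⁻¹ * t) h1
        simpa [mul_assoc] using this
      have h4 : (a : G) * z * (a : G)⁻¹ = b * z * (b : G)⁻¹ := by
        have := congrArg (fun t => t⁻¹) h3
        simpa [mul_assoc] using this
      calc (b : G)⁻¹ * a * z = (b : G)⁻¹ * (a * z * (a : G)⁻¹) * a := by group
        _ = z * ((b : G)⁻¹ * a) := by rw [h4]; group
    have h5 : (b : G)⁻¹ * a ∈ X (k - 4) := mul_mem (inv_mem (Dz_le b.2)) (Dz_le a.2)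
    have h6 := S.comm_bot (r := 3) (by norm_num) (a := k - 4) (by omega) (Dz_le hz) hz1
      (mem_J h5 le_rfl (by omega)) h2
    have h7 := S.inter (k - 4) _ h5 (J_mono (by omega) (by omega) h6)
    exact Subtype.ext (inv_mul_eq_one.1 h7).symm
  have hfg : Function.Surjective (f ∘ g) := Finite.surjective_of_injective (hf.comp hg)
  obtain ⟨b, hb⟩ := hfg ⟨d, hd⟩
  exact ⟨g b, (g b).2, congrArg Subtype.val hb⟩

/-- the bracket with `1 ≠ z ∈ D k` maps `D (k+4)` onto `D (k+2)` -/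
theorem surj_right [Finite G] {k : ℤ} {z : G} (hz : z ∈ Dz X k) (hz1 : z ≠ 1) {d : G} (hd : d ∈ Dz X (k + 2)) :
    ∃ e ∈ Dz X (k + 4), ⁅z, e⁆ = d := by
  obtain ⟨e, he, h⟩ := surj_left (S.rev 0) (k := -k) (z := z) (d := d)
    (by rw [Dz_rev, show (0 : ℤ) - -k = k by ring]; exact hz) hz1
    (by rw [Dz_rev, show (0 : ℤ) - (-k - 2) = k + 2 by ring]; exact hd)
  refine ⟨e, ?_, h⟩
  rw [Dz_rev, show (0 : ℤ) - (-k - 4) = k + 4 by ring] at he
  exact he

variable {k : ℤ} (hD : ∀ l, Even l → ∃ x ∈ Dz X l, x ≠ 1) (hk : Even k)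
include hD hk

omit S in
theorem ev (j : ℤ) : ∃ x ∈ Dz X (k + 2 * j), x ≠ 1 := hD _ (hk.add (even_two_mul j))

/-- `W (k-5) = D (k-4) (W ∩ X (k-3)) D (k-2)` -/
theorem W_decomp [Finite G] {w : G} (hw : w ∈ W X (k - 5)) :
    ∃ x ∈ Dz X (k - 4), ∃ ν, (ν ∈ X (k - 3) ∧ ν ∈ W X (k - 5)) ∧ ∃ y ∈ Dz X (k - 2), w = x * ν * y := by
  obtain ⟨z, hz, hz1⟩ := hD k hk
  obtain ⟨z', hz', hz1'⟩ := ev hD hk (-3)
  rw [show k + 2 * -3 = k - 6 by ring] at hz'
  obtain ⟨x, hx, e1⟩ := surj_left S hz hz1 (br1 S hz hw)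
  have hxW : x ∈ W X (k - 5) := Dz_le_W (by omega) (by omega) hx
  set w' := x⁻¹ * w with hw'_def
  have hw' : w' ∈ W X (k - 5) := mul_mem (inv_mem hxW) hw
  have comm_of : ∀ {z a b : G}, ⁅z, a⁆ = ⁅z, b⁆ → (a⁻¹ * b) * z = z * (a⁻¹ * b) := by
    intro z a b h1
    simp only [commutatorElement_def] at h1
    have h3 : a * z⁻¹ * a⁻¹ = b * z⁻¹ * b⁻¹ := by
      have := congrArg (fun t => z⁻¹ * t) h1
      simpa [mul_assoc] using this
    have h4 : a * z * a⁻¹ = b * z * b⁻¹ := by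
      have := congrArg (fun t => t⁻¹) h3
      simpa [mul_assoc] using this
    calc a⁻¹ * b * z = a⁻¹ * (b * z * b⁻¹) * b := by group
      _ = z * (a⁻¹ * b) := by rw [← h4]; group
  have h2 := comm_of e1
  have h3 : w' ∈ J X (k - 3) (k - 2) := by
    have h4 := S.comm_bot (r := 3) (by norm_num) (a := k - 4) (by omega) (Dz_le hz) hz1
      (J_mono (by omega) (by omega) (W_le S hw')) h2
    exact S.inter_J (k - 4) h4 (W_le S hw') (by omega) (by omega) (by omega) (by omega) (by omega) (by omega)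
  -- the other side
  have h5 : ⁅z', w'⁆ ∈ Dz X (k - 6 + 2) := br2 S hz' (by rwa [show k - 6 + 1 = k - 5 by ring])
  obtain ⟨y, hy, e2⟩ := surj_right S hz' hz1' h5
  rw [show k - 6 + 4 = k - 2 by ring] at hy
  have hyW : y ∈ W X (k - 5) := Dz_le_W (by omega) (by omega) hy
  have h6 := comm_of e2
  have hν : y⁻¹ * w' ∈ W X (k - 5) := mul_mem (inv_mem hyW) hw'
  have h7 : y⁻¹ * w' ∈ J X (k - 6) (k - 3) := by
    have := S.comm_top (r := 3) (by norm_num) (b := k - 2) (by omega) (Dz_le hz') hz1'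
      (J_mono (by omega) (by omega) (W_le S hν)) h6
    exact J_mono (by omega) (by omega) this
  have h8 : y⁻¹ * w' ∈ J X (k - 3) (k - 2) :=
    mul_mem (inv_mem (mem_J (Dz_le hy) (by omega) le_rfl)) h3
  have h9 : y⁻¹ * w' ∈ X (k - 3) := by
    have := S.inter_J (k - 6) h7 h8 (e := k - 3) (f := k - 3) (by omega) (by omega) (by omega) (by omega)
      (by omega) (by omega)
    exact mem_of_J_self this le_rfl
  refine ⟨x, hx, y⁻¹ * w', ⟨h9, hν⟩, y, hy, ?_⟩
  have h10 := W_comm hν hyW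
  calc w = x * w' := by rw [hw'_def]; group
    _ = x * (y * (y⁻¹ * w')) := by group
    _ = x * (y⁻¹ * w') * y := by rw [← h10]; group

/-- **`X k = D k`** -/
theorem X_eq_D [Finite G] {a : G} (ha : a ∈ X k) : a ∈ Dz X k := by
  obtain ⟨e, he, he1⟩ := ev hD hk (-2)
  rw [show k + 2 * -2 = k - 4 by ring] at he
  have heW : e ∈ W X (k - 5) := Dz_le_W (by omega) (by omega) he
  have haW : a * e * a⁻¹ ∈ W X (k - 5) := W_conj S (mem_J ha (by omega) (by omega)) heW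
  obtain ⟨x, hx, ν, ⟨hν, hνW⟩, y, hy, e1⟩ := W_decomp S hD hk haW
  have hxW : x ∈ W X (k - 5) := Dz_le_W (by omega) (by omega) hx
  have hyW : y ∈ W X (k - 5) := Dz_le_W (by omega) (by omega) hy
  -- `x = e`
  have hxe : x = e := by
    have h1 : ⁅a, e⁆ ∈ J X (k - 4 + 1) (k - 1) := S.comm' (by omega) (by omega) ha (Dz_le he)
    have h2 : x * e⁻¹ = ⁅a, e⁆ * (ν * y)⁻¹ := by
      have h3 : (ν * y) * e⁻¹ = e⁻¹ * (ν * y) := W_comm (mul_mem hνW hyW) (inv_mem heW)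
      rw [commutatorElement_def, e1]
      calc x * e⁻¹ = x * (e⁻¹ * (ν * y)) * (ν * y)⁻¹ := by group
        _ = x * ν * y * e⁻¹ * (ν * y)⁻¹ := by rw [← h3]; group
    have h4 : x * e⁻¹ ∈ J X (k - 4 + 1) (k - 4 + 6 - 1) := by
      rw [h2]
      exact mul_mem (J_mono (by omega) (by omega) h1)
        (inv_mem (mul_mem (mem_J hν (by omega) (by omega)) (mem_J (Dz_le hy) (by omega) (by omega))))
    have h5 := S.inter (k - 4) _ (mul_mem (Dz_le hx) (inv_mem (Dz_le he))) h4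
    exact mul_inv_eq_one.1 h5
  subst hxe
  obtain ⟨z, hz, e2⟩ := surj_right S he he1 (d := y) (by rwa [show k - 4 + 2 = k - 2 by ring])
  rw [show k - 4 + 4 = k by ring] at hz
  -- `a' = z a` maps `x` to `x ν`
  have h6 : (z * a) * x * (z * a)⁻¹ = x * ν := by
    have c1 : z * ν * z⁻¹ = ν := by rw [Dz_comm hz hν (by omega) (by omega)]; group
    have c2 : z * y * z⁻¹ = y := by rw [Dz_comm hz (Dz_le hy) (by omega) (by omega)]; group
    have c3 : z * x * z⁻¹ = y⁻¹ * x := by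
      rw [← e2]; simp only [commutatorElement_def]; group
    have c4 : y⁻¹ * (x * ν) = (x * ν) * y⁻¹ := W_comm (inv_mem hyW) (mul_mem hxW hνW)
    calc (z * a) * x * (z * a)⁻¹ = z * (a * x * a⁻¹) * z⁻¹ := by group
      _ = z * (x * ν * y) * z⁻¹ := by rw [e1]
      _ = (z * x * z⁻¹) * (z * ν * z⁻¹) * (z * y * z⁻¹) := by group
      _ = (y⁻¹ * (x * ν)) * y := by rw [c1, c2, c3]; group
      _ = x * ν := by rw [c4]; group
  have h7 : z * a = 1 := by
    by_contra hne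
    obtain ⟨v, hv, v', hv', hn⟩ := S.mu k (z * a) (mul_mem (Dz_le hz) ha) hne
    have c1 : v'⁻¹ * x * v' = x := by
      rw [mul_assoc, Dz_comm he hv' (by omega) (by omega)]; group
    have c2 : v * x * v⁻¹ = x := by
      rw [← Dz_comm he hv (by omega) (by omega)]; group
    have h8 : (v * (z * a) * v') * x * (v * (z * a) * v')⁻¹ ∈ X (k - 2) := hn.mem' (Dz_le he) (by omega)
    have h9 : (v * (z * a) * v') * x * (v * (z * a) * v')⁻¹ = x * (v * ν * v⁻¹) := by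
      have c3 : v' * x * v'⁻¹ = x := by
        rw [← Dz_comm he hv' (by omega) (by omega)]; group
      calc (v * (z * a) * v') * x * (v * (z * a) * v')⁻¹
          = v * ((z * a) * (v' * x * v'⁻¹) * (z * a)⁻¹) * v⁻¹ := by group
        _ = v * (x * ν) * v⁻¹ := by rw [c3, h6]
        _ = (v * x * v⁻¹) * (v * ν * v⁻¹) := by group
        _ = x * (v * ν * v⁻¹) := by rw [c2]
    have h10 : v * ν * v⁻¹ ∈ J X (k - 5) (k - 3) :=
      S.conj_X (k := k - 6) (by omega) (by omega) (by omega) hv (mem_J hν (by omega) le_rfl)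
    have h11 : (v * (z * a) * v') * x * (v * (z * a) * v')⁻¹ ∈ J X (k - 5) (k - 3) := by
      rw [h9]
      exact mul_mem (mem_J (Dz_le he) (by omega) (by omega)) h10
    have h12 := S.inter_one (k - 5) h11 (mem_J (a := k - 2) (b := k - 2) h8 le_rfl le_rfl) (by omega) (by omega)
      (by omega) (by omega) (Or.inl (by omega))
    apply he1
    calc x = (v * (z * a) * v')⁻¹ * ((v * (z * a) * v') * x * (v * (z * a) * v')⁻¹) * (v * (z * a) * v') := by group
      _ = 1 := by rw [h12]; group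
  rw [show a = z⁻¹ by exact eq_inv_of_mul_eq_one_right h7]
  exact inv_mem hz

end

section

variable (S : ZSys 6 X)
include S

/-- the odd root groups are abelian -/
theorem abel {k : ℤ} (hE : ∀ x ∈ X (k + 1), x ∈ Dz X (k + 1)) (hE' : ∀ x ∈ X (k - 3), x ∈ Dz X (k - 3))
    {x y : G} (hx : x ∈ X k) (hy : y ∈ X k) : x * y = y * x := by
  obtain ⟨b, hb, hb1⟩ := S.exists_ne (k + 1)
  obtain ⟨v, hv, v', hv', hn⟩ := S.mu (k + 1) b hb hb1
  set n := v * b * v' with hn_def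
  -- every `x ∈ X k` is the last component of `b a b⁻¹`
  have key : ∀ x ∈ X k, ∃ a ∈ X (k - 4), ∃ p ∈ J X (k - 3) (k - 1), b * a * b⁻¹ = a * p * x := by
    intro x hx
    set a := n⁻¹ * x * n with ha_def
    have ha : a ∈ X (k - 4) := hn.mem_inv hx (by omega)
    have c1 : v' * a * v'⁻¹ = a := by
      have : a * v' = v' * a := (S.commute_succ (k := k - 5) (by rwa [show k - 5 = k + 1 - 6 by ring])
        (by rwa [show k - 5 + 1 = k - 4 by ring])).symm
      rw [← this]; group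
    have h1 : b * a * b⁻¹ = v⁻¹ * x * v := by
      have e1 : n * a * n⁻¹ = x := by rw [ha_def]; group
      calc b * a * b⁻¹ = v⁻¹ * ((v * b * v') * (v'⁻¹ * a * v') * (v * b * v')⁻¹) * v := by group
        _ = v⁻¹ * (n * a * n⁻¹) * v := by
          have c2 : v'⁻¹ * a * v' = a := by
            calc v'⁻¹ * a * v' = v'⁻¹ * (v' * a * v'⁻¹) * v' := by rw [c1]
              _ = a := by group
          rw [c2]
        _ = v⁻¹ * x * v := by rw [e1]
    -- `v⁻¹ x v ∈ J (k-4) (k-1) x`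
    have h2 : ⁅v⁻¹, x⁆ ∈ J X (k + 1 - 6 + 1) (k - 1) := S.comm _ _ (by omega) (by omega) _ (inv_mem hv) _ hx
    have h3 : v⁻¹ * x * v = ⁅v⁻¹, x⁆ * x := by rw [commutatorElement_def]; group
    obtain ⟨a', ha', p, hp, e2⟩ := S.split_ll (a := k + 1 - 6 + 1) (b := k - 1) (by omega) (by omega) h2
    rw [show k + 1 - 6 + 1 = k - 4 by ring] at ha'
    rw [show k + 1 - 6 + 1 + 1 = k - 3 by ring] at hp
    have h4 : ⁅a⁻¹, b⁆ ∈ J X (k - 4 + 1) (k + 1 - 1) := S.comm _ _ (by omega) (by omega) _ (inv_mem ha) _ hb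
    have h5 : a⁻¹ * a' = ⁅a⁻¹, b⁆ * x⁻¹ * p⁻¹ := by
      have e3 : b * a * b⁻¹ = a' * p * x := by rw [h1, h3, e2]
      calc a⁻¹ * a' = a⁻¹ * (a' * p * x) * x⁻¹ * p⁻¹ := by group
        _ = ⁅a⁻¹, b⁆ * x⁻¹ * p⁻¹ := by rw [← e3, commutatorElement_def]; group
    have h6 : a⁻¹ * a' ∈ J X (k - 4 + 1) (k - 4 + 6 - 1) := by
      rw [h5]
      exact mul_mem (mul_mem (J_mono (by omega) (by omega) h4) (inv_mem (mem_J hx (by omega) (by omega))))
        (inv_mem (J_mono (by omega) (by omega) hp))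
    have h7 := S.inter (k - 4) _ (mul_mem (inv_mem ha) ha') h6
    have h8 : a' = a := (inv_mul_eq_one.1 h7).symm
    refine ⟨a, ha, p, hp, ?_⟩
    rw [h1, h3, e2, h8]
  -- conjugation by `b` on `J (k-3) (k-1)`
  have hb' : ∀ p ∈ J X (k - 3) (k - 1), b * p * b⁻¹ ∈ J X (k - 3) (k - 1) := by
    have hbD := hE b hb
    have : J X (k - 3) (k - 1) ≤ (J X (k - 3) (k - 1)).comap (MulAut.conj b).toMonoidHom := by
      refine J_le fun l hl1 hl2 z hz => ?_
      show b * z * b⁻¹ ∈ J X (k - 3) (k - 1)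
      by_cases hl : k - 2 ≤ l
      · rw [Dz_comm hbD hz (by omega) (by omega)]
        have e : z * b * b⁻¹ = z := by group
        rw [e]
        exact mem_J hz hl1 hl2
      · have hl' : l = k - 3 := by omega
        subst hl'
        have h1 : ⁅b, z⁆ ∈ Dz X (k + 1 - 2) :=
          br1 S hbD (Dz_le_W (k := k - 3) (by omega) (by omega) (hE' z hz))
        have e : b * z * b⁻¹ = ⁅b, z⁆ * z := by rw [commutatorElement_def]; group
        rw [e]
        exact mul_mem (mem_J (Dz_le h1) (by omega) (by omega)) (mem_J hz le_rfl (by omega))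
    exact fun p hp => this hp
  have nrm : ∀ x ∈ X k, ∀ p ∈ J X (k - 4) (k - 1), x * p * x⁻¹ ∈ J X (k - 4) (k - 1) := fun x hx p hp =>
    S.conj_X (by omega) (by omega) (by omega) hx hp
  have nrm' : ∀ x ∈ X k, ∀ p ∈ J X (k - 3) (k - 1), x * p * x⁻¹ ∈ J X (k - 3) (k - 1) := fun x hx p hp =>
    S.conj_X (by omega) (by omega) (by omega) hx hp
  -- second application
  have key2 : ∀ {a p x : G}, p ∈ J X (k - 3) (k - 1) → x ∈ X k → a ∈ X (k - 4) → b * a * b⁻¹ = a * p * x →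
      ∃ q ∈ J X (k - 4) (k - 1), b * (b * a * b⁻¹) * b⁻¹ = q * (x * x) := by
    intro a p x hp hx ha h
    have c1 : b * x * b⁻¹ = x := by
      rw [Dz_comm (hE b hb) hx (by omega) (by omega)]; group
    refine ⟨a * p * (x * (b * p * b⁻¹) * x⁻¹), mul_mem (mul_mem (mem_J ha le_rfl (by omega))
      (J_mono (by omega) le_rfl hp)) (J_mono (by omega) le_rfl (nrm' x hx _ (hb' p hp))), ?_⟩
    calc b * (b * a * b⁻¹) * b⁻¹ = b * (a * p * x) * b⁻¹ := by rw [h]
      _ = (b * a * b⁻¹) * (b * p * b⁻¹) * (b * x * b⁻¹) := by group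
      _ = (a * p * x) * (b * p * b⁻¹) * x := by rw [c1, h]
      _ = a * p * (x * (b * p * b⁻¹) * x⁻¹) * (x * x) := by group
  obtain ⟨a, ha, p, hp, h1⟩ := key x hx
  obtain ⟨a', ha', p', hp', h2⟩ := key y hy
  have hxy : x * y ∈ X k := mul_mem hx hy
  have haa : a * a' ∈ X (k - 4) := mul_mem ha ha'
  -- the product
  set p'' := a'⁻¹ * p * (x * (a' * p') * x⁻¹) with hp''_def
  have h3 : b * (a * a') * b⁻¹ = (a * a') * p'' * (x * y) := by
    calc b * (a * a') * b⁻¹ = (b * a * b⁻¹) * (b * a' * b⁻¹) := by group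
      _ = (a * p * x) * (a' * p' * y) := by rw [h1, h2]
      _ = (a * a') * p'' * (x * y) := by rw [hp''_def]; group
  have h4 : p'' ∈ J X (k - 4) (k - 1) :=
    mul_mem (mul_mem (inv_mem (mem_J ha' le_rfl (by omega))) (J_mono (by omega) le_rfl hp))
      (nrm x hx _ (mul_mem (mem_J ha' le_rfl (by omega)) (J_mono (by omega) le_rfl hp')))
  have h5 : p'' ∈ J X (k - 3) k := by
    have h6 : ⁅(a * a')⁻¹, b⁆ ∈ J X (k - 4 + 1) (k + 1 - 1) := S.comm _ _ (by omega) (by omega) _ (inv_mem haa) _ hb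
    have e : p'' = ⁅(a * a')⁻¹, b⁆ * (x * y)⁻¹ := by
      calc p'' = (a * a')⁻¹ * ((a * a') * p'' * (x * y)) * (x * y)⁻¹ := by group
        _ = (a * a')⁻¹ * (b * (a * a') * b⁻¹) * (x * y)⁻¹ := by rw [h3]
        _ = _ := by rw [commutatorElement_def]; group
    rw [e]
    exact mul_mem (J_mono (by omega) (by omega) h6) (inv_mem (mem_J hxy (by omega) le_rfl))
  have h6 : p'' ∈ J X (k - 3) (k - 1) :=
    S.inter_J (k - 4) h4 h5 le_rfl (by omega) (by omega) (by omega) (by omega) (by omega)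
  obtain ⟨q, hq, e1⟩ := key2 hp hx ha h1
  obtain ⟨q', hq', e2⟩ := key2 hp' hy ha' h2
  obtain ⟨q'', hq'', e3⟩ := key2 h6 hxy haa h3
  have h7 : q'' * (x * y * (x * y)) = q * ((x * x) * q' * (x * x)⁻¹) * (x * x * (y * y)) := by
    rw [← e3]
    calc b * (b * (a * a') * b⁻¹) * b⁻¹ = (b * (b * a * b⁻¹) * b⁻¹) * (b * (b * a' * b⁻¹) * b⁻¹) := by group
      _ = (q * (x * x)) * (q' * (y * y)) := by rw [e1, e2]
      _ = _ := by group
  have h8 : (x * y * (x * y)) * (x * x * (y * y))⁻¹ = q''⁻¹ * (q * ((x * x) * q' * (x * x)⁻¹)) := by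
    calc (x * y * (x * y)) * (x * x * (y * y))⁻¹ = q''⁻¹ * (q'' * (x * y * (x * y))) * (x * x * (y * y))⁻¹ := by group
      _ = _ := by rw [h7]; group
  have h9 : (x * y * (x * y)) * (x * x * (y * y))⁻¹ ∈ J X (k - 4) (k - 1) := by
    rw [h8]
    exact mul_mem (inv_mem hq'') (mul_mem hq (nrm _ (mul_mem hx hx) _ hq'))
  have h10 : (x * y * (x * y)) * (x * x * (y * y))⁻¹ ∈ X k :=
    mul_mem (mul_mem hxy hxy) (inv_mem (mul_mem (mul_mem hx hx) (mul_mem hy hy)))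
  have h11 := S.inter' h10 (J_mono (by omega) le_rfl h9)
  have h12 := mul_inv_eq_one.1 h11
  have h13 : x⁻¹ * (x * y * (x * y)) * y⁻¹ = x⁻¹ * (x * x * (y * y)) * y⁻¹ := by rw [h12]
  have h14 : y * x = x * y := by
    calc y * x = x⁻¹ * (x * y * (x * y)) * y⁻¹ := by group
      _ = x⁻¹ * (x * x * (y * y)) * y⁻¹ := h13
      _ = x * y := by group
  exact h14.symm

end

/-! ### from `Sys` -/

section

variable {m : ℕ} {Y : ZMod (2 * m) → Subgroup G}

/-- the `ℤ`-indexed family -/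
def zf (Y : ZMod (2 * m) → Subgroup G) (k : ℤ) : Subgroup G := Y (k : ZMod (2 * m))

theorem cast_toNat {k l : ℤ} (h : k ≤ l) :
    (k : ZMod (2 * m)) + (((l - k).toNat : ℕ) : ZMod (2 * m)) = (l : ZMod (2 * m)) := by
  have h3 : (((l - k).toNat : ℕ) : ℤ) = l - k := Int.toNat_of_nonneg (by omega)
  have h4 : (((l - k).toNat : ℕ) : ZMod (2 * m)) = ((l - k : ℤ) : ZMod (2 * m)) := by
    rw [← h3]; push_cast; rfl
  rw [h4]; push_cast; ring

theorem seg_eq_J (k : ℤ) (n : ℕ) : seg Y (k : ZMod (2 * m)) n = J (zf Y) k (k + n - 1) := by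
  apply le_antisymm
  · refine seg_le fun r hr => ?_
    have h1 := X_le_J (X := zf Y) (k := k + r) (a := k) (b := k + n - 1) (by omega) (by omega)
    have e : zf Y (k + r) = Y ((k : ZMod (2 * m)) + ((r : ℕ) : ZMod (2 * m))) := by
      unfold zf; push_cast; rfl
    rwa [e] at h1
  · refine J_le fun l h1 h2 => ?_
    have e : zf Y l = Y ((k : ZMod (2 * m)) + (((l - k).toNat : ℕ) : ZMod (2 * m))) := by
      unfold zf; rw [cast_toNat h1]
    rw [e]
    exact le_seg Y _ (by omega)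

theorem zsys_of_sys (S : Sys m Y) : ZSys (m : ℤ) (zf Y) where
  two_lt := by have := S.three_le; omega
  per k := by
    unfold zf
    congr 1
    push_cast
    have h : ((2 * m : ℕ) : ZMod (2 * m)) = 0 := ZMod.natCast_self _
    push_cast at h
    rw [h, add_zero]
  ne_bot k := S.ne_bot _
  comm k l h1 h2 x hx y hy := by
    have h3 := S.comm (k : ZMod (2 * m)) (l - k - 1).toNat (by omega) x hx y (by
      have e : ((((l - k - 1).toNat + 1 : ℕ)) : ZMod (2 * m)) = (((l - k).toNat : ℕ) : ZMod (2 * m)) := by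
        congr 1
        omega
      rw [e, cast_toNat (by omega)]
      exact hy)
    have e2 : (k : ZMod (2 * m)) + 1 = ((k + 1 : ℤ) : ZMod (2 * m)) := by push_cast; rfl
    rw [e2, seg_eq_J] at h3
    exact J_mono (by omega) (by omega) h3
  inter k x hx hx' := by
    have e2 : (k : ZMod (2 * m)) + 1 = ((k + 1 : ℤ) : ZMod (2 * m)) := by push_cast; rfl
    refine S.inter (k : ZMod (2 * m)) x hx ?_
    rw [e2, seg_eq_J]
    have := S.three_le
    exact J_mono (by omega) (by omega) hx'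
  mu i u hu hu1 := by
    obtain ⟨v, hv, v', hv', hn⟩ := S.mu (i : ZMod (2 * m)) u hu hu1
    have h0 : (2 * (m : ZMod (2 * m))) = 0 := by
      have h : ((2 * m : ℕ) : ZMod (2 * m)) = 0 := ZMod.natCast_self _
      push_cast at h
      exact h
    have hmm : (-(m : ZMod (2 * m))) = m := by
      rw [neg_eq_iff_add_eq_zero, ← two_mul, h0]
    have e1 : ((i - m : ℤ) : ZMod (2 * m)) = (i : ZMod (2 * m)) + (m : ZMod (2 * m)) := by
      push_cast
      rw [sub_eq_add_neg, hmm]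
    refine ⟨v, ?_, v', ?_, ?_⟩
    · show v ∈ Y ((i - m : ℤ) : ZMod (2 * m)); rw [e1]; exact hv
    · show v' ∈ Y ((i - m : ℤ) : ZMod (2 * m)); rw [e1]; exact hv'
    · intro j x
      have h := hn (j : ZMod (2 * m)) x
      have e2 : ((2 * i - m - j : ℤ) : ZMod (2 * m)) = 2 * (i : ZMod (2 * m)) + (m : ZMod (2 * m)) - (j : ZMod (2 * m)) := by
        push_cast
        rw [sub_eq_add_neg (2 * (i : ZMod (2 * m))) (m : ZMod (2 * m)), hmm]
      show x ∈ Y (j : ZMod (2 * m)) ↔ _ ∈ Y ((2 * i - m - j : ℤ) : ZMod (2 * m))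
      rw [e2]
      exact h.symm

end

/-- all even root groups are equal to their `Dz` -/
theorem even_eq [Finite G] (S : ZSys 6 X) {k₀ : ℤ} (hk₀ : Even k₀) {x₀ : G} (hx₀ : x₀ ∈ Dz X k₀) (hx₁ : x₀ ≠ 1)
    {k : ℤ} (hk : Even k) {a : G} (ha : a ∈ X k) : a ∈ Dz X k := by
  refine X_eq_D S (fun l hl => ?_) hk ha
  obtain ⟨n, hn⟩ := refl_at S (k₀ + l) (hk₀.add hl)
  refine ⟨n * x₀ * n⁻¹, Dz_refl hn hx₀ (by omega), fun h => hx₁ ?_⟩
  calc x₀ = n⁻¹ * (n * x₀ * n⁻¹) * n := by group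
    _ = 1 := by rw [h]; group

/-- **[6b]** -/
theorem hex_of_Dc [Finite G] {Y : ZMod (2 * 6) → Subgroup G} (S : Sys 6 Y) (h : ∃ x ∈ Dc Y 4, x ≠ 1) : Hex Y := by
  obtain ⟨x₀, hx₀, hx₁⟩ := h
  rw [mem_Dc] at hx₀
  have Z : ZSys 6 (zf Y) := zsys_of_sys S
  have hx₀' : x₀ ∈ Dz (zf Y) 4 := by
    refine mem_Dz.2 ⟨hx₀.1, fun y hy => hx₀.2 y ?_⟩
    have e : ((4 : ZMod (2 * 6)) - 3) = ((1 : ℤ) : ZMod (2 * 6)) := by decide
    rw [e, seg_eq_J]
    exact J_mono (by norm_num) (by norm_num) hy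
  have hE : ∀ k : ℤ, Even k → ∀ a ∈ zf Y k, a ∈ Dz (zf Y) k := fun k hk a ha =>
    even_eq Z (k₀ := 4) (by decide) hx₀' hx₁ hk ha
  have cast_val : ∀ i : ZMod (2 * 6), (((i.val : ℕ) : ℤ) : ZMod (2 * 6)) = i := by decide
  refine ⟨S, ?_, ?_, ?_, ?_⟩
  · intro i k hk a ha b hb
    have e1 : (2 * i : ZMod (2 * 6)) = ((2 * (i.val : ℤ) : ℤ) : ZMod (2 * 6)) := by
      push_cast
      rw [← Int.cast_natCast (R := ZMod (2 * 6)), cast_val]
    have ha' : a ∈ zf Y (2 * (i.val : ℤ)) := by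
      show a ∈ Y _
      rw [← e1]; exact ha
    have hb' : b ∈ zf Y (2 * (i.val : ℤ) + k) := by
      show b ∈ Y _
      rw [Int.cast_add, ← e1, Int.cast_natCast]; exact hb
    exact Dz_comm (hE _ (even_two_mul _) a ha') hb' (by omega) (by omega)
  · intro i k hk a ha b hb
    have e1 : (2 * i : ZMod (2 * 6)) = ((2 * (i.val : ℤ) : ℤ) : ZMod (2 * 6)) := by
      push_cast
      rw [← Int.cast_natCast (R := ZMod (2 * 6)), cast_val]
    have ha' : a ∈ zf Y (2 * (i.val : ℤ)) := by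
      show a ∈ Y _
      rw [← e1]; exact ha
    have hb' : b ∈ zf Y (2 * (i.val : ℤ) - k) := by
      show b ∈ Y _
      rw [Int.cast_sub, ← e1, Int.cast_natCast]; exact hb
    exact Dz_comm (hE _ (even_two_mul _) a ha') hb' (by omega) (by omega)
  · intro i a ha b hb
    have e1 : (2 * i : ZMod (2 * 6)) = ((2 * (i.val : ℤ) : ℤ) : ZMod (2 * 6)) := by
      push_cast
      rw [← Int.cast_natCast (R := ZMod (2 * 6)), cast_val]
    have ha' : a ∈ zf Y (2 * (i.val : ℤ)) := by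
      show a ∈ Y _
      rw [← e1]; exact ha
    have hb' : b ∈ zf Y (2 * (i.val : ℤ) + 4) := by
      show b ∈ Y _
      rw [Int.cast_add, ← e1]; exact_mod_cast hb
    have hev : Even (2 * (i.val : ℤ)) := even_two_mul _
    have haD := hE _ hev a ha'
    have hbD := hE _ (hev.add (by decide)) b hb'
    have h1 : ⁅a, b⁆ ∈ Dz (zf Y) (2 * (i.val : ℤ) + 2) := br2 Z haD (Dz_le_W (by omega) (by omega) hbD)
    have h2 : ⁅a, b⁆ ∈ Y ((2 * (i.val : ℤ) + 2 : ℤ) : ZMod (2 * 6)) := Dz_le h1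
    rw [Int.cast_add, ← e1] at h2
    exact_mod_cast h2
  · intro i a ha b hb
    have e1 : (2 * i : ZMod (2 * 6)) = ((2 * (i.val : ℤ) : ℤ) : ZMod (2 * 6)) := by
      push_cast
      rw [← Int.cast_natCast (R := ZMod (2 * 6)), cast_val]
    have e2 : (2 * i + 1 : ZMod (2 * 6)) = ((2 * (i.val : ℤ) + 1 : ℤ) : ZMod (2 * 6)) := by
      rw [Int.cast_add, ← e1]; norm_num
    rw [e2] at ha hb
    have hev : Even (2 * (i.val : ℤ)) := even_two_mul _
    refine abel Z (k := 2 * (i.val : ℤ) + 1) ?_ ?_ ha hb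
    · exact fun x hx => hE _ (by rw [show 2 * (i.val : ℤ) + 1 + 1 = 2 * (i.val : ℤ) + 2 by ring]
                                 exact hev.add (by decide)) x hx
    · exact fun x hx => hE _ (by rw [show 2 * (i.val : ℤ) + 1 - 3 = 2 * (i.val : ℤ) - 2 by ring]
                                 exact hev.sub (by decide)) x hx

/-- **Structure theorem for finite Moufang hexagons.** -/
theorem hex_of_rootSys [Finite G] (R : RootSys 6 G) : Hex R.X ∨ Hex (fun i => R.X (i + 1)) := by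
  rcases exists_Dc_four R with h | h
  · exact Or.inl (hex_of_Dc R.toSys h)
  · exact Or.inr (hex_of_Dc (R.toSys.shift 1) h)

end Cfsg.Agent.SplitTwo.HexS
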