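import Mathlib
import Cfsg.Agent.SplitTwo.HexCubic
import Cfsg.Agent.SplitTwo.HexIdent
import Cfsg.Agent.SplitTwo.HexField
import Cfsg.Agent.SplitTwo.HexGOfHex
import Cfsg.Agent.SplitTwo.HexStruct

/-!
# Moufang hexagons (S1144, [6]): a finite hexagonal root system has the relations of `G₂(q)` or `³D₄(q)`
-/

set_option autoImplicit false

namespace Cfsg.Agent.SplitTwo.HexFinal

universe u v w

/-! ## Finite cubic norm structures come from fields -/

section Alg

variable {F : Type u} {J : Type v} [Field F] [AddCommGroup J] [Module F J]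

/-- a `CubicSys` is a `CubicNorm` -/
def toNorm (C : CubicSys F J) : CubicNorm F J where
  e := C.one
  N := C.N
  sh := C.sh
  cr a b := C.cr a b
  T a b := C.T a b
  T_comm := C.T_symm
  T_add a b c := by rw [map_add, LinearMap.add_apply]
  T_smul t a b := by rw [map_smul, LinearMap.smul_apply, smul_eq_mul]
  cr_comm := C.cr_symm
  cr_add a b c := by rw [map_add, LinearMap.add_apply]
  cr_smul t a b := by rw [map_smul, LinearMap.smul_apply]
  sh_add := C.sh_add
  sh_smul := C.sh_smul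
  N_add a b := by rw [C.N_add, C.T_symm (C.sh a) b]
  N_smul := C.N_smul
  N_ne := C.N_ne
  T_cr a b c := by rw [← C.T_cr, C.T_symm]
  sh_sh := C.sh_sh
  N_sh a := by
    by_cases ha : a = 0
    · have hs : C.sh 0 = 0 := by
        have := C.sh_smul 0 0
        simpa using this
      have hN : C.N 0 = 0 := by
        have := C.N_smul 0 0
        simpa using this
      rw [ha, hs, hN]; ring
    · have hs : C.sh 0 = 0 := by
        have := C.sh_smul 0 0
        simpa using this
      have h1 : C.sh a ≠ 0 := by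
        intro h0
        have h2 := C.sh_sh a
        rw [h0, hs] at h2
        exact (smul_ne_zero (C.N_ne a ha) ha) h2.symm
      have h2 := C.sh_sh (C.sh a)
      rw [C.sh_sh a, C.sh_smul] at h2
      have h3 : (C.N a ^ 2 - C.N (C.sh a)) • C.sh a = 0 := by
        rw [sub_smul, h2, sub_self]
      exact (sub_eq_zero.1 ((smul_eq_zero.1 h3).resolve_right h1)).symm
  N_e := by
    have h := C.sh_sh C.one
    rw [C.sh_one, C.sh_one] at h
    have h3 : (1 - C.N C.one) • C.one = 0 := by
      rw [sub_smul, one_smul, ← h, sub_self]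
    exact (sub_eq_zero.1 ((smul_eq_zero.1 h3).resolve_right C.one_ne)).symm
  sh_e := C.sh_one
  base b := by rw [C.cr_one]; abel

/-- A finite anisotropic cubic norm structure is that of a finite field `E` with an automorphism of order dividing
three. -/
theorem exists_std [Finite F] [Finite J] (C : CubicNorm F J) :
    ∃ (E : Type u) (_ : Field E) (_ : Finite E) (σ : E ≃+* E) (φ : F →+* E) (e : J ≃+ E),
      (∀ a, σ (σ (σ a)) = a) ∧ (∀ a, σ a = a ↔ ∃ t, φ t = a) ∧ (∀ t a, e (t • a) = φ t * e a) ∧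
      (∀ a, φ (C.N a) = nrm σ (e a)) ∧ (∀ a, e (C.sh a) = shp σ (e a)) ∧
      (∀ a b, φ (C.T a b) = trc σ (e a) (e b)) ∧ (∀ a b, e (C.cr a b) = crs σ (e a) (e b)) ∧
      ((∀ a, σ a = a) ∨ ∃ q : ℕ, Nat.card E = q ^ 3 ∧ ∀ a, σ a = a ^ q) := by
  rcases C.scalar_or_cubic with h | ⟨K, _, _, L, hfr, he, hN, hsh, hT⟩
  · obtain ⟨L, he, hN, hsh, hT, hcr⟩ := C.exists_scalar h
    refine ⟨F, inferInstance, inferInstance, RingEquiv.refl F, RingHom.id F, L.toAddEquiv, fun a => rfl,
      fun a => ⟨fun _ => ⟨a, rfl⟩, fun _ => rfl⟩, fun t a => ?_, fun a => ?_, fun a => ?_, fun a b => ?_,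
      fun a b => ?_, Or.inl fun a => rfl⟩
    · change L (t • a) = t * L a
      rw [map_smul, smul_eq_mul]
    · change C.N a = nrm (RingEquiv.refl F) (L a)
      rw [hN]; simp only [nrm, RingEquiv.refl_apply]; ring
    · change L (C.sh a) = shp (RingEquiv.refl F) (L a)
      rw [hsh]; simp only [shp, RingEquiv.refl_apply]; ring
    · change C.T a b = trc (RingEquiv.refl F) (L a) (L b)
      rw [hT]; simp only [trc, RingEquiv.refl_apply]; ring
    · change L (C.cr a b) = crs (RingEquiv.refl F) (L a) (L b)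
      rw [hcr]; simp only [crs, RingEquiv.refl_apply]; ring
  · have hfinK : Finite K := Finite.of_equiv J L.toEquiv
    have : Fintype F := Fintype.ofFinite F
    have : FiniteDimensional F K := Module.finite_of_finrank_eq_succ hfr
    have hq : Nat.card K = Nat.card F ^ 3 := by
      rw [Module.natCard_eq_pow_finrank (K := F), hfr]
    let s : K ≃ₐ[F] K := FiniteField.frobeniusAlgEquivOfAlgebraic F K
    have hs : ∀ x, s x = x ^ Nat.card F := fun x => by
      rw [Nat.card_eq_fintype_card]; rfl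
    have hs3 : ∀ x, s (s (s x)) = x := by
      intro x
      rw [hs, hs, hs, ← pow_mul, ← pow_mul]
      have : Fintype K := Fintype.ofFinite K
      have h2 := FiniteField.pow_card x
      rw [← Nat.card_eq_fintype_card, hq] at h2
      rw [show Nat.card F * (Nat.card F * Nat.card F) = Nat.card F ^ 3 by ring]
      exact h2
    have hfix : ∀ a, s a = a ↔ ∃ t, algebraMap F K t = a := by
      intro a
      constructor
      · intro ha
        have : IsGalois F K := inferInstance
        refine (IsGalois.mem_range_algebraMap_iff_fixed a).2 ?_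
        intro f
        obtain ⟨n, rfl⟩ := (FiniteField.bijective_frobeniusAlgEquivOfAlgebraic_pow F K).2 f
        change (s ^ n.1) a = a
        have : ∀ m : ℕ, (s ^ m) a = a := by
          intro m
          induction m with
          | zero => rfl
          | succ m ih => rw [pow_succ, AlgEquiv.mul_apply, ha, ih]
        exact this _
      · rintro ⟨t, rfl⟩
        exact s.commutes t
    have hnorm : ∀ x : K, algebraMap F K (Algebra.norm F x) = x * s x * s (s x) := by
      intro x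
      rw [FiniteField.algebraMap_norm_eq_prod_pow, hfr, Finset.prod_range_succ, Finset.prod_range_succ,
        Finset.prod_range_succ, Finset.prod_range_zero, hs, hs, ← pow_mul]
      ring_nf
    have htr : ∀ x : K, algebraMap F K (Algebra.trace F K x) = x + s x + s (s x) := by
      intro x
      rw [FiniteField.algebraMap_trace_eq_sum_pow, hfr, Finset.sum_range_succ, Finset.sum_range_succ,
        Finset.sum_range_succ, Finset.sum_range_zero, hs, hs, ← pow_mul]
      ring_nf
    have hs0 : ∀ x, s x = 0 → x = 0 := fun x hx => (map_eq_zero s).1 hx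
    have hsh' : ∀ a, L (C.sh a) = s (L a) * s (s (L a)) := by
      intro a
      rw [hsh, hN, hnorm]
      by_cases ha : L a = 0
      · rw [ha]; simp
      · field_simp
    refine ⟨K, inferInstance, inferInstance, s.toRingEquiv, algebraMap F K, L.toAddEquiv, hs3, hfix,
      fun t a => ?_, fun a => ?_, fun a => ?_, fun a b => ?_, fun a b => ?_, Or.inr ⟨Nat.card F, hq, hs⟩⟩
    · change L (t • a) = algebraMap F K t * L a
      rw [map_smul, Algebra.smul_def]
    · change algebraMap F K (C.N a) = L a * s (L a) * s (s (L a))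
      rw [hN, hnorm]
    · exact hsh' a
    · change algebraMap F K (C.T a b) = L a * L b + s (L a * L b) + s (s (L a * L b))
      rw [hT, htr]
    · change L (C.cr a b) = s (L a) * s (s (L b)) + s (s (L a)) * s (L b)
      have h1 : L (C.cr a b) = L (C.sh (a + b)) - L (C.sh a) - L (C.sh b) := by
        rw [C.sh_add, map_add, map_add]; abel
      rw [h1, hsh', hsh', hsh', map_add, map_add, map_add]
      ring

end Alg

/-! ## The relations over the field -/

theorem kk_eq_one {G : Type u} [Group G] {a b : G} (h : a * b = b * a) : kk a b = 1 := by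
  unfold kk
  rw [mul_assoc, h]
  group

/-- Relations over a cubic norm structure give relations over a field. -/
theorem hexRel_of_hexJ {G : Type u} [Group G] {F : Type v} {J : Type w} [Field F] [AddCommGroup J] [Module F J]
    {C : CubicSys F J} {x1 x3 x5 : J → G} {x2 x4 x6 : F → G} (h : HexJ C x1 x3 x5 x2 x4 x6)
    {E : Type*} [Field E] {σ : E ≃+* E} {φ : F →+* E} {e : J ≃+ E} {ψ : E → F} (hψ : ∀ t, ψ (φ t) = t)
    (h3 : ∀ a, σ (σ (σ a)) = a) (hfix : ∀ a, σ a = a ↔ ∃ t, φ t = a) (hsm : ∀ t a, e (t • a) = φ t * e a)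
    (hN : ∀ a, φ (C.N a) = nrm σ (e a)) (hsh : ∀ a, e (C.sh a) = shp σ (e a))
    (hT : ∀ a b, φ (C.T a b) = trc σ (e a) (e b)) (hcr : ∀ a b, e (C.cr a b) = crs σ (e a) (e b)) :
    HexRel σ (fun a => x1 (e.symm a)) (fun a => x2 (ψ a)) (fun a => x3 (e.symm a)) (fun a => x4 (ψ a))
      (fun a => x5 (e.symm a)) (fun a => x6 (ψ a)) := by
  have hadd : ∀ a b, σ a = a → σ b = b → ψ (a + b) = ψ a + ψ b := by
    intro a b ha hb
    obtain ⟨s, rfl⟩ := (hfix a).1 ha
    obtain ⟨t, rfl⟩ := (hfix b).1 hb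
    rw [← map_add, hψ, hψ, hψ]
  refine
    { cube := h3
      add1 := fun a b => by rw [map_add, h.add1]
      add2 := fun a b ha hb => by rw [hadd a b ha hb, h.add2]
      add3 := fun a b => by rw [map_add, h.add3]
      add4 := fun a b ha hb => by rw [hadd a b ha hb, h.add4]
      add5 := fun a b => by rw [map_add, h.add5]
      add6 := fun a b ha hb => by rw [hadd a b ha hb, h.add6]
      c12 := fun a t _ => kk_eq_one (h.r12 _ _)
      c13 := fun a b => ?_
      c14 := fun a t _ => kk_eq_one (h.r14 _ _)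
      c15 := fun a b => ?_
      c16 := fun a t ht => ?_
      c23 := fun a t _ => kk_eq_one (h.r23 _ _)
      c24 := fun a t _ _ => kk_eq_one (h.r24 _ _)
      c25 := fun a t _ => kk_eq_one (h.r25 _ _)
      c26 := fun a b ha hb => ?_
      c34 := fun a t _ => kk_eq_one (h.r34 _ _)
      c35 := fun a b => ?_
      c36 := fun a t _ => kk_eq_one (h.r36 _ _)
      c45 := fun a t _ => kk_eq_one (h.r45 _ _)
      c46 := fun a t _ _ => kk_eq_one (h.r46 _ _)
      c56 := fun a t _ => kk_eq_one (h.r56 _ _) }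
  · obtain ⟨a, rfl⟩ := e.surjective a
    obtain ⟨b, rfl⟩ := e.surjective b
    rw [← hT, hψ, e.symm_apply_apply, e.symm_apply_apply, h.r13]
  · obtain ⟨a, rfl⟩ := e.surjective a
    obtain ⟨b, rfl⟩ := e.surjective b
    rw [← hsh, ← hsh, ← hT, ← hT, ← map_neg, hψ, hψ, ← hcr, e.symm_apply_apply, e.symm_apply_apply,
      e.symm_apply_apply, h.r15]
  · obtain ⟨a, rfl⟩ := e.surjective a
    obtain ⟨t, rfl⟩ := (hfix t).1 ht
    rw [← hsh, ← hN, ← hsm, ← map_mul, ← map_neg, ← map_pow, ← map_mul, ← hsm, ← map_neg, hψ, hψ, hψ,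
      e.symm_apply_apply, e.symm_apply_apply, e.symm_apply_apply, h.r16]
  · obtain ⟨s, rfl⟩ := (hfix a).1 ha
    obtain ⟨t, rfl⟩ := (hfix b).1 hb
    rw [← map_mul, hψ, hψ, hψ, h.r26]
  · obtain ⟨a, rfl⟩ := e.surjective a
    obtain ⟨b, rfl⟩ := e.surjective b
    rw [← hT, hψ, e.symm_apply_apply, e.symm_apply_apply, h.r35]

/-- **A finite hexagon (structure theorem) is that of `G₂(E)` (`σ = 1`) or `³D₄` (`σ` = Frobenius of order 3).** -/
theorem exists_hexPar_of_hex {G : Type u} [Group G] [Finite G] {X : ZMod (2 * 6) → Subgroup G} (H : Hex X) :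
    ∃ (E : Type) (_ : Field E) (_ : Finite E) (σ : E ≃+* E) (x1 x2 x3 x4 x5 x6 : E → G),
      HexPar σ X x1 x2 x3 x4 x5 x6 ∧ ((∀ a, σ a = a) ∨ ∃ q : ℕ, Nat.card E = q ^ 3 ∧ ∀ a, σ a = a ^ q) := by
  obtain ⟨e1, he1, he1'⟩ := H.sys.exists_ne_one 1
  obtain ⟨e6, he6, he6'⟩ := H.sys.exists_ne_one 6
  obtain ⟨μ1, μ6, st, y, hG⟩ := HexGOfHex.hexG_of_hex H he1 he1' he6 he6'
  obtain ⟨F, _, _, J, _, _, x1, x5, x2, x4, x6, N, ε, hF⟩ := HexField.exists_hexF hG
  obtain ⟨C, x3, hJ, inj3, mem3⟩ := exists_hexJ hF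
  have : Finite J := Finite.of_injective x1 hF.inj1
  obtain ⟨E, _, _, σ, φ, e, h3, hfix, hsm, hN, hsh, hT, hcr, hcase⟩ := exists_std (toNorm C)
  have hψ : ∀ t, Function.invFun φ (φ t) = t := Function.leftInverse_invFun φ.injective
  have hψ' : ∀ a, σ a = a → φ (Function.invFun φ a) = a := by
    intro a ha
    obtain ⟨t, rfl⟩ := (hfix a).1 ha
    rw [hψ]
  refine ⟨E, inferInstance, inferInstance, σ, _, _, _, _, _, _,
    ⟨hexRel_of_hexJ (ψ := Function.invFun φ) hJ hψ h3 hfix hsm hN hsh hT hcr, ?_, ?_, ?_, ?_, ?_, ?_, ?_, ?_, ?_, ?_,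
      ?_, ?_⟩, hcase⟩
  · exact fun a b h => e.symm.injective (hF.inj1 h)
  · intro a b ha hb h
    rw [← hψ' a ha, ← hψ' b hb, hF.inj2 h]
  · exact fun a b h => e.symm.injective (inj3 h)
  · intro a b ha hb h
    rw [← hψ' a ha, ← hψ' b hb, hF.inj4 h]
  · exact fun a b h => e.symm.injective (hF.inj5 h)
  · intro a b ha hb h
    rw [← hψ' a ha, ← hψ' b hb, hF.inj6 h]
  · intro g
    rw [hF.mem1]
    constructor
    · rintro ⟨a, rfl⟩; exact ⟨e a, by simp only [e.symm_apply_apply]⟩
    · rintro ⟨a, rfl⟩; exact ⟨_, rfl⟩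
  · intro g
    rw [hF.mem2]
    constructor
    · rintro ⟨a, rfl⟩; exact ⟨φ a, (hfix _).2 ⟨a, rfl⟩, by simp only [hψ]⟩
    · rintro ⟨a, _, rfl⟩; exact ⟨_, rfl⟩
  · intro g
    rw [mem3]
    constructor
    · rintro ⟨a, rfl⟩; exact ⟨e a, by simp only [e.symm_apply_apply]⟩
    · rintro ⟨a, rfl⟩; exact ⟨_, rfl⟩
  · intro g
    rw [hF.mem4]
    constructor
    · rintro ⟨a, rfl⟩; exact ⟨φ a, (hfix _).2 ⟨a, rfl⟩, by simp only [hψ]⟩
    · rintro ⟨a, _, rfl⟩; exact ⟨_, rfl⟩
  · intro g
    rw [hF.mem5]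
    constructor
    · rintro ⟨a, rfl⟩; exact ⟨e a, by simp only [e.symm_apply_apply]⟩
    · rintro ⟨a, rfl⟩; exact ⟨_, rfl⟩
  · intro g
    rw [hF.mem6]
    constructor
    · rintro ⟨a, rfl⟩; exact ⟨φ a, (hfix _).2 ⟨a, rfl⟩, by simp only [hψ]⟩
    · rintro ⟨a, _, rfl⟩; exact ⟨_, rfl⟩

/-- **Output of [6], G side**: the relations of `G₂(E)` or `³D₄` in a finite group with a hexagonal root system. -/
theorem exists_hexPar {G : Type u} [Group G] [Finite G] (R : RootSys 6 G) :
    ∃ (E : Type) (_ : Field E) (_ : Finite E) (σ : E ≃+* E) (x1 x2 x3 x4 x5 x6 : E → G),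
      (HexPar σ R.X x1 x2 x3 x4 x5 x6 ∨ HexPar σ (fun i => R.X (i + 1)) x1 x2 x3 x4 x5 x6) ∧
      ((∀ a, σ a = a) ∨ ∃ q : ℕ, Nat.card E = q ^ 3 ∧ ∀ a, σ a = a ^ q) := by
  rcases HexS.hex_of_rootSys R with H | H
  · obtain ⟨E, _, _, σ, x1, x2, x3, x4, x5, x6, h, hc⟩ := exists_hexPar_of_hex H
    exact ⟨E, inferInstance, inferInstance, σ, x1, x2, x3, x4, x5, x6, Or.inl h, hc⟩
  · obtain ⟨E, _, _, σ, x1, x2, x3, x4, x5, x6, h, hc⟩ := exists_hexPar_of_hex H
    exact ⟨E, inferInstance, inferInstance, σ, x1, x2, x3, x4, x5, x6, Or.inr h, hc⟩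

end Cfsg.Agent.SplitTwo.HexFinal
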