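import Mathlib
import Cfsg.Agent.SplitTwo.HexCo

/-!
# The positive relations of a finite Moufang hexagon (S1144, m = 6)

`HexPos K`: coordinates `x1, …, x6` of the six positive root groups with the relations of
Tits-Weiss (16.8) for the cubic norm structure `K : CubicNorm F J`; here
`κ u v = u⁻¹ v u v⁻¹` (`= [u, v⁻¹]` of Tits-Weiss).
-/

set_option autoImplicit false

namespace Cfsg.Agent.SplitTwo

open QuadBase

/-- The positive relations of a Moufang hexagon. -/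
structure HexPos {G : Type*} [Group G] (U1 U2 U3 U4 U5 U6 : Subgroup G) {F J : Type*} [Field F]
    [AddCommGroup J] [Module F J] (K : CubicNorm F J) where
  x1 : J → G
  x3 : J → G
  x5 : J → G
  x2 : F → G
  x4 : F → G
  x6 : F → G
  mem1 : ∀ a, x1 a ∈ U1
  mem2 : ∀ a, x2 a ∈ U2
  mem3 : ∀ a, x3 a ∈ U3
  mem4 : ∀ a, x4 a ∈ U4
  mem5 : ∀ a, x5 a ∈ U5
  mem6 : ∀ a, x6 a ∈ U6
  surj1 : ∀ g ∈ U1, ∃ a, x1 a = g
  surj2 : ∀ g ∈ U2, ∃ a, x2 a = g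
  surj3 : ∀ g ∈ U3, ∃ a, x3 a = g
  surj4 : ∀ g ∈ U4, ∃ a, x4 a = g
  surj5 : ∀ g ∈ U5, ∃ a, x5 a = g
  surj6 : ∀ g ∈ U6, ∃ a, x6 a = g
  i1 : Function.Injective x1
  i2 : Function.Injective x2
  i3 : Function.Injective x3
  i4 : Function.Injective x4
  i5 : Function.Injective x5
  i6 : Function.Injective x6
  add1 : ∀ a b, x1 (a + b) = x1 a * x1 b
  add2 : ∀ a b, x2 (a + b) = x2 a * x2 b
  add3 : ∀ a b, x3 (a + b) = x3 a * x3 b
  add4 : ∀ a b, x4 (a + b) = x4 a * x4 b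
  add5 : ∀ a b, x5 (a + b) = x5 a * x5 b
  add6 : ∀ a b, x6 (a + b) = x6 a * x6 b
  c12 : ∀ a b, Commute (x1 a) (x2 b)
  c14 : ∀ a b, Commute (x1 a) (x4 b)
  c23 : ∀ a b, Commute (x2 a) (x3 b)
  c24 : ∀ a b, Commute (x2 a) (x4 b)
  c25 : ∀ a b, Commute (x2 a) (x5 b)
  c34 : ∀ a b, Commute (x3 a) (x4 b)
  c36 : ∀ a b, Commute (x3 a) (x6 b)
  c45 : ∀ a b, Commute (x4 a) (x5 b)
  c46 : ∀ a b, Commute (x4 a) (x6 b)
  c56 : ∀ a b, Commute (x5 a) (x6 b)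
  k13 : ∀ a c, κ (x1 a) (x3 c) = x2 (-K.T a c)
  k35 : ∀ c b, κ (x3 c) (x5 b) = x4 (-K.T c b)
  k26 : ∀ t u, κ (x2 t) (x6 u) = x4 (-(t * u))
  k15 : ∀ a b, κ (x1 a) (x5 b) = x2 (K.T (K.sh a) b) * x3 (-K.cr a b) * x4 (K.T a (K.sh b))
  k16 : ∀ a t, κ (x1 a) (x6 t) =
    x2 (t * K.N a) * x3 (-(t • K.sh a)) * x4 (t ^ 2 * K.N a) * x5 (t • a)

/-- The coordinates give the positive relations. -/
def HexPos.ofCo {G : Type*} [Group G] {U1 U2 U3 U4 U5 U6 : Subgroup G} {F J : Type*} [Field F]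
    [AddCommGroup J] [Module F J] (C : HexCo.Co U1 U2 U3 U4 U5 U6 F J) :
    HexPos U1 U2 U3 U4 U5 U6 C.cubic where
  x1 := C.x1
  x2 := C.x2
  x3 := C.x3
  x4 := C.x4
  x5 := C.x5
  x6 := C.x6
  mem1 := C.mem1
  mem2 := C.mem2
  mem3 := C.mem3
  mem4 := C.mem4
  mem5 := C.mem5
  mem6 := C.mem6
  surj1 := C.surj1
  surj2 := C.surj2
  surj3 := C.surj3
  surj4 := C.surj4
  surj5 := C.surj5
  surj6 := C.surj6
  i1 := fun _ _ h => C.i1 h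
  i2 := fun _ _ h => C.i2 h
  i3 := fun _ _ h => C.i3 h
  i4 := fun _ _ h => C.i4 h
  i5 := fun _ _ h => C.i5 h
  i6 := fun _ _ h => C.i6 h
  add1 := C.add1
  add2 := C.add2
  add3 := C.add3
  add4 := C.add4
  add5 := C.add5
  add6 := C.add6
  c12 := C.c12
  c14 := C.c14
  c23 := C.c23
  c24 := C.c24
  c25 := C.c25
  c34 := C.c34
  c36 := C.c36
  c45 := C.c45
  c46 := C.c46
  c56 := C.c56
  k13 := C.k13
  k35 := fun c b => by
    rw [C.k35, C.S_eq, C.T_comm]; rfl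
  k26 := C.k26
  k15 := fun a b => by
    rw [C.k15, C.P_eq, C.Q_eq, C.T_comm b]; rfl
  k16 := fun a t => by
    rw [C.k16, C.B_eq, C.R_eq]; rfl

end Cfsg.Agent.SplitTwo
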