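import Mathlib

/-!
S1144, part [N]: a nilpotent normal subgroup `U` of the Borel subgroup `B` of a rank two geometry,
containing every nilpotent normal subgroup of `B` and transitive on the chambers opposite to the given
one, is a `p`-group, and both parameters are powers of `p`. Everything is stated locally: two subgroups
`P₁`, `P₂` containing `B`, with normal subgroups `K₁`, `K₂` (the kernels of `Pᵢ` on `Pᵢ/B`).
-/

set_option autoImplicit false
set_option linter.unusedSectionVars false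
set_option linter.style.haveILetI false

namespace Cfsg.Agent.SplitTwo.PGroup168

variable {G : Type*} [Group G] [Finite G]

/-! ### Sylow subgroups of nilpotent subgroups -/

/-- The Sylow `r`-subgroup of a nilpotent subgroup. -/
noncomputable def syl (r : ℕ) [Fact r.Prime] (U : Subgroup G) : Subgroup G :=
  ((default : Sylow r U) : Subgroup U).map U.subtype

section syl

variable {U : Subgroup G} {r s : ℕ} [Fact r.Prime] [Fact s.Prime]

theorem syl_le : syl r U ≤ U := by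
  rintro _ ⟨x, _, rfl⟩
  exact x.2

theorem isPGroup_syl : IsPGroup r (syl r U) := (default : Sylow r U).isPGroup'.map _

theorem card_syl : Nat.card (syl r U) = r ^ (Nat.card U).factorization r := by
  have h1 : Nat.card (syl r U) = Nat.card ((default : Sylow r U) : Subgroup U) :=
    Nat.card_congr (((default : Sylow r U) : Subgroup U).equivMapOfInjective U.subtype
      U.subtype_injective).symm.toEquiv
  rw [h1]
  exact (default : Sylow r U).card_eq_multiplicity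

theorem normal_syl (h : Group.IsNilpotent U) (P : Sylow r U) : (P : Subgroup U).Normal :=
  (Group.isNilpotent_of_finite_tfae.out 0 3 rfl rfl).1 h r inferInstance P

theorem mem_syl (h : Group.IsNilpotent U) {u : G} (hu : u ∈ U) {k : ℕ} (hk : u ^ r ^ k = 1) :
    u ∈ syl r U := by
  have h1 : IsPGroup r (Subgroup.zpowers (⟨u, hu⟩ : U)) := by
    rintro ⟨x, n, rfl⟩
    refine ⟨k, Subtype.ext ?_⟩
    have h2 : (⟨u, hu⟩ : U) ^ r ^ k = 1 := Subtype.ext hk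
    change (((⟨u, hu⟩ : U) ^ n) ^ r ^ k : U) = 1
    rw [← zpow_natCast, ← zpow_mul, mul_comm, zpow_mul, zpow_natCast, h2, one_zpow]
  obtain ⟨Q, hQ⟩ := h1.exists_le_sylow
  have := normal_syl h (default : Sylow r U)
  obtain ⟨g, hg⟩ := MulAction.exists_smul_eq U (default : Sylow r U) Q
  rw [Sylow.smul_eq_of_normal] at hg
  rw [← hg] at hQ
  exact ⟨⟨u, hu⟩, hQ (Subgroup.mem_zpowers _), rfl⟩

theorem le_syl (h : Group.IsNilpotent U) {V : Subgroup G} (hV : V ≤ U) (hp : IsPGroup r V) :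
    V ≤ syl r U := by
  intro v hv
  obtain ⟨k, hk⟩ := hp ⟨v, hv⟩
  exact mem_syl h (hV hv) (congrArg Subtype.val hk)

theorem exists_pow {u : G} (hu : u ∈ syl r U) : ∃ k : ℕ, u ^ r ^ k = 1 := by
  obtain ⟨k, hk⟩ := isPGroup_syl (U := U) (r := r) ⟨u, hu⟩
  exact ⟨k, congrArg Subtype.val hk⟩

theorem conj_syl (h : Group.IsNilpotent U) {b : G} (hb : ∀ u ∈ U, b * u * b⁻¹ ∈ U) {u : G}
    (hu : u ∈ syl r U) : b * u * b⁻¹ ∈ syl r U := by
  obtain ⟨k, hk⟩ := exists_pow hu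
  refine mem_syl h (hb u (syl_le hu)) (k := k) ?_
  rw [conj_pow, hk, mul_one, mul_inv_cancel]

theorem comm_syl (h : Group.IsNilpotent U) (hrs : r ≠ s) {x y : G} (hx : x ∈ syl r U)
    (hy : y ∈ syl s U) : x * y = y * x := by
  obtain ⟨x, hx, rfl⟩ := hx
  obtain ⟨y, hy, rfl⟩ := hy
  have h1 := normal_syl h (default : Sylow r U)
  have h2 := normal_syl h (default : Sylow s U)
  have h3 : Disjoint ((default : Sylow r U) : Subgroup U) ((default : Sylow s U) : Subgroup U) :=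
    IsPGroup.disjoint_of_ne r s hrs _ _ (default : Sylow r U).isPGroup' (default : Sylow s U).isPGroup'
  have h4 := Subgroup.commute_of_normal_of_disjoint _ _ h1 h2 h3 x y hx hy
  exact congrArg Subtype.val h4

end syl

/-! ### The largest normal `r`-subgroup of the kernel -/

theorem exists_largest (K : Subgroup G) (r : ℕ) [Fact r.Prime] : ∃ X : Subgroup G, X ≤ K ∧
    (∀ k ∈ K, ∀ x ∈ X, k * x * k⁻¹ ∈ X) ∧ IsPGroup r X ∧ ∀ Y : Subgroup G, Y ≤ K →
    (∀ k ∈ K, ∀ x ∈ Y, k * x * k⁻¹ ∈ Y) → IsPGroup r Y → Y ≤ X := by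
  set S : Set (Subgroup G) := {X | X ≤ K ∧ (∀ k ∈ K, ∀ x ∈ X, k * x * k⁻¹ ∈ X) ∧ IsPGroup r X} with hS
  have hfin : S.Finite := Set.toFinite _
  have hne : S.Nonempty := ⟨⊥, bot_le, by
    intro k _ x hx
    rw [Subgroup.mem_bot] at hx ⊢
    rw [hx, mul_one, mul_inv_cancel], IsPGroup.of_bot⟩
  obtain ⟨X, hX⟩ := hfin.exists_maximal hne
  obtain ⟨⟨h1, h2, h3⟩, hmax⟩ := hX
  refine ⟨X, h1, h2, h3, fun Y hY hYn hYp => ?_⟩
  have h4 : X ⊔ Y ∈ S := by
    refine ⟨sup_le h1 hY, ?_, ?_⟩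
    · intro k hk x hx
      have h5 : (X ⊔ Y).map (MulAut.conj k).toMonoidHom ≤ X ⊔ Y := by
        rw [Subgroup.map_sup]
        refine sup_le_sup ?_ ?_
        · rintro _ ⟨x, hx, rfl⟩
          exact h2 k hk x hx
        · rintro _ ⟨x, hx, rfl⟩
          exact hYn k hk x hx
      exact h5 ⟨x, hx, rfl⟩
    · refine h3.to_sup_of_normal_left' hYp ?_
      intro y hy
      rw [Subgroup.mem_normalizer_iff]
      intro x
      refine ⟨fun hx => h2 y (hY hy) x hx, fun hx => ?_⟩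
      have := h2 y⁻¹ (hY (inv_mem hy)) _ hx
      have e : y⁻¹ * (y * x * y⁻¹) * y⁻¹⁻¹ = x := by group
      rwa [e] at this
  exact le_sup_right.trans (hmax h4 le_sup_left)

section local_

variable {B U P₁ K₁ P₂ K₂ : Subgroup G}

/-- One of the two minimal parabolic subgroups: `K` is the kernel of the action of `P` on `P/B`, which
is primitive of degree `q + 1`; `U` is a group of order `q ε` modulo `K`. -/
structure Side (B U P K : Subgroup G) (q ε : ℕ) : Prop where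
  B_le : B ≤ P
  K_le : K ≤ B
  conj : ∀ g ∈ P, ∀ k ∈ K, g * k * g⁻¹ ∈ K
  prim : ∀ N : Subgroup G, N ≤ P → (∀ g ∈ P, ∀ n ∈ N, g * n * g⁻¹ ∈ N) →
    N ≤ K ∨ ∀ g ∈ P, ∃ n ∈ N, ∃ b ∈ B, g = n * b
  q_gt : 1 < q
  index : K.relIndex U = q * ε
  eps : ε = 1 ∨ (ε = 2 ∧ 4 ∣ q)

/-- `U` is the Fitting subgroup of `B`. -/
structure Fit (B U : Subgroup G) : Prop where
  le : U ≤ B
  conj : ∀ b ∈ B, ∀ u ∈ U, b * u * b⁻¹ ∈ U
  nil : Group.IsNilpotent U
  max : ∀ V : Subgroup G, V ≤ B → (∀ b ∈ B, ∀ v ∈ V, b * v * b⁻¹ ∈ V) → Group.IsNilpotent V → V ≤ U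

variable (hU : Fit B U)

include hU in
/-- `U_r ⊓ K` is normal in `P`. -/
theorem inf_conj {q ε : ℕ} (h : Side B U P₁ K₁ q ε) (r : ℕ) [Fact r.Prime] {g : G} (hg : g ∈ P₁) {x : G}
    (hx : x ∈ syl r U ⊓ K₁) : g * x * g⁻¹ ∈ syl r U ⊓ K₁ := by
  obtain ⟨X, hX1, hX2, hX3, hX4⟩ := exists_largest K₁ r
  have hcon : ∀ g ∈ P₁, ∀ x ∈ X, g * x * g⁻¹ ∈ X := by
    intro g hg x hx
    refine hX4 (X.map (MulAut.conj g).toMonoidHom) ?_ ?_ ?_ ⟨x, hx, rfl⟩
    · rintro _ ⟨x, hx, rfl⟩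
      exact h.conj g hg x (hX1 hx)
    · rintro k hk _ ⟨x, hx, rfl⟩
      refine ⟨(g⁻¹ * k * g) * x * (g⁻¹ * k * g)⁻¹, ?_, ?_⟩
      · refine hX2 _ ?_ x hx
        have := h.conj g⁻¹ (inv_mem hg) k hk
        rwa [inv_inv] at this
      · change g * ((g⁻¹ * k * g) * x * (g⁻¹ * k * g)⁻¹) * g⁻¹ = k * (g * x * g⁻¹) * k⁻¹
        group
    · exact hX3.map _
  have h1 : X ≤ syl r U ⊓ K₁ := by
    refine le_inf (le_syl hU.nil (hU.max X (hX1.trans h.K_le)
      (fun b hb => hcon b (h.B_le hb)) ?_) hX3) hX1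
    exact hX3.isNilpotent
  have h2 : syl r U ⊓ K₁ ≤ X := by
    refine hX4 _ inf_le_right ?_ (isPGroup_syl.to_le inf_le_left)
    intro k hk x hx
    exact ⟨conj_syl hU.nil (hU.conj k (h.K_le hk)) hx.1, K₁.mul_mem (K₁.mul_mem hk hx.2) (K₁.inv_mem hk)⟩
  exact h1 (hcon g hg x (h2 hx))

/-- `E_r = O_r(K₁ ⊓ K₂)`. -/
noncomputable def EE (r : ℕ) [Fact r.Prime] (U K₁ K₂ : Subgroup G) : Subgroup G := syl r U ⊓ K₁ ⊓ K₂

include hU in
theorem EE_conj_B {q₁ ε₁ q₂ ε₂ : ℕ} (h₁ : Side B U P₁ K₁ q₁ ε₁) (h₂ : Side B U P₂ K₂ q₂ ε₂)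
    (r : ℕ) [Fact r.Prime] {b : G} (hb : b ∈ B) {x : G} (hx : x ∈ EE r U K₁ K₂) :
    b * x * b⁻¹ ∈ EE r U K₁ K₂ :=
  ⟨⟨conj_syl hU.nil (hU.conj b hb) hx.1.1, h₁.conj b (h₁.B_le hb) x hx.1.2⟩,
    h₂.conj b (h₂.B_le hb) x hx.2⟩

theorem not_dvd_mul_eps {q ε r : ℕ} (hr : r.Prime) (heps : ε = 1 ∨ (ε = 2 ∧ 4 ∣ q)) (hrq : ¬ r ∣ q) :
    ¬ r ∣ q * ε := by
  intro h
  rcases hr.dvd_mul.1 h with h | h
  · exact hrq h
  · rcases heps with rfl | ⟨rfl, h4⟩
    · exact hr.one_lt.ne' (Nat.dvd_one.1 h)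
    · have : r = 2 := (Nat.prime_dvd_prime_iff_eq hr Nat.prime_two).1 h
      subst this
      exact hrq (dvd_trans (by norm_num) h4)

theorem conj_subgroupOf_normal {K : Subgroup G} (hK : ∀ g ∈ U, ∀ k ∈ K, g * k * g⁻¹ ∈ K) :
    (K.subgroupOf U).Normal := by
  constructor
  rintro ⟨n, hn⟩ hn' ⟨g, hg⟩
  exact hK g hg n hn'

include hU in
/-- If `r` does not divide `q` then `U_r` is trivial on the panel. -/
theorem syl_le_of_not_dvd {q ε : ℕ} (h : Side B U P₁ K₁ q ε) (r : ℕ) [hr : Fact r.Prime] (hrq : ¬ r ∣ q) :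
    syl r U ≤ K₁ := by
  intro u hu
  obtain ⟨k, hk⟩ := exists_pow hu
  have huU := syl_le hu
  have hn : (K₁.subgroupOf U).Normal :=
    conj_subgroupOf_normal fun g hg => h.conj g (h.B_le (hU.le hg))
  have h1 : (⟨u, huU⟩ : U) ^ (q * ε) ∈ K₁.subgroupOf U := by
    rw [← h.index]
    exact Subgroup.pow_index_mem _ _
  have h2 : u ^ (q * ε) ∈ K₁ := h1
  have hcop : Nat.Coprime (r ^ k) (q * ε) :=
    Nat.Coprime.pow_left _ ((Nat.Prime.coprime_iff_not_dvd hr.out).2 (not_dvd_mul_eps hr.out h.eps hrq))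
  have h3 : u ∈ Subgroup.zpowers (u ^ (q * ε)) := by
    have h4 : (orderOf u).Coprime (q * ε) :=
      Nat.Coprime.coprime_dvd_left (orderOf_dvd_of_pow_eq_one hk) hcop
    obtain ⟨n, hn⟩ := exists_pow_eq_self_of_coprime h4.symm
    rw [Subgroup.mem_zpowers_iff]
    exact ⟨n, by rw [zpow_natCast]; exact hn⟩
  exact (Subgroup.zpowers_le.2 h2) h3

/-- If `r` divides `q` then `U_r` is not trivial on the panel. -/
theorem not_syl_le_of_dvd {q ε : ℕ} (h : Side B U P₁ K₁ q ε) (r : ℕ) [hr : Fact r.Prime] (hrq : r ∣ q) :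
    ¬ syl r U ≤ K₁ := by
  intro hle
  have h1 : ((default : Sylow r U) : Subgroup U) ≤ K₁.subgroupOf U := by
    intro u hu
    exact hle ⟨u, hu, rfl⟩
  have h2 := Subgroup.index_dvd_of_le h1
  have h3 : (K₁.subgroupOf U).index = q * ε := h.index
  rw [h3] at h2
  exact (default : Sylow r U).not_dvd_index (dvd_trans (dvd_mul_of_dvd_left hrq ε) h2)

include hU in
/-- If another prime divides `q₁`, then `E_r` is normal in `P₁`. -/
theorem EE_conj_of_dvd {q₁ ε₁ q₂ ε₂ : ℕ} (h₁ : Side B U P₁ K₁ q₁ ε₁) (h₂ : Side B U P₂ K₂ q₂ ε₂)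
    (r s : ℕ) [Fact r.Prime] [Fact s.Prime] (hrs : s ≠ r) (hs : s ∣ q₁) {g : G} (hg : g ∈ P₁) {x : G}
    (hx : x ∈ EE r U K₁ K₂) : g * x * g⁻¹ ∈ EE r U K₁ K₂ := by
  have hC := h₁.prim (P₁ ⊓ Subgroup.centralizer ((syl r U ⊓ K₁ : Subgroup G) : Set G)) inf_le_left ?_
  · rcases hC with hC | hC
    · exfalso
      refine not_syl_le_of_dvd h₁ s hs ((le_inf ?_ ?_).trans hC)
      · exact (syl_le.trans hU.le).trans h₁.B_le
      · intro u hu
        rw [Subgroup.mem_centralizer_iff]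
        intro y hy
        exact (comm_syl hU.nil hrs.symm hy.1 hu)
    · obtain ⟨n, hn, b, hb, rfl⟩ := hC g hg
      have h3 := EE_conj_B hU h₁ h₂ r hb hx
      have h4 := (Subgroup.mem_centralizer_iff.1 hn.2) (b * x * b⁻¹) h3.1
      have h5 : n * b * x * (n * b)⁻¹ = b * x * b⁻¹ := by
        have h6 : n * b * x * (n * b)⁻¹ = n * (b * x * b⁻¹) * n⁻¹ := by group
        rw [h6, ← h4, mul_inv_cancel_right]
      rw [h5]
      exact h3
  · intro g hg n hn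
    refine ⟨P₁.mul_mem (P₁.mul_mem hg hn.1) (P₁.inv_mem hg), ?_⟩
    apply Subgroup.mem_centralizer_iff.2
    intro y hy
    have h3 := inf_conj hU h₁ r (inv_mem hg) hy
    have h4 := (Subgroup.mem_centralizer_iff.1 hn.2) _ h3
    have h5 : y * (g * n * g⁻¹) = g * ((g⁻¹ * y * g⁻¹⁻¹) * n) * g⁻¹ := by group
    have h6 : g * n * g⁻¹ * y = g * (n * (g⁻¹ * y * g⁻¹⁻¹)) * g⁻¹ := by group
    rw [h5, h6, h4]

include hU in
/-- If `r` does not divide `q₂`, then `E_r` is normal in `P₁`. -/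
theorem EE_conj_of_not_dvd {q₁ ε₁ q₂ ε₂ : ℕ} (h₁ : Side B U P₁ K₁ q₁ ε₁) (h₂ : Side B U P₂ K₂ q₂ ε₂)
    (r : ℕ) [Fact r.Prime] (hr : ¬ r ∣ q₂) {g : G} (hg : g ∈ P₁) {x : G}
    (hx : x ∈ EE r U K₁ K₂) : g * x * g⁻¹ ∈ EE r U K₁ K₂ := by
  have h3 := inf_conj hU h₁ r hg hx.1
  exact ⟨h3, syl_le_of_not_dvd hU h₂ r hr h3.1⟩

include hU in
theorem EE_conj {q₁ ε₁ q₂ ε₂ : ℕ} (h₁ : Side B U P₁ K₁ q₁ ε₁) (h₂ : Side B U P₂ K₂ q₂ ε₂)
    (r : ℕ) [Fact r.Prime] (hbad : ¬ ((∀ s : ℕ, s.Prime → s ∣ q₁ → s = r) ∧ r ∣ q₂)) {g : G}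
    (hg : g ∈ P₁) {x : G} (hx : x ∈ EE r U K₁ K₂) : g * x * g⁻¹ ∈ EE r U K₁ K₂ := by
  by_cases hr : r ∣ q₂
  · have h3 : ∃ s : ℕ, s.Prime ∧ s ∣ q₁ ∧ s ≠ r := by
      by_contra hcon
      push Not at hcon
      exact hbad ⟨hcon, hr⟩
    obtain ⟨s, hs, hs1, hs2⟩ := h3
    haveI : Fact s.Prime := ⟨hs⟩
    exact EE_conj_of_dvd hU h₁ h₂ r s hs2 hs1 hg hx
  · exact EE_conj_of_not_dvd hU h₁ h₂ r hr hg hx

theorem EE_comm (r : ℕ) [Fact r.Prime] (U K₁ K₂ : Subgroup G) : EE r U K₁ K₂ = EE r U K₂ K₁ := by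
  unfold EE
  rw [inf_assoc, inf_comm K₁ K₂, ← inf_assoc]

include hU in
theorem EE_eq_bot {q₁ ε₁ q₂ ε₂ : ℕ} (h₁ : Side B U P₁ K₁ q₁ ε₁) (h₂ : Side B U P₂ K₂ q₂ ε₂)
    (hcore : ∀ V : Subgroup G, V ≤ B → (∀ g ∈ P₁, ∀ v ∈ V, g * v * g⁻¹ ∈ V) →
      (∀ g ∈ P₂, ∀ v ∈ V, g * v * g⁻¹ ∈ V) → V = ⊥)
    (r : ℕ) [Fact r.Prime] (hbad₁ : ¬ ((∀ s : ℕ, s.Prime → s ∣ q₁ → s = r) ∧ r ∣ q₂))
    (hbad₂ : ¬ ((∀ s : ℕ, s.Prime → s ∣ q₂ → s = r) ∧ r ∣ q₁)) : EE r U K₁ K₂ = ⊥ := by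
  apply hcore
  · exact (inf_le_left.trans inf_le_left).trans (syl_le.trans hU.le)
  · exact fun g hg v hv => EE_conj hU h₁ h₂ r hbad₁ hg hv
  · intro g hg v hv
    rw [EE_comm] at hv ⊢
    exact EE_conj hU h₂ h₁ r hbad₂ hg hv

include hU in
theorem relIndex_syl_le {q ε : ℕ} (h : Side B U P₁ K₁ q ε) (r : ℕ) [hr : Fact r.Prime] :
    K₁.relIndex (syl r U) ≤ r ^ (q * ε).factorization r := by
  have hn : (K₁.subgroupOf U).Normal :=
    conj_subgroupOf_normal fun g hg => h.conj g (h.B_le (hU.le hg))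
  have h1 : K₁.relIndex (syl r U) ∣ q * ε := by
    rw [← Subgroup.relIndex_subgroupOf (H := K₁) (syl_le (U := U) (r := r)), ← h.index]
    exact Subgroup.relIndex_dvd_index_of_normal _ _
  have h2 : K₁.relIndex (syl r U) ∣ Nat.card (syl r U) := Subgroup.relIndex_dvd_card _ _
  rw [card_syl, Nat.dvd_prime_pow hr.out] at h2
  obtain ⟨k, _, hk⟩ := h2
  have h0 : q * ε ≠ 0 := by
    have h3 := h.q_gt
    rcases h.eps with h4 | h4
    · rw [h4]
      omega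
    · rw [h4.1]
      omega
  rw [hk] at h1 ⊢
  exact Nat.pow_le_pow_right hr.out.pos ((hr.out.pow_dvd_iff_le_factorization h0).1 h1)

include hU in
/-- The order of `U_r` if `E_r = 1`. -/
theorem factorization_le {q₁ ε₁ q₂ ε₂ : ℕ} (h₁ : Side B U P₁ K₁ q₁ ε₁) (h₂ : Side B U P₂ K₂ q₂ ε₂)
    (r : ℕ) [hr : Fact r.Prime] (hE : EE r U K₁ K₂ = ⊥) :
    (Nat.card U).factorization r ≤ (q₁ * ε₁).factorization r + (q₂ * ε₂).factorization r := by
  have h3 : Nat.card (syl r U) ≤ K₁.relIndex (syl r U) * K₂.relIndex (syl r U) := by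
    refine le_trans (le_of_eq ?_) (Subgroup.relIndex_inf_le)
    rw [← Subgroup.inf_relIndex_right]
    have h4 : K₁ ⊓ K₂ ⊓ syl r U = ⊥ := by
      rw [← hE]
      unfold EE
      ac_rfl
    rw [h4, Subgroup.relIndex_bot_left]
  have h5 := h3.trans (Nat.mul_le_mul (relIndex_syl_le hU h₁ r) (relIndex_syl_le hU h₂ r))
  rw [card_syl, ← pow_add] at h5
  exact (Nat.pow_le_pow_iff_right hr.out.one_lt).1 h5

theorem fact_eps {q ε r : ℕ} (hr : r.Prime) (hq : 1 < q) (heps : ε = 1 ∨ (ε = 2 ∧ 4 ∣ q)) :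
    (q * ε).factorization r = q.factorization r ∨
      ((q * ε).factorization r = q.factorization r + 1 ∧ r = 2 ∧ 2 ≤ q.factorization r) := by
  rcases heps with rfl | ⟨rfl, h4⟩
  · left
    rw [mul_one]
  · rw [Nat.factorization_mul (by omega) (by norm_num), Finsupp.add_apply,
      Nat.Prime.factorization Nat.prime_two]
    by_cases h : r = 2
    · right
      subst h
      refine ⟨by simp, rfl, ?_⟩
      have h5 : 2 ^ 2 ∣ q := by
        norm_num
        exact h4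
      exact (Nat.prime_two.pow_dvd_iff_le_factorization (by omega)).1 h5
    · left
      rw [Finsupp.single_apply, if_neg (Ne.symm h), add_zero]

include hU in
/-- The main result: `U` is a `p`-group and both parameters are powers of `p`. -/
theorem main {q₁ ε₁ q₂ ε₂ m N : ℕ} (h₁ : Side B U P₁ K₁ q₁ ε₁) (h₂ : Side B U P₂ K₂ q₂ ε₂)
    (hcore : ∀ V : Subgroup G, V ≤ B → (∀ g ∈ P₁, ∀ v ∈ V, g * v * g⁻¹ ∈ V) →
      (∀ g ∈ P₂, ∀ v ∈ V, g * v * g⁻¹ ∈ V) → V = ⊥)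
    (hm : 3 ≤ m) (hodd : Odd m → q₁ = q₂) (hN : N ∣ Nat.card U) (hN2 : N ^ 2 = (q₁ * q₂) ^ m) :
    ∃ p : ℕ, p.Prime ∧ IsPGroup p U ∧ (∃ a, q₁ = p ^ a) ∧ ∃ b, q₂ = p ^ b := by
  have hq₁ := h₁.q_gt
  have hq₂ := h₂.q_gt
  have hE : ∀ (r : ℕ) [Fact r.Prime], ¬ ((∀ s : ℕ, s.Prime → s ∣ q₁ → s = r) ∧ r ∣ q₂) →
      ¬ ((∀ s : ℕ, s.Prime → s ∣ q₂ → s = r) ∧ r ∣ q₁) → EE r U K₁ K₂ = ⊥ :=
    fun r _ => EE_eq_bot hU h₁ h₂ hcore r
  have hcount : ∀ r : ℕ, r.Prime → ¬ ((∀ s : ℕ, s.Prime → s ∣ q₁ → s = r) ∧ r ∣ q₂) →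
      ¬ ((∀ s : ℕ, s.Prime → s ∣ q₂ → s = r) ∧ r ∣ q₁) →
      m * (q₁.factorization r + q₂.factorization r) ≤
        2 * ((q₁ * ε₁).factorization r + (q₂ * ε₂).factorization r) := by
    intro r hr hb₁ hb₂
    haveI : Fact r.Prime := ⟨hr⟩
    have h3 := factorization_le hU h₁ h₂ r (hE r hb₁ hb₂)
    have h4 : N.factorization r ≤ (Nat.card U).factorization r :=
      (Nat.factorization_le_iff_dvd (by
        rintro rfl
        have : 0 < (q₁ * q₂) ^ m := by positivity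
        omega) Nat.card_pos.ne').2 hN r
    have h5 := congrArg (fun n => n.factorization r) hN2
    simp only [Nat.factorization_pow, Finsupp.smul_apply, smul_eq_mul] at h5
    rw [Nat.factorization_mul (by omega) (by omega), Finsupp.add_apply] at h5
    omega
  have hex : ∃ p : ℕ, p.Prime ∧ (∀ s : ℕ, s.Prime → s ∣ q₁ → s = p) ∧
      (∀ s : ℕ, s.Prime → s ∣ q₂ → s = p) := by
    rcases Nat.even_or_odd m with hev | hod
    · -- m even
      have hm4 : 4 ≤ m := by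
        obtain ⟨k, hk⟩ := hev
        omega
      have hallbad : ∀ r : ℕ, r.Prime → (r ∣ q₁ ∨ r ∣ q₂) →
          ((∀ s : ℕ, s.Prime → s ∣ q₁ → s = r) ∧ r ∣ q₂) ∨
          ((∀ s : ℕ, s.Prime → s ∣ q₂ → s = r) ∧ r ∣ q₁) := by
        intro r hr hrd
        by_contra hcon
        push Not at hcon
        have h3 := hcount r hr (fun h => hcon.1 h.1 h.2) (fun h => hcon.2 h.1 h.2)
        have h4 : 1 ≤ q₁.factorization r + q₂.factorization r := by
          rcases hrd with h | h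
          · have := (hr.dvd_iff_one_le_factorization (by omega)).1 h
            omega
          · have := (hr.dvd_iff_one_le_factorization (by omega)).1 h
            omega
        have h5 := fact_eps hr hq₁ h₁.eps
        have h6 := fact_eps hr hq₂ h₂.eps
        have h7 : 4 * (q₁.factorization r + q₂.factorization r) ≤
            m * (q₁.factorization r + q₂.factorization r) := Nat.mul_le_mul_right _ hm4
        omega
      obtain ⟨r, hr, hr1⟩ := Nat.exists_prime_and_dvd (n := q₁) (by omega)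
      obtain ⟨s, hs, hs1⟩ := Nat.exists_prime_and_dvd (n := q₂) (by omega)
      rcases hallbad r hr (Or.inl hr1) with ⟨h3, h4⟩ | ⟨h3, h4⟩
      · refine ⟨r, hr, h3, fun t ht htq => ?_⟩
        rcases hallbad t ht (Or.inr htq) with ⟨h5, _⟩ | ⟨h5, h6⟩
        · exact (h5 r hr hr1).symm
        · exact h3 t ht h6
      · refine ⟨r, hr, fun t ht htq => ?_, h3⟩
        rcases hallbad t ht (Or.inl htq) with ⟨_, h6⟩ | ⟨h5, h6⟩
        · exact h3 t ht h6
        · have := h5 s hs hs1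
          have h7 := h3 s hs hs1
          exact this.symm.trans h7
    · -- m odd
      have hqq := hodd hod
      by_cases hr : ∃ r : ℕ, r.Prime ∧ r ≠ 2 ∧ r ∣ q₁
      · obtain ⟨r, hr, hr2, hrq⟩ := hr
        by_contra hcon
        push Not at hcon
        have hb : ¬ ((∀ s : ℕ, s.Prime → s ∣ q₁ → s = r) ∧ r ∣ q₂) := by
          rintro ⟨h3, _⟩
          obtain ⟨s, hs, hs1, hs2⟩ := hcon r hr h3
          rw [← hqq] at hs1
          exact hs2 (h3 s hs hs1)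
        have hb' : ¬ ((∀ s : ℕ, s.Prime → s ∣ q₂ → s = r) ∧ r ∣ q₁) := by
          rintro ⟨h3, _⟩
          rw [← hqq] at h3
          obtain ⟨s, hs, hs1, hs2⟩ := hcon r hr h3
          rw [← hqq] at hs1
          exact hs2 (h3 s hs hs1)
        have h3 := hcount r hr hb hb'
        have h5 := fact_eps hr hq₁ h₁.eps
        have h6 := fact_eps hr hq₂ h₂.eps
        have h4 := (hr.dvd_iff_one_le_factorization (by omega)).1 hrq
        have h7 : 3 * (q₁.factorization r + q₂.factorization r) ≤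
            m * (q₁.factorization r + q₂.factorization r) := Nat.mul_le_mul_right _ hm
        omega
      · push Not at hr
        have h3 : ∀ s : ℕ, s.Prime → s ∣ q₁ → s = 2 := by
          intro s hs hsq
          by_contra hne
          exact hr s hs hne hsq
        exact ⟨2, Nat.prime_two, h3, hqq ▸ h3⟩
  obtain ⟨p, hp, hp₁, hp₂⟩ := hex
  refine ⟨p, hp, ?_, ⟨_, Nat.eq_prime_pow_of_unique_prime_dvd (by omega) (fun {d} hd hdq => hp₁ d hd hdq)⟩,
    ⟨_, Nat.eq_prime_pow_of_unique_prime_dvd (by omega) (fun {d} hd hdq => hp₂ d hd hdq)⟩⟩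
  apply IsPGroup.of_card (n := (Nat.card U).primeFactorsList.length)
  refine Nat.eq_prime_pow_of_unique_prime_dvd Nat.card_pos.ne' (fun {s} hs hsU => ?_)
  by_contra hne
  haveI : Fact s.Prime := ⟨hs⟩
  have hs₁ : ¬ s ∣ q₁ := fun h => hne (hp₁ s hs h)
  have hs₂ : ¬ s ∣ q₂ := fun h => hne (hp₂ s hs h)
  have h3 := hE s (fun h => hs₂ h.2) (fun h => hs₁ h.2)
  have h4 : syl s U = ⊥ := by
    rw [← h3]
    unfold EE
    rw [inf_assoc, left_eq_inf]
    exact le_inf (syl_le_of_not_dvd hU h₁ s hs₁) (syl_le_of_not_dvd hU h₂ s hs₂)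
  have h5 := card_syl (U := U) (r := s)
  rw [h4, Subgroup.card_bot] at h5
  have h6 := (hs.dvd_iff_one_le_factorization Nat.card_pos.ne').1 hsU
  have h7 : 1 < s ^ (Nat.card U).factorization s := Nat.one_lt_pow (by omega) hs.one_lt
  omega

end local_

end Cfsg.Agent.SplitTwo.PGroup168
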