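import Cfsg.Agent.SplitTwo.Glue
import Cfsg.Agent.SplitTwo.PGroup168
import Cfsg.Agent.SplitTwo.Eps168
import Cfsg.Agent.SplitTwo.DihPath605
import Cfsg.Agent.Tits.Opp

/-!
S1144, [N]: in a rank two building with a split group `G` (`m ≥ 3`) the Fitting subgroups of the chamber
stabilisers are `p`-groups, one `p` for all chambers, and both parameters are powers of `p`; if the action on
some panel is not regular, then `p = 2` and the panel has nine chambers.
-/

set_option autoImplicit false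
set_option linter.unusedSectionVars false

namespace Cfsg.Agent.SplitTwo.N168

open Cfsg Cfsg.Agent.Tits.Core Cfsg.Agent.Tits.OppRes Cfsg.Agent.Tits.Rigid
open Cfsg.Agent.SplitTwo.Reducible Cfsg.Agent.SplitTwo.Glue MulAction
open Cfsg.Agent.SplitTwo.Eps168 Cfsg.Agent.SplitTwo.PGroup168
open Subgroup

universe u v

section Building

variable {I : Type*} {M : CoxeterMatrix I} {W : Type*} [Group W] {cs : CoxeterSystem M W}
variable {C : Type u} {Δ : Bldg cs C} [F : Cox cs]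
variable {G : Type v} [Group G] [MulAction G C]
variable {c : C} {U : Subgroup G} (H : Split Δ c U)

include H

/-! ### One panel -/

/-- The group induced by `U` on the panel of type `s` of `c`. -/
def img (s : I) : Subgroup (Equiv.Perm (Δ.Pan s c)) := (U.subgroupOf (H.panStab s)).map (H.perm s)

theorem mem_img {s : I} {v : G} (hv : v ∈ U) : H.perm s ⟨v, H.le_panStab s hv⟩ ∈ img H s :=
  ⟨_, hv, rfl⟩

theorem data (s : I) : Data (H.perm s).range (img H s) ⟨c, Or.inl rfl⟩ := by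
  have hc : c ∈ Δ.Pan s c := Or.inl rfl
  set f := H.perm s with hf
  refine ⟨?_, ?_, ?_, ?_, ?_, ?_⟩
  · rintro ⟨x, hx⟩ ⟨y, hy⟩ ⟨x', hx'⟩ ⟨y', hy'⟩ hxy hxy'
    have h1 := H.delta_Pan hx hy (fun h => hxy (Subtype.ext h))
    have h2 := H.delta_Pan hx' hy' (fun h => hxy' (Subtype.ext h))
    obtain ⟨g, hg1, hg2⟩ := H.trans x y x' y' (h1.trans h2.symm)
    have hg : g ∈ H.panStab s := by
      rw [H.mem_panStab, Pan_eq_Res]
      rw [Pan_eq_Res] at hx hx'
      refine delta_mem_of_mem (y := x') hx' ?_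
      rw [← hg1, H.iso, Δ.symm c x]
      exact inv_mem hx
    exact ⟨f ⟨g, hg⟩, ⟨_, rfl⟩, Subtype.ext hg1, Subtype.ext hg2⟩
  · rintro _ ⟨v, _, rfl⟩
    exact ⟨v, rfl⟩
  · rintro _ ⟨v, hv, rfl⟩
    exact Subtype.ext (H.fix _ hv)
  · rintro _ ⟨r, rfl⟩ hr _ ⟨v, hv, rfl⟩
    refine ⟨r * v * r⁻¹, ?_, by rw [map_mul, map_mul, map_inv]⟩
    exact H.normal (r : G) (congrArg Subtype.val hr) _ hv
  · have h1 := H.nilp
    have h2 : Group.IsNilpotent (U.subgroupOf (H.panStab s)) :=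
      Group.nilpotent_of_mulEquiv (Subgroup.subgroupOfEquivOfLe (H.le_panStab s)).symm
    exact Group.nilpotent_of_surjective (f.subgroupMap (U.subgroupOf (H.panStab s)))
      (f.subgroupMap_surjective _)
  · rintro ⟨x, hx⟩ ⟨y, hy⟩ hxc hyc
    have h1 := H.delta_Pan hc hx (fun h => hxc (Subtype.ext h.symm))
    have h2 := H.delta_Pan hc hy (fun h => hyc (Subtype.ext h.symm))
    obtain ⟨v, hv, hvxy⟩ := H.sphere x y (h1.trans h2.symm)
    exact ⟨f ⟨v, H.le_panStab s hv⟩, mem_img H hv, Subtype.ext hvxy⟩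

theorem card_img (s : I) : Nat.card (img H s) = (kx Δ G s c).relIndex U := by
  have h1 : (kx Δ G s c).relIndex U =
      (((kx Δ G s c).subgroupOf (H.panStab s)).subgroupOf (U.subgroupOf (H.panStab s))).index := by
    change _ = ((kx Δ G s c).subgroupOf (H.panStab s)).relIndex (U.subgroupOf (H.panStab s))
    rw [Subgroup.relIndex_subgroupOf (H.le_panStab s)]
  have h2 : ((kx Δ G s c).subgroupOf (H.panStab s)).subgroupOf (U.subgroupOf (H.panStab s)) =
      ((H.perm s).comp (U.subgroupOf (H.panStab s)).subtype).ker := by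
    ext x
    rw [MonoidHom.mem_ker, MonoidHom.comp_apply, H.perm_eq_one]
    rfl
  rw [h1, h2, Subgroup.index_ker]
  have h3 : ((H.perm s).comp (U.subgroupOf (H.panStab s)).subtype).range = img H s := by
    rw [MonoidHom.range_comp, Subgroup.range_subtype]
    rfl
  rw [h3]

theorem exists_ne {s : I} : ∃ b : Δ.Pan s c, b ≠ ⟨c, Or.inl rfl⟩ := by
  obtain ⟨y, _, _, hy, _⟩ := H.thick c s
  refine ⟨⟨y, Or.inr hy⟩, fun h => ?_⟩
  have h1 : y = c := congrArg Subtype.val h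
  rw [h1, delta_self] at hy
  have := congrArg cs.length hy
  rw [cs.length_one, cs.length_simple] at this
  omega

theorem two_lt_card [Finite C] (s : I) : 2 < Nat.card (Δ.Pan s c) := by
  obtain ⟨y, z, hyz, hy, hz⟩ := H.thick c s
  have hne : ∀ y, Δ.δ c y = cs.simple s → y ≠ c := by
    rintro y hy rfl
    rw [delta_self] at hy
    have := congrArg cs.length hy
    rw [cs.length_one, cs.length_simple] at this
    omega
  have h1 : ({c, y, z} : Set C) ⊆ Δ.Pan s c := by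
    rintro x (rfl | rfl | rfl)
    · exact Or.inl rfl
    · exact Or.inr hy
    · exact Or.inr hz
  have h2 := Set.ncard_le_ncard h1 (Set.toFinite _)
  rw [Set.ncard_eq_three.2 ⟨c, y, z, (hne y hy).symm, (hne z hz).symm, hyz, rfl⟩] at h2
  rw [Nat.card_coe_set_eq]
  omega

theorem kx_conj {s : I} {g : G} (hg : g ∈ H.panStab s) {k : G} (hk : k ∈ kx Δ G s c) :
    g * k * g⁻¹ ∈ kx Δ G s c := by
  intro x hx
  rw [mul_smul, mul_smul, hk _ (H.smul_Pan (inv_mem hg) hx), smul_inv_smul]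

theorem prim {s : I} (N : Subgroup G) (hN : N ≤ H.panStab s)
    (hNn : ∀ g ∈ H.panStab s, ∀ n ∈ N, g * n * g⁻¹ ∈ N) :
    N ≤ kx Δ G s c ∨ ∀ g ∈ H.panStab s, ∃ n ∈ N, ∃ b ∈ stabilizer G c, g = n * b := by
  by_cases h : N ≤ kx Δ G s c
  · exact Or.inl h
  right
  obtain ⟨n, hn, hnk⟩ := SetLike.not_le_iff_exists.1 h
  have h1 : ∃ x ∈ Δ.Pan s c, n • x ≠ x := by
    by_contra hcon
    push Not at hcon
    exact hnk hcon
  obtain ⟨x, hx, hnx⟩ := h1
  intro g hg
  by_cases hgc : g • c = c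
  · exact ⟨1, one_mem _, g, mem_stabilizer_iff.2 hgc, (one_mul g).symm⟩
  have hnx' : n • x ∈ Δ.Pan s c := H.smul_Pan (hN hn) hx
  have hc : c ∈ Δ.Pan s c := Or.inl rfl
  have h2 := H.delta_Pan hx hnx' (Ne.symm hnx)
  have h3 := H.delta_Pan hc hg (Ne.symm hgc)
  obtain ⟨t, ht1, ht2⟩ := H.trans x (n • x) c (g • c) (h2.trans h3.symm)
  have ht : t ∈ H.panStab s := by
    rw [H.mem_panStab, Pan_eq_Res]
    rw [Pan_eq_Res] at hx
    change Δ.δ c (t • c) ∈ WJ cs {s}
    have h5 : Δ.δ (t • x) (t • c) = Δ.δ x c := H.iso t x c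
    rw [ht1] at h5
    rw [h5, Δ.symm c x]
    exact inv_mem hx
  refine ⟨t * n * t⁻¹, hNn t ht n hn, (t * n * t⁻¹)⁻¹ * g, ?_, by group⟩
  rw [mem_stabilizer_iff, mul_smul, inv_smul_eq_iff, mul_smul, mul_smul, ← ht2]
  congr 2
  rw [eq_inv_smul_iff, ht1]

theorem side (hR : RankOneR.{u}) [Finite C] (s : I) : ∃ ε : ℕ,
    Side (stabilizer G c) U (H.panStab s) (kx Δ G s c) (Nat.card (Δ.Pan s c) - 1) ε := by
  obtain ⟨b, hb⟩ := exists_ne H (s := s)
  obtain ⟨ε, h1, h2⟩ := (data H s).eps hR hb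
  refine ⟨ε, ?_, kx_le s c, fun g hg k hk => kx_conj H hg hk, fun N hN hNn => prim H N hN hNn, ?_, ?_, h2⟩
  · intro g hg
    rw [H.mem_panStab, mem_stabilizer_iff.1 hg]
    exact Or.inl rfl
  · have := two_lt_card H s
    omega
  · rw [← card_img H s, h1]

/-! ### The core -/

theorem exists_mem (N : Subgroup G) (hN : ∀ s, H.panStab s ≤ N) (x : C) : ∃ g ∈ N, g • c = x := by
  generalize hn : cs.length (Δ.δ c x) = n
  induction n generalizing x with
  | zero =>
    have h1 := cs.length_eq_zero_iff.1 hn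
    rw [Δ.eq_one] at h1
    exact ⟨1, one_mem _, by rw [one_smul, h1]⟩
  | succ n ih =>
    have hne : Δ.δ c x ≠ 1 := by
      intro h
      rw [h, cs.length_one] at hn
      omega
    obtain ⟨i, hi⟩ := cs.exists_rightDescent_of_ne_one hne
    have hi' := cs.isRightDescent_iff.1 hi
    obtain ⟨y, hy1, hy2⟩ := Δ.exists_step c x i
    obtain ⟨g, hg, hgy⟩ := ih y (by rw [hy2]; omega)
    have h3 : Δ.δ c (g⁻¹ • x) = cs.simple i := by
      rw [← H.iso g, smul_inv_smul, hgy, Δ.symm x y, hy1, cs.inv_simple]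
    obtain ⟨t, ht, -⟩ := H.trans c c (g⁻¹ • x) (g⁻¹ • x) (by rw [delta_self, delta_self])
    have ht' : t ∈ H.panStab i := by
      rw [H.mem_panStab, ht]
      exact Or.inr h3
    refine ⟨g * t, mul_mem hg (hN i ht'), ?_⟩
    rw [mul_smul, ht, smul_inv_smul]

theorem core [Finite G] (hf : ∀ g : G, (∀ x : C, g • x = x) → g = 1) {a b : I} (hI : ∀ i, i = a ∨ i = b)
    (V : Subgroup G) (hV : V ≤ stabilizer G c) (ha : ∀ g ∈ H.panStab a, ∀ v ∈ V, g * v * g⁻¹ ∈ V)
    (hb : ∀ g ∈ H.panStab b, ∀ v ∈ V, g * v * g⁻¹ ∈ V) : V = ⊥ := by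
  have h1 : ∀ s, H.panStab s ≤ normalizer (V : Set G) := by
    intro s
    rcases hI s with rfl | rfl
    · exact le_normalizer_of G ha
    · exact le_normalizer_of G hb
  rw [eq_bot_iff]
  intro v hv
  rw [Subgroup.mem_bot]
  apply hf
  intro x
  obtain ⟨g, hg, rfl⟩ := exists_mem H _ h1 x
  have h2 : g⁻¹ * v * g⁻¹⁻¹ ∈ V := (mem_normalizer_iff.1 (inv_mem hg) v).1 hv
  have h3 := mem_stabilizer_iff.1 (hV h2)
  rw [inv_inv, mul_smul, mul_smul, inv_smul_eq_iff] at h3
  exact h3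

/-! ### Counting -/

theorem card_Pan [Finite C] (s : I) (x : C) : Nat.card (Δ.Pan s x) = Nat.card (Δ.Pan s c) := by
  obtain ⟨g, rfl, -⟩ := H.trans c c x x (by rw [delta_self, delta_self])
  symm
  refine Nat.card_congr ⟨fun y => ⟨g • (y : C), smul_mem_Pan H.iso y.2⟩,
    fun y => ⟨g⁻¹ • (y : C), ?_⟩, fun y => Subtype.ext (inv_smul_smul _ _),
    fun y => Subtype.ext (smul_inv_smul _ _)⟩
  have := smul_mem_Pan H.iso (g := g⁻¹) y.2
  rwa [inv_smul_smul] at this

theorem param [Finite C] (s : I) : Δ.Param s (Nat.card (Δ.Pan s c) - 1) := by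
  intro x
  rw [card_Pan H s x]
  have := two_lt_card H s
  omega

omit H F in
open DihPath in
theorem card_w [Finite W] {a b : I} (hI : ∀ i, i = a ∨ i = b) {m : ℕ} (hm : M a b = m) {q : I → ℕ}
    (hq : ∀ i, Δ.Param i (q i)) (hq0 : ∀ i, 0 < q i) (c : C) (j : ℕ) (hj : j ≤ m) :
    Nat.card {d // Δ.δ c d = w cs a b j} = ∏ k ∈ Finset.range j, q (ty a b k) := by
  induction j with
  | zero =>
    have h0 : w cs a b ((0 : ℕ) : ℤ) = 1 := w_zero cs a b
    rw [h0, Tits.Opp.card_sphere_one, Finset.prod_range_zero]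
  | succ j ih =>
    have h1 : w cs a b ((j + 1 : ℕ) : ℤ) = w cs a b j * cs.simple (ty a b j) := by
      push_cast
      exact w_succ cs (j : ℤ)
    have h2 := length_w cs hI hm (j := (j : ℤ)) (by simp; omega)
    have h3 := length_w cs hI hm (j := ((j + 1 : ℕ) : ℤ)) (by rw [Int.natAbs_natCast]; exact hj)
    rw [h1, Int.natAbs_natCast] at h3
    rw [Int.natAbs_natCast] at h2
    rw [h1, Tits.Opp.card_sphere_mul Δ (hq _) (hq0 _) c (by rw [h2, h3]), ih (by omega),
      Finset.prod_range_succ]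

omit H F in
open DihPath in
theorem card_opp [Finite W] {a b : I} (hI : ∀ i, i = a ∨ i = b) {m : ℕ} (hm : M a b = m) {q : I → ℕ}
    (hq : ∀ i, Δ.Param i (q i)) (hq0 : ∀ i, 0 < q i) (c : C) :
    Nat.card {d // Δ.δ c d = w0 cs} = ∏ k ∈ Finset.range m, q (ty a b k) := by
  rw [← card_w hI hm hq hq0 c m le_rfl]
  have h1 := w_inv_mul_m cs hI hm 0
  rw [w_zero, inv_one, one_mul, zero_add] at h1
  rw [h1]

omit H F in
open DihPath in
theorem ty_mul {a b : I} (q : I → ℕ) (k : ℤ) : q (ty a b k) * q (ty b a k) = q a * q b := by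
  unfold ty
  split_ifs
  · rfl
  · rw [mul_comm]

omit H F in
open DihPath in
theorem sq_opp [Finite W] {a b : I} (hI : ∀ i, i = a ∨ i = b) {m : ℕ} (hm : M a b = m) {q : I → ℕ}
    (hq : ∀ i, Δ.Param i (q i)) (hq0 : ∀ i, 0 < q i) (c : C) :
    Nat.card {d // Δ.δ c d = w0 cs} ^ 2 = (q a * q b) ^ m := by
  have h1 := card_opp hI hm hq hq0 c
  have h2 := card_opp (Δ := Δ) (fun i => (hI i).symm) ((M.symmetric b a).trans hm) hq hq0 c
  rw [pow_two]
  conv_lhs =>
    congr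
    · rw [h1]
    · rw [h2]
  rw [← Finset.prod_mul_distrib]
  have h3 : ∀ k ∈ Finset.range m, q (ty a b (k : ℤ)) * q (ty b a (k : ℤ)) = q a * q b :=
    fun k _ => ty_mul q (k : ℤ)
  rw [Finset.prod_congr rfl h3, Finset.prod_const, Finset.card_range]

omit H F in
open DihPath in
theorem prod_odd {a b : I} (q : I → ℕ) (l : ℕ) :
    ∏ k ∈ Finset.range (2 * l + 1), q (ty a b k) = (q a * q b) ^ l * q a := by
  induction l with
  | zero => simp [ty]
  | succ l ih =>
    have e : 2 * (l + 1) + 1 = 2 * l + 1 + 1 + 1 := by ring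
    rw [e, Finset.prod_range_succ, Finset.prod_range_succ, ih]
    have h1 : ty a b ((2 * l + 1 : ℕ) : ℤ) = b := by
      rw [ty, if_neg]
      rw [Int.not_even_iff_odd]
      exact ⟨l, by push_cast; ring⟩
    have h2 : ty a b ((2 * l + 1 + 1 : ℕ) : ℤ) = a := by
      rw [ty, if_pos]
      exact ⟨l + 1, by push_cast; ring⟩
    rw [h1, h2]
    ring

omit H F in
theorem eq_of_odd [Finite W] {a b : I} (hI : ∀ i, i = a ∨ i = b) {m : ℕ} (hm : M a b = m) {q : I → ℕ}
    (hq : ∀ i, Δ.Param i (q i)) (hq0 : ∀ i, 0 < q i) (c : C) (hodd : Odd m) : q a = q b := by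
  obtain ⟨l, rfl⟩ := hodd
  have h1 := card_opp hI hm hq hq0 c
  have h2 := card_opp (Δ := Δ) (fun i => (hI i).symm) ((M.symmetric b a).trans hm) hq hq0 c
  rw [prod_odd] at h1 h2
  rw [h1, mul_comm (q b) (q a)] at h2
  have h3 : 0 < (q a * q b) ^ l := by
    have := hq0 a
    have := hq0 b
    positivity
  exact Nat.eq_of_mul_eq_mul_left h3 h2

theorem dvd_card [Finite W] [Finite G] : Nat.card {d // Δ.δ c d = w0 cs} ∣ Nat.card U := by
  obtain ⟨d₀, hd₀⟩ := exists_delta Δ c (w0 cs)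
  have h1 : MulAction.orbit U d₀ = {d | Δ.δ c d = w0 cs} := by
    ext d
    rw [MulAction.mem_orbit_iff]
    constructor
    · rintro ⟨u, rfl⟩
      have h2 : Δ.δ ((u : G) • c) ((u : G) • d₀) = w0 cs := by rw [H.iso, hd₀]
      rw [H.fix _ u.2] at h2
      exact h2
    · intro hd
      obtain ⟨u, hu, hud⟩ := H.sphere d₀ d (hd₀.trans (Eq.symm hd))
      exact ⟨⟨u, hu⟩, hud⟩
  have h2 := MulAction.index_stabilizer U d₀
  rw [h1, ← Nat.card_coe_set_eq] at h2
  have h3 : (MulAction.stabilizer U d₀).index ∣ Nat.card U := Subgroup.index_dvd_card _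
  rw [h2] at h3
  exact h3

end Building

section Main

variable {I : Type*} {M : CoxeterMatrix I} {W : Type*} [Group W] {cs : CoxeterSystem M W}
variable {C : Type u} {Δ : Bldg cs C} [F : Cox cs]
variable {G : Type v} [Group G] [Finite G] [MulAction G C] [Finite W] [Finite C]

/-- [N] at one chamber. -/
theorem one (hR : RankOneR.{u}) {a b : I} (hI : ∀ i, i = a ∨ i = b) (hm : 2 < M a b)
    (hf : ∀ g : G, (∀ x : C, g • x = x) → g = 1) {c : C} (H : Split Δ c (fit G c)) :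
    ∃ p : ℕ, p.Prime ∧ IsPGroup p (fit G c) ∧ (∃ i, Nat.card (Δ.Pan a c) - 1 = p ^ i) ∧
      ∃ i, Nat.card (Δ.Pan b c) - 1 = p ^ i := by
  obtain ⟨εa, ha⟩ := side H hR a
  obtain ⟨εb, hb⟩ := side H hR b
  have hU : Fit (stabilizer G c) (fit G c) := by
    refine ⟨fit_le G c, fun b hb u hu => conj_mem G (le_normalizer_fit G c) hb hu, isNilpotent_fit G c,
      fun V hV hn hnil => le_fit G hV hnil (le_normalizer_of G hn)⟩
  have hq : ∀ i, Δ.Param i (Nat.card (Δ.Pan i c) - 1) := fun i => param H i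
  have hq0 : ∀ i, 0 < Nat.card (Δ.Pan i c) - 1 := by
    intro i
    have := two_lt_card H i
    omega
  exact PGroup168.main (m := M a b) hU ha hb (core H hf hI) hm
    (eq_of_odd (Δ := Δ) hI rfl hq hq0 c) (dvd_card H) (sq_opp (Δ := Δ) hI rfl hq hq0 c)

/-- **[N]**: the Fitting subgroups of the chamber stabilisers are `p`-groups, and the parameters are powers
of `p`. -/
theorem all (hR : RankOneR.{u}) {a b : I} (hI : ∀ i, i = a ∨ i = b) (hm : 2 < M a b)
    (hf : ∀ g : G, (∀ x : C, g • x = x) → g = 1) (H : ∀ c : C, Split Δ c (fit G c)) (c₀ : C) :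
    ∃ p : ℕ, p.Prime ∧ (∀ c : C, IsPGroup p (fit G c)) ∧
      ∀ s, ∃ i, ∀ c : C, Nat.card (Δ.Pan s c) - 1 = p ^ i := by
  obtain ⟨p, hp, h1, h2, h3⟩ := one hR hI hm hf (H c₀)
  refine ⟨p, hp, fun c => ?_, fun s => ?_⟩
  · obtain ⟨g, rfl, -⟩ := (H c₀).trans c₀ c₀ c c (by rw [delta_self, delta_self])
    rw [fit_smul]
    exact h1.map _
  · rcases hI s with rfl | rfl
    · obtain ⟨i, hi⟩ := h2
      exact ⟨i, fun c => by rw [card_Pan (H c₀) _ c, hi]⟩
    · obtain ⟨i, hi⟩ := h3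
      exact ⟨i, fun c => by rw [card_Pan (H c₀) _ c, hi]⟩

omit [Finite W] in
/-- If `p`-groups `fit G c` do not act regularly on some panel, then `p = 2`. -/
theorem two_of_ne (hR : RankOneR.{u}) {p : ℕ} (hp : p.Prime) {c : C} (H : Split Δ c (fit G c))
    (hU : IsPGroup p (fit G c)) {s : I} {b : C} (hb : b ∈ Δ.Pan s c) (hbc : b ≠ c) {v : G}
    (hv : v ∈ fit G c) (hvb : v • b = b) {x : C} (hx : x ∈ Δ.Pan s c) (hvx : v • x ≠ x) : p = 2 := by
  have : Fact p.Prime := ⟨hp⟩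
  have hb' : (⟨b, hb⟩ : Δ.Pan s c) ≠ ⟨c, Or.inl rfl⟩ := fun h => hbc (congrArg Subtype.val h)
  have hv1 : H.perm s ⟨v, H.le_panStab s hv⟩ ≠ 1 := by
    intro h
    rw [H.perm_eq_one] at h
    exact hvx (h x hx)
  have hM : IsPGroup p (img H s) := by
    unfold img
    exact (hU.comap_subtype).map _
  rcases (data H s).card_stab hR hb' with h | ⟨h, -⟩
  · exfalso
    rw [Subgroup.card_eq_one, Subgroup.eq_bot_iff_forall] at h
    exact hv1 (congrArg Subtype.val (h ⟨_, mem_img H hv⟩ (Subtype.ext hvb)))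
  · have h1 : 2 ∣ Nat.card (img H s) := by
      rw [← h]
      exact Subgroup.card_subgroup_dvd_card _
    obtain ⟨n, hn⟩ := (IsPGroup.iff_card).1 hM
    rw [hn] at h1
    exact ((Nat.prime_dvd_prime_iff_eq Nat.prime_two hp).1 (Nat.prime_two.dvd_of_dvd_pow h1)).symm

omit [Finite W] in
/-- If the `2`-groups `fit G c` do not act regularly on the panel of type `s`, then it has nine chambers. -/
theorem nine (hR : RankOneR.{u}) {c : C} (H : Split Δ c (fit G c))
    (hU : IsPGroup 2 (fit G c)) {s : I} {b : C} (hb : b ∈ Δ.Pan s c) (hbc : b ≠ c) {v : G}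
    (hv : v ∈ fit G c) (hvb : v • b = b) {x : C} (hx : x ∈ Δ.Pan s c) (hvx : v • x ≠ x) :
    Nat.card (Δ.Pan s c) = 9 ∧ Nat.card (img H s) = 16 := by
  have hb' : (⟨b, hb⟩ : Δ.Pan s c) ≠ ⟨c, Or.inl rfl⟩ := fun h => hbc (congrArg Subtype.val h)
  have hv1 : H.perm s ⟨v, H.le_panStab s hv⟩ ≠ 1 := by
    intro h
    rw [H.perm_eq_one] at h
    exact hvx (h x hx)
  have hM : IsPGroup 2 (img H s) := by
    unfold img
    exact (hU.comap_subtype).map _
  have h := (data H s).nine hR hb' hM (mem_img H hv) (Subtype.ext hvb) hv1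
  exact ⟨h.1, h.2.1⟩

end Main

end Cfsg.Agent.SplitTwo.N168
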