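import Cfsg.Agent.SplitTwo.HexCentre

/-!
# Moufang octagons, `m = 8` (S1144): the interface between the parts

* `Yc X k`: elements of `X k` centralising `X (k-4), …, X (k+4)`.
* `OctA X`: output of OctBase / OctField (helper625), input of OctStruct.
-/

set_option autoImplicit false

namespace Cfsg.Agent.SplitTwo.OctDefs

open scoped commutatorElement

universe u

variable {G : Type u} [Group G]

/-- Elements of `X k` centralising `X (k-4), …, X (k+4)`. -/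
def Yc (X : ZMod (2 * 8) → Subgroup G) (k : ZMod (2 * 8)) : Subgroup G :=
  X k ⊓ Subgroup.centralizer (seg X (k - 4) 9 : Set G)

theorem mem_Yc {X : ZMod (2 * 8) → Subgroup G} {k : ZMod (2 * 8)} {x : G} :
    x ∈ Yc X k ↔ x ∈ X k ∧ ∀ y ∈ seg X (k - 4) 9, x * y = y * x := by
  unfold Yc
  rw [Subgroup.mem_inf, Subgroup.mem_centralizer_iff]
  constructor
  · rintro ⟨h1, h2⟩; exact ⟨h1, fun y hy => (h2 y hy).symm⟩
  · rintro ⟨h1, h2⟩; exact ⟨h1, fun y hy => (h2 y hy).symm⟩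

/-- First structure theorem for a Moufang octagon (after a shift by one if necessary). -/
structure OctA (X : ZMod (2 * 8) → Subgroup G) : Prop where
  sys : Sys 8 X
  ne : ∀ i, ∃ y ∈ Yc X (2 * i), y ≠ 1
  /-- `Z(X 1 ⋯ X 7) ≤ Y 4` -/
  cen7 : ∀ i, ∀ v ∈ seg X (2 * i - 3) 7, (∀ y ∈ seg X (2 * i - 3) 7, v * y = y * v) → v ∈ Yc X (2 * i)
  /-- `Z(X 2 ⋯ X 8) ∩ X 4 X 5 ≤ Y 4` -/
  cenL : ∀ i, ∀ v ∈ seg X (2 * i) 2, (∀ y ∈ seg X (2 * i - 2) 7, v * y = y * v) → v ∈ Yc X (2 * i)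
  /-- `Z(X 2 ⋯ X 8) ∩ X 5 X 6 ≤ Y 6` -/
  cenR : ∀ i, ∀ v ∈ seg X (2 * i - 1) 2, (∀ y ∈ seg X (2 * i - 4) 7, v * y = y * v) → v ∈ Yc X (2 * i)
  /-- `[Y 6, X 1] ≤ Y 4` -/
  aL : ∀ i, ∀ y ∈ Yc X (2 * i), ∀ x ∈ X (2 * i - 5), ⁅y, x⁆ ∈ Yc X (2 * i - 2)
  /-- `[Y 4, X 9] ≤ Y 6` -/
  aR : ∀ i, ∀ y ∈ Yc X (2 * i), ∀ x ∈ X (2 * i + 5), ⁅y, x⁆ ∈ Yc X (2 * i + 2)
  odd_comm : ∀ i, ∀ a ∈ X (2 * i + 1), ∀ b ∈ X (2 * i + 1), a * b = b * a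

end Cfsg.Agent.SplitTwo.OctDefs
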