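import Cfsg.Agent.SplitTwo.HexStruct
import Cfsg.Agent.SplitTwo.OctDefs

/-!
# Moufang octagons (S1144, `m = 8`), first structure theorem

`octA : RootSys 8 G → OctA R.X ∨ OctA (fun i => R.X (i + 1))` (proof of helper171, purely algebraic).
-/

set_option autoImplicit false

namespace Cfsg.Agent.SplitTwo.OctBase

open scoped commutatorElement
open ZS

universe u

variable {G : Type u} [Group G] {X : ℤ → Subgroup G}

/-- elements of `X k` commuting with `X (k-4), …, X (k+4)` -/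
def Yz (X : ℤ → Subgroup G) (k : ℤ) : Subgroup G := X k ⊓ Subgroup.centralizer (J X (k - 4) (k + 4) : Set G)

/-- the centre of `J k (k+6)` -/
def V (X : ℤ → Subgroup G) (k : ℤ) : Subgroup G := J X k (k + 6) ⊓ Subgroup.centralizer (J X k (k + 6) : Set G)

theorem mem_Yz {k : ℤ} {x : G} : x ∈ Yz X k ↔ x ∈ X k ∧ ∀ y ∈ J X (k - 4) (k + 4), x * y = y * x := by
  unfold Yz
  rw [Subgroup.mem_inf, Subgroup.mem_centralizer_iff]
  exact and_congr Iff.rfl (forall₂_congr fun _ _ => eq_comm)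

theorem mem_V {k : ℤ} {x : G} : x ∈ V X k ↔ x ∈ J X k (k + 6) ∧ ∀ y ∈ J X k (k + 6), x * y = y * x := by
  unfold V
  rw [Subgroup.mem_inf, Subgroup.mem_centralizer_iff]
  exact and_congr Iff.rfl (forall₂_congr fun _ _ => eq_comm)

theorem Yz_comm {k l : ℤ} {x y : G} (hx : x ∈ Yz X k) (hy : y ∈ X l) (h1 : k - 4 ≤ l) (h2 : l ≤ k + 4) :
    x * y = y * x := (mem_Yz.1 hx).2 y (mem_J hy h1 h2)

theorem Yz_le {k : ℤ} {x : G} (hx : x ∈ Yz X k) : x ∈ X k := (mem_Yz.1 hx).1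

theorem Yz_le_V {k j : ℤ} (h1 : k - 4 ≤ j) (h2 : j ≤ k - 2) {x : G} (hx : x ∈ Yz X k) : x ∈ V X j := by
  refine mem_V.2 ⟨mem_J (Yz_le hx) (by omega) (by omega), fun y hy => ?_⟩
  exact (mem_Yz.1 hx).2 y (J_mono (by omega) (by omega) hy)

/-- `x y = y x` from `[x,y] = 1` -/
theorem comm_of {x y : G} (h : ⁅x, y⁆ = 1) : x * y = y * x := commutatorElement_eq_one_iff_mul_comm.1 h

section

variable (S : ZSys 8 X)
include S

theorem V_le {k : ℤ} {w : G} (hw : w ∈ V X k) : w ∈ J X (k + 2) (k + 4) := by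
  obtain ⟨h1, h2⟩ := mem_V.1 hw
  obtain ⟨h, hh, hh1⟩ := S.exists_ne k
  obtain ⟨h', hh', hh1'⟩ := S.exists_ne (k + 6)
  have h3 := S.comm_top (r := 4) (by norm_num) (by omega) hh hh1 h1 (h2 h (mem_J hh le_rfl (by omega)))
  have h4 := S.comm_bot (r := 4) (by norm_num) (by omega) hh' hh1' h1 (h2 h' (mem_J hh' (by omega) le_rfl))
  exact S.inter_J k h3 h4 le_rfl (by omega) (by omega) (by omega) (by omega) (by omega)

theorem V_conj {k : ℤ} {x w : G} (hx : x ∈ J X (k - 1) (k + 7)) (hw : w ∈ V X k) : x * w * x⁻¹ ∈ V X k := by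
  obtain ⟨h1, h2⟩ := mem_V.1 hw
  have hn := S.le_normalizer (a := k) (b := k + 6) (by omega) (J_mono (by omega) (by omega) hx)
  rw [Subgroup.mem_normalizer_iff] at hn
  refine mem_V.2 ⟨(hn w).1 h1, fun y hy => ?_⟩
  have h3 : x⁻¹ * y * x ∈ J X k (k + 6) := by
    rw [hn (x⁻¹ * y * x)]
    have e : x * (x⁻¹ * y * x) * x⁻¹ = y := by group
    rw [e]; exact hy
  have h4 := h2 _ h3
  calc x * w * x⁻¹ * y = x * (w * (x⁻¹ * y * x)) * x⁻¹ := by group
    _ = x * ((x⁻¹ * y * x) * w) * x⁻¹ := by rw [h4]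
    _ = y * (x * w * x⁻¹) := by group

/-- `[w, x] ∈ V k` -/
theorem V_comm_left {k : ℤ} {x w : G} (hx : x ∈ J X (k - 1) (k + 7)) (hw : w ∈ V X k) : ⁅w, x⁆ ∈ V X k := by
  have e : ⁅w, x⁆ = w * (x * w⁻¹ * x⁻¹) := by rw [commutatorElement_def]; group
  rw [e]
  exact mul_mem hw (V_conj S hx (inv_mem hw))

/-- `[x, w] ∈ V k` -/
theorem V_comm_right {k : ℤ} {x w : G} (hx : x ∈ J X (k - 1) (k + 7)) (hw : w ∈ V X k) : ⁅x, w⁆ ∈ V X k := by
  rw [← commutatorElement_inv]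
  exact inv_mem (V_comm_left S hx hw)

/-- `V k` and `V (k+3)` commute -/
theorem V_comm {k : ℤ} {w w' : G} (hw : w ∈ V X k) (hw' : w' ∈ V X (k + 3)) : w * w' = w' * w := by
  have h1 := V_le S hw
  have h2 := V_le S hw'
  have h3 : ⁅w, w'⁆ ∈ V X k := V_comm_left S (J_mono (by omega) (by omega) h2) hw
  have h4 : ⁅w, w'⁆ ∈ V X (k + 3) := V_comm_right S (J_mono (by omega) (by omega) h1) hw'
  exact comm_of (S.inter_one (k + 2) (V_le S h3) (V_le S h4) (by omega) (by omega) (by omega) (by omega)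
    (Or.inl (by omega)))

theorem V_comm' {k l : ℤ} (hl : l = k + 3) {w w' : G} (hw : w ∈ V X k) (hw' : w' ∈ V X l) : w * w' = w' * w := by
  subst hl
  exact V_comm S hw hw'

/-- non trivial elements at distance `5, 6, 7` never commute -/
theorem far {k l : ℤ} (h1 : k + 5 ≤ l) (h2 : l ≤ k + 7) {h z : G} (hh : h ∈ X k) (hh1 : h ≠ 1) (hz : z ∈ X l)
    (hc : z * h = h * z) : z = 1 := by
  have h3 := S.comm_top (r := 4) (by norm_num) (b := l) (by omega) hh hh1 (mem_J hz (by omega) le_rfl) hc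
  exact S.inter' hz (J_mono (by omega) (by omega) h3)

theorem far' {k l : ℤ} (h1 : l + 5 ≤ k) (h2 : k ≤ l + 7) {h z : G} (hh : h ∈ X k) (hh1 : h ≠ 1) (hz : z ∈ X l)
    (hc : z * h = h * z) : z = 1 := by
  have h3 := S.comm_bot (r := 4) (by norm_num) (a := l) (by omega) hh hh1 (mem_J hz le_rfl (by omega)) hc
  exact S.inter l _ hz (J_mono (by omega) (by omega) h3)

theorem opp_comm' {k : ℤ} {z : G} (hz : z ∈ X k) (hc : ∀ x ∈ X (k + 4), z * x = x * z) {g : G}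
    (hg : g ∈ X (k - 4)) : z * g = g * z := by
  refine (S.rev 0).opp_comm (k := -k) (r := 4) (by norm_num) (z := z) ?_ ?_ (g := g) ?_
  · show z ∈ X (0 - -k)
    rw [show (0 : ℤ) - -k = k by ring]; exact hz
  · intro x hx
    change x ∈ X (0 - (-k - 4)) at hx
    rw [show (0 : ℤ) - (-k - 4) = k + 4 by ring] at hx
    exact hc x hx
  · show g ∈ X (0 - (-k + 4))
    rw [show (0 : ℤ) - (-k + 4) = k - 4 by ring]; exact hg

theorem mem_Yz_left {k : ℤ} {x : G} (hx : x ∈ X k) (h : ∀ y ∈ J X (k - 4) (k + 3), x * y = y * x) : x ∈ Yz X k := by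
  refine mem_Yz.2 ⟨hx, HexS.commJ fun l h1 h2 y hy => ?_⟩
  by_cases h3 : l ≤ k + 3
  · exact h y (mem_J hy h1 h3)
  · have h4 : l = k + 4 := by omega
    subst h4
    exact S.opp_comm (r := 4) (by norm_num) hx (fun z hz => h z (mem_J hz le_rfl (by omega))) hy

theorem mem_Yz_right {k : ℤ} {x : G} (hx : x ∈ X k) (h : ∀ y ∈ J X (k - 3) (k + 4), x * y = y * x) :
    x ∈ Yz X k := by
  refine mem_Yz.2 ⟨hx, HexS.commJ fun l h1 h2 y hy => ?_⟩
  by_cases h3 : k - 3 ≤ l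
  · exact h y (mem_J hy h3 h2)
  · have h4 : l = k - 4 := by omega
    subst h4
    exact opp_comm' S hx (fun z hz => h z (mem_J hz (by omega) le_rfl)) hy

/-- `z₄ z₅` central in `J k (k+7)`: one of the two is trivial. -/
theorem dich_a {k : ℤ} {z4 z5 : G} (h4 : z4 ∈ X (k + 3)) (h5 : z5 ∈ X (k + 4))
    (hc : ∀ y ∈ J X k (k + 7), (z4 * z5) * y = y * (z4 * z5)) : z4 = 1 ∨ z5 = 1 := by
  by_cases h51 : z5 = 1
  · exact Or.inr h51
  left
  obtain ⟨n1, hn1⟩ := S.exists_refl 4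
  obtain ⟨n2, hn2⟩ := S.exists_refl 6
  rw [show (2 : ℤ) * 4 - 8 = 0 by norm_num] at hn1
  rw [show (2 : ℤ) * 6 - 8 = 4 by norm_num] at hn2
  set c := n2 * n1 with hcdef
  have hz8 : c * z4 * c⁻¹ ∈ X (k + 7) := by
    have := hn2.mem' (hn1.mem' h4 (k := 0 - (k + 3)) rfl) (k := k + 7) (by ring)
    have e : c * z4 * c⁻¹ = n2 * (n1 * z4 * n1⁻¹) * n2⁻¹ := by rw [hcdef]; group
    rw [e]; exact this
  have hz9 : c * z5 * c⁻¹ ∈ X (k + 8) := by
    have := hn2.mem' (hn1.mem' h5 (k := 0 - (k + 4)) rfl) (k := k + 8) (by ring)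
    have e : c * z5 * c⁻¹ = n2 * (n1 * z5 * n1⁻¹) * n2⁻¹ := by rw [hcdef]; group
    rw [e]; exact this
  have hz91 : c * z5 * c⁻¹ ≠ 1 := by
    intro e
    apply h51
    have : z5 = c⁻¹ * (c * z5 * c⁻¹) * c := by group
    rw [this, e]; group
  have hJ : z4 * z5 ∈ J X (k + 3) (k + 4) := mul_mem (mem_J h4 le_rfl (by omega)) (mem_J h5 (by omega) le_rfl)
  have hzV : z4 * z5 ∈ V X (k + 1) :=
    mem_V.2 ⟨J_mono (by omega) (by omega) hJ, fun y hy => hc y (J_mono (by omega) (by omega) hy)⟩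
  have hzV' : (c * z4 * c⁻¹) * (c * z5 * c⁻¹) ∈ V X (k + 4) := by
    refine mem_V.2 ⟨mul_mem (mem_J hz8 (by omega) (by omega)) (mem_J hz9 (by omega) (by omega)), fun y hy => ?_⟩
    have h1 : n2⁻¹ * y * n2 ∈ J X (4 - (k + 10)) (4 - (k + 4)) := hn2.mem_J_inv hy (by omega) (by omega)
    have h2 : n1⁻¹ * (n2⁻¹ * y * n2) * n1 ∈ J X k (k + 7) := hn1.mem_J_inv h1 (by omega) (by omega)
    have h3 := hc _ h2
    have e1 : n1⁻¹ * (n2⁻¹ * y * n2) * n1 = c⁻¹ * y * c := by rw [hcdef]; group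
    rw [e1] at h3
    calc (c * z4 * c⁻¹) * (c * z5 * c⁻¹) * y = c * ((z4 * z5) * (c⁻¹ * y * c)) * c⁻¹ := by group
      _ = c * ((c⁻¹ * y * c) * (z4 * z5)) * c⁻¹ := by rw [h3]
      _ = y * ((c * z4 * c⁻¹) * (c * z5 * c⁻¹)) := by group
  have hcc := V_comm' S (by ring) hzV hzV'
  have hc8 := hc _ (mem_J hz8 (by omega) le_rfl)
  have hc9 : (z4 * z5) * (c * z5 * c⁻¹) = (c * z5 * c⁻¹) * (z4 * z5) := by
    have e : c * z5 * c⁻¹ = (c * z4 * c⁻¹)⁻¹ * ((c * z4 * c⁻¹) * (c * z5 * c⁻¹)) := by group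
    have h8' : (z4 * z5) * (c * z4 * c⁻¹)⁻¹ = (c * z4 * c⁻¹)⁻¹ * (z4 * z5) := by
      calc (z4 * z5) * (c * z4 * c⁻¹)⁻¹
          = (c * z4 * c⁻¹)⁻¹ * ((c * z4 * c⁻¹) * (z4 * z5)) * (c * z4 * c⁻¹)⁻¹ := by group
        _ = (c * z4 * c⁻¹)⁻¹ * ((z4 * z5) * (c * z4 * c⁻¹)) * (c * z4 * c⁻¹)⁻¹ := by rw [hc8]
        _ = (c * z4 * c⁻¹)⁻¹ * (z4 * z5) := by group
    rw [e, ← mul_assoc, h8', mul_assoc, hcc]
    group
  have h6 := S.comm_bot (r := 4) (by norm_num) (k := k + 8) (a := k + 3) (by omega) hz9 hz91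
    (J_mono le_rfl (by omega) hJ) hc9
  apply S.inter (k + 3) z4 h4
  have e : z4 = (z4 * z5) * z5⁻¹ := by group
  rw [e]
  exact mul_mem (J_mono (by omega) (by omega) h6) (inv_mem (mem_J h5 (by omega) (by omega)))

/-- first half of the dichotomy -/
theorem exists_Yz {k : ℤ} (hZ : ∃ z ∈ J X k (k + 7), z ≠ 1 ∧ ∀ y ∈ J X k (k + 7), z * y = y * z) :
    (∃ x ∈ Yz X (k + 3), x ≠ 1) ∨ (∃ x ∈ Yz X (k + 4), x ≠ 1) := by
  obtain ⟨z, hz, hz1, hc⟩ := hZ
  obtain ⟨h, hh, hh1⟩ := S.exists_ne k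
  obtain ⟨h', hh', hh1'⟩ := S.exists_ne (k + 7)
  have h3 := S.comm_top (r := 4) (by norm_num) (by omega) hh hh1 hz (hc h (mem_J hh le_rfl (by omega)))
  have h4 := S.comm_bot (r := 4) (by norm_num) (by omega) hh' hh1' hz (hc h' (mem_J hh' (by omega) le_rfl))
  have h5 : z ∈ J X (k + 3) (k + 4) :=
    S.inter_J k h3 h4 le_rfl (by omega) (by omega) (by omega) (by omega) (by omega)
  obtain ⟨z4, hz4, z5, hz5, rfl⟩ := S.split_ll (by omega) (by omega) h5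
  have hz5' : z5 ∈ X (k + 4) := mem_of_J_self (a := k + 4) (J_mono (by omega) le_rfl hz5) le_rfl
  rcases dich_a S hz4 hz5' hc with e | e
  · right
    rw [e, one_mul] at hz1 hc
    refine ⟨z5, mem_Yz_left S hz5' fun y hy => hc y (J_mono (by omega) (by omega) hy), hz1⟩
  · left
    rw [e, mul_one] at hz1 hc
    refine ⟨z4, mem_Yz_right S hz4 fun y hy => hc y (J_mono (by omega) (by omega) hy), hz1⟩

/-- second half of the dichotomy -/
theorem not_both {k : ℤ} {e f : G} (he : e ∈ Yz X k) (he1 : e ≠ 1) (hf : f ∈ Yz X (k + 5)) : f = 1 := by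
  have h1 : ⁅e, f⁆ ∈ V X (k - 2) :=
    V_comm_left S (mem_J (Yz_le hf) (by omega) (by omega)) (Yz_le_V (by omega) (by omega) he)
  have h2 : ⁅e, f⁆ ∈ V X (k + 1) :=
    V_comm_right S (mem_J (Yz_le he) (by omega) (by omega)) (Yz_le_V (by omega) (by omega) hf)
  have h3 : ⁅e, f⁆ = 1 := S.inter_one k (V_le S h1) (V_le S h2) (by omega) (by omega) (by omega) (by omega)
    (Or.inl (by omega))
  exact far S (by omega) (by omega) (Yz_le he) he1 (Yz_le hf) (comm_of h3).symm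

end

theorem Yz_refl {c k k' : ℤ} {n x : G} (h : ZS.Refl X c n) (hx : x ∈ Yz X k) (hk : k' = c - k) :
    n * x * n⁻¹ ∈ Yz X k' := by
  subst hk
  refine mem_Yz.2 ⟨h.mem (Yz_le hx), fun y hy => ?_⟩
  have h1 : n⁻¹ * y * n ∈ J X (k - 4) (k + 4) := h.mem_J_inv hy (by omega) (by omega)
  have h2 := (mem_Yz.1 hx).2 _ h1
  calc n * x * n⁻¹ * y = n * (x * (n⁻¹ * y * n)) * n⁻¹ := by group
    _ = n * ((n⁻¹ * y * n) * x) * n⁻¹ := by rw [h2]
    _ = y * (n * x * n⁻¹) := by group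

theorem Yz_rev (s k : ℤ) : Yz (fun k => X (s - k)) k = Yz X (s - k) := by
  unfold Yz
  rw [ZSys.J_rev, show s - (k + 4) = s - k - 4 by ring, show s - (k - 4) = s - k + 4 by ring]

section

variable (S : ZSys 8 X)
include S

theorem refl_at (c : ℤ) (hc : Even c) : ∃ n, ZS.Refl X c n := by
  obtain ⟨t, ht⟩ := hc
  obtain ⟨n, hn⟩ := S.exists_refl (t + 4)
  rw [show 2 * (t + 4) - 8 = c by omega] at hn
  exact ⟨n, hn⟩

/-- all `Y k` of one parity are non trivial -/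
theorem all_ne {k₀ : ℤ} (hk₀ : Even k₀) {x₀ : G} (hx₀ : x₀ ∈ Yz X k₀) (hx₁ : x₀ ≠ 1) :
    ∀ l, Even l → ∃ x ∈ Yz X l, x ≠ 1 := by
  intro l hl
  obtain ⟨n, hn⟩ := refl_at S (k₀ + l) (hk₀.add hl)
  refine ⟨n * x₀ * n⁻¹, Yz_refl hn hx₀ (by omega), fun h => hx₁ ?_⟩
  calc x₀ = n⁻¹ * (n * x₀ * n⁻¹) * n := by group
    _ = 1 := by rw [h]; group

variable (hE : ∀ l, Even l → ∃ x ∈ Yz X l, x ≠ 1)
include hE

/-- `V (k-3) ≤ X k`, `k` even -/
theorem V_odd_le {k : ℤ} (hk : Even k) {w : G} (hw : w ∈ V X (k - 3)) : w ∈ X k := by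
  have h1 := V_le S hw
  obtain ⟨w3, hw3, w', hw', rfl⟩ := S.split_ll (a := k - 1) (b := k + 1) (by omega) (by omega)
    (J_mono (by omega) (by omega) h1)
  obtain ⟨w4, hw4, w5, hw5, rfl⟩ := S.split_ll (a := k) (b := k + 1) (by omega) (by omega)
    (J_mono (by omega) (by omega) hw')
  have hw5' : w5 ∈ X (k + 1) := mem_of_J_self (J_mono (by omega) le_rfl hw5) le_rfl
  obtain ⟨y, hy, hy1⟩ := hE (k - 4) (hk.sub (by decide))
  obtain ⟨y', hy', hy1'⟩ := hE (k + 4) (hk.add (by decide))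
  -- `w5 = 1`
  have c1 := V_comm' S (k := k - 6) (l := k - 3) (by ring) (Yz_le_V (by omega) (by omega) hy) hw
  have c2 := Yz_comm hy hw3 (by omega) (by omega)
  have c3 := Yz_comm hy hw4 (by omega) (by omega)
  have c4 : w5 * y = y * w5 := by
    have e1 : y * w3 * w4 * w5 = w3 * w4 * w5 * y := by
      calc y * w3 * w4 * w5 = y * (w3 * (w4 * w5)) := by group
        _ = w3 * (w4 * w5) * y := c1
        _ = w3 * w4 * w5 * y := by group
    have e2 : y * w3 * w4 * w5 = w3 * w4 * (y * w5) := by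
      calc y * w3 * w4 * w5 = (y * w3) * w4 * w5 := by group
        _ = w3 * (y * w4) * w5 := by rw [c2]; group
        _ = w3 * w4 * (y * w5) := by rw [c3]; group
    rw [e2] at e1
    have e3 : w3 * w4 * (y * w5) = w3 * w4 * (w5 * y) := by rw [e1]; group
    exact (mul_left_cancel e3).symm
  have hw51 : w5 = 1 := far S (k := k - 4) (l := k + 1) (by omega) (by omega) (Yz_le hy) hy1 hw5' c4
  subst hw51
  rw [mul_one] at hw ⊢
  -- `w3 = 1`
  have c5 := V_comm' S (k := k - 3) (l := k) (by ring) hw (Yz_le_V (by omega) (by omega) hy')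
  have c6 := Yz_comm hy' hw4 (by omega) (by omega)
  have c7 : w3 * y' = y' * w3 := by
    have e1 : w3 * y' * w4 = y' * w3 * w4 := by
      calc w3 * y' * w4 = w3 * (y' * w4) := by group
        _ = w3 * w4 * y' := by rw [c6]; group
        _ = y' * (w3 * w4) := c5
        _ = y' * w3 * w4 := by group
    exact mul_right_cancel e1
  have hw31 : w3 = 1 := far' S (k := k + 4) (l := k - 1) (by omega) (by omega) (Yz_le hy') hy1' hw3 c7
  rw [hw31, one_mul]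
  exact hw4

theorem cen7 {k : ℤ} (hk : Even k) {w : G} (hw : w ∈ V X (k - 3)) : w ∈ Yz X k := by
  have h1 := V_odd_le S hE hk hw
  refine mem_Yz_right S h1 (HexS.commJ fun l h2 h3 y hy => ?_)
  by_cases h4 : l ≤ k + 3
  · exact (mem_V.1 hw).2 y (mem_J hy (by omega) (by omega))
  · have h5 : l = k + 4 := by omega
    subst h5
    have h6 : ⁅w, y⁆ ∈ V X (k - 3) := V_comm_left S (mem_J hy (by omega) (by omega)) hw
    have h7 := V_odd_le S hE hk h6
    have h8 := S.comm k (k + 4) (by omega) (by omega) w h1 y hy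
    exact comm_of (S.inter k _ h7 (J_mono (by omega) (by omega) h8))

theorem cenR {k : ℤ} (hk : Even k) {v : G} (hv : v ∈ J X (k - 1) k) (hc : ∀ y ∈ J X (k - 4) (k + 2), v * y = y * v) :
    v ∈ Yz X k := by
  have hvV : v ∈ V X (k - 4) := mem_V.2 ⟨J_mono (by omega) (by omega) hv, fun y hy => hc y (J_mono (by omega)
    (by omega) hy)⟩
  obtain ⟨v5, hv5, v6, hv6, rfl⟩ := S.split_ll (by omega) (by omega) hv
  have hv6' : v6 ∈ X k := mem_of_J_self (J_mono (by omega) le_rfl hv6) le_rfl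
  obtain ⟨u, hu, hu1⟩ := hE (k + 4) (hk.add (by decide))
  have huV : u ∈ V X k := Yz_le_V (by omega) (by omega) hu
  have h1 : ⁅u, v5 * v6⁆ ∈ J X (k + 2) (k + 4) := V_le S (V_comm_left S (J_mono (by omega) (by omega) hv) huV)
  obtain ⟨a, ha, b, hb, hn⟩ := S.mu (k + 4) u (Yz_le hu) hu1
  rw [show k + 4 - 8 = k - 4 by ring] at ha hb
  rw [show 2 * (k + 4) - 8 = 2 * k by ring] at hn
  have hcb := hc b (mem_J hb le_rfl (by omega))
  have h2 : u * (v5 * v6) * u⁻¹ = a⁻¹ * ((a * u * b) * (v5 * v6) * (a * u * b)⁻¹) * a⁻¹⁻¹ := by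
    calc u * (v5 * v6) * u⁻¹ = u * ((v5 * v6) * b) * b⁻¹ * u⁻¹ := by group
      _ = u * (b * (v5 * v6)) * b⁻¹ * u⁻¹ := by rw [hcb]
      _ = _ := by group
  have h3 : u * (v5 * v6) * u⁻¹ ∈ J X (k - 3) (k + 1) := by
    rw [h2]
    exact S.conj_X (k := k - 4) (by omega) (by omega) (by omega) (inv_mem ha)
      (hn.mem_J hv (by omega) (by omega))
  have h4 : u * (v5 * v6) * u⁻¹ ∈ J X (k - 1) (k + 3) :=
    S.conj_X (k := k + 4) (by omega) (by omega) (by omega) (Yz_le hu) (J_mono le_rfl (by omega) hv)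
  have h5 : u * (v5 * v6) * u⁻¹ ∈ J X (k - 1) (k + 1) :=
    S.inter_J (k - 3) h3 h4 (by omega) (by omega) (by omega) (by omega) (by omega) (by omega)
  have h6 : ⁅u, v5 * v6⁆ ∈ J X (k - 1) (k + 1) := by
    rw [commutatorElement_def]
    exact mul_mem h5 (inv_mem (J_mono le_rfl (by omega) hv))
  have h7 : u * (v5 * v6) = (v5 * v6) * u :=
    comm_of (S.inter_one (k - 1) h6 h1 (by omega) (by omega) (by omega) (by omega) (Or.inl (by omega)))
  have h8 := Yz_comm hu hv6' (by omega) (by omega)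
  have h9 : v5 * u = u * v5 := by
    have e1 : v5 * u * v6 = u * v5 * v6 := by
      calc v5 * u * v6 = v5 * (u * v6) := by group
        _ = v5 * v6 * u := by rw [h8]; group
        _ = u * (v5 * v6) := h7.symm
        _ = u * v5 * v6 := by group
    exact mul_right_cancel e1
  have h10 : v5 = 1 := far' S (k := k + 4) (l := k - 1) (by omega) (by omega) (Yz_le hu) hu1 hv5 h9
  subst h10
  rw [one_mul] at hvV hc ⊢
  refine mem_Yz_left S hv6' (HexS.commJ fun l h2 h3 y hy => ?_)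
  by_cases h4 : l ≤ k + 2
  · exact hc y (mem_J hy h2 h4)
  · have h5 : l = k + 3 := by omega
    subst h5
    have h6 : ⁅v6, y⁆ ∈ J X (k - 4 + 2) (k - 4 + 4) :=
      V_le S (V_comm_left S (mem_J hy (by omega) (by omega)) hvV)
    have h7 := S.comm k (k + 3) (by omega) (by omega) v6 hv6' y hy
    exact comm_of (S.inter_one (k - 2) h6 h7 (by omega) (by omega) (by omega) (by omega) (Or.inl (by omega)))

theorem cenL {k : ℤ} (hk : Even k) {v : G} (hv : v ∈ J X k (k + 1)) (hc : ∀ y ∈ J X (k - 2) (k + 4), v * y = y * v) :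
    v ∈ Yz X k := by
  have h := cenR (S.rev 0) (X := fun j => X (0 - j)) (k := -k) (v := v) ?_ (by simpa using hk) ?_ ?_
  · rw [Yz_rev, show (0 : ℤ) - -k = k by ring] at h
    exact h
  · intro l hl
    obtain ⟨x, hx, hx1⟩ := hE (0 - l) ((by decide : Even (0 : ℤ)).sub hl)
    exact ⟨x, by rw [Yz_rev]; exact hx, hx1⟩
  · rw [ZSys.J_rev]
    exact J_mono (by omega) (by omega) hv
  · intro y hy
    rw [ZSys.J_rev] at hy
    exact hc y (J_mono (by omega) (by omega) hy)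

theorem aL {k : ℤ} (hk : Even k) {y x : G} (hy : y ∈ Yz X k) (hx : x ∈ X (k - 5)) : ⁅y, x⁆ ∈ Yz X (k - 2) := by
  have h1 : ⁅y, x⁆ ∈ V X (k - 4) :=
    V_comm_left S (mem_J hx (by omega) (by omega)) (Yz_le_V (by omega) (by omega) hy)
  have h2 := S.comm' (k := k) (l := k - 5) (by omega) (by omega) (Yz_le hy) hx
  refine cenL S hE (hk.sub (by decide)) ?_ fun z hz => (mem_V.1 h1).2 z (J_mono (by omega) (by omega) hz)
  exact S.inter_J (k - 4) (V_le S h1) h2 (by omega) (by omega) (by omega) (by omega) (by omega) (by omega)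

theorem aR {k : ℤ} (hk : Even k) {y x : G} (hy : y ∈ Yz X k) (hx : x ∈ X (k + 5)) : ⁅y, x⁆ ∈ Yz X (k + 2) := by
  have h1 : ⁅y, x⁆ ∈ V X (k - 2) :=
    V_comm_left S (mem_J hx (by omega) (by omega)) (Yz_le_V (by omega) (by omega) hy)
  have h2 := S.comm k (k + 5) (by omega) (by omega) y (Yz_le hy) x hx
  refine cenR S hE (hk.add (by decide)) ?_ fun z hz => (mem_V.1 h1).2 z (J_mono (by omega) (by omega) hz)
  exact S.inter_J k (V_le S h1) h2 (by omega) (by omega) (by omega) (by omega) (by omega) (by omega)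

theorem odd_comm {l : ℤ} (hl : Even (l + 5)) {a b : G} (ha : a ∈ X l) (hb : b ∈ X l) : a * b = b * a := by
  obtain ⟨y, hy, hy1⟩ := hE (l + 5) hl
  have e5 : l = l + 5 - 5 := by ring
  have h1 : ∀ c ∈ X l, ⁅y, c⁆ ∈ Yz X (l + 3) := by
    intro c hc
    have := aL S hE hl hy (x := c) (by rw [← e5]; exact hc)
    rwa [show l + 5 - 2 = l + 3 by ring] at this
  have h2 : ∀ c ∈ X l, ∀ d ∈ X l, ⁅y, c * d⁆ = ⁅y, c⁆ * ⁅y, d⁆ := by
    intro c hc d hd
    have h3 := Yz_comm (h1 d hd) hc (by omega) (by omega)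
    calc ⁅y, c * d⁆ = ⁅y, c⁆ * (c * ⁅y, d⁆ * c⁻¹) := by simp only [commutatorElement_def]; group
      _ = ⁅y, c⁆ * (⁅y, d⁆ * c * c⁻¹) := by rw [h3]
      _ = ⁅y, c⁆ * ⁅y, d⁆ := by group
  have h3 : ⁅y, a * b⁆ = ⁅y, b * a⁆ := by
    rw [h2 a ha b hb, h2 b hb a ha]
    exact Yz_comm (h1 a ha) (Yz_le (h1 b hb)) (by omega) (by omega)
  have h4 : ((b * a)⁻¹ * (a * b)) * y = y * ((b * a)⁻¹ * (a * b)) := by
    simp only [commutatorElement_def] at h3
    have h5 : (a * b) * y⁻¹ * (a * b)⁻¹ = (b * a) * y⁻¹ * (b * a)⁻¹ := by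
      have := congrArg (fun t => y⁻¹ * t) h3
      simpa [mul_assoc] using this
    have h6 : (a * b) * y * (a * b)⁻¹ = (b * a) * y * (b * a)⁻¹ := by
      have := congrArg (fun t => t⁻¹) h5
      simpa [mul_assoc] using this
    calc ((b * a)⁻¹ * (a * b)) * y = (b * a)⁻¹ * ((a * b) * y * (a * b)⁻¹) * (a * b) := by group
      _ = (b * a)⁻¹ * ((b * a) * y * (b * a)⁻¹) * (a * b) := by rw [h6]
      _ = y * ((b * a)⁻¹ * (a * b)) := by group
  have h5 : (b * a)⁻¹ * (a * b) = 1 := far' S (k := l + 5) (l := l) (by omega) (by omega) (Yz_le hy) hy1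
    (mul_mem (inv_mem (mul_mem hb ha)) (mul_mem ha hb)) h4
  exact (inv_mul_eq_one.1 h5).symm

end

/-! ### conversion to `OctA` -/

open OctDefs HexS in
/-- **[8], (1)-(4)** for a system whose `Y 4` is non trivial -/
theorem octA_of_Yc {Y : ZMod (2 * 8) → Subgroup G} (S : Sys 8 Y) (h : ∃ x ∈ Yc Y 4, x ≠ 1) : OctA Y := by
  obtain ⟨x₀, hx₀, hx₁⟩ := h
  have Z : ZSys 8 (zf Y) := zsys_of_sys S
  have cast_val : ∀ i : ZMod (2 * 8), (((i.val : ℕ) : ℤ) : ZMod (2 * 8)) = i := by decide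
  have hY : ∀ k : ℤ, Yc Y (k : ZMod (2 * 8)) = Yz (zf Y) k := by
    intro k
    unfold Yc Yz
    have e : ((k : ZMod (2 * 8)) - 4) = ((k - 4 : ℤ) : ZMod (2 * 8)) := by push_cast; rfl
    rw [e, seg_eq_J, show k - 4 + ((9 : ℕ) : ℤ) - 1 = k + 4 by push_cast; ring]
    rfl
  have hx₀' : x₀ ∈ Yz (zf Y) 4 := by
    rw [← hY]; exact_mod_cast hx₀
  have hE := all_ne Z (k₀ := 4) (by decide) hx₀' hx₁
  have e1 : ∀ i : ZMod (2 * 8), (2 * i : ZMod (2 * 8)) = ((2 * (i.val : ℤ) : ℤ) : ZMod (2 * 8)) := by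
    intro i
    push_cast
    rw [← Int.cast_natCast (R := ZMod (2 * 8)), cast_val]
  have hev : ∀ i : ZMod (2 * 8), Even (2 * (i.val : ℤ)) := fun i => even_two_mul _
  refine ⟨S, ?_, ?_, ?_, ?_, ?_, ?_, ?_⟩
  · intro i
    rw [e1 i, hY]
    exact hE _ (hev i)
  · intro i v hv hc
    rw [e1 i] at hv hc ⊢
    rw [hY]
    have e2 : (((2 * (i.val : ℤ) : ℤ) : ZMod (2 * 8)) - 3) = ((2 * (i.val : ℤ) - 3 : ℤ) : ZMod (2 * 8)) := by
      rw [Int.cast_sub]; rfl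
    rw [e2, seg_eq_J] at hv hc
    exact cen7 Z hE (hev i) (mem_V.2 ⟨J_mono (by omega) (by omega) hv, fun y hy =>
      hc y (J_mono (by omega) (by omega) hy)⟩)
  · intro i v hv hc
    rw [e1 i] at hv hc ⊢
    rw [hY]
    have e2 : (((2 * (i.val : ℤ) : ℤ) : ZMod (2 * 8)) - 2) = ((2 * (i.val : ℤ) - 2 : ℤ) : ZMod (2 * 8)) := by
      rw [Int.cast_sub]; rfl
    rw [e2, seg_eq_J] at hc
    rw [seg_eq_J] at hv
    exact cenL Z hE (hev i) (J_mono (by omega) (by omega) hv) fun y hy =>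
      hc y (J_mono (by omega) (by omega) hy)
  · intro i v hv hc
    rw [e1 i] at hv hc ⊢
    rw [hY]
    have e2 : (((2 * (i.val : ℤ) : ℤ) : ZMod (2 * 8)) - 4) = ((2 * (i.val : ℤ) - 4 : ℤ) : ZMod (2 * 8)) := by
      rw [Int.cast_sub]; rfl
    have e3 : (((2 * (i.val : ℤ) : ℤ) : ZMod (2 * 8)) - 1) = ((2 * (i.val : ℤ) - 1 : ℤ) : ZMod (2 * 8)) := by
      rw [Int.cast_sub]; norm_num
    rw [e2, seg_eq_J] at hc
    rw [e3, seg_eq_J] at hv
    exact cenR Z hE (hev i) (J_mono (by omega) (by omega) hv) fun y hy =>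
      hc y (J_mono (by omega) (by omega) hy)
  · intro i y hy x hx
    rw [e1 i] at hy hx ⊢
    have e2 : (((2 * (i.val : ℤ) : ℤ) : ZMod (2 * 8)) - 2) = ((2 * (i.val : ℤ) - 2 : ℤ) : ZMod (2 * 8)) := by
      rw [Int.cast_sub]; rfl
    rw [hY] at hy
    rw [e2, hY]
    refine aL Z hE (hev i) hy ?_
    have e3 : (((2 * (i.val : ℤ) : ℤ) : ZMod (2 * 8)) - 5) = ((2 * (i.val : ℤ) - 5 : ℤ) : ZMod (2 * 8)) := by
      rw [Int.cast_sub]; rfl
    rw [e3] at hx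
    exact hx
  · intro i y hy x hx
    rw [e1 i] at hy hx ⊢
    have e2 : (((2 * (i.val : ℤ) : ℤ) : ZMod (2 * 8)) + 2) = ((2 * (i.val : ℤ) + 2 : ℤ) : ZMod (2 * 8)) := by
      rw [Int.cast_add]; rfl
    rw [hY] at hy
    rw [e2, hY]
    refine aR Z hE (hev i) hy ?_
    have e3 : (((2 * (i.val : ℤ) : ℤ) : ZMod (2 * 8)) + 5) = ((2 * (i.val : ℤ) + 5 : ℤ) : ZMod (2 * 8)) := by
      rw [Int.cast_add]; rfl
    rw [e3] at hx
    exact hx
  · intro i a ha b hb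
    have e3 : (((2 * (i.val : ℤ) : ℤ) : ZMod (2 * 8)) + 1) = ((2 * (i.val : ℤ) + 1 : ℤ) : ZMod (2 * 8)) := by
      rw [Int.cast_add]; norm_num
    rw [e1 i, e3] at ha hb
    refine odd_comm Z hE (l := 2 * (i.val : ℤ) + 1) ?_ ha hb
    rw [show 2 * (i.val : ℤ) + 1 + 5 = 2 * (i.val : ℤ) + 6 by ring]
    exact (hev i).add (by decide)

open OctDefs HexS in
/-- **First structure theorem for finite Moufang octagons**: (1)-(4). -/
theorem octA [Finite G] (R : RootSys 8 G) : OctA R.X ∨ OctA (fun i => R.X (i + 1)) := by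
  have Z : ZSys 8 (zf R.X) := zsys_of_sys R.toSys
  have hY : ∀ k : ℤ, Yc R.X (k : ZMod (2 * 8)) = Yz (zf R.X) k := by
    intro k
    unfold Yc Yz
    have e : ((k : ZMod (2 * 8)) - 4) = ((k - 4 : ℤ) : ZMod (2 * 8)) := by push_cast; rfl
    rw [e, seg_eq_J, show k - 4 + ((9 : ℕ) : ℤ) - 1 = k + 4 by push_cast; ring]
    rfl
  obtain ⟨z, hz, hz1, hc⟩ := R.toSys.exists_center R.prime R.isPGroup ((1 : ℤ) : ZMod (2 * 8)) (k := 7) (by norm_num)
  rw [seg_eq_J] at hz hc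
  rcases exists_Yz Z (k := 1) ⟨z, J_mono (by omega) (by omega) hz, hz1, fun y hy => hc y (J_mono (by omega)
    (by omega) hy)⟩ with ⟨x, hx, hx1⟩ | ⟨x, hx, hx1⟩
  · refine Or.inl (octA_of_Yc R.toSys ⟨x, ?_, hx1⟩)
    rw [← hY] at hx
    exact_mod_cast hx
  · refine Or.inr (octA_of_Yc (R.toSys.shift 1) ⟨x, ?_, hx1⟩)
    have e : Yc (fun i => R.X (i + 1)) 4 = Yc R.X ((1 + 4 : ℤ) : ZMod (2 * 8)) := by
      unfold Yc
      rw [seg_shift]
      have e1 : (4 : ZMod (2 * 8)) + 1 = ((1 + 4 : ℤ) : ZMod (2 * 8)) := by decide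
      have e2 : (4 : ZMod (2 * 8)) - 4 + 1 = ((1 + 4 : ℤ) : ZMod (2 * 8)) - 4 := by decide
      rw [e2, ← e1]
    rw [e, hY]
    exact hx

end Cfsg.Agent.SplitTwo.OctBase
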