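import Cfsg.Agent.SplitTwo.OctLastDef
import Cfsg.Agent.Octagon.Pkg

/-!
# Moufang octagons: collection in the group `X_1 ⋯ X_7` (S1144, m = 8)

`Rel`: all commutator relations except `(2,8)`, `(1,8)`, in the form `x_j * x_i = x_i * (x_j * c)`, `i < j`;
`OctMin.rel` derives them from `OctMin` with the reflections `n1`, `n8`.
-/

set_option autoImplicit false

namespace Cfsg.Agent.SplitTwo.OctLast

/-- Products and reversed commutator relations. -/
structure Rel {F : Type*} [Field F] (σ : F →+* F) {G : Type*} [Group G] (x1 x3 x5 x7 : F → G)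
    (x2 x4 x6 x8 : F → F → G) : Prop where
  m1 : ∀ t s : F, x1 t * x1 s = x1 (t + s)
  m3 : ∀ t s : F, x3 t * x3 s = x3 (t + s)
  m5 : ∀ t s : F, x5 t * x5 s = x5 (t + s)
  m7 : ∀ t s : F, x7 t * x7 s = x7 (t + s)
  m2 : ∀ p u q v : F, x2 p u * x2 q v = x2 (p + q) (u + v + p * σ q)
  m4 : ∀ p u q v : F, x4 p u * x4 q v = x4 (p + q) (u + v + p * σ q)
  m6 : ∀ p u q v : F, x6 p u * x6 q v = x6 (p + q) (u + v + p * σ q)
  m8 : ∀ p u q v : F, x8 p u * x8 q v = x8 (p + q) (u + v + p * σ q)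
  q12 : ∀ t q v : F, x2 q v * x1 t = x1 t * x2 q v
  q13 : ∀ t s : F, x3 s * x1 t = x1 t * x3 s
  q14 : ∀ t q v : F, x4 q v * x1 t = x1 t * (x4 q v * x2 0 (t * q))
  q15 : ∀ t s : F, x5 s * x1 t = x1 t * x5 s
  q16 : ∀ t q v : F, x6 q v * x1 t = x1 t * (x6 q v * (x2 0 (σ t * q) * (x3 (t * σ q) * x4 0 (t * q * σ q + t * v))))
  q17 : ∀ t s : F, x7 s * x1 t = x1 t * (x7 s * (x3 (σ t * s) * x5 (t * σ s)))
  q23 : ∀ p u s : F, x3 s * x2 p u = x2 p u * x3 s
  q24 : ∀ p u q v : F, x4 q v * x2 p u = x2 p u * (x4 q v * x3 (p * q))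
  q25 : ∀ p u s : F, x5 s * x2 p u = x2 p u * (x5 s * x4 0 (p * s))
  q26 : ∀ p u q v : F, x6 q v * x2 p u = x2 p u * x6 q v
  q27 : ∀ p u s : F, x7 s * x2 p u = x2 p u * (x7 s * (x4 0 (p * σ p * s + u * s) * (x5 (σ p * s) * x6 0 (p * σ s))))
  q34 : ∀ t q v : F, x4 q v * x3 t = x3 t * x4 q v
  q35 : ∀ t s : F, x5 s * x3 t = x3 t * x5 s
  q36 : ∀ t q v : F, x6 q v * x3 t = x3 t * (x6 q v * x4 0 (t * q))
  q37 : ∀ t s : F, x7 s * x3 t = x3 t * x7 s
  q38 : ∀ t q v : F, x8 q v * x3 t = x3 t * (x8 q v * (x4 0 (σ t * q) * (x5 (t * σ q) * x6 0 (t * q * σ q + t * v))))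
  q45 : ∀ p u s : F, x5 s * x4 p u = x4 p u * x5 s
  q46 : ∀ p u q v : F, x6 q v * x4 p u = x4 p u * (x6 q v * x5 (p * q))
  q47 : ∀ p u s : F, x7 s * x4 p u = x4 p u * (x7 s * x6 0 (p * s))
  q48 : ∀ p u q v : F, x8 q v * x4 p u = x4 p u * x8 q v
  q56 : ∀ t q v : F, x6 q v * x5 t = x5 t * x6 q v
  q57 : ∀ t s : F, x7 s * x5 t = x5 t * x7 s
  q58 : ∀ t q v : F, x8 q v * x5 t = x5 t * (x8 q v * x6 0 (t * q))
  q67 : ∀ p u s : F, x7 s * x6 p u = x6 p u * x7 s
  q68 : ∀ p u q v : F, x8 q v * x6 p u = x6 p u * (x8 q v * x7 (p * q))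
  q78 : ∀ t q v : F, x8 q v * x7 t = x7 t * x8 q v

section

variable {F : Type*} [Field F] {σ : F →+* F} {G : Type*} [Group G] {x1 x3 x5 x7 : F → G}
    {x2 x4 x6 x8 : F → F → G}

namespace Rel

variable (H : Rel σ x1 x3 x5 x7 x2 x4 x6 x8)
include H

theorem b1 (t s : F) (w : G) : x1 t * (x1 s * w) = x1 (t + s) * w := by
  rw [← mul_assoc, H.m1]
theorem b3 (t s : F) (w : G) : x3 t * (x3 s * w) = x3 (t + s) * w := by
  rw [← mul_assoc, H.m3]
theorem b5 (t s : F) (w : G) : x5 t * (x5 s * w) = x5 (t + s) * w := by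
  rw [← mul_assoc, H.m5]
theorem b7 (t s : F) (w : G) : x7 t * (x7 s * w) = x7 (t + s) * w := by
  rw [← mul_assoc, H.m7]
theorem b2 (p u q v : F) (w : G) : x2 p u * (x2 q v * w) = x2 (p + q) (u + v + p * σ q) * w := by
  rw [← mul_assoc, H.m2]
theorem b4 (p u q v : F) (w : G) : x4 p u * (x4 q v * w) = x4 (p + q) (u + v + p * σ q) * w := by
  rw [← mul_assoc, H.m4]
theorem b6 (p u q v : F) (w : G) : x6 p u * (x6 q v * w) = x6 (p + q) (u + v + p * σ q) * w := by
  rw [← mul_assoc, H.m6]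
theorem b8 (p u q v : F) (w : G) : x8 p u * (x8 q v * w) = x8 (p + q) (u + v + p * σ q) * w := by
  rw [← mul_assoc, H.m8]
theorem a12 (t q v : F) (w : G) :
    x2 q v * (x1 t * w) = x1 t * (x2 q v * w) := by
  rw [← mul_assoc, H.q12]; simp only [mul_assoc]
theorem a13 (t s : F) (w : G) :
    x3 s * (x1 t * w) = x1 t * (x3 s * w) := by
  rw [← mul_assoc, H.q13]; simp only [mul_assoc]
theorem a14 (t q v : F) (w : G) :
    x4 q v * (x1 t * w) = x1 t * (x4 q v * (x2 0 (t * q) * w)) := by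
  rw [← mul_assoc, H.q14]; simp only [mul_assoc]
theorem a15 (t s : F) (w : G) :
    x5 s * (x1 t * w) = x1 t * (x5 s * w) := by
  rw [← mul_assoc, H.q15]; simp only [mul_assoc]
theorem a16 (t q v : F) (w : G) :
    x6 q v * (x1 t * w) = x1 t * (x6 q v * (x2 0 (σ t * q) * (x3 (t * σ q) * (x4 0 (t * q * σ q + t * v) * w)))) := by
  rw [← mul_assoc, H.q16]; simp only [mul_assoc]
theorem a17 (t s : F) (w : G) :
    x7 s * (x1 t * w) = x1 t * (x7 s * (x3 (σ t * s) * (x5 (t * σ s) * w))) := by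
  rw [← mul_assoc, H.q17]; simp only [mul_assoc]
theorem a23 (p u s : F) (w : G) :
    x3 s * (x2 p u * w) = x2 p u * (x3 s * w) := by
  rw [← mul_assoc, H.q23]; simp only [mul_assoc]
theorem a24 (p u q v : F) (w : G) :
    x4 q v * (x2 p u * w) = x2 p u * (x4 q v * (x3 (p * q) * w)) := by
  rw [← mul_assoc, H.q24]; simp only [mul_assoc]
theorem a25 (p u s : F) (w : G) :
    x5 s * (x2 p u * w) = x2 p u * (x5 s * (x4 0 (p * s) * w)) := by
  rw [← mul_assoc, H.q25]; simp only [mul_assoc]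
theorem a26 (p u q v : F) (w : G) :
    x6 q v * (x2 p u * w) = x2 p u * (x6 q v * w) := by
  rw [← mul_assoc, H.q26]; simp only [mul_assoc]
theorem a27 (p u s : F) (w : G) :
    x7 s * (x2 p u * w) = x2 p u * (x7 s * (x4 0 (p * σ p * s + u * s) * (x5 (σ p * s) * (x6 0 (p * σ s) * w)))) := by
  rw [← mul_assoc, H.q27]; simp only [mul_assoc]
theorem a34 (t q v : F) (w : G) :
    x4 q v * (x3 t * w) = x3 t * (x4 q v * w) := by
  rw [← mul_assoc, H.q34]; simp only [mul_assoc]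
theorem a35 (t s : F) (w : G) :
    x5 s * (x3 t * w) = x3 t * (x5 s * w) := by
  rw [← mul_assoc, H.q35]; simp only [mul_assoc]
theorem a36 (t q v : F) (w : G) :
    x6 q v * (x3 t * w) = x3 t * (x6 q v * (x4 0 (t * q) * w)) := by
  rw [← mul_assoc, H.q36]; simp only [mul_assoc]
theorem a37 (t s : F) (w : G) :
    x7 s * (x3 t * w) = x3 t * (x7 s * w) := by
  rw [← mul_assoc, H.q37]; simp only [mul_assoc]
theorem a38 (t q v : F) (w : G) :
    x8 q v * (x3 t * w) = x3 t * (x8 q v * (x4 0 (σ t * q) * (x5 (t * σ q) * (x6 0 (t * q * σ q + t * v) * w)))) := by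
  rw [← mul_assoc, H.q38]; simp only [mul_assoc]
theorem a45 (p u s : F) (w : G) :
    x5 s * (x4 p u * w) = x4 p u * (x5 s * w) := by
  rw [← mul_assoc, H.q45]; simp only [mul_assoc]
theorem a46 (p u q v : F) (w : G) :
    x6 q v * (x4 p u * w) = x4 p u * (x6 q v * (x5 (p * q) * w)) := by
  rw [← mul_assoc, H.q46]; simp only [mul_assoc]
theorem a47 (p u s : F) (w : G) :
    x7 s * (x4 p u * w) = x4 p u * (x7 s * (x6 0 (p * s) * w)) := by
  rw [← mul_assoc, H.q47]; simp only [mul_assoc]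
theorem a48 (p u q v : F) (w : G) :
    x8 q v * (x4 p u * w) = x4 p u * (x8 q v * w) := by
  rw [← mul_assoc, H.q48]; simp only [mul_assoc]
theorem a56 (t q v : F) (w : G) :
    x6 q v * (x5 t * w) = x5 t * (x6 q v * w) := by
  rw [← mul_assoc, H.q56]; simp only [mul_assoc]
theorem a57 (t s : F) (w : G) :
    x7 s * (x5 t * w) = x5 t * (x7 s * w) := by
  rw [← mul_assoc, H.q57]; simp only [mul_assoc]
theorem a58 (t q v : F) (w : G) :
    x8 q v * (x5 t * w) = x5 t * (x8 q v * (x6 0 (t * q) * w)) := by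
  rw [← mul_assoc, H.q58]; simp only [mul_assoc]
theorem a67 (p u s : F) (w : G) :
    x7 s * (x6 p u * w) = x6 p u * (x7 s * w) := by
  rw [← mul_assoc, H.q67]; simp only [mul_assoc]
theorem a68 (p u q v : F) (w : G) :
    x8 q v * (x6 p u * w) = x6 p u * (x8 q v * (x7 (p * q) * w)) := by
  rw [← mul_assoc, H.q68]; simp only [mul_assoc]
theorem a78 (t q v : F) (w : G) :
    x8 q v * (x7 t * w) = x7 t * (x8 q v * w) := by
  rw [← mul_assoc, H.q78]; simp only [mul_assoc]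

end Rel

end


section Derive

/-- Conjugation `g ↦ n⁻¹ g n`. -/
def cj {G : Type*} [Group G] (n : G) : G →* G := (MulAut.conj n⁻¹).toMonoidHom

theorem cj_apply {G : Type*} [Group G] (n g : G) : cj n g = n⁻¹ * g * n := by
  simp [cj]

variable {F : Type*} [Field F] {σ : F →+* F} {G : Type*} [Group G] {x1 x3 x5 x7 : F → G}
    {x2 x4 x6 x8 : F → F → G} {n1 n8 : G}

theorem inv_rel {a b c : G} (h : a * b = b * a * c) (hc : c * c = 1) : b * a = a * (b * c) := by
  rw [← mul_assoc, h, mul_assoc, hc, mul_one]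

theorem invol2 {x y : G} (hx : x * x = 1) (hy : y * y = 1) (hxy : x * y = y * x) : (x * y) * (x * y) = 1 := by
  calc (x * y) * (x * y) = x * (y * x) * y := by group
    _ = x * (x * y) * y := by rw [hxy]
    _ = (x * x) * (y * y) := by group
    _ = 1 := by rw [hx, hy, one_mul]

theorem invol3 {x y z : G} (hx : x * x = 1) (hy : y * y = 1) (hz : z * z = 1) (hxy : x * y = y * x)
    (hxz : x * z = z * x) (hyz : y * z = z * y) : (x * (y * z)) * (x * (y * z)) = 1 := by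
  refine invol2 hx (invol2 hy hz hyz) ?_
  calc x * (y * z) = (x * y) * z := by group
    _ = y * (x * z) := by rw [hxy, mul_assoc]
    _ = y * z * x := by rw [hxz]; group

theorem eq_one_of_mul_self {x : G} (h : x * x = x) : x = 1 := by
  have := congrArg (fun g => x⁻¹ * g) h
  simpa using this

namespace OctMin

variable (H : OctMin σ x1 x3 x5 x7 x2 x4 x6 x8 n1 n8)
include H

theorem cj_cj1 (g : G) : cj n1 (cj n1 g) = g := by
  simp only [cj_apply]
  have h : n1⁻¹ = n1 := inv_eq_of_mul_eq_one_left H.n1_sq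
  rw [h]
  calc n1 * (n1 * g * n1) * n1 = (n1 * n1) * g * (n1 * n1) := by group
    _ = g := by rw [H.n1_sq, one_mul, mul_one]

theorem cj_cj8 (g : G) : cj n8 (cj n8 g) = g := by
  simp only [cj_apply]
  have h : n8⁻¹ = n8 := inv_eq_of_mul_eq_one_left H.n8_sq
  rw [h]
  calc n8 * (n8 * g * n8) * n8 = (n8 * n8) * g * (n8 * n8) := by group
    _ = g := by rw [H.n8_sq, one_mul, mul_one]

theorem c12 (p u : F) : cj n1 (x2 p u) = x8 p u := by rw [cj_apply, H.n1_2]
theorem c13 (t : F) : cj n1 (x3 t) = x7 t := by rw [cj_apply, H.n1_3]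
theorem c14 (p u : F) : cj n1 (x4 p u) = x6 p u := by rw [cj_apply, H.n1_4]
theorem c15 (t : F) : cj n1 (x5 t) = x5 t := by rw [cj_apply, H.n1_5]
theorem c16 (p u : F) : cj n1 (x6 p u) = x4 p u := by rw [← H.c14, H.cj_cj1]
theorem c17 (t : F) : cj n1 (x7 t) = x3 t := by rw [← H.c13, H.cj_cj1]
theorem c18 (p u : F) : cj n1 (x8 p u) = x2 p u := by rw [← H.c12, H.cj_cj1]
theorem c81 (t : F) : cj n8 (x1 t) = x7 t := by rw [cj_apply, H.n8_1]
theorem c82 (p u : F) : cj n8 (x2 p u) = x6 p u := by rw [cj_apply, H.n8_2]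
theorem c83 (t : F) : cj n8 (x3 t) = x5 t := by rw [cj_apply, H.n8_3]
theorem c84 (p u : F) : cj n8 (x4 p u) = x4 p u := by rw [cj_apply, H.n8_4]
theorem c85 (t : F) : cj n8 (x5 t) = x3 t := by rw [← H.c83, H.cj_cj8]
theorem c86 (p u : F) : cj n8 (x6 p u) = x2 p u := by rw [← H.c82, H.cj_cj8]
theorem c87 (t : F) : cj n8 (x7 t) = x1 t := by rw [← H.c81, H.cj_cj8]

omit [Field F] H in
theorem mir1' {a b : G} (n : G) (h : a = b) : cj n a = cj n b := by rw [h]

theorem m7 (t s : F) : x7 t * x7 s = x7 (t + s) := by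
  have h := mir1' n8 (H.m1 t s)
  simpa only [map_mul, H.c81] using h
theorem m3 (t s : F) : x3 t * x3 s = x3 (t + s) := by
  have h := mir1' n1 (H.m7 t s)
  simpa only [map_mul, H.c17] using h
theorem m5 (t s : F) : x5 t * x5 s = x5 (t + s) := by
  have h := mir1' n8 (H.m3 t s)
  simpa only [map_mul, H.c83] using h
theorem m8 (p u q v : F) : x8 p u * x8 q v = x8 (p + q) (u + v + p * σ q) := by
  have h := mir1' n1 (H.m2 p u q v)
  rw [map_mul] at h
  simpa only [H.c12] using h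
theorem m6 (p u q v : F) : x6 p u * x6 q v = x6 (p + q) (u + v + p * σ q) := by
  have h := mir1' n8 (H.m2 p u q v)
  rw [map_mul] at h
  simpa only [H.c82] using h
theorem m4 (p u q v : F) : x4 p u * x4 q v = x4 (p + q) (u + v + p * σ q) := by
  have h := mir1' n1 (H.m6 p u q v)
  rw [map_mul] at h
  simpa only [H.c16] using h

theorem z1 : x1 0 = 1 := eq_one_of_mul_self (by rw [H.m1, add_zero])
theorem z3 : x3 0 = 1 := eq_one_of_mul_self (by rw [H.m3, add_zero])
theorem z5 : x5 0 = 1 := eq_one_of_mul_self (by rw [H.m5, add_zero])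
theorem z7 : x7 0 = 1 := eq_one_of_mul_self (by rw [H.m7, add_zero])
theorem z2 : x2 0 0 = 1 := eq_one_of_mul_self (by rw [H.m2]; simp)
theorem z4 : x4 0 0 = 1 := eq_one_of_mul_self (by rw [H.m4]; simp)
theorem z6 : x6 0 0 = 1 := eq_one_of_mul_self (by rw [H.m6]; simp)
theorem z8 : x8 0 0 = 1 := eq_one_of_mul_self (by rw [H.m8]; simp)

theorem dbl (t : F) : t + t = 0 := by
  have := H.two
  rw [← two_mul, this, zero_mul]

theorem i1 (t : F) : x1 t * x1 t = 1 := by rw [H.m1, H.dbl, H.z1]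
theorem i3 (t : F) : x3 t * x3 t = 1 := by rw [H.m3, H.dbl, H.z3]
theorem i5 (t : F) : x5 t * x5 t = 1 := by rw [H.m5, H.dbl, H.z5]
theorem i7 (t : F) : x7 t * x7 t = 1 := by rw [H.m7, H.dbl, H.z7]
theorem i2 (t : F) : x2 0 t * x2 0 t = 1 := by
  rw [H.m2, add_zero, H.dbl t, zero_mul, add_zero, H.z2]
theorem i4 (t : F) : x4 0 t * x4 0 t = 1 := by
  rw [H.m4, add_zero, H.dbl t, zero_mul, add_zero, H.z4]
theorem i6 (t : F) : x6 0 t * x6 0 t = 1 := by
  rw [H.m6, add_zero, H.dbl t, zero_mul, add_zero, H.z6]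

-- distance one
theorem q12 (t q v : F) : x2 q v * x1 t = x1 t * x2 q v := (H.r12 t q v).symm
theorem q67 (p u s : F) : x7 s * x6 p u = x6 p u * x7 s := by
  have h := mir1' n8 (H.r12 s p u)
  simpa only [map_mul, H.c81, H.c82] using h
theorem q34 (t q v : F) : x4 q v * x3 t = x3 t * x4 q v := by
  have h := mir1' n1 (H.q67 q v t)
  simpa only [map_mul, H.c16, H.c17] using h.symm
theorem q45 (p u s : F) : x5 s * x4 p u = x4 p u * x5 s := by
  have h := mir1' n8 (H.q34 s p u)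
  simpa only [map_mul, H.c83, H.c84] using h.symm
theorem q56 (t q v : F) : x6 q v * x5 t = x5 t * x6 q v := by
  have h := mir1' n1 (H.q45 q v t)
  simpa only [map_mul, H.c14, H.c15] using h.symm
theorem q23 (p u s : F) : x3 s * x2 p u = x2 p u * x3 s := by
  have h := mir1' n8 (H.q56 s p u)
  simpa only [map_mul, H.c85, H.c86] using h.symm
theorem q78 (t q v : F) : x8 q v * x7 t = x7 t * x8 q v := by
  have h := mir1' n1 (H.q23 q v t)
  simpa only [map_mul, H.c12, H.c13] using h.symm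
-- distance two
theorem q13 (t s : F) : x3 s * x1 t = x1 t * x3 s := (H.r13 t s).symm
theorem q57 (t s : F) : x7 s * x5 t = x5 t * x7 s := by
  have h := mir1' n8 (H.r13 s t)
  simpa only [map_mul, H.c81, H.c83] using h
theorem q35 (t s : F) : x5 s * x3 t = x3 t * x5 s := by
  have h := mir1' n1 (H.q57 s t)
  simpa only [map_mul, H.c17, H.c15] using h.symm
theorem q24 (p u q v : F) : x4 q v * x2 p u = x2 p u * (x4 q v * x3 (p * q)) :=
  inv_rel (H.r24 p u q v) (H.i3 _)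
theorem q46 (p u q v : F) : x6 q v * x4 p u = x4 p u * (x6 q v * x5 (p * q)) := by
  have h := mir1' n8 (H.r24 q v p u)
  simpa only [map_mul, H.c82, H.c84, H.c83, mul_assoc, mul_comm q p] using h
theorem q68 (p u q v : F) : x8 q v * x6 p u = x6 p u * (x8 q v * x7 (p * q)) := by
  have h := mir1' n1 (H.r24 q v p u)
  simpa only [map_mul, H.c12, H.c14, H.c13, mul_assoc, mul_comm q p] using h
-- distance three
theorem q14 (t q v : F) : x4 q v * x1 t = x1 t * (x4 q v * x2 0 (t * q)) :=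
  inv_rel (H.r14 t q v) (H.i2 _)
theorem r74 (t q v : F) : x7 t * x4 q v = x4 q v * x7 t * x6 0 (t * q) := by
  have h := mir1' n8 (H.r14 t q v)
  rw [map_mul, map_mul, map_mul] at h
  simpa only [H.c81, H.c82, H.c84] using h
theorem q47 (p u s : F) : x7 s * x4 p u = x4 p u * (x7 s * x6 0 (p * s)) := by
  rw [H.r74, mul_assoc, mul_comm s p]
theorem r36 (t q v : F) : x3 t * x6 q v = x6 q v * x3 t * x4 0 (t * q) := by
  have h := mir1' n1 (H.r74 t q v)
  rw [map_mul, map_mul, map_mul] at h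
  simpa only [H.c17, H.c14, H.c16] using h
theorem q36 (t q v : F) : x6 q v * x3 t = x3 t * (x6 q v * x4 0 (t * q)) :=
  inv_rel (H.r36 t q v) (H.i4 _)
theorem r52 (t q v : F) : x5 t * x2 q v = x2 q v * x5 t * x4 0 (t * q) := by
  have h := mir1' n8 (H.r36 t q v)
  rw [map_mul, map_mul, map_mul] at h
  simpa only [H.c83, H.c86, H.c84] using h
theorem q25 (p u s : F) : x5 s * x2 p u = x2 p u * (x5 s * x4 0 (p * s)) := by
  rw [H.r52, mul_assoc, mul_comm s p]
theorem r58 (t q v : F) : x5 t * x8 q v = x8 q v * x5 t * x6 0 (t * q) := by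
  have h := mir1' n1 (H.r52 t q v)
  rw [map_mul, map_mul, map_mul] at h
  simpa only [H.c15, H.c12, H.c14] using h
theorem q58 (t q v : F) : x8 q v * x5 t = x5 t * (x8 q v * x6 0 (t * q)) :=
  inv_rel (H.r58 t q v) (H.i6 _)
-- distance four
theorem q15 (t s : F) : x5 s * x1 t = x1 t * x5 s := (H.r15 t s).symm
theorem q37 (t s : F) : x7 s * x3 t = x3 t * x7 s := by
  have h := mir1' n8 (H.r15 s t)
  simpa only [map_mul, H.c81, H.c85] using h
theorem q26 (p u q v : F) : x6 q v * x2 p u = x2 p u * x6 q v := (H.r26 p u q v).symm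
theorem q48 (p u q v : F) : x8 q v * x4 p u = x4 p u * x8 q v := by
  have h := mir1' n1 (H.r26 q v p u)
  simpa only [map_mul, H.c12, H.c16] using h
-- distance five
theorem q16 (t q v : F) : x6 q v * x1 t =
    x1 t * (x6 q v * (x2 0 (σ t * q) * (x3 (t * σ q) * x4 0 (t * q * σ q + t * v)))) := by
  refine inv_rel ?_ (invol3 (H.i2 _) (H.i3 _) (H.i4 _) (H.q23 _ _ _).symm ?_ (H.q34 _ _ _).symm)
  · rw [H.r16]; simp only [mul_assoc]
  · have h := H.r24 0 (σ t * q) 0 (t * q * σ q + t * v)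
    rwa [zero_mul, H.z3, mul_one] at h
theorem r72 (t q v : F) : x7 t * x2 q v =
    x2 q v * x7 t * x6 0 (σ t * q) * x5 (t * σ q) * x4 0 (t * q * σ q + t * v) := by
  have h := mir1' n8 (H.r16 t q v)
  rw [map_mul, map_mul, map_mul, map_mul, map_mul] at h
  simpa only [H.c81, H.c86, H.c82, H.c83, H.c84] using h
theorem s46 (a b : F) : x4 0 a * x6 0 b = x6 0 b * x4 0 a := by
  have h := H.q46 0 a 0 b
  rw [zero_mul, H.z5, mul_one] at h
  exact h.symm
theorem q27 (p u s : F) : x7 s * x2 p u =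
    x2 p u * (x7 s * (x4 0 (p * σ p * s + u * s) * (x5 (σ p * s) * x6 0 (p * σ s)))) := by
  rw [H.r72]
  have e1 : s * p * σ p + s * u = p * σ p * s + u * s := by ring
  rw [e1, mul_comm (σ s) p, mul_comm s (σ p)]
  simp only [mul_assoc]
  congr 2
  rw [← mul_assoc, H.q56, mul_assoc, ← H.s46, ← mul_assoc, H.q45, mul_assoc]
theorem r38 (t q v : F) : x3 t * x8 q v =
    x8 q v * x3 t * x4 0 (σ t * q) * x5 (t * σ q) * x6 0 (t * q * σ q + t * v) := by
  have h := mir1' n1 (H.r72 t q v)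
  rw [map_mul, map_mul, map_mul, map_mul, map_mul] at h
  simpa only [H.c17, H.c12, H.c16, H.c15, H.c14] using h
theorem q38 (t q v : F) : x8 q v * x3 t =
    x3 t * (x8 q v * (x4 0 (σ t * q) * (x5 (t * σ q) * x6 0 (t * q * σ q + t * v)))) := by
  refine inv_rel ?_ (invol3 (H.i4 _) (H.i5 _) (H.i6 _) (H.q45 _ _ _).symm (H.s46 _ _) (H.q56 _ _ _).symm)
  rw [H.r38]; simp only [mul_assoc]
-- distance six
theorem q17 (t s : F) : x7 s * x1 t = x1 t * (x7 s * (x3 (σ t * s) * x5 (t * σ s))) := by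
  refine inv_rel ?_ (invol2 (H.i3 _) (H.i5 _) (H.q35 _ _).symm)
  rw [H.r17]; simp only [mul_assoc]

theorem rel : Rel σ x1 x3 x5 x7 x2 x4 x6 x8 :=
  { m1 := H.m1, m3 := H.m3, m5 := H.m5, m7 := H.m7, m2 := H.m2, m4 := H.m4, m6 := H.m6, m8 := H.m8,
    q12 := H.q12, q13 := H.q13, q14 := H.q14, q15 := H.q15, q16 := H.q16, q17 := H.q17,
    q23 := H.q23, q24 := H.q24, q25 := H.q25, q26 := H.q26, q27 := H.q27,
    q34 := H.q34, q35 := H.q35, q36 := H.q36, q37 := H.q37, q38 := H.q38,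
    q45 := H.q45, q46 := H.q46, q47 := H.q47, q48 := H.q48,
    q56 := H.q56, q57 := H.q57, q58 := H.q58, q67 := H.q67, q68 := H.q68, q78 := H.q78 }

end OctMin

end Derive

end Cfsg.Agent.SplitTwo.OctLast
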