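import Cfsg.Agent.TitsThree.FieldSet

/-!
# Irreducibility of the torus on a root group (S1144, `m = 8`)

`T` an additive subgroup of a field of operators `A`, stable under `x ↦ w x w`: `T = 0` or `T = A`.
-/

set_option autoImplicit false

namespace Cfsg.Agent.SplitTwo.OctIrr

open Cfsg.Agent.TitsThree.FieldSet

universe u v

theorem ideal_eq {R : Type u} [Ring R] [Finite R] {A : AddSubgroup R} (h : DivSet A) (T : AddSubgroup R)
    (hTA : T ≤ A) (hT : ∀ w ∈ A, w ≠ 0 → ∀ x ∈ T, w * x * w ∈ T) {x₀ : R} (hx₀ : x₀ ∈ T) (hx₀0 : x₀ ≠ 0) :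
    A ≤ T := by
  have h1 : ∀ w ∈ A, ∀ x ∈ T, w * w * x ∈ T := by
    intro w hw x hx
    by_cases hw0 : w = 0
    · rw [hw0, zero_mul, zero_mul]; exact T.zero_mem
    · have := hT w hw hw0 x hx
      have e : w * w * x = w * x * w := by
        calc w * w * x = w * (w * x) := mul_assoc _ _ _
          _ = w * (x * w) := by rw [h.comm hw (hTA hx)]
          _ = w * x * w := (mul_assoc _ _ _).symm
      rw [e]; exact this
  have h2 : ∀ t ∈ A, ∀ x ∈ T, t * x ∈ T := by
    intro t ht x hx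
    by_cases h2 : (2 : R) = 0
    · have hinj : Function.Injective (fun x : A => (⟨x.1 ^ 2, h.pow_mem x.2 2⟩ : A)) := by
        rintro ⟨x, hx⟩ ⟨y, hy⟩ hxy
        have hxy' : x ^ 2 = y ^ 2 := congrArg Subtype.val hxy
        apply Subtype.ext
        by_contra hne
        have hne' : x - y ≠ 0 := sub_ne_zero.2 hne
        have hu := (h.isUnit (A.sub_mem hx hy) hne').pow 2
        have h0 : (x - y) ^ 2 = 0 := by
          have hc := h.comm hx hy
          have e : (x - y) ^ 2 = x ^ 2 - y ^ 2 - 2 * (x * y - y * y) := by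
            have : (x - y) ^ 2 = x ^ 2 - x * y - y * x + y ^ 2 := by noncomm_ring
            rw [this, ← hc]; noncomm_ring
          rw [e, hxy', h2]; simp
        rw [h0] at hu
        have : Nontrivial R := ⟨⟨x₀, 0, hx₀0⟩⟩
        exact not_isUnit_zero hu
      have hsurj := Finite.surjective_of_injective hinj
      obtain ⟨⟨c, hc⟩, hcc⟩ := hsurj ⟨t, ht⟩
      have hcc' : c ^ 2 = t := congrArg Subtype.val hcc
      rw [← hcc', pow_two]
      exact h1 c hc x hx
    · have h2A : (2 : R) ∈ A := by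
        have := A.add_mem h.one_mem h.one_mem
        rwa [one_add_one_eq_two] at this
      obtain ⟨b, hbA, h2b, hb2⟩ := h.inv 2 h2A h2
      have ht' : b * t ∈ A := h.mul_mem hbA ht
      have h3 := h1 (b * t + 1) (A.add_mem ht' h.one_mem) x hx
      have h4 := h1 (b * t) ht' x hx
      have h5 : t * x = (b * t + 1) * (b * t + 1) * x - b * t * (b * t) * x - x := by
        have e : (b * t + 1) * (b * t + 1) * x - b * t * (b * t) * x - x = (2 * b) * t * x := by noncomm_ring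
        rw [e, h2b, one_mul]
      rw [h5]
      exact T.sub_mem (T.sub_mem h3 h4) hx
  intro y hy
  obtain ⟨b, hb, _, hb2⟩ := h.inv x₀ (hTA hx₀) hx₀0
  have e : y = (y * b) * x₀ := by rw [mul_assoc, hb2, mul_one]
  rw [e]
  exact h2 _ (h.mul_mem hy hb) _ hx₀

/-- Abstract irreducibility: `β r : A → B` additive in `r`, bijective for `r ≠ 1`, closed under
`β r' = β e (β r)⁻¹ β e`; a subgroup `S` closed under `β r'' = β e (β s)⁻¹ (β r) (β s)⁻¹ β e` is everything. -/
theorem irr {A : Type u} {B : Type v} [AddCommGroup A] [AddCommGroup B] [Finite A] {R : Type v} [Group R]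
    (β : R → A →+ B) (hadd : ∀ r s, β (r * s) = β r + β s)
    (hbij : ∀ r, r ≠ 1 → Function.Bijective (β r))
    (hclos : ∀ r e, r ≠ 1 → e ≠ 1 → ∃ r', ∀ a a', β r a' = β e a → β r' a = β e a')
    (S : Subgroup R)
    (hS : ∀ s e r, s ≠ 1 → e ≠ 1 → r ∈ S → ∃ r'' ∈ S, ∀ a a' a'', β s a' = β e a → β s a'' = β r a' →
      β r'' a = β e a'')
    (hA : ∃ a : A, a ≠ 0) {e : R} (heS : e ∈ S) (he1 : e ≠ 1) : S = ⊤ := by
  classical
  have hone : β 1 = 0 := by
    have := hadd 1 1
    rw [mul_one] at this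
    exact left_eq_add.mp this
  have hfin : Finite (AddMonoid.End A) := DFunLike.finite (A →+ A)
  let E : A ≃+ B := AddEquiv.ofBijective (β e) (hbij e he1)
  have hE : ∀ a, E a = β e a := fun a => rfl
  let θ : R → AddMonoid.End A := fun r => (E.symm.toAddMonoidHom.comp (β r) : A →+ A)
  have hθ : ∀ r a, θ r a = E.symm (β r a) := fun r a => rfl
  have hθE : ∀ r a, β e (θ r a) = β r a := by
    intro r a
    rw [hθ, ← hE, AddEquiv.apply_symm_apply]
  have hθeq : ∀ r a b, β r a = β e b → θ r a = b := by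
    intro r a b h
    rw [hθ, h, ← hE, AddEquiv.symm_apply_apply]
  have hθadd : ∀ r s, θ (r * s) = θ r + θ s := by
    intro r s
    ext a
    change θ (r * s) a = θ r a + θ s a
    rw [hθ, hθ, hθ, hadd, ← map_add]; rfl
  have hθ1 : θ 1 = 0 := by
    ext a
    change θ 1 a = 0
    rw [hθ, hone]; exact map_zero _
  have hθinv : ∀ r, θ r⁻¹ = -θ r := by
    intro r
    have := hθadd r r⁻¹
    rw [mul_inv_cancel, hθ1] at this
    exact (neg_eq_of_add_eq_zero_right this.symm).symm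
  have hθe : θ e = 1 := by
    ext a
    exact hθeq e a a rfl
  -- the additive subgroups
  let mk : Subgroup R → AddSubgroup (AddMonoid.End A) := fun Q =>
    { carrier := {x | ∃ r ∈ Q, θ r = x}
      zero_mem' := ⟨1, Q.one_mem, hθ1⟩
      add_mem' := by
        rintro _ _ ⟨r, hr, rfl⟩ ⟨s, hs, rfl⟩
        exact ⟨r * s, Q.mul_mem hr hs, hθadd r s⟩
      neg_mem' := by
        rintro _ ⟨r, hr, rfl⟩
        exact ⟨r⁻¹, Q.inv_mem hr, hθinv r⟩ }
  have hmk : ∀ Q x, x ∈ mk Q ↔ ∃ r ∈ Q, θ r = x := fun Q x => Iff.rfl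
  have hinv : ∀ r, r ≠ 1 → ∃ r', θ r * θ r' = 1 ∧ θ r' * θ r = 1 := by
    intro r hr
    obtain ⟨r', hr'⟩ := hclos r e hr he1
    refine ⟨r', ?_, ?_⟩
    · ext a
      change θ r (θ r' a) = a
      obtain ⟨a0, ha0⟩ := (hbij r hr).2 (β e a)
      have h1 : θ r' a = a0 := hθeq r' a a0 (hr' a a0 ha0)
      rw [h1]
      exact hθeq r a0 a ha0
    · ext a
      change θ r' (θ r a) = a
      apply hθeq
      exact hr' (θ r a) a (hθE r a).symm
  have hD : DivSet (mk ⊤) := by
    refine ⟨⟨e, trivial, hθe⟩, ?_⟩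
    rintro x ⟨r, _, rfl⟩ hx
    have hr : r ≠ 1 := by
      rintro rfl
      exact hx hθ1
    obtain ⟨r', h1, h2⟩ := hinv r hr
    exact ⟨θ r', ⟨r', trivial, rfl⟩, h1, h2⟩
  have hle : mk ⊤ ≤ mk S := by
    refine ideal_eq hD (mk S) ?_ ?_ (x₀ := 1) ⟨e, heS, hθe⟩ ?_
    · rintro x ⟨r, _, rfl⟩; exact ⟨r, trivial, rfl⟩
    · rintro w ⟨t, _, rfl⟩ hw x ⟨r, hr, rfl⟩
      have ht : t ≠ 1 := by
        rintro rfl
        exact hw hθ1
      -- `s` with `θ s = (θ t)⁻¹`
      obtain ⟨s, hs1, hs2⟩ := hinv t ht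
      have hs : s ≠ 1 := by
        rintro rfl
        rw [hθ1, mul_zero] at hs1
        obtain ⟨a, ha⟩ := hA
        apply ha
        have : (1 : AddMonoid.End A) a = (0 : AddMonoid.End A) a := by rw [hs1]
        exact this
      obtain ⟨r'', hr'', h3⟩ := hS s e r hs he1 hr
      refine ⟨r'', hr'', ?_⟩
      ext a
      change θ r'' a = θ t (θ r (θ t a))
      apply hθeq
      apply h3 a (θ t a) (θ t (θ r (θ t a)))
      · -- β s (θ t a) = β e a
        rw [← hθE s]
        congr 1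
        change (θ s * θ t) a = a
        rw [hs2]; rfl
      · rw [← hθE s, ← hθE r]
        congr 1
        change (θ s * θ t) (θ r (θ t a)) = θ r (θ t a)
        rw [hs2]; rfl
    · intro h
      obtain ⟨a, ha⟩ := hA
      apply ha
      have : (1 : AddMonoid.End A) a = (0 : AddMonoid.End A) a := by rw [h]
      exact this
  rw [eq_top_iff]
  intro r _
  obtain ⟨s, hs, hsr⟩ := hle ⟨r, trivial, rfl⟩
  have h4 : β (r * s⁻¹) = 0 := by
    ext a
    have h5 : θ (r * s⁻¹) = 0 := by rw [hθadd, hθinv, hsr, add_neg_cancel]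
    rw [← hθE, h5]
    exact map_zero _
  have h6 : r * s⁻¹ = 1 := by
    by_contra h7
    obtain ⟨a, ha⟩ := hA
    apply ha
    apply (hbij _ h7).1
    rw [h4, map_zero]; rfl
  rw [mul_inv_eq_one.mp h6]
  exact hs

/-- Group version of `irr`. -/
theorem irrG {G : Type u} [Group G] [Finite G] (A B R S : Subgroup G) (b : G → G → G)
    (hAc : ∀ x ∈ A, ∀ y ∈ A, x * y = y * x) (hBc : ∀ x ∈ B, ∀ y ∈ B, x * y = y * x)
    (hb : ∀ r ∈ R, ∀ a ∈ A, b r a ∈ B)
    (hmul : ∀ r ∈ R, ∀ a ∈ A, ∀ a' ∈ A, b r (a * a') = b r a * b r a')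
    (hadd : ∀ r ∈ R, ∀ s ∈ R, ∀ a ∈ A, b (r * s) a = b r a * b s a)
    (hinj : ∀ r ∈ R, r ≠ 1 → ∀ a ∈ A, b r a = 1 → a = 1)
    (hsurj : ∀ r ∈ R, r ≠ 1 → ∀ c ∈ B, ∃ a ∈ A, b r a = c)
    (hclos : ∀ r ∈ R, ∀ e ∈ R, r ≠ 1 → e ≠ 1 → ∃ r' ∈ R, ∀ a ∈ A, ∀ a' ∈ A, b r a' = b e a → b r' a = b e a')
    (hSR : S ≤ R)
    (hS : ∀ s ∈ R, ∀ e ∈ R, ∀ r ∈ S, s ≠ 1 → e ≠ 1 → ∃ r'' ∈ S, ∀ a ∈ A, ∀ a' ∈ A, ∀ a'' ∈ A,
      b s a' = b e a → b s a'' = b r a' → b r'' a = b e a'')
    (hA : ∃ a ∈ A, a ≠ 1) (hS1 : ∃ s ∈ S, s ≠ 1) : R ≤ S := by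
  let cA : CommGroup A := { (inferInstance : Group A) with mul_comm := fun x y => Subtype.ext (hAc x x.2 y y.2) }
  let cB : CommGroup B := { (inferInstance : Group B) with mul_comm := fun x y => Subtype.ext (hBc x x.2 y y.2) }
  let β : R → Additive A →+ Additive B := fun r =>
    { toFun := fun a => Additive.ofMul ⟨b r.1 (a.toMul).1, hb r.1 r.2 _ (a.toMul).2⟩
      map_zero' := by
        apply Additive.toMul.injective
        apply Subtype.ext
        change b r.1 1 = 1
        have := hmul r.1 r.2 1 A.one_mem 1 A.one_mem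
        rw [mul_one] at this
        exact left_eq_mul.mp this
      map_add' := by
        intro a a'
        apply Additive.toMul.injective
        apply Subtype.ext
        exact hmul r.1 r.2 _ (a.toMul).2 _ (a'.toMul).2 }
  have hβ : ∀ (r : R) (a : A), ((β r (Additive.ofMul a)).toMul).1 = b r.1 a.1 := fun r a => rfl
  have hβeq : ∀ (r s : R) (a a' : Additive A), β r a = β s a' ↔ b r.1 (a.toMul).1 = b s.1 (a'.toMul).1 := by
    intro r s a a'
    constructor
    · intro h; exact congrArg (fun t => (Additive.toMul t).1) h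
    · intro h
      apply Additive.toMul.injective
      exact Subtype.ext h
  obtain ⟨e, heS, he1⟩ := hS1
  obtain ⟨a0, ha0, ha01⟩ := hA
  have key := irr (A := Additive A) (B := Additive B) (R := R) β
    (by
      intro r s
      refine AddMonoidHom.ext fun a => ?_
      apply Additive.toMul.injective
      apply Subtype.ext
      exact hadd r.1 r.2 s.1 s.2 _ (a.toMul).2)
    (by
      intro r hr
      have hr' : r.1 ≠ 1 := fun h => hr (Subtype.ext h)
      constructor
      · rw [injective_iff_map_eq_zero]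
        intro a ha
        apply Additive.toMul.injective
        apply Subtype.ext
        exact hinj r.1 r.2 hr' _ (a.toMul).2 (congrArg (fun t => (Additive.toMul t).1) ha)
      · intro c
        obtain ⟨a, ha, hac⟩ := hsurj r.1 r.2 hr' _ (c.toMul).2
        refine ⟨Additive.ofMul ⟨a, ha⟩, ?_⟩
        apply Additive.toMul.injective
        exact Subtype.ext hac)
    (by
      intro r e hr he
      obtain ⟨r', hr', h⟩ := hclos r.1 r.2 e.1 e.2 (fun h => hr (Subtype.ext h)) (fun h => he (Subtype.ext h))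
      refine ⟨⟨r', hr'⟩, fun a a' haa => ?_⟩
      rw [hβeq] at haa ⊢
      exact h _ (a.toMul).2 _ (a'.toMul).2 haa)
    (S.subgroupOf R)
    (by
      intro s e r hs he hr
      obtain ⟨r'', hr'', h⟩ := hS s.1 s.2 e.1 e.2 r.1 hr (fun h => hs (Subtype.ext h)) (fun h => he (Subtype.ext h))
      refine ⟨⟨r'', hSR hr''⟩, hr'', fun a a' a'' h1 h2 => ?_⟩
      rw [hβeq] at h1 h2 ⊢
      exact h _ (a.toMul).2 _ (a'.toMul).2 _ (a''.toMul).2 h1 h2)
    ⟨Additive.ofMul ⟨a0, ha0⟩, fun h => ha01 (congrArg (fun t => (Additive.toMul t).1) h)⟩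
    (e := ⟨e, hSR heS⟩) heS (fun h => he1 (congrArg Subtype.val h))
  intro r hr
  have : (⟨r, hr⟩ : R) ∈ S.subgroupOf R := by rw [key]; trivial
  exact this

end Cfsg.Agent.SplitTwo.OctIrr
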