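import Cfsg.Agent.SplitTwo.SegMaps

/-!
# Root group systems of rank two: torus elements, equivariance of the mu-maps (S1144, any `m`)
-/

set_option autoImplicit false

namespace Cfsg.Agent.SplitTwo.TorMaps

open Cfsg.Agent.SplitTwo
open scoped commutatorElement

universe u

variable {m : ℕ} {G : Type u} [Group G] {X : ZMod (2 * m) → Subgroup G}

/-- `h` normalises all root groups. -/
def Tor (X : ZMod (2 * m) → Subgroup G) (h : G) : Prop := ∀ j x, h * x * h⁻¹ ∈ X j ↔ x ∈ X j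

theorem Tor.mem {h : G} (hh : Tor X h) {j : ZMod (2 * m)} {x : G} (hx : x ∈ X j) : h * x * h⁻¹ ∈ X j :=
  (hh j x).mpr hx

theorem Tor.inv {h : G} (hh : Tor X h) : Tor X h⁻¹ := by
  intro j x
  have h1 := hh j (h⁻¹ * x * h)
  have e : h * (h⁻¹ * x * h) * h⁻¹ = x := by group
  rw [e] at h1
  rw [inv_inv]
  exact h1.symm

theorem Tor.mem' {h : G} (hh : Tor X h) {j : ZMod (2 * m)} {x : G} (hx : x ∈ X j) : h⁻¹ * x * h ∈ X j := by
  have := hh.inv.mem hx
  rwa [inv_inv] at this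

theorem tor_of_refl {i : ZMod (2 * m)} {n n' : G} (hn : Refl X i n) (hn' : Refl X i n') : Tor X (n * n'⁻¹) := by
  intro j x
  have h1 := hn (2 * i + (m : ℕ) - j) (n'⁻¹ * x * n')
  have h2 := hn'.inv j x
  rw [inv_inv] at h2
  have e : 2 * i + (m : ℕ) - (2 * i + (m : ℕ) - j) = j := by ring
  rw [e, h2] at h1
  have e2 : n * n'⁻¹ * x * (n * n'⁻¹)⁻¹ = n * (n'⁻¹ * x * n') * n⁻¹ := by group
  rw [e2]
  exact h1

theorem isMu_conj_refl {k i : ZMod (2 * m)} {n u v w : G} (hn : Refl X k n) (h : IsMu X i u v w) :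
    IsMu X (2 * k + (m : ℕ) - i) (n * u * n⁻¹) (n * v * n⁻¹) (n * w * n⁻¹) := by
  obtain ⟨h1, h2, h3⟩ := h
  have h0 : (m : ZMod (2 * m)) + m = 0 := two_m_cast m
  have e : 2 * k + (m : ℕ) - (i + (m : ℕ)) = 2 * k + (m : ℕ) - i + (m : ℕ) := by
    have : 2 * k + (m : ZMod (2 * m)) - (i + (m : ℕ)) = 2 * k + (m : ℕ) - i + (m : ℕ) - ((m : ZMod (2 * m)) + m) := by ring
    rw [this, h0, sub_zero]
  refine ⟨e ▸ hn.mem h1, e ▸ hn.mem h2, ?_⟩
  intro j x
  have e1 : n * v * n⁻¹ * (n * u * n⁻¹) * (n * w * n⁻¹) = n * (v * u * w) * n⁻¹ := by group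
  rw [e1]
  have e2 : n * (v * u * w) * n⁻¹ * x * (n * (v * u * w) * n⁻¹)⁻¹ =
      n * ((v * u * w) * (n⁻¹ * x * n) * (v * u * w)⁻¹) * n⁻¹ := by group
  rw [e2]
  have a1 := hn.inv j x
  rw [inv_inv] at a1
  have a2 := h3 (2 * k + (m : ℕ) - j) (n⁻¹ * x * n)
  have a3 := hn (2 * i + (m : ℕ) - (2 * k + (m : ℕ) - j)) ((v * u * w) * (n⁻¹ * x * n) * (v * u * w)⁻¹)
  have e3 : 2 * k + (m : ℕ) - (2 * i + (m : ℕ) - (2 * k + (m : ℕ) - j)) =
      2 * (2 * k + (m : ℕ) - i) + (m : ℕ) - j := by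
    have : 2 * k + (m : ZMod (2 * m)) - (2 * i + (m : ℕ) - (2 * k + (m : ℕ) - j)) =
      2 * (2 * k + (m : ℕ) - i) + (m : ℕ) - j - ((m : ZMod (2 * m)) + m) := by ring
    rw [this, h0, sub_zero]
  rw [e3] at a3
  exact a3.trans (a2.trans a1)

theorem isMu_conj_tor {i : ZMod (2 * m)} {h u v w : G} (hh : Tor X h) (hm : IsMu X i u v w) :
    IsMu X i (h * u * h⁻¹) (h * v * h⁻¹) (h * w * h⁻¹) := by
  obtain ⟨h1, h2, h3⟩ := hm
  refine ⟨hh.mem h1, hh.mem h2, ?_⟩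
  intro j x
  have e1 : h * v * h⁻¹ * (h * u * h⁻¹) * (h * w * h⁻¹) = h * (v * u * w) * h⁻¹ := by group
  rw [e1]
  have e2 : h * (v * u * w) * h⁻¹ * x * (h * (v * u * w) * h⁻¹)⁻¹ =
      h * ((v * u * w) * (h⁻¹ * x * h) * (v * u * w)⁻¹) * h⁻¹ := by group
  rw [e2, hh]
  have a1 := hh.inv j x
  rw [inv_inv] at a1
  exact (h3 j (h⁻¹ * x * h)).trans a1

theorem muMap_conj_tor (S : Sys m X) {i : ZMod (2 * m)} {h u : G} (hh : Tor X h) (hu : u ∈ X i) (hu1 : u ≠ 1) :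
    muMap X i (h * u * h⁻¹) = h * muMap X i u * h⁻¹ := by
  have h1 := isMu_conj_tor hh (S.isMu hu hu1)
  rw [S.muMap_eq (hh.mem hu) (by simpa using hu1) h1]
  unfold muMap; group

theorem muMap_conj_refl (S : Sys m X) {k i : ZMod (2 * m)} {n u : G} (hn : Refl X k n) (hu : u ∈ X i)
    (hu1 : u ≠ 1) : muMap X (2 * k + (m : ℕ) - i) (n * u * n⁻¹) = n * muMap X i u * n⁻¹ := by
  have h1 := isMu_conj_refl hn (S.isMu hu hu1)
  rw [S.muMap_eq (hn.mem hu) (by simpa using hu1) h1]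
  unfold muMap; group

/-- The elements `κ` and `λ` as `u` runs through `X i`: `κ(λ(u)...)`; every `1 ≠ z ∈ X (i+m)` is `λ(u)` of some `u`:
take `u := κ'`, the left partner of `z`, conjugated. -/
theorem exists_eq_lam (S : Sys m X) {i : ZMod (2 * m)} {z : G} (hz : z ∈ X (i + (m : ℕ))) (hz1 : z ≠ 1) :
    ∃ u ∈ X i, u ≠ 1 ∧ lam X i u = z := by
  obtain ⟨k, l, hk, hl, hr⟩ := S.exists_isMu hz hz1
  have e0 : i + (m : ℕ) + (m : ℕ) = i := by rw [add_assoc, two_m_cast, add_zero]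
  rw [e0] at hk hl
  -- `n = k z l`; then `k z = n l⁻¹ = (n l⁻¹ n⁻¹) n`, so `(n l n⁻¹) k z = n`
  have hidx : ∀ j : ZMod (2 * m), 2 * (i + (m : ℕ)) + (m : ℕ) - j = 2 * i + (m : ℕ) - j := by
    intro j
    have : 2 * (i + (m : ℕ)) + (m : ℕ) - j = 2 * i + (m : ℕ) - j + ((m : ZMod (2 * m)) + m) := by ring
    rw [this, two_m_cast, add_zero]
  obtain ⟨n, hn⟩ : ∃ n, n = k * z * l := ⟨_, rfl⟩
  rw [← hn] at hr
  have hnl : n * l * n⁻¹ ∈ X (i + (m : ℕ)) := by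
    have := hr.mem hl
    rw [hidx] at this
    have e2 : 2 * i + (m : ℕ) - i = i + (m : ℕ) := by ring
    rwa [e2] at this
  have hk1 : k ≠ 1 := by
    rintro rfl
    -- then `n = z l`, so `z = n l⁻¹ ∈ X (i+m)`, `n l n⁻¹ * z = n`
    have h1 : (n * l * n⁻¹) * z = n := by rw [hn]; group
    have h2 : n ∈ X (i + (m : ℕ)) := by rw [← h1]; exact mul_mem hnl hz
    -- `n` normalises `X (i+m)` but maps it to `X i`
    have h3 := hr.mem hz
    rw [hidx] at h3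
    have e2 : 2 * i + (m : ℕ) - (i + (m : ℕ)) = i := by ring
    rw [e2] at h3
    have h4 : n * z * n⁻¹ ∈ X (i + (m : ℕ)) := mul_mem (mul_mem h2 hz) (inv_mem h2)
    have h5 : n * z * n⁻¹ = 1 := by
      apply S.seg_disjoint (i) (a := 1) (b := m - 1) (by have := S.three_le; omega)
      · rw [seg_one]; exact h3
      · -- `X (i+m) ≤ ?` : use `free`
        exfalso
        have h6 := S.free (i := i) (w := n * z * n⁻¹) h4 (by
          intro x
          constructor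
          · intro hx
            have := mul_mem (mul_mem (inv_mem h3) hx) h3
            have e : (n * z * n⁻¹)⁻¹ * (n * z * n⁻¹ * x * (n * z * n⁻¹)⁻¹) * (n * z * n⁻¹) = x := by group
            rwa [e] at this
          · intro hx
            exact mul_mem (mul_mem h3 hx) (inv_mem h3))
        exact hz1 (by simpa using h6)
    exact hz1 (by simpa using h5)
  refine ⟨k, hk, hk1, ?_⟩
  apply S.lam_eq hk hk1 (v := n * l * n⁻¹)
  refine ⟨hnl, hz, ?_⟩
  have e3 : n * l * n⁻¹ * k * z = n := by rw [hn]; group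
  rw [e3]
  intro j x
  have := hr j x
  rw [hidx] at this
  exact this

/-- Root elements at distance `d` with `m + 2 ≤ 2 d`... never commute: `x ∈ X i`, `y ∈ X (i+d)`, `d < m`,
`m < 2 d`. -/
theorem never_commute (S : Sys m X) {i j : ZMod (2 * m)} {x y : G} (d : ℕ) (hd : d < m) (hd' : m < 2 * d)
    (hj : i + (d : ℕ) = j) (hx : x ∈ X i) (hy : y ∈ X j) (hc : x * y = y * x) : x = 1 ∨ y = 1 := by
  subst hj
  by_contra hcon
  push Not at hcon
  have h1 := S.mem_of_commute i (l := d) hd' hx hcon.1 hc (k := d + 1) (by omega)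
    (le_seg X i (Nat.lt_succ_self d) hy)
  exact hcon.2 (S.inter_right i hd y hy h1)

end Cfsg.Agent.SplitTwo.TorMaps
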