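import Cfsg.Agent.SplitTwo.OctFive
import Cfsg.Agent.SplitTwo.TorMaps
import Cfsg.Agent.SplitTwo.OctIrr

/-!
# Moufang octagons (S1144): step (6)

* `irr1`: a non-trivial torus-invariant subgroup of `X 1` is `X 1`.
* `exists_c3`: the `X 3`-component of `⁅Y 6, Y 0⁆` is not always trivial.
-/

set_option autoImplicit false

namespace Cfsg.Agent.SplitTwo.OctSix

open Cfsg.Agent.SplitTwo Cfsg.Agent.SplitTwo.OctDefs Cfsg.Agent.SplitTwo.OctTools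
open Cfsg.Agent.SplitTwo.OctFive Cfsg.Agent.SplitTwo.TorMaps
open scoped commutatorElement

universe u

variable {G : Type u} [Group G] {X : ZMod (2 * 8) → Subgroup G}

theorem Yc_tor {h x : G} {k : ZMod (2 * 8)} (hh : Tor X h) (hx : x ∈ Yc X k) : h * x * h⁻¹ ∈ Yc X k := by
  refine mem_Yc_of (hh.mem (yx hx)) ?_
  intro r hr y hy
  have h1 := ycomm hx (hh.mem' hy) r hr rfl
  calc h * x * h⁻¹ * y = h * (x * (h⁻¹ * y * h)) * h⁻¹ := by group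
    _ = h * ((h⁻¹ * y * h) * x) * h⁻¹ := by rw [h1]
    _ = y * (h * x * h⁻¹) := by group

/-- `μ(x) y μ(x)⁻¹ = ⁅x, y⁆` for `x ∈ X 1`, `y ∈ Y 6`. -/
theorem mu_y6 (O : OctA X) {x y : G} (hx : x ∈ X 1) (hx1 : x ≠ 1) (hy : y ∈ Yc X 6) :
    muMap X 1 x * y * (muMap X 1 x)⁻¹ = ⁅x, y⁆ := by
  have S := O.sys
  have hk : kap X 1 x ∈ X 9 := xc (S.kap_mem hx hx1) (by decide)
  have hl : lam X 1 x ∈ X 9 := xc (S.lam_mem hx hx1) (by decide)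
  have hr := S.refl hx hx1
  set k := kap X 1 x with hkd
  set l := lam X 1 x with hld
  have hmu : muMap X 1 x = k * x * l := rfl
  have hly : y * l = l * y := ycomm hy hl 7 (by norm_num) (by decide)
  have hky : y * k = k * y := ycomm hy hk 7 (by norm_num) (by decide)
  have h4 : ⁅x, y⁆ ∈ Yc X 4 := (aL' O hy hx 3 (by decide) (by decide) (by decide)).1
  have h6 : ⁅k, ⁅x, y⁆⁆ ∈ Yc X 6 := (aR' O h4 hk 2 (by decide) (by decide) (by decide)).1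
  have hm : muMap X 1 x * y * (muMap X 1 x)⁻¹ ∈ Yc X 4 := Yc_refl hr hy (by decide)
  have e1 : muMap X 1 x * y * (muMap X 1 x)⁻¹ = ⁅k, ⁅x, y⁆⁆ * ⁅x, y⁆ * y := by
    rw [hmu]
    calc k * x * l * y * (k * x * l)⁻¹ = k * x * (l * y * l⁻¹) * x⁻¹ * k⁻¹ := by group
      _ = k * (x * y * x⁻¹) * k⁻¹ := by rw [conj_eq_self hly.symm]; group
      _ = (k * ⁅x, y⁆ * k⁻¹) * (k * y * k⁻¹) := by rw [commutatorElement_def]; group
      _ = (k * ⁅x, y⁆ * k⁻¹) * y := by rw [conj_eq_self hky.symm]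
      _ = ⁅k, ⁅x, y⁆⁆ * ⁅x, y⁆ * y := by
          congr 1
          rw [commutatorElement_def k]; group
  have hc46 : ⁅x, y⁆ * ⁅k, ⁅x, y⁆⁆ = ⁅k, ⁅x, y⁆⁆ * ⁅x, y⁆ := ycomm h4 (yx h6) 6 (by norm_num) (by decide)
  have e2 : (⁅x, y⁆)⁻¹ * (muMap X 1 x * y * (muMap X 1 x)⁻¹) = ⁅k, ⁅x, y⁆⁆ * y := by
    rw [e1, ← hc46]; group
  have h7 : ⁅k, ⁅x, y⁆⁆ * y = 1 := by
    refine sd S 2 1 (by norm_num) (i := 4) (j := 6) ?_ ?_ (by decide)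
    · rw [← e2]
      exact mul_mem (inv_mem (ms (yx h4) 0 (by norm_num) (by decide))) (ms (yx hm) 0 (by norm_num) (by decide))
    · rw [seg_one]; exact mul_mem (yx h6) (yx hy)
  rw [h7] at e2
  exact (inv_mul_eq_one.mp e2).symm

/-- `μ(x) w μ(x)⁻¹ = ⁅λ(x), w⁆` and `⁅x, ⁅λ(x), w⁆⁆ = w⁻¹` for `x ∈ X 1`, `w ∈ Y 4`. -/
theorem mu_w4 (O : OctA X) {x w : G} (hx : x ∈ X 1) (hx1 : x ≠ 1) (hw : w ∈ Yc X 4) :
    muMap X 1 x * w * (muMap X 1 x)⁻¹ = ⁅lam X 1 x, w⁆ ∧ ⁅x, ⁅lam X 1 x, w⁆⁆ = w⁻¹ := by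
  have S := O.sys
  have hk : kap X 1 x ∈ X 9 := xc (S.kap_mem hx hx1) (by decide)
  have hl : lam X 1 x ∈ X 9 := xc (S.lam_mem hx hx1) (by decide)
  have hr := S.refl hx hx1
  set k := kap X 1 x with hkd
  set l := lam X 1 x with hld
  have hmu : muMap X 1 x = k * x * l := rfl
  have hxw : w * x = x * w := ycomm hw hx 1 (by norm_num) (by decide)
  have h6 : ⁅l, w⁆ ∈ Yc X 6 := (aR' O hw hl 2 (by decide) (by decide) (by decide)).1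
  have h4 : ⁅x, ⁅l, w⁆⁆ ∈ Yc X 4 := (aL' O h6 hx 3 (by decide) (by decide) (by decide)).1
  have h4w : ⁅x, ⁅l, w⁆⁆ * w ∈ Yc X 4 := mul_mem h4 hw
  have h66 : ⁅k, ⁅x, ⁅l, w⁆⁆ * w⁆ ∈ Yc X 6 := (aR' O h4w hk 2 (by decide) (by decide) (by decide)).1
  have hk6 : ⁅l, w⁆ * k = k * ⁅l, w⁆ := ycomm h6 hk 7 (by norm_num) (by decide)
  have hm : muMap X 1 x * w * (muMap X 1 x)⁻¹ ∈ Yc X 6 := Yc_refl hr hw (by decide)
  have h46 : (⁅x, ⁅l, w⁆⁆ * w) * ⁅l, w⁆ = ⁅l, w⁆ * (⁅x, ⁅l, w⁆⁆ * w) :=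
    ycomm h4w (yx h6) 6 (by norm_num) (by decide)
  have e1 : muMap X 1 x * w * (muMap X 1 x)⁻¹ = ⁅k, ⁅x, ⁅l, w⁆⁆ * w⁆ * (⁅x, ⁅l, w⁆⁆ * w) * ⁅l, w⁆ := by
    rw [hmu]
    calc k * x * l * w * (k * x * l)⁻¹ = k * (x * (⁅l, w⁆ * w) * x⁻¹) * k⁻¹ := by
          rw [commutatorElement_def]; group
      _ = k * ((x * ⁅l, w⁆ * x⁻¹) * (x * w * x⁻¹)) * k⁻¹ := by group
      _ = k * ((⁅x, ⁅l, w⁆⁆ * ⁅l, w⁆) * w) * k⁻¹ := by
          rw [conj_eq_self hxw.symm, commutatorElement_def x]; group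
      _ = k * ((⁅x, ⁅l, w⁆⁆ * w) * ⁅l, w⁆) * k⁻¹ := by
          have : ⁅l, w⁆ * w = w * ⁅l, w⁆ := (ycomm hw (yx h6) 6 (by norm_num) (by decide)).symm
          congr 2
          rw [mul_assoc, this, ← mul_assoc]
      _ = (k * (⁅x, ⁅l, w⁆⁆ * w) * k⁻¹) * (k * ⁅l, w⁆ * k⁻¹) := by group
      _ = _ := by
          rw [conj_eq_self hk6.symm]
          congr 1
          rw [commutatorElement_def k]; group
  have h7 : ⁅x, ⁅l, w⁆⁆ * w = 1 := by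
    refine sd S 1 2 (by norm_num) (i := 4) (j := 5) ?_ ?_ (by decide)
    · rw [seg_one]; exact yx h4w
    · have e2 : ⁅x, ⁅l, w⁆⁆ * w = ⁅k, ⁅x, ⁅l, w⁆⁆ * w⁆⁻¹ * (muMap X 1 x * w * (muMap X 1 x)⁻¹) * ⁅l, w⁆⁻¹ := by
        rw [e1]; group
      rw [e2]
      exact mul_mem (mul_mem (inv_mem (ms (yx h66) 1 (by norm_num) (by decide)))
        (ms (yx hm) 1 (by norm_num) (by decide))) (inv_mem (ms (yx h6) 1 (by norm_num) (by decide)))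
  refine ⟨?_, eq_inv_of_mul_eq_one_left h7⟩
  rw [e1, h7]
  simp

/-- `⁅r s, y⁆ = ⁅r, y⁆ ⁅s, y⁆` for `r, s ∈ X 1`, `y ∈ Y 6`. -/
theorem add_x (O : OctA X) {r s y : G} (hr : r ∈ X 1) (hs : s ∈ X 1) (hy : y ∈ Yc X 6) :
    ⁅r * s, y⁆ = ⁅r, y⁆ * ⁅s, y⁆ := by
  have h4 : ⁅s, y⁆ ∈ Yc X 4 := (aL' O hy hs 3 (by decide) (by decide) (by decide)).1
  have h4' : ⁅r, y⁆ ∈ Yc X 4 := (aL' O hy hr 3 (by decide) (by decide) (by decide)).1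
  have hc : ⁅s, y⁆ * r = r * ⁅s, y⁆ := ycomm h4 hr 1 (by norm_num) (by decide)
  have hcc : ⁅s, y⁆ * ⁅r, y⁆ = ⁅r, y⁆ * ⁅s, y⁆ := ycomm h4 (yx h4') 4 (by norm_num) (by decide)
  have e : ⁅r * s, y⁆ = (r * ⁅s, y⁆ * r⁻¹) * ⁅r, y⁆ := by simp only [commutatorElement_def]; group
  rw [e, conj_eq_self hc.symm, hcc]

theorem mul_y (O : OctA X) {r y y' : G} (hr : r ∈ X 1) (hy : y ∈ Yc X 6) (hy' : y' ∈ Yc X 6) :
    ⁅r, y * y'⁆ = ⁅r, y⁆ * ⁅r, y'⁆ := by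
  have h4' : ⁅r, y'⁆ ∈ Yc X 4 := (aL' O hy' hr 3 (by decide) (by decide) (by decide)).1
  have hc : ⁅r, y'⁆ * y = y * ⁅r, y'⁆ := ycomm h4' (yx hy) 6 (by norm_num) (by decide)
  have e : ⁅r, y * y'⁆ = ⁅r, y⁆ * (y * ⁅r, y'⁆ * y⁻¹) := by simp only [commutatorElement_def]; group
  rw [e, conj_eq_self hc.symm]

theorem inv_x (O : OctA X) {r y : G} (hr : r ∈ X 1) (hy : y ∈ Yc X 6) : ⁅r⁻¹, y⁆ = ⁅r, y⁆⁻¹ := by
  have := add_x O hr (inv_mem hr) hy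
  rw [mul_inv_cancel, commutatorElement_one_left] at this
  exact (inv_eq_of_mul_eq_one_right this.symm).symm

theorem inj_y (O : OctA X) {r y : G} (hr : r ∈ X 1) (hr1 : r ≠ 1) (hy : y ∈ Yc X 6) (h : ⁅r, y⁆ = 1) : y = 1 := by
  rcases never_commute O.sys 5 (by norm_num) (by norm_num) (i := 1) (j := 6) (by decide) hr (yx hy)
    (comm_eq_one.mp h) with h | h
  · exact absurd h hr1
  · exact h

/-- **Irreducibility**: a non-trivial torus-invariant subgroup of `X 1` is `X 1`. -/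
theorem irr1 [Finite G] (O : OctA X) (T : Subgroup G) (hT : T ≤ X 1) (hne : ∃ t ∈ T, t ≠ 1)
    (hinv : ∀ h, Tor X h → ∀ t ∈ T, h * t * h⁻¹ ∈ T) : X 1 ≤ T := by
  have S := O.sys
  refine OctIrr.irrG (Yc X 6) (Yc X 4) (X 1) T (fun r a => ⁅r, a⁆) ?_ ?_ ?_ ?_ ?_ ?_ ?_ ?_ hT ?_ ?_ hne
  · intro x hx y hy; exact ycomm hx (yx hy) 4 (by norm_num) (by decide)
  · intro x hx y hy; exact ycomm hx (yx hy) 4 (by norm_num) (by decide)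
  · intro r hr a ha; exact (aL' O ha hr 3 (by decide) (by decide) (by decide)).1
  · intro r hr a ha a' ha'; exact mul_y O hr ha ha'
  · intro r hr s hs a ha; exact add_x O hr hs ha
  · intro r hr hr1 a ha h; exact inj_y O hr hr1 ha h
  · intro r hr hr1 c hc
    refine ⟨(muMap X 1 r)⁻¹ * c * muMap X 1 r, Yc_refl' (S.refl hr hr1) hc (by decide), ?_⟩
    have h1 : (muMap X 1 r)⁻¹ * c * muMap X 1 r ∈ Yc X 6 := Yc_refl' (S.refl hr hr1) hc (by decide)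
    change ⁅r, _⁆ = c
    rw [← mu_y6 O hr hr1 h1]; group
  · intro r hr e he hr1 he1
    have hre := S.refl he he1
    have hl : lam X 1 r ∈ X 9 := xc (S.lam_mem hr hr1) (by decide)
    refine ⟨muMap X 1 e * lam X 1 r * (muMap X 1 e)⁻¹, rx hre hl (by decide), ?_⟩
    intro a ha a' ha' haa
    change ⁅r, a'⁆ = ⁅e, a⁆ at haa
    change ⁅muMap X 1 e * lam X 1 r * (muMap X 1 e)⁻¹, a⁆ = ⁅e, a'⁆
    -- `w = μ(e)⁻¹ a μ(e)`
    obtain ⟨w, hw⟩ : ∃ w, w = (muMap X 1 e)⁻¹ * a * muMap X 1 e := ⟨_, rfl⟩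
    have hw4 : w ∈ Yc X 4 := hw ▸ Yc_refl' hre ha (by decide)
    have haw : a = muMap X 1 e * w * (muMap X 1 e)⁻¹ := by rw [hw]; group
    have hw2 : w = ⁅e, a⁆⁻¹ := by
      have h1 := mu_y6 O (inv_mem he) (inv_ne_one.mpr he1) ha
      rw [S.muMap_inv he he1, inv_inv, inv_x O he ha] at h1
      rw [hw]; exact h1
    obtain ⟨h3, h4⟩ := mu_w4 O hr hr1 hw4
    have h6 : ⁅lam X 1 r, w⁆ ∈ Yc X 6 := (aR' O hw4 hl 2 (by decide) (by decide) (by decide)).1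
    have h5 : ⁅lam X 1 r, w⁆ = a' := by
      have h7 : ⁅r, ⁅lam X 1 r, w⁆ * a'⁻¹⁆ = 1 := by
        rw [mul_y O hr h6 (inv_mem ha'), h4, hw2, inv_inv, ← haa]
        have := mul_y O hr ha' (inv_mem ha')
        rw [mul_inv_cancel, commutatorElement_one_right] at this
        exact this.symm
      exact mul_inv_eq_one.mp (inj_y O hr hr1 (mul_mem h6 (inv_mem ha')) h7)
    have e1 : ⁅muMap X 1 e * lam X 1 r * (muMap X 1 e)⁻¹, a⁆ =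
        muMap X 1 e * ⁅lam X 1 r, w⁆ * (muMap X 1 e)⁻¹ := by
      rw [haw]; simp only [commutatorElement_def]; group
    rw [e1, h5, mu_y6 O he he1 ha']
  · intro s hs e he r hr hs1 he1
    have hh : Tor X (muMap X 1 e * (muMap X 1 s)⁻¹) := tor_of_refl (S.refl he he1) (S.refl hs hs1)
    refine ⟨_, hinv _ hh r hr, ?_⟩
    intro a ha a' ha' a'' ha'' h1 h2
    change ⁅s, a'⁆ = ⁅e, a⁆ at h1
    change ⁅s, a''⁆ = ⁅r, a'⁆ at h2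
    change ⁅(muMap X 1 e * (muMap X 1 s)⁻¹) * r * (muMap X 1 e * (muMap X 1 s)⁻¹)⁻¹, a⁆ = ⁅e, a''⁆
    have hkey : ∀ {t b : G}, t ∈ X 1 → t ≠ 1 → b ∈ Yc X 6 → (muMap X 1 t)⁻¹ * b * muMap X 1 t = ⁅t, b⁆⁻¹ := by
      intro t b ht ht1 hb
      have h1 := mu_y6 O (inv_mem ht) (inv_ne_one.mpr ht1) hb
      rw [S.muMap_inv ht ht1, inv_inv, inv_x O ht hb] at h1
      exact h1
    have e1 : a = (muMap X 1 e * (muMap X 1 s)⁻¹) * a' * (muMap X 1 e * (muMap X 1 s)⁻¹)⁻¹ := by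
      have h3 := hkey hs hs1 ha'
      have h4 := hkey he he1 ha
      rw [h1] at h3
      calc a = muMap X 1 e * ((muMap X 1 e)⁻¹ * a * muMap X 1 e) * (muMap X 1 e)⁻¹ := by group
        _ = muMap X 1 e * ((muMap X 1 s)⁻¹ * a' * muMap X 1 s) * (muMap X 1 e)⁻¹ := by rw [h4, h3]
        _ = _ := by group
    have e2 : ⁅(muMap X 1 e * (muMap X 1 s)⁻¹) * r * (muMap X 1 e * (muMap X 1 s)⁻¹)⁻¹, a⁆ =
        (muMap X 1 e * (muMap X 1 s)⁻¹) * ⁅r, a'⁆ * (muMap X 1 e * (muMap X 1 s)⁻¹)⁻¹ := by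
      rw [e1]; simp only [commutatorElement_def]; group
    rw [e2, ← h2, ← mu_y6 O hs hs1 ha'', ← mu_y6 O he he1 ha'']
    group
  · exact ne_even O 3 (by decide)

end Cfsg.Agent.SplitTwo.OctSix
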