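import Cfsg.Agent.SplitTwo.OctSkel
import Cfsg.Agent.SplitTwo.OctSix
import Cfsg.Agent.SplitTwo.HexField

/-!
# Moufang octagons (S1144, [8]): coordinates, part A ((15), (16) of bb #5290)

`CA X F …`: the field `F`, the parametrisations of `X 1, X 3, X 5, X 7` and `Y 2, Y 4, Y 6, Y 8`, and the relations
between them.
-/

set_option autoImplicit false

namespace Cfsg.Agent.SplitTwo.OctCoordA

open Cfsg.Agent.SplitTwo Cfsg.Agent.SplitTwo.OctDefs Cfsg.Agent.SplitTwo.OctTools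
open Cfsg.Agent.SplitTwo.OctSix Cfsg.Agent.SplitTwo.OctSkel Cfsg.Agent.SplitTwo.HexField
open scoped commutatorElement

universe u v

variable {G : Type u} [Group G] {X : ZMod (2 * 8) → Subgroup G}

/-- First coordinates. -/
structure CA (X : ZMod (2 * 8) → Subgroup G) {F : Type v} [Field F] (n1 n8 e1 e8 : G)
    (x1 x3 x5 x7 y2 y4 y6 y8 : F → G) : Prop where
  K : Skel X
  two : (2 : F) = 0
  e1m : e1 ∈ X 1
  e1n : e1 ≠ 1
  e8m : e8 ∈ Yc X 8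
  e8n : e8 ≠ 1
  n1d : n1 = muMap X 1 e1
  n8d : n8 = muMap X 8 e8
  n1s : n1 * n1 = 1
  n8s : n8 * n8 = 1
  p1 : Par (X 1) x1
  p3 : Par (X 3) x3
  p5 : Par (X 5) x5
  p7 : Par (X 7) x7
  q2 : Par (Yc X 2) y2
  q4 : Par (Yc X 4) y4
  q6 : Par (Yc X 6) y6
  q8 : Par (Yc X 8) y8
  one1 : x1 1 = e1
  one8 : y8 1 = e8
  n1_3 : ∀ t, cj n1 (x3 t) = x7 t
  n1_5 : ∀ t, cj n1 (x5 t) = x5 t
  n1_7 : ∀ t, cj n1 (x7 t) = x3 t
  n1_2 : ∀ t, cj n1 (y2 t) = y8 t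
  n1_4 : ∀ t, cj n1 (y4 t) = y6 t
  n1_6 : ∀ t, cj n1 (y6 t) = y4 t
  n1_8 : ∀ t, cj n1 (y8 t) = y2 t
  n8_1 : ∀ t, cj n8 (x1 t) = x7 t
  n8_3 : ∀ t, cj n8 (x3 t) = x5 t
  n8_5 : ∀ t, cj n8 (x5 t) = x3 t
  n8_7 : ∀ t, cj n8 (x7 t) = x1 t
  n8_2 : ∀ t, cj n8 (y2 t) = y6 t
  n8_4 : ∀ x ∈ X 4, cj n8 x = x
  n8_6 : ∀ t, cj n8 (y6 t) = y2 t
  a16 : ∀ t w, kk (x1 t) (y6 w) = y4 (t * w)
  a72 : ∀ t w, kk (x7 t) (y2 w) = y4 (t * w)
  a38 : ∀ t w, kk (x3 t) (y8 w) = y6 (t * w)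

/-- The maps `Y 6 → Y 4`. -/
theorem exists_theta (O : OctA X) {A6 A4 : Type v} [AddCommGroup A6] [AddCommGroup A4] {f6 : A6 → G}
    {f4 : A4 → G} (h6 : Par (Yc X 6) f6) (h4 : Par (Yc X 4) f4) :
    ∃ Θ : X 1 → (A6 →+ A4), (∀ (a : X 1) v, f4 (Θ a v) = ⁅(a : G), f6 v⁆) ∧
      (∀ a b, Θ (a * b) = Θ a + Θ b) ∧ (∀ a : X 1, (a : G) ≠ 1 → Function.Bijective (Θ a)) ∧
      (∀ e a : X 1, (e : G) ≠ 1 → (a : G) ≠ 1 → ∃ d, ∀ v w, Θ a v = Θ e w → Θ d w = Θ e v) := by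
  have S := O.sys
  have key : ∀ a : X 1, ∃ Φ : A6 →+ A4, ∀ v, f4 (Φ v) = ⁅(a : G), f6 v⁆ := by
    intro a
    apply exists_hom h6.add h4.add h4.inj (fun y => ⁅(a : G), y⁆)
      (fun v => (h4.mem _).mp (aL' O (h6.m v) a.2 3 (by decide) (by decide) (by decide)).1)
    intro v w
    exact mul_y O a.2 (h6.m v) (h6.m w)
  choose Θ hΘ using key
  refine ⟨Θ, hΘ, ?_, ?_, ?_⟩
  · intro a b
    ext v
    apply h4.inj
    rw [AddMonoidHom.add_apply, h4.add, hΘ, hΘ, hΘ]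
    exact add_x O a.2 b.2 (h6.m v)
  · intro a ha
    constructor
    · rw [injective_iff_map_eq_zero]
      intro v hv
      have h1 : ⁅(a : G), f6 v⁆ = 1 := by rw [← hΘ, hv, h4.zero]
      have h2 := inj_y O a.2 ha (h6.m v) h1
      apply h6.inj
      rw [h2, h6.zero]
    · intro w
      have h1 : (muMap X 1 (a : G))⁻¹ * f4 w * muMap X 1 (a : G) ∈ Yc X 6 :=
        Yc_refl' (S.refl a.2 ha) (h4.m w) (by decide)
      obtain ⟨v, hv⟩ := (h6.mem _).mp h1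
      refine ⟨v, h4.inj ?_⟩
      rw [hΘ, hv, ← mu_y6 O a.2 ha h1]; group
  · intro e a he ha
    have hre := S.refl e.2 he
    have hl : lam X 1 (a : G) ∈ X 9 := xc (S.lam_mem a.2 ha) (by decide)
    refine ⟨⟨muMap X 1 (e : G) * lam X 1 (a : G) * (muMap X 1 (e : G))⁻¹, rx hre hl (by decide)⟩, ?_⟩
    intro v w hvw
    apply h4.inj
    rw [hΘ, hΘ]
    have haa : ⁅(a : G), f6 v⁆ = ⁅(e : G), f6 w⁆ := by rw [← hΘ, ← hΘ, hvw]
    have hav := h6.m v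
    have haw := h6.m w
    generalize f6 v = a' at *
    generalize f6 w = b at *
    obtain ⟨w', hw'⟩ : ∃ w', w' = (muMap X 1 (e : G))⁻¹ * b * muMap X 1 (e : G) := ⟨_, rfl⟩
    have hw4 : w' ∈ Yc X 4 := hw' ▸ Yc_refl' hre haw (by decide)
    have hbw : b = muMap X 1 (e : G) * w' * (muMap X 1 (e : G))⁻¹ := by rw [hw']; group
    have hw2 : w' = ⁅(e : G), b⁆⁻¹ := by
      have h1 := mu_y6 O (inv_mem e.2) (inv_ne_one.mpr he) haw
      rw [S.muMap_inv e.2 he, inv_inv, inv_x O e.2 haw] at h1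
      rw [hw']; exact h1
    obtain ⟨h3, h4'⟩ := mu_w4 O a.2 ha hw4
    have h6' : ⁅lam X 1 (a : G), w'⁆ ∈ Yc X 6 := (aR' O hw4 hl 2 (by decide) (by decide) (by decide)).1
    have h5 : ⁅lam X 1 (a : G), w'⁆ = a' := by
      have h7 : ⁅(a : G), ⁅lam X 1 (a : G), w'⁆ * a'⁻¹⁆ = 1 := by
        rw [mul_y O a.2 h6' (inv_mem hav), h4', hw2, inv_inv, ← haa]
        have := mul_y O a.2 hav (inv_mem hav)
        rw [mul_inv_cancel, commutatorElement_one_right] at this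
        exact this.symm
      exact mul_inv_eq_one.mp (inj_y O a.2 ha (mul_mem h6' (inv_mem hav)) h7)
    change ⁅muMap X 1 (e : G) * lam X 1 (a : G) * (muMap X 1 (e : G))⁻¹, b⁆ = ⁅(e : G), a'⁆
    have e1 : ⁅muMap X 1 (e : G) * lam X 1 (a : G) * (muMap X 1 (e : G))⁻¹, b⁆ =
        muMap X 1 (e : G) * ⁅lam X 1 (a : G), w'⁆ * (muMap X 1 (e : G))⁻¹ := by
      conv_lhs => rw [hbw]
      simp only [commutatorElement_def]; group
    rw [e1, h5, mu_y6 O e.2 he hav]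

/-- `exists_field_of_maps` with a field in `Type`. -/
theorem exists_field0 {A : Type*} [Group A] {V : Type u} {W : Type*} [AddCommGroup V]
    [AddCommGroup W] [Finite V] [Nontrivial V] (Θ : A → (V →+ W))
    (hmul : ∀ a b, Θ (a * b) = Θ a + Θ b) (hbij : ∀ a, a ≠ 1 → Function.Bijective (Θ a))
    (e : A) (he : e ≠ 1)
    (hinv : ∀ a, a ≠ 1 → ∃ d, ∀ v w, Θ a v = Θ e w → Θ d w = Θ e v) :
    ∃ (F : Type) (_ : Field F) (_ : Module F V) (ι : A → F), Finite F ∧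
      Function.Bijective ι ∧ (∀ a b, ι (a * b) = ι a + ι b) ∧ ι e = 1 ∧
      ∀ a v, Θ a v = Θ e (ι a • v) := by
  obtain ⟨F, _, _, ι, hF, hb, hadd, hone, h⟩ := QuadField.exists_field_of_maps Θ hmul hbij e he hinv
  let σ : Shrink.{0} F ≃+* F := Shrink.ringEquiv.{0} F
  let iM : Module (Shrink.{0} F) V := Module.compHom V (σ : Shrink.{0} F →+* F)
  refine ⟨Shrink.{0} F, inferInstance, iM, fun a => σ.symm (ι a),
    Finite.of_equiv F (equivShrink.{0} F), σ.symm.bijective.comp hb, ?_, ?_, ?_⟩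
  · intro a b
    change σ.symm (ι (a * b)) = _
    rw [hadd, map_add]
  · change σ.symm (ι e) = 1
    rw [hone, map_one]
  · intro a v
    have e1 : (σ.symm (ι a) • v : V) = ι a • v := by
      change σ (σ.symm (ι a)) • v = _
      rw [RingEquiv.apply_symm_apply]
    rw [e1]; exact h a v

theorem card_par {U : Subgroup G} {A : Type v} [AddCommGroup A] {f : A → G} (h : Par U f) :
    Nat.card A = Nat.card U := by
  refine Nat.card_congr (Equiv.ofBijective (fun a => (⟨f a, h.m a⟩ : U)) ⟨?_, ?_⟩)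
  · intro a b hab
    exact h.inj (congrArg Subtype.val hab)
  · rintro ⟨g, hg⟩
    obtain ⟨a, ha⟩ := (h.mem g).mp hg
    exact ⟨a, Subtype.ext ha⟩

theorem par_conj {U V : Subgroup G} {A : Type v} [AddCommGroup A] {f : A → G} (h : Par U f) {n : G}
    (hn : n * n = 1) (h1 : ∀ x ∈ U, n⁻¹ * x * n ∈ V) (h2 : ∀ x ∈ V, n⁻¹ * x * n ∈ U) :
    Par V (fun a => cj n (f a)) := by
  have hnn : n⁻¹ = n := inv_eq_of_mul_eq_one_right hn
  refine ⟨fun a b => by rw [h.add, cj_mul], fun a b hab => h.inj (cj_inj hab), fun g => ?_⟩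
  constructor
  · intro hg
    obtain ⟨a, ha⟩ := (h.mem _).mp (h2 g hg)
    refine ⟨a, ?_⟩
    rw [ha]
    unfold cj
    calc n⁻¹ * (n⁻¹ * g * n) * n = (n⁻¹ * n⁻¹) * g * (n * n) := by group
      _ = g := by rw [hnn, hn, one_mul, mul_one]
  · rintro ⟨a, rfl⟩
    exact h1 _ (h.m a)

theorem cj_cj_self {n : G} (hn : n * n = 1) (x : G) : cj n (cj n x) = x := by
  have hnn : n⁻¹ = n := inv_eq_of_mul_eq_one_right hn
  unfold cj
  calc n⁻¹ * (n⁻¹ * x * n) * n = (n⁻¹ * n⁻¹) * x * (n * n) := by group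
    _ = x := by rw [hnn, hn, one_mul, mul_one]

theorem commute_mu {c : ZMod (2 * 8)} {e g : G} (S : Sys 8 X) (he : e ∈ X c) (he1 : e ≠ 1)
    (h1 : ∀ x ∈ X c, g * x = x * g) (h2 : ∀ x ∈ X (c + ((8 : ℕ) : ZMod (2 * 8))), g * x = x * g) :
    cj (muMap X c e) g = g := by
  have h : g * muMap X c e = muMap X c e * g :=
    conj_comm_of (conj_comm_of (h2 _ (S.kap_mem he he1)) (h1 _ he)) (h2 _ (S.lam_mem he he1))
  unfold cj
  rw [mul_assoc, h]; group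

theorem exists_CA [Finite G] (K : Skel X) (hp : ∀ i, IsPGroup 2 (X i)) :
    ∃ (F : Type) (_ : Field F) (_ : Finite F) (n1 n8 e1 e8 : G) (x1 x3 x5 x7 y2 y4 y6 y8 : F → G),
      CA X n1 n8 e1 e8 x1 x3 x5 x7 y2 y4 y6 y8 := by
  classical
  have O := K.A
  have S := O.sys
  obtain ⟨e1, he1, he1n⟩ := S.exists_ne_one 1
  obtain ⟨e8, he8, he8n⟩ : ∃ y ∈ Yc X 8, y ≠ 1 := O.ne 4
  have cY : ∀ {k : ZMod (2 * 8)} {a b : G}, a ∈ Yc X k → b ∈ Yc X k → a * b = b * a :=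
    fun ha hb => ycomm ha (yx hb) 4 (by norm_num) (by push_cast; ring)
  obtain ⟨A6, _, f6, h6⟩ := exists_par (Yc X 6) (fun a ha b hb => cY ha hb)
  obtain ⟨A4, _, f4, h4⟩ := exists_par (Yc X 4) (fun a ha b hb => cY ha hb)
  have : Finite A6 := Finite.of_injective f6 h6.inj
  obtain ⟨Θ, hΘ, hmul, hbij, hinv⟩ := exists_theta O h6 h4
  obtain ⟨n1, hn1⟩ : ∃ n1, n1 = muMap X 1 e1 := ⟨_, rfl⟩
  obtain ⟨n8, hn8⟩ : ∃ n8, n8 = muMap X 8 e8 := ⟨_, rfl⟩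
  have hr1 : Refl X 1 n1 := hn1 ▸ S.refl he1 he1n
  have hr8 : Refl X 8 n8 := hn8 ▸ S.refl (yx he8) he8n
  -- the base element of `Y 6`
  obtain ⟨b, hb⟩ : ∃ b, b = n8 * (n1 * e8 * n1⁻¹) * n8⁻¹ := ⟨_, rfl⟩
  have hb6 : b ∈ Yc X 6 := by
    rw [hb]
    exact Yc_refl hr8 (Yc_refl (j' := 2) hr1 he8 (by decide)) (by decide)
  have hbn : b ≠ 1 := by
    rw [hb]; intro h; exact he8n (by simpa using h)
  obtain ⟨v, hv⟩ := (h6.mem b).mp hb6
  have hv0 : v ≠ 0 := by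
    rintro rfl
    rw [h6.zero] at hv
    exact hbn hv.symm
  have : Nontrivial A6 := ⟨⟨v, 0, hv0⟩⟩
  have hne : ∀ t : X 1, t ≠ 1 → (t : G) ≠ 1 := fun t ht h' => ht (Subtype.ext h')
  have he1' : (⟨e1, he1⟩ : X 1) ≠ 1 := fun h' => he1n (congrArg Subtype.val h')
  obtain ⟨F, iF, iM, ι, hF, hι, hadd, hone, hs⟩ := exists_field0 (A := X 1) (V := A6) Θ hmul
    (fun a ha => hbij a (hne a ha)) ⟨e1, he1⟩ he1' (fun a ha => hinv _ _ he1n (hne a ha))
  -- `x1`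
  obtain ⟨ιe, hιe⟩ : ∃ ιe : X 1 ≃ F, ∀ t, ιe t = ι t := ⟨Equiv.ofBijective ι hι, fun _ => rfl⟩
  obtain ⟨x1, hx1⟩ : ∃ x1 : F → G, x1 = fun t : F => ((ιe.symm t : X 1) : G) := ⟨_, rfl⟩
  have p1 : Par (X 1) x1 := by
    rw [hx1]
    refine ⟨?_, ?_, ?_⟩
    · intro s t
      change ((ιe.symm (s + t) : X 1) : G) = ((ιe.symm s * ιe.symm t : X 1) : G)
      congr 1
      rw [Equiv.symm_apply_eq, hιe, hadd, ← hιe, ← hιe, Equiv.apply_symm_apply, Equiv.apply_symm_apply]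
    · intro s t hst
      exact ιe.symm.injective (Subtype.ext hst)
    · intro g
      constructor
      · intro hg
        exact ⟨ιe ⟨g, hg⟩, by simp⟩
      · rintro ⟨t, rfl⟩
        exact (ιe.symm t).2
  have hx1' : ∀ t : F, ∃ t' : X 1, (t' : G) = x1 t ∧ ι t' = t := by
    intro t
    refine ⟨ιe.symm t, by rw [hx1], ?_⟩
    rw [← hιe, Equiv.apply_symm_apply]
  have hx11 : x1 1 = e1 := by
    rw [hx1]
    change ((ιe.symm 1 : X 1) : G) = e1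
    have : ιe.symm 1 = ⟨e1, he1⟩ := by rw [Equiv.symm_apply_eq, hιe, hone]
    rw [this]
  -- characteristic two
  have two : (2 : F) = 0 := by
    obtain ⟨k, hk⟩ := hp 1 ⟨e1, he1⟩
    have hk' : e1 ^ 2 ^ k = 1 := congrArg Subtype.val hk
    have hpow : ∀ n : ℕ, x1 (n : F) = e1 ^ n := by
      intro n
      induction n with
      | zero => rw [Nat.cast_zero, p1.zero, pow_zero]
      | succ n ih => rw [Nat.cast_succ, p1.add, ih, hx11, pow_succ]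
    have h0 : ((2 ^ k : ℕ) : F) = 0 := by
      apply p1.inj
      rw [hpow, hk', p1.zero]
    rw [Nat.cast_pow] at h0
    by_contra h2
    exact pow_ne_zero k (by exact_mod_cast h2) h0
  have hsq1 : e1 * e1 = 1 := by
    rw [← hx11, ← p1.add, ← p1.zero]
    congr 1
    linear_combination two
  have hinv2 : ∀ {g : G}, g * g = 1 → g⁻¹ = g := fun h => inv_eq_of_mul_eq_one_right h
  have n1s : n1 * n1 = 1 := by
    have h := S.muMap_inv he1 he1n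
    rw [hinv2 hsq1, ← hn1] at h
    exact mul_eq_one_iff_eq_inv.mpr h
  -- `Y 6` is elementary abelian
  have hsq6 : ∀ y ∈ Yc X 6, y * y = 1 := by
    intro y hy
    obtain ⟨w, rfl⟩ := (h6.mem y).mp hy
    rw [← h6.add, ← h6.zero]
    congr 1
    rw [← two_smul F w, two, zero_smul]
  have hsq8 : e8 * e8 = 1 := by
    have h := hsq6 b hb6
    have e : n8 * (n1 * (e8 * e8) * n1⁻¹) * n8⁻¹ = b * b := by rw [hb]; group
    rw [h] at e
    calc e8 * e8 = n1⁻¹ * (n8⁻¹ * (n8 * (n1 * (e8 * e8) * n1⁻¹) * n8⁻¹) * n8) * n1 := by group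
      _ = 1 := by rw [e]; group
  have n8s : n8 * n8 = 1 := by
    have h := S.muMap_inv (yx he8) he8n
    rw [hinv2 hsq8, ← hn8] at h
    exact mul_eq_one_iff_eq_inv.mpr h
  have n1i := hinv2 n1s
  have n8i := hinv2 n8s
  -- `y6`
  have hinjv : Function.Injective (fun s : F => s • v) := fun s t hst => smul_left_injective F hv0 hst
  have hbijv : Function.Bijective (fun s : F => s • v) := by
    apply hinjv.bijective_of_nat_card_le
    have hc : Nat.card (Yc X 6) = Nat.card (X 1) := K.cY 3 0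
    rw [card_par h6, hc, Nat.card_congr (Equiv.ofBijective ι hι)]
  have q6 : Par (Yc X 6) (fun s : F => f6 (s • v)) := by
    refine ⟨?_, ?_, ?_⟩
    · intro s t
      rw [add_smul, h6.add]
    · intro s t hst
      exact hinjv (h6.inj hst)
    · intro g
      rw [h6.mem]
      constructor
      · rintro ⟨w, rfl⟩
        obtain ⟨s, hs⟩ := hbijv.2 w
        exact ⟨s, by rw [← hs]⟩
      · rintro ⟨s, rfl⟩
        exact ⟨_, rfl⟩
  obtain ⟨y6, hy6⟩ : ∃ y6 : F → G, y6 = fun s : F => f6 (s • v) := ⟨_, rfl⟩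
  rw [← hy6] at q6
  -- reflections
  have r1 : ∀ {j j' : ZMod (2 * 8)}, 2 * 1 + ((8 : ℕ) : ZMod (2 * 8)) - j = j' → ∀ x ∈ X j, n1⁻¹ * x * n1 ∈ X j' :=
    fun h x hx => rx' hr1 hx h
  have r8 : ∀ {j j' : ZMod (2 * 8)}, 2 * 8 + ((8 : ℕ) : ZMod (2 * 8)) - j = j' → ∀ x ∈ X j, n8⁻¹ * x * n8 ∈ X j' :=
    fun h x hx => rx' hr8 hx h
  have s1 : ∀ {j j' : ZMod (2 * 8)}, 2 * 1 + ((8 : ℕ) : ZMod (2 * 8)) - j = j' →
      ∀ x ∈ Yc X j, n1⁻¹ * x * n1 ∈ Yc X j' := fun h x hx => Yc_refl' hr1 hx h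
  have s8 : ∀ {j j' : ZMod (2 * 8)}, 2 * 8 + ((8 : ℕ) : ZMod (2 * 8)) - j = j' →
      ∀ x ∈ Yc X j, n8⁻¹ * x * n8 ∈ Yc X j' := fun h x hx => Yc_refl' hr8 hx h
  have q4 : Par (Yc X 4) (fun t => cj n1 (y6 t)) :=
    par_conj q6 n1s (s1 (by decide)) (s1 (by decide))
  have q2 : Par (Yc X 2) (fun t => cj n8 (y6 t)) :=
    par_conj q6 n8s (s8 (by decide)) (s8 (by decide))
  have q8 : Par (Yc X 8) (fun t => cj n1 (cj n8 (y6 t))) :=
    par_conj q2 n1s (s1 (by decide)) (s1 (by decide))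
  have p7 : Par (X 7) (fun t => cj n8 (x1 t)) :=
    par_conj p1 n8s (r8 (by decide)) (r8 (by decide))
  have p3 : Par (X 3) (fun t => cj n1 (cj n8 (x1 t))) :=
    par_conj p7 n1s (r1 (by decide)) (r1 (by decide))
  have p5 : Par (X 5) (fun t => cj n8 (cj n1 (cj n8 (x1 t)))) :=
    par_conj p3 n8s (r8 (by decide)) (r8 (by decide))
  have n8_4 : ∀ x ∈ X 4, cj n8 x = x := by
    intro x hx
    rw [hn8]
    refine commute_mu S (yx he8) he8n (fun z hz => ?_) (fun z hz => ?_)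
    · exact K.f4 4 x hx z hz
    · exact (K.f4 0 z hz x hx).symm
  have n1_5 : ∀ x ∈ X 5, cj n1 x = x := by
    intro x hx
    rw [hn1]
    refine commute_mu S he1 he1n (fun z hz => ?_) (fun z hz => ?_)
    · exact (K.f4 1 z hz x hx).symm
    · exact K.f4 5 x hx z hz
  have a16 : ∀ t w, kk (x1 t) (y6 w) = cj n1 (y6 (t * w)) := by
    intro t w
    obtain ⟨t', ht', hι'⟩ := hx1' t
    have hy4 : ⁅x1 t, y6 w⁆ ∈ Yc X 4 :=
      (aL' O (q6.m w) (p1.m t) 3 (by decide) (by decide) (by decide)).1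
    have e1' : kk (x1 t) (y6 w) = ⁅x1 t, y6 w⁆ := by
      have c1 : ⁅x1 t, y6 w⁆ * x1 t = x1 t * ⁅x1 t, y6 w⁆ := ycomm hy4 (p1.m t) 1 (by norm_num) (by decide)
      have c2 : ⁅x1 t, y6 w⁆ * y6 w = y6 w * ⁅x1 t, y6 w⁆ :=
        ycomm hy4 (yx (q6.m w)) 6 (by norm_num) (by decide)
      unfold kk
      have c3 : x1 t * y6 w = ⁅x1 t, y6 w⁆ * (y6 w * x1 t) := by rw [commutatorElement_def]; group
      calc (x1 t)⁻¹ * (y6 w)⁻¹ * x1 t * y6 w = (x1 t)⁻¹ * (y6 w)⁻¹ * (x1 t * y6 w) := by group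
        _ = (x1 t)⁻¹ * (y6 w)⁻¹ * ((⁅x1 t, y6 w⁆ * y6 w) * x1 t) := by rw [c3]; group
        _ = (x1 t)⁻¹ * (⁅x1 t, y6 w⁆ * x1 t) := by rw [c2]; group
        _ = ⁅x1 t, y6 w⁆ := by rw [c1]; group
    rw [e1', ← ht', hy6]
    change ⁅(t' : G), f6 (w • v)⁆ = cj n1 (f6 ((t * w) • v))
    rw [← hΘ, hs, hι', hΘ, smul_smul]
    change ⁅e1, f6 ((t * w) • v)⁆ = _
    rw [← mu_y6 O he1 he1n (h6.m _), ← hn1]
    unfold cj
    rw [n1i]
  have k2 : ∀ {g : G} {t : F}, g = y6 t → g⁻¹ = g := by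
    rintro g t rfl
    exact hinv2 (hsq6 _ (q6.m t))
  refine ⟨F, iF, hF, n1, n8, e1, e8, x1, _, _, _, _, _, y6, _,
    { K := K
      two := two
      e1m := he1
      e1n := he1n
      e8m := he8
      e8n := he8n
      n1d := hn1
      n8d := hn8
      n1s := n1s
      n8s := n8s
      p1 := p1
      p3 := p3
      p5 := p5
      p7 := p7
      q2 := q2
      q4 := q4
      q6 := q6
      q8 := q8
      one1 := hx11
      one8 := ?_
      n1_3 := fun t => cj_cj_self n1s _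
      n1_5 := fun t => n1_5 _ (p5.m t)
      n1_7 := fun t => rfl
      n1_2 := fun t => rfl
      n1_4 := fun t => cj_cj_self n1s _
      n1_6 := fun t => rfl
      n1_8 := fun t => cj_cj_self n1s _
      n8_1 := fun t => rfl
      n8_3 := fun t => rfl
      n8_5 := fun t => cj_cj_self n8s _
      n8_7 := fun t => cj_cj_self n8s _
      n8_2 := fun t => cj_cj_self n8s _
      n8_4 := n8_4
      n8_6 := fun t => rfl
      a16 := a16
      a72 := ?_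
      a38 := ?_ }⟩
  · rw [hy6]
    change cj n1 (cj n8 (f6 ((1 : F) • v))) = e8
    rw [one_smul, hv, hb]
    unfold cj
    group
  · intro t w
    rw [← cj_kk, a16]
    exact n8_4 _ (yx (q4.m (t * w)))
  · intro t w
    rw [← cj_kk, ← cj_kk, a16, n8_4 _ (yx (q4.m (t * w)))]
    exact cj_cj_self n1s _

end Cfsg.Agent.SplitTwo.OctCoordA
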