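import Cfsg.Agent.SplitTwo.OctCoordM

/-!
# Moufang octagons (S1144, [8]): coordinates, part A2: `CA → CM` ((16) of bb #5290)
-/

set_option autoImplicit false

namespace Cfsg.Agent.SplitTwo.OctCoordA2

open Cfsg.Agent.SplitTwo Cfsg.Agent.SplitTwo.OctDefs Cfsg.Agent.SplitTwo.OctTools
open Cfsg.Agent.SplitTwo.OctSkel Cfsg.Agent.SplitTwo.HexField Cfsg.Agent.SplitTwo.OctCoordA
open Cfsg.Agent.SplitTwo.OctCoordM
open scoped commutatorElement

universe u v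

/-! ### `kk` -/

section KK

variable {G : Type u} [Group G]

theorem kk_one_of {x y : G} (h : x * y = y * x) : kk x y = 1 := by
  unfold kk
  calc x⁻¹ * y⁻¹ * x * y = x⁻¹ * y⁻¹ * (x * y) := by group
    _ = x⁻¹ * y⁻¹ * (y * x) := by rw [h]
    _ = 1 := by group

theorem comm_of_kk {x y : G} (h : kk x y = 1) : x * y = y * x := by
  have e : x * y = y * x * kk x y := by unfold kk; group
  rw [e, h, mul_one]

theorem cj_eq (g x : G) : cj g x = x * kk x g := by unfold cj kk; group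

theorem cj_of_comm {g x : G} (h : x * g = g * x) : cj g x = x := by
  rw [cj_eq, kk_one_of h, mul_one]

theorem kk_absL {w a z : G} (h : w * a = a * w) : kk w (a * z) = kk w z := by
  unfold kk
  calc w⁻¹ * (a * z)⁻¹ * w * (a * z) = w⁻¹ * z⁻¹ * a⁻¹ * (w * a) * z := by group
    _ = w⁻¹ * z⁻¹ * a⁻¹ * (a * w) * z := by rw [h]
    _ = w⁻¹ * z⁻¹ * w * z := by group

theorem kk_absR {w b z : G} (h : w * b = b * w) (h' : kk w z * b = b * kk w z) : kk w (z * b) = kk w z := by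
  rw [kk_mul_right, kk_one_of h, one_mul]
  unfold cj
  rw [mul_assoc, h']; group

theorem kk_mul_left (x y z : G) : kk (x * y) z = cj y (kk x z) * kk y z := by unfold cj kk; group

theorem kk_mem {X : ZMod (2 * 8) → Subgroup G} (S : Sys 8 X) {i j l : ZMod (2 * 8)} {a b : G} (k : ℕ)
    (hk : k + 1 < 8) (ha : a ∈ X i) (hb : b ∈ X j) (hj : i + ((k + 1 : ℕ) : ZMod (2 * 8)) = j)
    (hl : i + 1 = l) : kk a b ∈ seg X l k := by
  have h := cm S k hk (inv_mem ha) (inv_mem hb) hj hl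
  have e : kk a b = ⁅a⁻¹, b⁻¹⁆ := by unfold kk; rw [commutatorElement_def]; group
  rw [e]; exact h

end KK

section Main

variable {G : Type u} [Group G] {X : ZMod (2 * 8) → Subgroup G} {F : Type v} [Field F]
  {n1 n8 e1 e8 : G} {x1 x3 x5 x7 y2 y4 y6 y8 : F → G}

local notation "CAX" => CA X n1 n8 e1 e8 x1 x3 x5 x7 y2 y4 y6 y8

/-! ### Commutation -/

theorem z4 (h : CAX) {z : G} {k : ZMod (2 * 8)} (hz : z ∈ X k) (r : ℕ) (hr : r < 9)
    (hk : k = 4 - 4 + (r : ℕ)) (w : F) : y4 w * z = z * y4 w := ycomm (h.q4.m w) hz r hr hk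

theorem z2 (h : CAX) {z : G} {k : ZMod (2 * 8)} (hz : z ∈ X k) (r : ℕ) (hr : r < 9)
    (hk : k = 2 - 4 + (r : ℕ)) (w : F) : y2 w * z = z * y2 w := ycomm (h.q2.m w) hz r hr hk

theorem z6 (h : CAX) {z : G} {k : ZMod (2 * 8)} (hz : z ∈ X k) (r : ℕ) (hr : r < 9)
    (hk : k = 6 - 4 + (r : ℕ)) (w : F) : y6 w * z = z * y6 w := ycomm (h.q6.m w) hz r hr hk

theorem char2 (h : CAX) (t : F) : t + t = 0 := by
  rw [← two_mul, h.two, zero_mul]

theorem neg_eq (h : CAX) (t : F) : -t = t := by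
  rw [neg_eq_iff_add_eq_zero]; exact char2 h t

theorem eq_of_add (h : CAX) {s t : F} (e : s + t = 0) : s = t := by
  have : s = -t := eq_neg_of_add_eq_zero_left e
  rw [this, neg_eq h]

theorem inv4 (h : CAX) (t : F) : (y4 t)⁻¹ = y4 t := by rw [← h.q4.neg, neg_eq h]

theorem inv6 (h : CAX) (t : F) : (y6 t)⁻¹ = y6 t := by rw [← h.q6.neg, neg_eq h]

theorem inv2 (h : CAX) (t : F) : (y2 t)⁻¹ = y2 t := by rw [← h.q2.neg, neg_eq h]

theorem kkR (h : CAX) {w q1 q2 : G} {α β : F} (h1 : kk w q1 = y4 α) (h2 : kk w q2 = y4 β)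
    (hq : ∀ c, y4 c * q2 = q2 * y4 c) : kk w (q1 * q2) = y4 (α + β) := by
  rw [kk_mul_right, h1, h2, cj_of_comm (hq α), ← h.q4.add, add_comm]

theorem kkL (h : CAX) {w1 w2 q : G} {α β : F} (h1 : kk w1 q = y4 α) (h2 : kk w2 q = y4 β)
    (hw : ∀ c, y4 c * w2 = w2 * y4 c) : kk (w1 * w2) q = y4 (α + β) := by
  rw [kk_mul_left, h1, h2, cj_of_comm (hw α), ← h.q4.add]

/-! ### Decomposition of `Q 7 = X 1 ⋯ X 7` -/

theorem dec (h : CAX) {q : G} (hq : q ∈ seg X 1 7) : ∃ s, ∃ z2 ∈ X 2, ∃ z3 ∈ X 3, ∃ z4 ∈ X 4, ∃ z5 ∈ X 5,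
    ∃ z6 ∈ X 6, ∃ r, q = x1 s * z2 * z3 * z4 * z5 * z6 * x7 r := by
  have S := h.K.A.sys
  obtain ⟨q6, hq6, z7, hz7, rfl⟩ := (S.mem_seg_succ 1 (k := 6) (by norm_num)).mp hq
  obtain ⟨q5, hq5, z6, hz6, rfl⟩ := (S.mem_seg_succ 1 (k := 5) (by norm_num)).mp hq6
  obtain ⟨q4, hq4, z5, hz5, rfl⟩ := (S.mem_seg_succ 1 (k := 4) (by norm_num)).mp hq5
  obtain ⟨q3, hq3, z4, hz4, rfl⟩ := (S.mem_seg_succ 1 (k := 3) (by norm_num)).mp hq4
  obtain ⟨q2, hq2, z3, hz3, rfl⟩ := (S.mem_seg_succ 1 (k := 2) (by norm_num)).mp hq3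
  obtain ⟨z1, hz1, z2, hz2, rfl⟩ := (S.mem_seg_succ 1 (k := 1) (by norm_num)).mp hq2
  rw [seg_one] at hz1
  obtain ⟨s, rfl⟩ := (h.p1.mem _).mp hz1
  obtain ⟨r, rfl⟩ := (h.p7.mem _).mp hz7
  exact ⟨s, z2, hz2, z3, hz3, z4, hz4, z5, hz5, z6, hz6, r, rfl⟩

theorem row2 (h : CAX) (a : F) {s r : F} {z2' z3 z4' z5 z6' : G} (h2 : z2' ∈ X 2) (h3 : z3 ∈ X 3)
    (h4 : z4' ∈ X 4) (h5 : z5 ∈ X 5) (h6 : z6' ∈ X 6) :
    kk (y2 a) (x1 s * z2' * z3 * z4' * z5 * z6' * x7 r) = y4 (a * r) := by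
  rw [kk_absL, HexField.kk_inv, h.a72, inv4 h, mul_comm]
  refine conj_comm_of (conj_comm_of (conj_comm_of (conj_comm_of (conj_comm_of ?_ ?_) ?_) ?_) ?_) ?_
  · exact z2 h (h.p1.m s) 3 (by norm_num) (by decide) a
  · exact z2 h h2 4 (by norm_num) (by decide) a
  · exact z2 h h3 5 (by norm_num) (by decide) a
  · exact z2 h h4 6 (by norm_num) (by decide) a
  · exact z2 h h5 7 (by norm_num) (by decide) a
  · exact z2 h h6 8 (by norm_num) (by decide) a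

theorem row6 (h : CAX) (a : F) {s r : F} {z2' z3 z4' z5 z6' : G} (h2 : z2' ∈ X 2) (h3 : z3 ∈ X 3)
    (h4 : z4' ∈ X 4) (h5 : z5 ∈ X 5) (h6 : z6' ∈ X 6) :
    kk (y6 a) (x1 s * z2' * z3 * z4' * z5 * z6' * x7 r) = y4 (a * s) := by
  have e : x1 s * z2' * z3 * z4' * z5 * z6' * x7 r = x1 s * (z2' * z3 * z4' * z5 * z6' * x7 r) := by group
  have e1 : kk (y6 a) (x1 s) = y4 (a * s) := by rw [HexField.kk_inv, h.a16, inv4 h, mul_comm]
  rw [e, kk_absR, e1]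
  · refine conj_comm_of (conj_comm_of (conj_comm_of (conj_comm_of (conj_comm_of ?_ ?_) ?_) ?_) ?_) ?_
    · exact z6 h h2 0 (by norm_num) (by decide) a
    · exact z6 h h3 1 (by norm_num) (by decide) a
    · exact z6 h h4 2 (by norm_num) (by decide) a
    · exact z6 h h5 3 (by norm_num) (by decide) a
    · exact z6 h h6 4 (by norm_num) (by decide) a
    · exact z6 h (h.p7.m r) 5 (by norm_num) (by decide) a
  · rw [e1]
    refine conj_comm_of (conj_comm_of (conj_comm_of (conj_comm_of (conj_comm_of ?_ ?_) ?_) ?_) ?_) ?_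
    · exact z4 h h2 2 (by norm_num) (by decide) _
    · exact z4 h h3 3 (by norm_num) (by decide) _
    · exact z4 h h4 4 (by norm_num) (by decide) _
    · exact z4 h h5 5 (by norm_num) (by decide) _
    · exact z4 h h6 6 (by norm_num) (by decide) _
    · exact z4 h (h.p7.m r) 7 (by norm_num) (by decide) _

theorem kk36 (h : CAX) {a b : G} (ha : a ∈ X 3) (hb : b ∈ X 6) : ∃ c, kk a b = y4 c := by
  obtain ⟨c, hc⟩ := (h.q4.mem _).mp (h.K.t3 1 a ha b hb)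
  exact ⟨c, hc.symm⟩

theorem kk52 (h : CAX) {a b : G} (ha : a ∈ X 5) (hb : b ∈ X 2) : ∃ c, kk a b = y4 c := by
  have h1 : kk b a ∈ Yc X 4 := h.K.t3' 1 b hb a ha
  obtain ⟨c, hc⟩ := (h.q4.mem _).mp h1
  refine ⟨c, ?_⟩
  rw [HexField.kk_inv, ← hc, inv4 h]

theorem row3 (h : CAX) (a : F) {s r : F} {z2' z3 z4' z5 z6' : G} (h2 : z2' ∈ X 2) (h3 : z3 ∈ X 3)
    (h4 : z4' ∈ X 4) (h5 : z5 ∈ X 5) (h6 : z6' ∈ X 6) :
    kk (x3 a) (x1 s * z2' * z3 * z4' * z5 * z6' * x7 r) = kk (x3 a) z6' := by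
  have S := h.K.A.sys
  have hx := h.p3.m a
  have e : x1 s * z2' * z3 * z4' * z5 * z6' * x7 r = (x1 s * z2' * z3 * z4' * z5) * (z6' * x7 r) := by group
  rw [e, kk_absL, kk_absR]
  · exact h.K.f4 3 _ hx _ (h.p7.m r)
  · obtain ⟨c, hc⟩ := kk36 h hx h6
    rw [hc]
    exact z4 h (h.p7.m r) 7 (by norm_num) (by decide) _
  · refine conj_comm_of (conj_comm_of (conj_comm_of (conj_comm_of ?_ ?_) ?_) ?_) ?_
    · exact (h.K.o2 0 _ (h.p1.m s) _ hx).symm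
    · exact (S.comm_one 2 h2 hx).symm
    · exact h.K.A.odd_comm 1 _ hx _ h3
    · exact S.comm_one 3 hx h4
    · exact h.K.o2 1 _ hx _ h5

theorem row5 (h : CAX) (a : F) {s r : F} {z2' z3 z4' z5 z6' : G} (h2 : z2' ∈ X 2) (h3 : z3 ∈ X 3)
    (h4 : z4' ∈ X 4) (h5 : z5 ∈ X 5) (h6 : z6' ∈ X 6) :
    kk (x5 a) (x1 s * z2' * z3 * z4' * z5 * z6' * x7 r) = kk (x5 a) z2' := by
  have S := h.K.A.sys
  have hx := h.p5.m a
  have e : x1 s * z2' * z3 * z4' * z5 * z6' * x7 r = x1 s * (z2' * (z3 * z4' * z5 * z6' * x7 r)) := by group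
  rw [e, kk_absL, kk_absR]
  · refine conj_comm_of (conj_comm_of (conj_comm_of (conj_comm_of ?_ ?_) ?_) ?_) ?_
    · exact (h.K.o2 1 _ h3 _ hx).symm
    · exact (S.comm_one 4 h4 hx).symm
    · exact h.K.A.odd_comm 2 _ hx _ h5
    · exact S.comm_one 5 hx h6
    · exact h.K.o2 2 _ hx _ (h.p7.m r)
  · obtain ⟨c, hc⟩ := kk52 h hx h2
    rw [hc]
    refine conj_comm_of (conj_comm_of (conj_comm_of (conj_comm_of ?_ ?_) ?_) ?_) ?_
    · exact z4 h h3 3 (by norm_num) (by decide) _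
    · exact z4 h h4 4 (by norm_num) (by decide) _
    · exact z4 h h5 5 (by norm_num) (by decide) _
    · exact z4 h h6 6 (by norm_num) (by decide) _
    · exact z4 h (h.p7.m r) 7 (by norm_num) (by decide) _
  · exact (h.K.f4 1 _ (h.p1.m s) _ hx).symm

/-- **Duality.** -/
theorem dtrick (h : CAX) {g w q : G} (hg : g ∈ X 8) {c : F} (hc : kk w (cj g⁻¹ q) = y4 c) :
    kk (cj g w) q = y4 c := by
  have e : kk (cj g w) q = cj g (kk w (cj g⁻¹ q)) := by rw [cj_kk, cj_cj_inv]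
  rw [e, hc]
  exact cj_of_comm (z4 h hg 8 (by norm_num) (by decide) _)

/-- `X 8` normalises `Q 7`. -/
theorem q7 (h : CAX) {g q : G} (hg : g ∈ X 8) (hq : q ∈ seg X 1 7) : cj g⁻¹ q ∈ seg X 1 7 := by
  unfold cj
  rw [inv_inv]
  exact h.K.A.sys.conj_right 1 (k := 7) (by norm_num) hg hq

theorem xi (h : CAX) (s : F) : ∃ z ∈ X 6, ∀ t, kk (x3 t) z = y4 (t * s) := by
  have hg : e8 ∈ X 8 := yx h.e8m
  have hx1 : x1 s ∈ seg X 1 7 := ms (h.p1.m s) 0 (by norm_num) (by decide)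
  obtain ⟨s', z2', h2, z3, h3, z4', h4, z5, h5, z6', h6, r, e⟩ := dec h (q7 h hg hx1)
  refine ⟨z6', h6, fun t => ?_⟩
  obtain ⟨c, hc⟩ := kk36 h (h.p3.m t) h6
  have e1 : kk (x3 t) (cj e8⁻¹ (x1 s)) = y4 c := by
    rw [e, row3 h t h2 h3 h4 h5 h6, hc]
  have e2 := dtrick h hg e1
  have e3 : cj e8 (x3 t) = x3 t * y6 t := by
    rw [cj_eq, ← h.one8, h.a38, mul_one]
  have e4 : kk (y6 t) (x1 s) = y4 (t * s) := by rw [HexField.kk_inv, h.a16, inv4 h, mul_comm]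
  have e5 : kk (x3 t * y6 t) (x1 s) = y4 (t * s) := by
    have : kk (x3 t) (x1 s) = 1 := kk_one_of (h.K.o2 0 _ (h.p1.m s) _ (h.p3.m t)).symm
    rw [kk_mul_left, this, e4]
    unfold cj; group
  rw [e3, e5] at e2
  rw [hc, ← e2]

/-! ### The parameter `p` on `X 6` -/

theorem exists_p6 [Finite G] (h : CAX) : ∃ p : G → F, (∀ x ∈ X 6, ∀ t, kk (x3 t) x = y4 (t * p x)) ∧
    (∀ x ∈ X 6, ∀ z ∈ X 6, p (x * z) = p x + p z) ∧ (∀ x ∈ X 6, p x = 0 → x ∈ Yc X 6) ∧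
    (∀ s, ∃ x ∈ X 6, p x = s) ∧ (∀ w, p (y6 w) = 0) := by
  classical
  have hF : Finite F := Finite.of_injective _ h.p1.inj
  choose ξ hξ hξ' using xi h
  have hy1 : ∀ t w, kk (x3 t) (y6 w) = 1 := fun t w => by
    rw [HexField.kk_inv, kk_one_of (z6 h (h.p3.m t) 1 (by norm_num) (by decide) w), inv_one]
  have hval : ∀ s w t, kk (x3 t) (ξ s * y6 w) = y4 (t * s) := by
    intro s w t
    rw [kk_mul_right, hy1, one_mul, hξ']
    exact cj_of_comm (z4 h (yx (h.q6.m w)) 6 (by norm_num) (by decide) _)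
  have hex : ∀ x ∈ X 6, ∃ s, ∀ t, kk (x3 t) x = y4 (t * s) := by
    have hinj : Function.Injective (fun sw : F × F => (⟨ξ sw.1 * y6 sw.2, mul_mem (hξ _) (yx (h.q6.m _))⟩ : X 6)) := by
      rintro ⟨s, w⟩ ⟨s', w'⟩ hsw
      have e : ξ s * y6 w = ξ s' * y6 w' := congrArg Subtype.val hsw
      have e1 := hval s w 1
      rw [e, hval s' w' 1, one_mul, one_mul] at e1
      have e2 : s' = s := h.q4.inj e1
      subst e2
      have e3 : w = w' := h.q6.inj (mul_left_cancel e)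
      rw [e3]
    have hbij := hinj.bijective_of_nat_card_le (by
      have h1 : Nat.card (X 6) = Nat.card (X 1) ^ 2 := h.K.cX 3 0
      rw [h1, Nat.card_prod, ← card_par h.p1, sq])
    intro x hx
    obtain ⟨⟨s, w⟩, hsw⟩ := hbij.2 ⟨x, hx⟩
    have e : ξ s * y6 w = x := congrArg Subtype.val hsw
    exact ⟨s, fun t => by rw [← e, hval]⟩
  have hex' : ∀ x : G, ∃ s, x ∈ X 6 → ∀ t, kk (x3 t) x = y4 (t * s) := by
    intro x
    by_cases hx : x ∈ X 6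
    · obtain ⟨s, hs⟩ := hex x hx
      exact ⟨s, fun _ => hs⟩
    · exact ⟨0, fun h' => absurd h' hx⟩
  choose p hp using hex'
  have huq : ∀ x ∈ X 6, ∀ s, kk (x3 1) x = y4 s → p x = s := by
    intro x hx s hs
    rw [hp x hx 1, one_mul] at hs
    exact h.q4.inj hs
  refine ⟨p, fun x hx => hp x hx, ?_, ?_, ?_, ?_⟩
  · intro x hx z hz
    apply huq _ (mul_mem hx hz)
    apply kkR h
    · rw [hp x hx 1, one_mul]
    · rw [hp z hz 1, one_mul]
    · exact z4 h hz 6 (by norm_num) (by decide)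
  · intro x hx h0
    refine h.K.cenL 3 x hx ?_
    intro b hb
    obtain ⟨t, rfl⟩ := (h.p3.mem b).mp hb
    have := hp x hx t
    rw [h0, mul_zero, h.q4.zero] at this
    exact (comm_of_kk this).symm
  · intro s
    refine ⟨ξ s, hξ s, huq _ (hξ s) _ ?_⟩
    rw [hξ', one_mul]
  · intro w
    apply huq _ (yx (h.q6.m w))
    rw [hy1, h.q4.zero]

/-! ### Conjugation of memberships -/

theorem m1x (h : CAX) {k k' : ZMod (2 * 8)} {x : G} (hx : x ∈ X k) (hk : 2 * 1 + ((8 : ℕ) : ZMod (2 * 8)) - k = k') :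
    cj n1 x ∈ X k' := by
  have hr := h.K.A.sys.refl h.e1m h.e1n
  rw [← h.n1d] at hr
  exact rx' hr hx hk

theorem m8x (h : CAX) {k k' : ZMod (2 * 8)} {x : G} (hx : x ∈ X k) (hk : 2 * 8 + ((8 : ℕ) : ZMod (2 * 8)) - k = k') :
    cj n8 x ∈ X k' := by
  have hr := h.K.A.sys.refl (yx h.e8m) h.e8n
  rw [← h.n8d] at hr
  exact rx' hr hx hk

theorem m1y (h : CAX) {k k' : ZMod (2 * 8)} {x : G} (hx : x ∈ Yc X k) (hk : 2 * 1 + ((8 : ℕ) : ZMod (2 * 8)) - k = k') :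
    cj n1 x ∈ Yc X k' := by
  have hr := h.K.A.sys.refl h.e1m h.e1n
  rw [← h.n1d] at hr
  exact Yc_refl' hr hx hk

theorem m8y (h : CAX) {k k' : ZMod (2 * 8)} {x : G} (hx : x ∈ Yc X k) (hk : 2 * 8 + ((8 : ℕ) : ZMod (2 * 8)) - k = k') :
    cj n8 x ∈ Yc X k' := by
  have hr := h.K.A.sys.refl (yx h.e8m) h.e8n
  rw [← h.n8d] at hr
  exact Yc_refl' hr hx hk

theorem n11 (h : CAX) (x : G) : cj n1 (cj n1 x) = x := cj_cj_self h.n1s x

theorem n88 (h : CAX) (x : G) : cj n8 (cj n8 x) = x := cj_cj_self h.n8s x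

section P6

variable {p : G → F}

theorem b52 (h : CAX) (b36 : ∀ x ∈ X 6, ∀ t, kk (x3 t) x = y4 (t * p x)) {x : G} (hx : x ∈ X 2) (t : F) :
    kk (x5 t) x = y4 (t * p (cj n8 x)) := by
  have hx' : cj n8 x ∈ X 6 := m8x h hx (by decide)
  have h1 := b36 (cj n8 x) hx' t
  have h2 := congrArg (cj n8) h1
  rw [cj_kk, h.n8_3, n88 h, h.n8_4 _ (yx (h.q4.m _))] at h2
  exact h2

theorem b58 (h : CAX) (b36 : ∀ x ∈ X 6, ∀ t, kk (x3 t) x = y4 (t * p x)) {x : G} (hx : x ∈ X 8) (t : F) :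
    kk (x5 t) x = y6 (t * p (cj n8 (cj n1 x))) := by
  have hx' : cj n1 x ∈ X 2 := m1x h hx (by decide)
  have h1 := b52 h b36 hx' t
  have h2 := congrArg (cj n1) h1
  rw [cj_kk, h.n1_5, n11 h, h.n1_4] at h2
  exact h2

theorem b74 (h : CAX) (b36 : ∀ x ∈ X 6, ∀ t, kk (x3 t) x = y4 (t * p x)) {x : G} (hx : x ∈ X 4) (t : F) :
    kk (x7 t) x = y6 (t * p (cj n1 x)) := by
  have hx' : cj n1 x ∈ X 6 := m1x h hx (by decide)
  have h1 := b36 (cj n1 x) hx' t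
  have h2 := congrArg (cj n1) h1
  rw [cj_kk, h.n1_3, n11 h, h.n1_4] at h2
  exact h2

theorem b14 (h : CAX) (b36 : ∀ x ∈ X 6, ∀ t, kk (x3 t) x = y4 (t * p x)) {x : G} (hx : x ∈ X 4) (t : F) :
    kk (x1 t) x = y2 (t * p (cj n1 x)) := by
  have h1 := b74 h b36 hx t
  have h2 := congrArg (cj n8) h1
  rw [cj_kk, h.n8_7, h.n8_4 _ hx, h.n8_6] at h2
  exact h2

/-- **The pairing.** -/
theorem pair (h : CAX) (b36 : ∀ x ∈ X 6, ∀ t, kk (x3 t) x = y4 (t * p x)) (a b c d e : F) {s r : F} {z2' z3 z4' z5 z6' : G} (h2 : z2' ∈ X 2) (h3 : z3 ∈ X 3)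
    (h4 : z4' ∈ X 4) (h5 : z5 ∈ X 5) (h6 : z6' ∈ X 6) :
    kk (y2 a * x3 b * y4 c * x5 d * y6 e) (x1 s * z2' * z3 * z4' * z5 * z6' * x7 r) =
      y4 (a * r + b * p z6' + d * p (cj n8 z2') + e * s) := by
  have r2 := row2 h a (s := s) (r := r) h2 h3 h4 h5 h6
  have r3 := row3 h b (s := s) (r := r) h2 h3 h4 h5 h6
  rw [b36 _ h6] at r3
  have r5 := row5 h d (s := s) (r := r) h2 h3 h4 h5 h6
  rw [b52 h b36 h2] at r5
  have r6 := row6 h e (s := s) (r := r) h2 h3 h4 h5 h6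
  have r4 : kk (y4 c) (x1 s * z2' * z3 * z4' * z5 * z6' * x7 r) = y4 0 := by
    rw [h.q4.zero]
    apply kk_one_of
    refine conj_comm_of (conj_comm_of (conj_comm_of (conj_comm_of (conj_comm_of (conj_comm_of ?_ ?_) ?_) ?_) ?_) ?_) ?_
    · exact z4 h (h.p1.m s) 1 (by norm_num) (by decide) _
    · exact z4 h h2 2 (by norm_num) (by decide) _
    · exact z4 h h3 3 (by norm_num) (by decide) _
    · exact z4 h h4 4 (by norm_num) (by decide) _
    · exact z4 h h5 5 (by norm_num) (by decide) _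
    · exact z4 h h6 6 (by norm_num) (by decide) _
    · exact z4 h (h.p7.m r) 7 (by norm_num) (by decide) _
  have s3 := kkL h r2 r3 (z4 h (h.p3.m b) 3 (by norm_num) (by decide))
  have s4 := kkL h s3 r4 (z4 h (yx (h.q4.m c)) 4 (by norm_num) (by decide))
  have s5 := kkL h s4 r5 (z4 h (h.p5.m d) 5 (by norm_num) (by decide))
  have s6 := kkL h s5 r6 (z4 h (yx (h.q6.m e)) 6 (by norm_num) (by decide))
  rw [s6, add_zero]

end P6

end Main

end Cfsg.Agent.SplitTwo.OctCoordA2
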