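import Cfsg.Agent.SplitTwo.OctCoordA2

/-!
# Moufang octagons (S1144, [8]): coordinates, part A3: the group `W = Y 2 X 3 Y 4 X 5 Y 6` and the actions of `X 8`, `X 0`
-/

set_option autoImplicit false

namespace Cfsg.Agent.SplitTwo.OctCoordA3

open Cfsg.Agent.SplitTwo Cfsg.Agent.SplitTwo.OctDefs Cfsg.Agent.SplitTwo.OctTools
open Cfsg.Agent.SplitTwo.OctSkel Cfsg.Agent.SplitTwo.HexField Cfsg.Agent.SplitTwo.OctCoordA
open Cfsg.Agent.SplitTwo.OctCoordM Cfsg.Agent.SplitTwo.OctCoordA2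
open scoped commutatorElement

universe u v

theorem mul5 {G : Type u} [Group G] {a b c d e a' b' c' d' e' : G} (h1 : b * a' = a' * b) (h2 : c * a' = a' * c)
    (h3 : d * a' = a' * d) (h4 : e * a' = a' * e) (h5 : c * b' = b' * c) (h6 : d * b' = b' * d)
    (h7 : e * b' = b' * e) (h8 : d * c' = c' * d) (h9 : e * c' = c' * e) (h10 : e * d' = d' * e) :
    (a * b * c * d * e) * (a' * b' * c' * d' * e') = (a * a') * (b * b') * (c * c') * (d * d') * (e * e') := by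
  have k1 : (b * c * d * e) * a' = a' * (b * c * d * e) :=
    (conj_comm_of (conj_comm_of (conj_comm_of h1.symm h2.symm) h3.symm) h4.symm).symm
  have k2 : (c * d * e) * b' = b' * (c * d * e) := (conj_comm_of (conj_comm_of h5.symm h6.symm) h7.symm).symm
  have k3 : (d * e) * c' = c' * (d * e) := (conj_comm_of h8.symm h9.symm).symm
  calc (a * b * c * d * e) * (a' * b' * c' * d' * e') = a * ((b * c * d * e) * a') * b' * c' * d' * e' := by group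
    _ = a * a' * b * ((c * d * e) * b') * c' * d' * e' := by rw [k1]; group
    _ = a * a' * (b * b') * c * ((d * e) * c') * d' * e' := by rw [k2]; group
    _ = a * a' * (b * b') * (c * c') * d * (e * d') * e' := by rw [k3]; group
    _ = (a * a') * (b * b') * (c * c') * (d * d') * (e * e') := by rw [h10]; group

/-- uniqueness of the first factor -/
theorem uq {G : Type u} [Group G] {X : ZMod (2 * 8) → Subgroup G} (S : Sys 8 X) {i j : ZMod (2 * 8)} (k : ℕ)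
    (hk : k < 8) {a a' b b' : G} (ha : a ∈ X i) (ha' : a' ∈ X i) (hb : b ∈ seg X j k) (hb' : b' ∈ seg X j k)
    (hj : i + 1 = j) (e : a * b = a' * b') : a = a' ∧ b = b' := by
  subst hj
  have e1 : a'⁻¹ * a = b' * b⁻¹ := by
    calc a'⁻¹ * a = a'⁻¹ * (a * b) * b⁻¹ := by group
      _ = a'⁻¹ * (a' * b') * b⁻¹ := by rw [e]
      _ = b' * b⁻¹ := by group
  have e2 : a'⁻¹ * a = 1 := S.inter_left i hk (mul_mem (inv_mem ha') ha) (by rw [e1]; exact mul_mem hb' (inv_mem hb))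
  have e3 : a = a' := by rw [← mul_one a', ← e2]; group
  subst e3
  exact ⟨rfl, mul_left_cancel e⟩

section Main

variable {G : Type u} [Group G] {X : ZMod (2 * 8) → Subgroup G} {F : Type v} [Field F]
  {n1 n8 e1 e8 : G} {x1 x3 x5 x7 y2 y4 y6 y8 : F → G}

local notation "CAX" => CA X n1 n8 e1 e8 x1 x3 x5 x7 y2 y4 y6 y8

/-- Elements of `W`. -/
def W (y2 x3 y4 x5 y6 : F → G) (a b c d e : F) : G := y2 a * x3 b * y4 c * x5 d * y6 e

local notation "ww" => W y2 x3 y4 x5 y6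

theorem w_mul (h : CAX) (a b c d e a' b' c' d' e' : F) :
    ww a b c d e * ww a' b' c' d' e' = ww (a + a') (b + b') (c + c') (d + d') (e + e') := by
  unfold W
  rw [h.q2.add, h.p3.add, h.q4.add, h.p5.add, h.q6.add]
  apply mul5
  · exact (z2 h (h.p3.m b) 5 (by norm_num) (by decide) a').symm
  · exact (z2 h (yx (h.q4.m c)) 6 (by norm_num) (by decide) a').symm
  · exact (z2 h (h.p5.m d) 7 (by norm_num) (by decide) a').symm
  · exact (z2 h (yx (h.q6.m e)) 8 (by norm_num) (by decide) a').symm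
  · exact z4 h (h.p3.m b') 3 (by norm_num) (by decide) c
  · exact (h.K.o2 1 _ (h.p3.m b') _ (h.p5.m d)).symm
  · exact z6 h (h.p3.m b') 1 (by norm_num) (by decide) e
  · exact (z4 h (h.p5.m d) 5 (by norm_num) (by decide) c').symm
  · exact (z4 h (yx (h.q6.m e)) 6 (by norm_num) (by decide) c').symm
  · exact z6 h (h.p5.m d') 3 (by norm_num) (by decide) e

theorem w_zero (h : CAX) : ww 0 0 0 0 0 = 1 := by
  unfold W
  rw [h.q2.zero, h.p3.zero, h.q4.zero, h.p5.zero, h.q6.zero]; group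

theorem w_inv (h : CAX) (a b c d e : F) : (ww a b c d e)⁻¹ = ww a b c d e := by
  rw [inv_eq_iff_mul_eq_one, w_mul h, char2 h, char2 h, char2 h, char2 h, char2 h, w_zero h]

theorem w2 (h : CAX) (a : F) : y2 a = ww a 0 0 0 0 := by
  unfold W; rw [h.p3.zero, h.q4.zero, h.p5.zero, h.q6.zero]; group

theorem w3 (h : CAX) (a : F) : x3 a = ww 0 a 0 0 0 := by
  unfold W; rw [h.q2.zero, h.q4.zero, h.p5.zero, h.q6.zero]; group

theorem w4 (h : CAX) (a : F) : y4 a = ww 0 0 a 0 0 := by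
  unfold W; rw [h.q2.zero, h.p3.zero, h.p5.zero, h.q6.zero]; group

theorem w5 (h : CAX) (a : F) : x5 a = ww 0 0 0 a 0 := by
  unfold W; rw [h.q2.zero, h.p3.zero, h.q4.zero, h.q6.zero]; group

theorem w6 (h : CAX) (a : F) : y6 a = ww 0 0 0 0 a := by
  unfold W; rw [h.q2.zero, h.p3.zero, h.q4.zero, h.p5.zero]; group

theorem w_inj (h : CAX) {a b c d e a' b' c' d' e' : F} (E : ww a b c d e = ww a' b' c' d' e') :
    a = a' ∧ b = b' ∧ c = c' ∧ d = d' ∧ e = e' := by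
  have S := h.K.A.sys
  unfold W at E
  have E1 : y2 a * (x3 b * (y4 c * (x5 d * y6 e))) = y2 a' * (x3 b' * (y4 c' * (x5 d' * y6 e'))) := by
    simpa only [mul_assoc] using E
  have m6 : ∀ e, y6 e ∈ seg X 6 1 := fun e => ms (yx (h.q6.m e)) 0 (by norm_num) (by decide)
  have m5 : ∀ d e, x5 d * y6 e ∈ seg X 5 2 := fun d e =>
    mul_mem (ms (h.p5.m d) 0 (by norm_num) (by decide)) (ss (m6 e) 1 (by norm_num) (by decide))
  have m4 : ∀ c d e, y4 c * (x5 d * y6 e) ∈ seg X 4 3 := fun c d e =>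
    mul_mem (ms (yx (h.q4.m c)) 0 (by norm_num) (by decide)) (ss (m5 d e) 1 (by norm_num) (by decide))
  have m3 : ∀ b c d e, x3 b * (y4 c * (x5 d * y6 e)) ∈ seg X 3 4 := fun b c d e =>
    mul_mem (ms (h.p3.m b) 0 (by norm_num) (by decide)) (ss (m4 c d e) 1 (by norm_num) (by decide))
  obtain ⟨r1, E2⟩ := uq (i := 2) (j := 3) S 4 (by norm_num) (yx (h.q2.m _)) (yx (h.q2.m _)) (m3 _ _ _ _) (m3 _ _ _ _) (by decide) E1
  obtain ⟨r2, E3⟩ := uq (i := 3) (j := 4) S 3 (by norm_num) (h.p3.m _) (h.p3.m _) (m4 _ _ _) (m4 _ _ _) (by decide) E2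
  obtain ⟨r3, E4⟩ := uq (i := 4) (j := 5) S 2 (by norm_num) (yx (h.q4.m _)) (yx (h.q4.m _)) (m5 _ _) (m5 _ _) (by decide) E3
  obtain ⟨r4, E5⟩ := uq (i := 5) (j := 6) S 1 (by norm_num) (h.p5.m _) (h.p5.m _) (m6 _) (m6 _) (by decide) E4
  exact ⟨h.q2.inj r1, h.p3.inj r2, h.q4.inj r3, h.p5.inj r4, h.q6.inj E5⟩

/-! ### The action of `X 0` -/

theorem l2 (h : CAX) {l : G} (hl : l ∈ X 0) (a : F) : cj l (y2 a) = y2 a :=
  cj_of_comm (z2 h hl 2 (by norm_num) (by decide) a)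

theorem l4 (h : CAX) {l : G} (hl : l ∈ X 0) (a : F) : cj l (y4 a) = y4 a :=
  cj_of_comm (z4 h hl 0 (by norm_num) (by decide) a)

theorem l3 (h : CAX) {l : G} (hl : l ∈ X 0) (b : F) : ∃ m, cj l (x3 b) = ww m b 0 0 0 := by
  have h1 : kk l (x3 b) ∈ Yc X 2 := h.K.t3' 0 l hl _ (h.p3.m b)
  obtain ⟨m, hm⟩ := (h.q2.mem _).mp h1
  refine ⟨m, ?_⟩
  rw [cj_eq, HexField.kk_inv, ← hm, inv2 h, w3 h, w2 h, w_mul h, zero_add, add_zero, zero_add]

theorem l5 (h : CAX) {l : G} (hl : l ∈ X 0) (d : F) : ∃ m n k, cj l (x5 d) = ww m n k d 0 := by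
  obtain ⟨p, hp, q, hq, r, hr, e⟩ := h.K.v5' 0 l hl _ (h.p5.m d)
  obtain ⟨m, rfl⟩ := (h.q2.mem p).mp hp
  obtain ⟨n, rfl⟩ := (h.p3.mem q).mp hq
  obtain ⟨k, rfl⟩ := (h.q4.mem r).mp hr
  refine ⟨m, n, k, ?_⟩
  have e' : kk l (x5 d) = ww m n k 0 0 := by
    rw [e]; unfold W; rw [h.p5.zero, h.q6.zero, mul_one, mul_one]
  rw [cj_eq, HexField.kk_inv, e', w_inv h, w5 h, w_mul h]
  simp only [zero_add, add_zero]

theorem l6 (h : CAX) {l : G} (hl : l ∈ X 0) (e : F) : ∃ m n k r, cj l (y6 e) = ww m n k r e := by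
  obtain ⟨q, hq, p, hp, r, hr, s, hs, E⟩ := h.K.y6' 0 l hl _ (h.q6.m e)
  obtain ⟨m, rfl⟩ := (h.q2.mem q).mp hq
  obtain ⟨n, rfl⟩ := (h.p3.mem p).mp hp
  obtain ⟨k, rfl⟩ := (h.q4.mem r).mp hr
  obtain ⟨t, rfl⟩ := (h.p5.mem s).mp hs
  refine ⟨m, n, k, t, ?_⟩
  have e' : kk l (y6 e) = ww m n k t 0 := by
    rw [E]; unfold W; rw [h.q6.zero, mul_one]
  rw [cj_eq, HexField.kk_inv, e', w_inv h, w6 h, w_mul h]
  simp only [zero_add, add_zero]

theorem lw0 (h : CAX) {l : G} (hl : l ∈ X 0) (a b c d : F) : ∃ a' b' c', cj l (ww a b c d 0) = ww a' b' c' d 0 := by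
  obtain ⟨m, hm⟩ := l3 h hl b
  obtain ⟨m', n', k', hn⟩ := l5 h hl d
  refine ⟨a + m + m', b + n', c + k', ?_⟩
  conv_lhs => unfold W
  rw [h.q6.zero, mul_one, cj_mul, cj_mul, cj_mul, l2 h hl, hm, l4 h hl, hn, w2 h, w4 h, w_mul h, w_mul h, w_mul h]
  simp only [zero_add, add_zero]

theorem lw (h : CAX) {l : G} (hl : l ∈ X 0) (a b c d e : F) :
    ∃ a' b' c' d', cj l (ww a b c d e) = ww a' b' c' d' e := by
  obtain ⟨m, n, k, h1⟩ := lw0 h hl a b c d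
  obtain ⟨m', n', k', r', h2⟩ := l6 h hl e
  refine ⟨m + m', n + n', k + k', d + r', ?_⟩
  have e1 : ww a b c d e = ww a b c d 0 * y6 e := by
    rw [w6 h, w_mul h]; simp only [zero_add, add_zero]
  rw [e1, cj_mul, h1, h2, w_mul h]
  simp only [zero_add]

/-! ### Tests -/

section Tests

variable {p : G → F}

theorem T1 (h : CAX) (b36 : ∀ x ∈ X 6, ∀ t, kk (x3 t) x = y4 (t * p x)) (p1 : p 1 = 0) (a b c d e s : F) :
    kk (ww a b c d e) (x1 s) = y4 (e * s) := by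
  have := pair h b36 a b c d e (s := s) (r := 0) (one_mem (X 2)) (one_mem (X 3)) (one_mem (X 4)) (one_mem (X 5))
    (one_mem (X 6))
  rw [cj_one, p1, h.p7.zero, mul_one, mul_one, mul_one, mul_one, mul_one, mul_one, mul_zero, mul_zero, mul_zero,
    zero_add, zero_add, zero_add] at this
  exact this

theorem T7 (h : CAX) (b36 : ∀ x ∈ X 6, ∀ t, kk (x3 t) x = y4 (t * p x)) (p1 : p 1 = 0) (a b c d e r : F) :
    kk (ww a b c d e) (x7 r) = y4 (a * r) := by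
  have := pair h b36 a b c d e (s := 0) (r := r) (one_mem (X 2)) (one_mem (X 3)) (one_mem (X 4)) (one_mem (X 5))
    (one_mem (X 6))
  rw [cj_one, p1, h.p1.zero, mul_one, mul_one, mul_one, mul_one, mul_one, one_mul, mul_zero, mul_zero, mul_zero,
    add_zero, add_zero, add_zero] at this
  exact this

theorem T2 (h : CAX) (b36 : ∀ x ∈ X 6, ∀ t, kk (x3 t) x = y4 (t * p x)) (p1 : p 1 = 0) (a b c d e : F) {x : G}
    (hx : x ∈ X 2) : kk (ww a b c d e) x = y4 (d * p (cj n8 x)) := by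
  have := pair h b36 a b c d e (s := 0) (r := 0) hx (one_mem (X 3)) (one_mem (X 4)) (one_mem (X 5))
    (one_mem (X 6))
  rw [p1, h.p1.zero, h.p7.zero, mul_one, mul_one, mul_one, mul_one, mul_one, one_mul, mul_zero, mul_zero, mul_zero,
    add_zero, add_zero, zero_add] at this
  exact this

theorem T6 (h : CAX) (b36 : ∀ x ∈ X 6, ∀ t, kk (x3 t) x = y4 (t * p x)) (p1 : p 1 = 0) (a b c d e : F) {x : G}
    (hx : x ∈ X 6) : kk (ww a b c d e) x = y4 (b * p x) := by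
  have := pair h b36 a b c d e (s := 0) (r := 0) (one_mem (X 2)) (one_mem (X 3)) (one_mem (X 4)) (one_mem (X 5)) hx
  rw [cj_one, p1, h.p1.zero, h.p7.zero, mul_one, mul_one, mul_one, mul_one, mul_one, one_mul, mul_zero, mul_zero,
    mul_zero, add_zero, add_zero, zero_add] at this
  exact this

theorem rows2 (h : CAX) {g q : G} (hg : g ∈ X 8) (hq : q ∈ seg X 1 7) :
    ∃ r, ∀ u, kk (cj g (y2 u)) q = y4 (u * r) := by
  obtain ⟨s, z2', h2, z3, h3, z4', h4, z5, h5, z6', h6, r, e⟩ := dec h (q7 h hg hq)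
  refine ⟨r, fun u => dtrick h hg ?_⟩
  rw [e]
  exact row2 h u h2 h3 h4 h5 h6

theorem rows3 (h : CAX) (b36 : ∀ x ∈ X 6, ∀ t, kk (x3 t) x = y4 (t * p x)) {g q : G} (hg : g ∈ X 8)
    (hq : q ∈ seg X 1 7) : ∃ r, ∀ u, kk (cj g (x3 u)) q = y4 (u * r) := by
  obtain ⟨s, z2', h2, z3, h3, z4', h4, z5, h5, z6', h6, r, e⟩ := dec h (q7 h hg hq)
  refine ⟨p z6', fun u => dtrick h hg ?_⟩
  rw [e, row3 h u h2 h3 h4 h5 h6]
  exact b36 _ h6 u

theorem raw2 (h : CAX) {g : G} (hg : g ∈ X 8) (u : F) : ∃ b c d e, cj g (y2 u) = ww u b c d e := by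
  obtain ⟨p, hp, q, hq, r, hr, s, hs, E⟩ := h.K.y6 1 _ (h.q2.m u) g hg
  obtain ⟨m, rfl⟩ := (h.p3.mem p).mp hp
  obtain ⟨n, rfl⟩ := (h.q4.mem q).mp hq
  obtain ⟨k, rfl⟩ := (h.p5.mem r).mp hr
  obtain ⟨t, rfl⟩ := (h.q6.mem s).mp hs
  refine ⟨m, n, k, t, ?_⟩
  rw [cj_eq, E]; unfold W; group

theorem raw3 (h : CAX) {g : G} (hg : g ∈ X 8) (t : F) : ∃ c d e, cj g (x3 t) = ww 0 t c d e := by
  obtain ⟨p, hp, q, hq, r, hr, E⟩ := h.K.v5 1 _ (h.p3.m t) g hg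
  obtain ⟨m, rfl⟩ := (h.q4.mem p).mp hp
  obtain ⟨n, rfl⟩ := (h.p5.mem q).mp hq
  obtain ⟨k, rfl⟩ := (h.q6.mem r).mp hr
  refine ⟨m, n, k, ?_⟩
  rw [cj_eq, E]; unfold W; rw [h.q2.zero]; group

theorem raw5 (h : CAX) (b36 : ∀ x ∈ X 6, ∀ t, kk (x3 t) x = y4 (t * p x)) {g : G} (hg : g ∈ X 8) (t : F) :
    cj g (x5 t) = ww 0 0 0 t (p (cj n8 (cj n1 g)) * t) := by
  rw [cj_eq, b58 h b36 hg, w5 h, w6 h, w_mul h, mul_comm t]
  simp only [zero_add, add_zero]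

theorem raw4 (h : CAX) {g : G} (hg : g ∈ X 8) (t : F) : cj g (y4 t) = ww 0 0 t 0 0 := by
  rw [cj_of_comm (z4 h hg 8 (by norm_num) (by decide) _), w4 h]

theorem raw6 (h : CAX) {g : G} (hg : g ∈ X 8) (t : F) : cj g (y6 t) = ww 0 0 0 0 t := by
  rw [cj_of_comm (z6 h hg 6 (by norm_num) (by decide) _), w6 h]

theorem mat2 (h : CAX) (b36 : ∀ x ∈ X 6, ∀ t, kk (x3 t) x = y4 (t * p x)) (p1 : p 1 = 0)
    (ps : ∀ s, ∃ x ∈ X 6, p x = s) {g : G} (hg : g ∈ X 8) :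
    ∃ al b n, ∀ u, ∃ d, cj g (y2 u) = ww u (al * u) d (b * u) (n * u) := by
  obtain ⟨x, hx, hpx⟩ := ps 1
  have hx2 : cj n8 x ∈ X 2 := m8x h hx (by decide)
  obtain ⟨n, hn⟩ := rows2 h hg (q := x1 1) (ms (h.p1.m 1) 0 (by norm_num) (by decide))
  obtain ⟨b, hb⟩ := rows2 h hg (q := cj n8 x) (ms hx2 1 (by norm_num) (by decide))
  obtain ⟨al, hal⟩ := rows2 h hg (q := x) (ms hx 5 (by norm_num) (by decide))
  refine ⟨al, b, n, fun u => ?_⟩
  obtain ⟨b', c', d', e', E⟩ := raw2 h hg u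
  have t1 := hn u
  have t2 := hb u
  have t6 := hal u
  rw [E, T1 h b36 p1, mul_one] at t1
  rw [E, T2 h b36 p1 _ _ _ _ _ hx2, n88 h, hpx, mul_one] at t2
  rw [E, T6 h b36 p1 _ _ _ _ _ hx, hpx, mul_one] at t6
  have t1' := h.q4.inj t1
  have t2' := h.q4.inj t2
  have t6' := h.q4.inj t6
  refine ⟨c', ?_⟩
  rw [E, t1', t2', t6', mul_comm u, mul_comm u, mul_comm u]

theorem mat3 (h : CAX) (b36 : ∀ x ∈ X 6, ∀ t, kk (x3 t) x = y4 (t * p x)) (p1 : p 1 = 0)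
    (ps : ∀ s, ∃ x ∈ X 6, p x = s) {g : G} (hg : g ∈ X 8) :
    ∃ ep f, ∀ u, ∃ d, cj g (x3 u) = ww 0 u d (ep * u) (f * u) := by
  obtain ⟨x, hx, hpx⟩ := ps 1
  have hx2 : cj n8 x ∈ X 2 := m8x h hx (by decide)
  obtain ⟨n, hn⟩ := rows3 h b36 hg (q := x1 1) (ms (h.p1.m 1) 0 (by norm_num) (by decide))
  obtain ⟨b, hb⟩ := rows3 h b36 hg (q := cj n8 x) (ms hx2 1 (by norm_num) (by decide))
  refine ⟨b, n, fun u => ?_⟩
  obtain ⟨c', d', e', E⟩ := raw3 h hg u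
  have t1 := hn u
  have t2 := hb u
  rw [E, T1 h b36 p1, mul_one] at t1
  rw [E, T2 h b36 p1 _ _ _ _ _ hx2, n88 h, hpx, mul_one] at t2
  have t1' := h.q4.inj t1
  have t2' := h.q4.inj t2
  refine ⟨c', ?_⟩
  rw [E, t1', t2', mul_comm u, mul_comm u]

/-- `[X 6, X 8]`, first form. -/
theorem e68a (h : CAX) (b36 : ∀ x ∈ X 6, ∀ t, kk (x3 t) x = y4 (t * p x)) (p1 : p 1 = 0) {g : G} (hg : g ∈ X 8)
    {al b n : F} (hm : ∀ u, ∃ d, cj g (y2 u) = ww u (al * u) d (b * u) (n * u)) {x : G} (hx : x ∈ X 6) :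
    kk x g⁻¹ = x7 (al * p x) := by
  have h1 : kk x g⁻¹ ∈ seg X 7 1 := kk_mem h.K.A.sys (i := 6) (j := 8) 1 (by norm_num) hx (inv_mem hg) (by decide) (by decide)
  rw [seg_one] at h1
  obtain ⟨γ, hγ⟩ := (h.p7.mem _).mp h1
  have e1 : kk (y2 1) (cj g⁻¹ x) = y4 (1 * γ) := by
    rw [cj_eq, ← hγ]
    have e2 : kk (y2 1) x = y4 0 := by
      rw [kk_one_of (z2 h hx 8 (by norm_num) (by decide) 1), h.q4.zero]
    have e3 : kk (y2 1) (x7 γ) = y4 (1 * γ) := by rw [HexField.kk_inv, h.a72, inv4 h, mul_comm]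
    rw [kkR h e2 e3 (z4 h (h.p7.m γ) 7 (by norm_num) (by decide)), zero_add]
  have e2 := dtrick h hg e1
  obtain ⟨d, hd⟩ := hm 1
  rw [hd, T6 h b36 p1 _ _ _ _ _ hx, mul_one, one_mul] at e2
  rw [← hγ, h.q4.inj e2]

end Tests

end Main

end Cfsg.Agent.SplitTwo.OctCoordA3
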