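import Cfsg.Agent.SplitTwo.OctCoordBDefs

/-!
# The Moufang octagon, G side: the `Y₄`-components (S1144, `m = 8`, (18) of helper851's proof, bb #5290)

From `Pre` and `Sym` (`OctCoordBDefs.lean`): the relations `(3,8)`, `(2,7)`, `(1,6)`, `(1,7)` of `OctRel` and `(2,8)`
for `Y₂`.  Everything is a comparison of two normal forms of a word in `X₁, ..., X₈`.
-/

set_option autoImplicit false
set_option linter.unusedSimpArgs false

namespace Cfsg.Agent.SplitTwo.OctCoordB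

open Cfsg.Agent.Octagon.Pkg Cfsg.Agent.SplitTwo.OctCoordBDefs

variable {F : Type*} [Field F] {G : Type*} [Group G]


variable {σ : F →+* F} {x1 x3 x5 x7 : F → G} {x2 x4 x6 x8 : F → F → G}

section

variable (h : Pre σ x1 x3 x5 x7 x2 x4 x6 x8)

include h

theorem add_self (a : F) : a + a = 0 := by
  rw [← two_mul, h.two, zero_mul]

theorem zr1 : x1 0 = 1 := by
  have := h.m1 0 0
  rw [add_zero] at this
  exact mul_eq_left.mp this

theorem zr3 : x3 0 = 1 := by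
  have := h.m3 0 0
  rw [add_zero] at this
  exact mul_eq_left.mp this

theorem zr5 : x5 0 = 1 := by
  have := h.m5 0 0
  rw [add_zero] at this
  exact mul_eq_left.mp this

theorem zr7 : x7 0 = 1 := by
  have := h.m7 0 0
  rw [add_zero] at this
  exact mul_eq_left.mp this

theorem zr2 : x2 0 0 = 1 := by
  have := h.m2 0 0 0 0
  simp only [add_zero, map_zero, mul_zero] at this
  exact mul_eq_left.mp this

theorem zr4 : x4 0 0 = 1 := by
  have := h.m4 0 0 0 0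
  simp only [add_zero, map_zero, mul_zero] at this
  exact mul_eq_left.mp this

theorem zr6 : x6 0 0 = 1 := by
  have := h.m6 0 0 0 0
  simp only [add_zero, map_zero, mul_zero] at this
  exact mul_eq_left.mp this

theorem zr8 : x8 0 0 = 1 := by
  have := h.m8 0 0 0 0
  simp only [add_zero, map_zero, mul_zero] at this
  exact mul_eq_left.mp this


theorem inv1 (t : F) : (x1 t)⁻¹ = x1 t :=
  inv_eq_of_mul_eq_one_left (by rw [h.m1, add_self h, zr1 h])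

theorem inv3 (t : F) : (x3 t)⁻¹ = x3 t :=
  inv_eq_of_mul_eq_one_left (by rw [h.m3, add_self h, zr3 h])

theorem inv5 (t : F) : (x5 t)⁻¹ = x5 t :=
  inv_eq_of_mul_eq_one_left (by rw [h.m5, add_self h, zr5 h])

theorem inv7 (t : F) : (x7 t)⁻¹ = x7 t :=
  inv_eq_of_mul_eq_one_left (by rw [h.m7, add_self h, zr7 h])

theorem inv2 (t : F) : (x2 0 t)⁻¹ = x2 0 t :=
  inv_eq_of_mul_eq_one_left (by simp only [h.m2, add_self h, zero_mul, zr2 h])

theorem inv4 (t : F) : (x4 0 t)⁻¹ = x4 0 t :=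
  inv_eq_of_mul_eq_one_left (by simp only [h.m4, add_self h, zero_mul, zr4 h])

theorem inv6 (t : F) : (x6 0 t)⁻¹ = x6 0 t :=
  inv_eq_of_mul_eq_one_left (by simp only [h.m6, add_self h, zero_mul, zr6 h])

theorem inv8 (t : F) : (x8 0 t)⁻¹ = x8 0 t :=
  inv_eq_of_mul_eq_one_left (by simp only [h.m8, add_self h, zero_mul, zr8 h])

end

/-! ### Rewriting -/

theorem hd {a b c : G} (h : a * b = b * a * c) : a * b = b * (a * c) := by rw [h, mul_assoc]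

theorem tl {a b c : G} (h : a * b = b * a * c) (w : G) : a * (b * w) = b * (a * (c * w)) := by
  rw [← mul_assoc, h]; simp only [mul_assoc]

theorem tl0 {a b : G} (h : a * b = b * a) (w : G) : a * (b * w) = b * (a * w) := by
  rw [← mul_assoc, h, mul_assoc]

theorem mg {a b c : G} (h : a * b = c) (w : G) : a * (b * w) = c * w := by
  rw [← mul_assoc, h]

/-- conjugation of a relation -/
theorem cj {a b c a' b' c' n : G} (h : a * b = b * a * c) (ha : n * a * n⁻¹ = a') (hb : n * b * n⁻¹ = b')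
    (hc : n * c * n⁻¹ = c') : a' * b' = b' * a' * c' := by
  rw [← ha, ← hb, ← hc]
  have := congrArg (fun x => n * x * n⁻¹) h
  calc n * a * n⁻¹ * (n * b * n⁻¹) = n * (a * b) * n⁻¹ := by group
    _ = n * (b * a * c) * n⁻¹ := by rw [h]
    _ = _ := by group

/-- reversing a relation -/
theorem rev {a b c c' : G} (h : a * b = b * a * c) (hc : c⁻¹ = c') : b * a = a * b * c' := by
  rw [h, ← hc]; group

theorem cjm {n a b a' b' : G} (ha : n * a * n⁻¹ = a') (hb : n * b * n⁻¹ = b') :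
    n * (a * b) * n⁻¹ = a' * b' := by
  rw [← ha, ← hb]; group

/-- normal form of a word: descending order of the root groups -/
local macro "nf" h:ident "[" ts:term,* "]" "at" e:ident : tactic =>
  `(tactic| simp only [mul_assoc, ($h).r12, fun t q v => tl0 (($h).r12 t q v), ($h).r13, fun t t1 => tl0 (($h).r13 t t1), ($h).r15, fun t t1 => tl0 (($h).r15 t t1), ($h).r23, fun p u t => tl0 (($h).r23 p u t), ($h).r26, fun p u q v => tl0 (($h).r26 p u q v), ($h).r34, fun t q v => tl0 (($h).r34 t q v), ($h).r35, fun t t1 => tl0 (($h).r35 t t1), ($h).r37, fun t t1 => tl0 (($h).r37 t t1), ($h).r45, fun p u t => tl0 (($h).r45 p u t), ($h).r48, fun p u q v => tl0 (($h).r48 p u q v), ($h).r56, fun t q v => tl0 (($h).r56 t q v), ($h).r57, fun t t1 => tl0 (($h).r57 t t1), ($h).r67, fun p u t => tl0 (($h).r67 p u t), ($h).r78, fun t q v => tl0 (($h).r78 t q v), ($h).r14, fun t q v => tl (($h).r14 t q v),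 ($h).r24, fun p u q v => tl (($h).r24 p u q v), ($h).r25, fun p u t => tl (($h).r25 p u t), ($h).r36, fun t q v => tl (($h).r36 t q v), ($h).r46, fun p u q v => tl (($h).r46 p u q v), ($h).r47, fun p u t => tl (($h).r47 p u t), ($h).r58, fun t q v => tl (($h).r58 t q v), ($h).r68, fun p u q v => tl (($h).r68 p u q v), ($h).m1, fun t t1 => mg (($h).m1 t t1), ($h).m3, fun t t1 => mg (($h).m3 t t1), ($h).m5, fun t t1 => mg (($h).m5 t t1), ($h).m7, fun t t1 => mg (($h).m7 t t1), ($h).m2, fun p u q v => mg (($h).m2 p u q v), ($h).m4, fun p u q v => mg (($h).m4 p u q v), ($h).m6, fun p u q v => mg (($h).m6 p u q v), ($h).m8, fun p u q v => mg (($h).m8 p u q v), zero_mul, mul_zero, add_zero, zero_add, map_zero, $[$ts:term],*] at $e:ident)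

section main

variable {σ : F →+* F} {x1 x3 x5 x7 : F → G} {x2 x4 x6 x8 : F → F → G}
  (h : Pre σ x1 x3 x5 x7 x2 x4 x6 x8) {n1 n8 z k l : G} (s : Sym σ x1 x3 x5 x7 x2 x4 x6 x8 n1 n8 z k l)

include h

theorem u7 {a7 p6 u6 a5 p4 u4 a3 p2 u2 a1 b7 q6 v6 b5 q4 v4 b3 q2 v2 b1 : F}
    (e : x7 a7 * (x6 p6 u6 * (x5 a5 * (x4 p4 u4 * (x3 a3 * (x2 p2 u2 * x1 a1))))) =
      x7 b7 * (x6 q6 v6 * (x5 b5 * (x4 q4 v4 * (x3 b3 * (x2 q2 v2 * x1 b1)))))) :
    a7 = b7 ∧ (p6 = q6 ∧ u6 = v6) ∧ a5 = b5 ∧ (p4 = q4 ∧ u4 = v4) ∧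
      a3 = b3 ∧ (p2 = q2 ∧ u2 = v2) ∧ a1 = b1 :=
  (h.uniq (congrArg (fun w => x8 0 0 * w) e)).2

theorem u5 {a5 p4 u4 a3 p2 u2 a1 b5 q4 v4 b3 q2 v2 b1 : F}
    (e : x5 a5 * (x4 p4 u4 * (x3 a3 * (x2 p2 u2 * x1 a1))) =
      x5 b5 * (x4 q4 v4 * (x3 b3 * (x2 q2 v2 * x1 b1)))) :
    a5 = b5 ∧ (p4 = q4 ∧ u4 = v4) ∧ a3 = b3 ∧ (p2 = q2 ∧ u2 = v2) ∧ a1 = b1 :=
  (u7 h (congrArg (fun w => x7 0 * (x6 0 0 * w)) e)).2.2

theorem u86 {p8 u8 p6 u6 a5 p4 u4 a3 p2 u2 q8 v8 q6 v6 b5 q4 v4 b3 q2 v2 : F}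
    (e : x8 p8 u8 * (x6 p6 u6 * (x5 a5 * (x4 p4 u4 * (x3 a3 * x2 p2 u2)))) =
      x8 q8 v8 * (x6 q6 v6 * (x5 b5 * (x4 q4 v4 * (x3 b3 * x2 q2 v2))))) :
    (p8 = q8 ∧ u8 = v8) ∧ (p6 = q6 ∧ u6 = v6) ∧ a5 = b5 ∧ (p4 = q4 ∧ u4 = v4) ∧
      a3 = b3 ∧ (p2 = q2 ∧ u2 = v2) := by
  have := h.uniq (p8 := p8) (u8 := u8) (a7 := 0) (p6 := p6) (u6 := u6) (a5 := a5) (p4 := p4) (u4 := u4)
    (a3 := a3) (p2 := p2) (u2 := u2) (a1 := 0) (q8 := q8) (v8 := v8) (b7 := 0) (q6 := q6) (v6 := v6)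
    (b5 := b5) (q4 := q4) (v4 := v4) (b3 := b3) (q2 := q2) (v2 := v2) (b1 := 0)
    (by simp only [zr7 h, zr1 h, one_mul, mul_one]; exact e)
  exact ⟨this.1, this.2.2.1, this.2.2.2.1, this.2.2.2.2.1, this.2.2.2.2.2.1, this.2.2.2.2.2.2.1⟩

/-- the relations with unknown components, as functions -/
structure Q (σ : F →+* F) (x1 x3 x5 x7 : F → G) (x2 x4 x6 x8 : F → F → G) (f : F → F → F → F)
    (A g C : F → F → F) : Prop where
  q38 : ∀ t q v, x3 t * x8 q v = x8 q v * x3 t * (x4 0 (f t q v) * x5 (t * σ q) * x6 0 (t * q * σ q + t * v))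
  q27 : ∀ q v t, x2 q v * x7 t = x7 t * x2 q v * (x4 0 (t * q * σ q + t * v) * x5 (t * σ q) * x6 0 (f t q v))
  q16 : ∀ t q v, x1 t * x6 q v = x6 q v * x1 t * (x2 0 (f t q v) * x3 (t * σ q) * x4 0 (t * q * σ q + t * v))
  q17 : ∀ t s, x1 t * x7 s = x7 s * x1 t * (x3 (A t s) * x4 0 (g t s) * x5 (C t s))

omit h in
include s in
theorem exists_Q (h : Pre σ x1 x3 x5 x7 x2 x4 x6 x8) :
    ∃ f A g C, Q σ x1 x3 x5 x7 x2 x4 x6 x8 f A g C := by
  choose f hf using h.p38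
  choose A g C hq using h.p17
  have q72 : ∀ q v t, x7 t * x2 q v =
      x2 q v * x7 t * (x6 0 (f t q v) * x5 (t * σ q) * x4 0 (t * q * σ q + t * v)) := by
    intro q v t
    refine cj (n := n1) (a := x3 t) (b := x8 q v)
      (c := x4 0 (f t q v) * x5 (t * σ q) * x6 0 (t * q * σ q + t * v)) ?_ (s.n13 t) (s.n18 q v) ?_
    · rw [hf]; simp only [mul_assoc]
    · exact cjm (cjm (s.n14 _ _) (s.n15 _)) (s.n16 _ _)
  refine ⟨f, A, g, C, fun t q v => by rw [hf]; simp only [mul_assoc], fun q v t => ?_, fun t q v => ?_,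
    fun t s => by rw [hq]; simp only [mul_assoc]⟩
  · exact rev (q72 q v t) (by simp only [mul_inv_rev, inv4 h, inv5 h, inv6 h, mul_assoc])
  · exact cj (n := n8) (q72 q v t) (s.n87 t) (s.n82 q v) (cjm (cjm (s.n86 _ _) (s.n85 _)) (s.n84 _ _))

variable {f : F → F → F → F} {A g C : F → F → F} (Q : Q σ x1 x3 x5 x7 x2 x4 x6 x8 f A g C)

include Q

/-- Hall-Witt for `(x₁, x₆, x₇)` -/
theorem f_mul (t q v s : F) : f t q v * s = A t s * q := by
  have e : x6 q v * x1 t * (x2 0 (f t q v) * x3 (t * σ q) * x4 0 (t * q * σ q + t * v)) * x7 s =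
      x7 s * x1 t * (x3 (A t s) * x4 0 (g t s) * x5 (C t s)) * x6 q v := by
    rw [← Q.q16, ← Q.q17, mul_assoc, mul_assoc, h.r67]
  nf h [Q.q16, Q.q17, Q.q27, fun t q v => tl (Q.q16 t q v), fun t s => tl (Q.q17 t s),
    fun q v t => tl (Q.q27 q v t)] at e
  linear_combination (u7 h e).2.2.2.1.2

theorem f_eq (t q v : F) : f t q v = A t 1 * q := by
  have := f_mul h Q t q v 1
  rwa [mul_one] at this

theorem A_eq (t s : F) : A t s = A t 1 * s := by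
  have h1 := f_mul h Q t 1 0 s
  rw [f_eq h Q, mul_one, mul_one] at h1
  exact h1.symm

theorem a16 (t v : F) : x1 t * x6 0 v = x6 0 v * x1 t * x4 0 (t * v) := by
  rw [Q.q16, f_eq h Q]
  simp only [map_zero, mul_zero, zero_add, zr2 h, zr3 h, one_mul]

/-- `[x₁, x₈]_2` has first coordinate `t q` -/
theorem comp2 {t q v e2 f2 e3 e4 f4 e5 e6 f6 e7 : F} (e : x1 t * x8 q v =
    x8 q v * x1 t * x2 e2 f2 * x3 e3 * x4 e4 f4 * x5 e5 * x6 e6 f6 * x7 e7) : e2 = t * q := by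
  have e1 : x8 q v * x1 t * x2 e2 f2 * x3 e3 * x4 e4 f4 * x5 e5 * x6 e6 f6 * x7 e7 * x5 1 * x6 0 q =
      x5 1 * (x8 q v * x1 t * x2 e2 f2 * x3 e3 * x4 e4 f4 * x5 e5 * x6 e6 f6 * x7 e7) := by
    rw [← e]
    have h58 := h.r58 1 q v
    rw [one_mul] at h58
    calc x1 t * x8 q v * x5 1 * x6 0 q = x1 t * (x8 q v * x5 1 * x6 0 q) := by group
      _ = x1 t * x5 1 * x8 q v := by rw [← h58]; group
      _ = _ := by rw [h.r15]; group
  nf h [Q.q16, Q.q17, Q.q27, fun t q v => tl (Q.q16 t q v), fun t s => tl (Q.q17 t s),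
    fun q v t => tl (Q.q27 q v t), a16 h Q, fun t v => tl (a16 h Q t v)] at e1
  have e3 := (h.uniq e1).2.2.2.2.1.2
  linear_combination e3 - t * q * h.two

theorem theta (t : F) : A t 1 = σ t := by
  obtain ⟨e2, f2, e3, e4, f4, e5, e6, f6, e7, e⟩ := h.p18 t 1 0
  have he2 := comp2 h Q e
  have e1 : x8 1 0 * x1 t * x2 e2 f2 * x3 e3 * x4 e4 f4 * x5 e5 * x6 e6 f6 * x7 e7 * x7 1 =
      x7 1 * x1 t * (x3 (A t 1) * x4 0 (g t 1) * x5 (C t 1)) * x8 1 0 := by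
    rw [← e, ← Q.q17, mul_assoc, mul_assoc, h.r78]
  nf h [Q.q16, Q.q17, Q.q27, fun t q v => tl (Q.q16 t q v), fun t s => tl (Q.q17 t s),
    fun q v t => tl (Q.q27 q v t), Q.q38, fun t q v => tl (Q.q38 t q v), e,
    zr2 h, one_mul] at e1
  have e9 := (h.uniq e1).2.2.2.1
  rw [he2, mul_one, map_one, mul_one] at e9
  linear_combination -e9

theorem A_eq' (t s : F) : A t s = σ t * s := by rw [A_eq h Q, theta h Q]

theorem f_eq' (t q v : F) : f t q v = σ t * q := by rw [f_eq h Q, theta h Q]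

include s in
theorem C_eq (t v : F) : C t v = t * σ v ∧ g t v = g v t := by
  have e1 : x7 t * x1 v = x1 v * x7 t * (x5 (A t v) * x4 0 (g t v) * x3 (C t v)) :=
    cj (Q.q17 t v) (s.n81 t) (s.n87 v) (cjm (cjm (s.n83 _) (s.n84 _ _)) (s.n85 _))
  have e2 := rev e1 (c' := x3 (C t v) * x4 0 (g t v) * x5 (A t v))
    (by simp only [mul_inv_rev, inv4 h, inv5 h, inv3 h, mul_assoc])
  rw [Q.q17 v t] at e2
  have e3 := mul_left_cancel e2
  simp only [mul_assoc, h.r34, h.r35, h.r45, fun p u t => tl0 (h.r45 p u t), fun t t1 => tl0 (h.r35 t t1)] at e3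
  have e4 := u5 h (a5 := C v t) (p4 := 0) (u4 := g v t) (a3 := A v t) (p2 := 0) (u2 := 0) (a1 := 0)
    (b5 := A t v) (q4 := 0) (v4 := g t v) (b3 := C t v) (q2 := 0) (v2 := 0) (b1 := 0)
    (by rw [zr2 h, zr1 h, mul_one, mul_one, mul_one]; exact e3)
  refine ⟨?_, e4.2.1.2.symm⟩
  rw [← e4.2.2.1, A_eq' h Q, mul_comm]

include s in
theorem g_one (t : F) : g t 1 = 0 := by
  obtain ⟨a, b, c, e5⟩ := s.z5 t
  have e1 : n8 * n1 * n8⁻¹ * x1 t * (n8 * n1 * n8⁻¹)⁻¹ = x5 t := by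
    have h1 : n8⁻¹ * x1 t * n8 = x7 t := by rw [← s.n87 t]; group
    calc n8 * n1 * n8⁻¹ * x1 t * (n8 * n1 * n8⁻¹)⁻¹ = n8 * (n1 * (n8⁻¹ * x1 t * n8) * n1⁻¹) * n8⁻¹ := by group
      _ = x5 t := by rw [h1, s.n17, s.n83]
  have hz : z⁻¹ = z := inv_eq_of_mul_eq_one_left s.zz
  have h77 : x7 1 * x7 1 = 1 := by rw [h.m7, add_self h, zr7 h]
  rw [s.n7] at e1
  have e2 : x7 1 * x1 t * x7 1 = z * x5 t * z := by
    rw [← e1]
    simp only [mul_inv_rev, inv7 h, hz]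
    calc x7 1 * x1 t * x7 1 = x7 1 * (x1 t * (z * z)) * x7 1 := by rw [s.zz, mul_one]
      _ = x7 1 * (z * x1 t * z) * x7 1 := by rw [s.z1]; simp only [mul_assoc]
      _ = (z * z) * (x7 1 * (z * x1 t * z) * x7 1) * (z * z) := by rw [s.zz, one_mul, mul_one]
      _ = _ := by simp only [mul_assoc]
  have e3 : x1 t * (x3 (A t 1) * x4 0 (g t 1) * x5 (C t 1)) = x5 t * x3 a * x2 0 b * x1 c := by
    rw [← e5, ← e2, mul_assoc (x7 1), Q.q17]
    calc x1 t * (x3 (A t 1) * x4 0 (g t 1) * x5 (C t 1)) =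
        (x7 1 * x7 1) * (x1 t * (x3 (A t 1) * x4 0 (g t 1) * x5 (C t 1))) := by rw [h77, one_mul]
      _ = _ := by simp only [mul_assoc]
  nf h [] at e3
  exact (u5 h (q4 := 0) (v4 := 0) (a1 := t) (b1 := c) (p2 := 0) (u2 := 0) (q2 := 0) (v2 := b)
    (p4 := 0) (u4 := g t 1) (a3 := A t 1) (b3 := a) (a5 := C t 1) (b5 := t)
    (by rw [e3, zr4 h, one_mul])).2.1.2

include s in
theorem g_eq (t v : F) : g t v = 0 := by
  by_cases hv : v = 0
  · rw [hv]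
    have e := Q.q17 t 0
    simp only [zr7 h, mul_one, one_mul, A_eq' h Q, mul_zero, zr3 h, (C_eq h s Q t 0).1, map_zero, zr5 h] at e
    have e1 : x4 0 (g t 0) = 1 := mul_eq_left.mp e.symm
    have e2 := u5 h (a5 := 0) (p4 := 0) (u4 := g t 0) (a3 := 0) (p2 := 0) (u2 := 0) (a1 := 0) (b5 := 0) (q4 := 0)
      (v4 := 0) (b3 := 0) (q2 := 0) (v2 := 0) (b1 := 0) (by rw [e1, zr4 h])
    exact e2.2.1.2
  · obtain ⟨y, h7, h1, h3, h5⟩ := s.tor7 v hv
    obtain ⟨t', ht'⟩ := h1 t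
    obtain ⟨a, ha⟩ := h3 (A t' 1)
    obtain ⟨b, hb⟩ := h5 (C t' 1)
    have e1 := Q.q17 t' 1
    rw [g_one h s Q, zr4 h, mul_one] at e1
    have e2 := cj e1 ht' h7 (cjm ha hb)
    rw [Q.q17 t v] at e2
    have e3 := mul_left_cancel e2
    simp only [mul_assoc, h.r34, h.r35, h.r45, fun p u t => tl0 (h.r45 p u t), fun t t1 => tl0 (h.r35 t t1)] at e3
    exact (u5 h (a5 := C t v) (p4 := 0) (u4 := g t v) (a3 := A t v) (p2 := 0) (u2 := 0) (a1 := 0)
      (b5 := b) (q4 := 0) (v4 := 0) (b3 := a) (q2 := 0) (v2 := 0) (b1 := 0)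
      (by rw [zr2 h, zr1 h, zr4 h, mul_one, mul_one, mul_one, one_mul]; exact e3)).2.1.2

/-- `[y₂, x₈]`: the `Y₄`-component is additive in `Y₈` -/
theorem B_add {B : F → F → F → F} (hB : ∀ u q v, x2 0 u * x8 q v =
      x8 q v * x2 0 u * (x3 (u * q) * x4 0 (B u q v) * x5 (u * v) *
        x6 0 (u * q * v + u * q * q * σ q + u * σ v))) (u q v w : F) :
    B u q (v + w) = B u q v + σ u * w := by
  have c28 : ∀ u v, x2 0 u * x8 0 v = x8 0 v * x2 0 u * (x4 0 (σ u * v) * x5 (u * v) * x6 0 (u * σ v)) := by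
    intro u v; rw [h.c28]; simp only [mul_assoc]
  have e : x8 q v * x2 0 u * (x3 (u * q) * x4 0 (B u q v) * x5 (u * v) *
        x6 0 (u * q * v + u * q * q * σ q + u * σ v)) * x8 0 w = x2 0 u * x8 q (v + w) := by
    rw [← hB, mul_assoc, h.m8]
    simp only [map_zero, mul_zero, add_zero]
  rw [hB] at e
  nf h [Q.q38, fun t q v => tl (Q.q38 t q v), c28, fun u v => tl (c28 u v), zr7 h, one_mul] at e
  have e1 := (u86 h e).2.2.2.1.2
  rw [f_eq h Q] at e1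
  linear_combination -e1

include s in
theorem B_one {B : F → F → F → F} (hB : ∀ u q v, x2 0 u * x8 q v =
      x8 q v * x2 0 u * (x3 (u * q) * x4 0 (B u q v) * x5 (u * v) *
        x6 0 (u * q * v + u * q * q * σ q + u * σ v))) (u : F) : B u 1 1 = 0 := by
  have hy : (x8 0 1)⁻¹ * x2 0 u * x8 0 1 = x2 0 u * x4 0 (σ u) * x5 u * x6 0 u := by
    have := h.c28 u 1
    rw [map_one, mul_one, mul_one] at this
    rw [mul_assoc, this]; group
  have hk : k⁻¹ * x2 0 u * k = x2 0 u := by rw [mul_assoc, ← s.k2, inv_mul_cancel_left]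
  have h26 : n8⁻¹ * x2 0 u * n8 = x6 0 u := by rw [← s.n86 0 u]; group
  have e0 : l⁻¹ * (x2 0 u * x4 0 (σ u) * x5 u * x6 0 u) * l = x6 0 u := by
    rw [← hy, ← h26]
    calc l⁻¹ * ((x8 0 1)⁻¹ * x2 0 u * x8 0 1) * l = l⁻¹ * ((x8 0 1)⁻¹ * (k⁻¹ * x2 0 u * k) * x8 0 1) * l := by
          rw [hk]
      _ = (k * x8 0 1 * l)⁻¹ * x2 0 u * (k * x8 0 1 * l) := by group
      _ = _ := by rw [← s.n8e]
  have e1 : (x8 1 1)⁻¹ * (x6 0 u * x4 0 (σ u) * x3 u * x2 0 u) * x8 1 1 = x2 0 u := by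
    have e2 : n8 * (x2 0 u * x4 0 (σ u) * x5 u * x6 0 u) * n8⁻¹ = x6 0 u * x4 0 (σ u) * x3 u * x2 0 u :=
      cjm (cjm (cjm (s.n82 _ _) (s.n84 _ _)) (s.n85 _)) (s.n86 _ _)
    rw [← e2]
    calc (x8 1 1)⁻¹ * (n8 * (x2 0 u * x4 0 (σ u) * x5 u * x6 0 u) * n8⁻¹) * x8 1 1 =
        n8 * ((n8⁻¹ * x8 1 1 * n8)⁻¹ * (x2 0 u * x4 0 (σ u) * x5 u * x6 0 u) * (n8⁻¹ * x8 1 1 * n8)) * n8⁻¹ := by
          group
      _ = x2 0 u := by rw [← s.l_eq, e0, s.n86]
  have e : x8 1 1 * x2 0 u = x6 0 u * (x4 0 (σ u) * (x3 u * (x2 0 u * x8 1 1))) := by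
    calc x8 1 1 * x2 0 u = x8 1 1 * ((x8 1 1)⁻¹ * (x6 0 u * x4 0 (σ u) * x3 u * x2 0 u) * x8 1 1) := by rw [e1]
      _ = _ := by group
  rw [hB] at e
  nf h [Q.q38, fun t q v => tl (Q.q38 t q v), zr7 h, one_mul] at e
  have e' : x8 1 1 * (x6 0 0 * (x5 0 * (x4 0 0 * (x3 0 * x2 0 u)))) = x8 1 1 *
      (x6 0 (u + (u * σ 1 + u * 1 + (u * 1 + u * σ 1 + u * σ 1))) *
        (x5 (u * σ 1 + u * 1) * (x4 0 (σ u + (f u 1 1 + B u 1 1)) * (x3 (u + u * 1) * x2 0 u)))) := by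
    rw [zr6 h, zr5 h, zr4 h, zr3 h, one_mul, one_mul, one_mul, one_mul]; exact e
  have e3 := (u86 h e').2.2.2.1.2
  rw [f_eq' h Q, mul_one] at e3
  linear_combination -e3 - σ u * h.two

include s in
theorem B_eq {B : F → F → F → F} (hB : ∀ u q v, x2 0 u * x8 q v =
      x8 q v * x2 0 u * (x3 (u * q) * x4 0 (B u q v) * x5 (u * v) *
        x6 0 (u * q * v + u * q * q * σ q + u * σ v))) (u q v : F) :
    B u q v = σ u * q * σ q + σ u * v := by
  have key : B u q (q * σ q) = 0 := by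
    by_cases hq : q = 0
    · rw [hq, zero_mul]
      have e := hB u 0 0
      rw [h.c28] at e
      simp only [mul_zero, zero_mul, map_zero, add_zero, zr3 h, zr4 h, zr5 h, zr6 h, zr8 h, one_mul, mul_one] at e
      have e1 : x4 0 (B u 0 0) = 1 := mul_eq_left.mp e.symm
      have e2 := u5 h (a5 := 0) (p4 := 0) (u4 := B u 0 0) (a3 := 0) (p2 := 0) (u2 := 0) (a1 := 0) (b5 := 0)
        (q4 := 0) (v4 := 0) (b3 := 0) (q2 := 0) (v2 := 0) (b1 := 0) (by rw [e1, zr4 h])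
      exact e2.2.1.2
    · obtain ⟨y, h8, h2, h3, h5, h6⟩ := s.tor8 q hq
      obtain ⟨u', hu'⟩ := h2 u
      have e1 := hB u' 1 1
      rw [B_one h s Q hB, zr4 h, mul_one] at e1
      obtain ⟨a, ha⟩ := h3 (u' * 1)
      obtain ⟨b, hb⟩ := h5 (u' * 1)
      obtain ⟨c, hc⟩ := h6 (u' * 1 * 1 + u' * 1 * 1 * σ 1 + u' * σ 1)
      have e2 := cj e1 hu' h8 (cjm (cjm ha hb) hc)
      rw [hB] at e2
      nf h [] at e2
      exact (u86 h e2).2.2.2.1.2
  have h2 := B_add h Q hB u q (q * σ q) (v + q * σ q)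
  rw [key, zero_add] at h2
  have e : q * σ q + (v + q * σ q) = v := by linear_combination (q * σ q) * h.two
  rw [e] at h2
  rw [h2]; ring

end main

/-- The relations of `OctRel` with a `Y₄`-component; `r28y` is `r28` for `p = 0`. -/
structure Out (σ : F →+* F) (x1 x3 x5 x7 : F → G) (x2 x4 x6 x8 : F → F → G) : Prop where
  r16 : ∀ t q v : F, x1 t * x6 q v =
    x6 q v * x1 t * x2 0 (σ t * q) * x3 (t * σ q) * x4 0 (t * q * σ q + t * v)
  r17 : ∀ t s : F, x1 t * x7 s =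
    x7 s * x1 t * x3 (σ t * s) * x5 (t * σ s)
  r27 : ∀ p u s : F, x2 p u * x7 s =
    x7 s * x2 p u * x4 0 (p * σ p * s + u * s) * x5 (σ p * s) * x6 0 (p * σ s)
  r38 : ∀ t q v : F, x3 t * x8 q v =
    x8 q v * x3 t * x4 0 (σ t * q) * x5 (t * σ q) * x6 0 (t * q * σ q + t * v)
  r28y : ∀ u q v : F, x2 0 u * x8 q v =
    x8 q v * x2 0 u * x3 (u * q) * x4 0 (σ u * q * σ q + σ u * v) * x5 (u * v) *
      x6 0 (u * q * v + u * q * q * σ q + u * σ v)

/-- **The `Y₄`-components.** -/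
theorem out (h : Pre σ x1 x3 x5 x7 x2 x4 x6 x8) {n1 n8 z k l : G}
    (s : Sym σ x1 x3 x5 x7 x2 x4 x6 x8 n1 n8 z k l) : Out σ x1 x3 x5 x7 x2 x4 x6 x8 := by
  obtain ⟨f, A, g, C, Q⟩ := exists_Q s h
  have hf := f_eq' h Q
  have hA := A_eq' h Q
  have hC := fun t v => (C_eq h s Q t v).1
  have hg := g_eq h s Q
  refine ⟨fun t q v => ?_, fun t q => ?_, fun p u t => ?_, fun t q v => ?_, fun u q v => ?_⟩
  · rw [Q.q16, hf]; simp only [mul_assoc]
  · rw [Q.q17, hA, hC, hg, zr4 h, mul_one]; simp only [mul_assoc]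
  · rw [Q.q27, hf, mul_comm (σ t) p, mul_comm t (σ p), show t * p * σ p + t * u = p * σ p * t + u * t by ring]
    simp only [mul_assoc]
  · rw [Q.q38, hf]; simp only [mul_assoc]
  · choose B hB using h.p28
    have hB' : ∀ u q v, x2 0 u * x8 q v = x8 q v * x2 0 u * (x3 (u * q) * x4 0 (B u q v) * x5 (u * v) *
        x6 0 (u * q * v + u * q * q * σ q + u * σ v)) := by
      intro u q v
      rw [hB]; simp only [mul_assoc]
    rw [hB, B_eq h s Q hB']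

end Cfsg.Agent.SplitTwo.OctCoordB
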