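import Cfsg.Agent.Octagon.Pkg

/-!
# The Moufang octagon, G side: the `Y₄`-components (S1144, `m = 8`, (18) of helper851's proof, bb #5290)

`Pre σ x1 x3 x5 x7 x2 x4 x6 x8`: the group laws, the relations of `OctRel` which are known after the coordinatization,
and partial forms (unknown `Y₄`-components) of the others.
`Sym`: the symmetries `n1` (`k ↦ 10 - k`), `n8` (`k ↦ 8 - k`) and the torus.

`OctCoordB.lean` derives the relations `(3,8)`, `(2,7)`, `(1,6)`, `(1,7)` of `OctRel` and `(2,8)` for `Y₂`.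
-/

set_option autoImplicit false

namespace Cfsg.Agent.SplitTwo.OctCoordBDefs

open Cfsg.Agent.Octagon.Pkg

variable {F : Type*} [Field F] {G : Type*} [Group G]

/-- The relations known before the computation of the `Y₄`-components. -/
structure Pre (σ : F →+* F) (x1 x3 x5 x7 : F → G) (x2 x4 x6 x8 : F → F → G) : Prop where
  two : (2 : F) = 0
  m1 : ∀ t s : F, x1 t * x1 s = x1 (t + s)
  m3 : ∀ t s : F, x3 t * x3 s = x3 (t + s)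
  m5 : ∀ t s : F, x5 t * x5 s = x5 (t + s)
  m7 : ∀ t s : F, x7 t * x7 s = x7 (t + s)
  m2 : ∀ p u q v : F, x2 p u * x2 q v = x2 (p + q) (u + v + p * σ q)
  m4 : ∀ p u q v : F, x4 p u * x4 q v = x4 (p + q) (u + v + p * σ q)
  m6 : ∀ p u q v : F, x6 p u * x6 q v = x6 (p + q) (u + v + p * σ q)
  m8 : ∀ p u q v : F, x8 p u * x8 q v = x8 (p + q) (u + v + p * σ q)
  r12 : ∀ t q v : F, x1 t * x2 q v = x2 q v * x1 t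
  r13 : ∀ t s : F, x1 t * x3 s = x3 s * x1 t
  r14 : ∀ t q v : F, x1 t * x4 q v = x4 q v * x1 t * x2 0 (t * q)
  r15 : ∀ t s : F, x1 t * x5 s = x5 s * x1 t
  r23 : ∀ p u s : F, x2 p u * x3 s = x3 s * x2 p u
  r24 : ∀ p u q v : F, x2 p u * x4 q v = x4 q v * x2 p u * x3 (p * q)
  r25 : ∀ p u s : F, x2 p u * x5 s = x5 s * x2 p u * x4 0 (p * s)
  r26 : ∀ p u q v : F, x2 p u * x6 q v = x6 q v * x2 p u
  r34 : ∀ t q v : F, x3 t * x4 q v = x4 q v * x3 t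
  r35 : ∀ t s : F, x3 t * x5 s = x5 s * x3 t
  r36 : ∀ t q v : F, x3 t * x6 q v = x6 q v * x3 t * x4 0 (t * q)
  r37 : ∀ t s : F, x3 t * x7 s = x7 s * x3 t
  r45 : ∀ p u s : F, x4 p u * x5 s = x5 s * x4 p u
  r46 : ∀ p u q v : F, x4 p u * x6 q v = x6 q v * x4 p u * x5 (p * q)
  r47 : ∀ p u s : F, x4 p u * x7 s = x7 s * x4 p u * x6 0 (p * s)
  r48 : ∀ p u q v : F, x4 p u * x8 q v = x8 q v * x4 p u
  r56 : ∀ t q v : F, x5 t * x6 q v = x6 q v * x5 t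
  r57 : ∀ t s : F, x5 t * x7 s = x7 s * x5 t
  r58 : ∀ t q v : F, x5 t * x8 q v = x8 q v * x5 t * x6 0 (t * q)
  r67 : ∀ p u s : F, x6 p u * x7 s = x7 s * x6 p u
  r68 : ∀ p u q v : F, x6 p u * x8 q v = x8 q v * x6 p u * x7 (p * q)
  r78 : ∀ t q v : F, x7 t * x8 q v = x8 q v * x7 t
  /-- `[x₃, x₈]`, the `Y₄`-component unknown -/
  p38 : ∀ t q v : F, ∃ f, x3 t * x8 q v =
    x8 q v * x3 t * x4 0 f * x5 (t * σ q) * x6 0 (t * q * σ q + t * v)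
  /-- `[y₂, x₈]`, the `Y₄`-component unknown -/
  p28 : ∀ u q v : F, ∃ b, x2 0 u * x8 q v =
    x8 q v * x2 0 u * x3 (u * q) * x4 0 b * x5 (u * v) * x6 0 (u * q * v + u * q * q * σ q + u * σ v)
  c28 : ∀ u v : F, x2 0 u * x8 0 v =
    x8 0 v * x2 0 u * x4 0 (σ u * v) * x5 (u * v) * x6 0 (u * σ v)
  p17 : ∀ t s : F, ∃ a b c, x1 t * x7 s = x7 s * x1 t * x3 a * x4 0 b * x5 c
  p18 : ∀ t q v : F, ∃ e2 f2 e3 e4 f4 e5 e6 f6 e7, x1 t * x8 q v =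
    x8 q v * x1 t * x2 e2 f2 * x3 e3 * x4 e4 f4 * x5 e5 * x6 e6 f6 * x7 e7
  uniq : ∀ {p8 u8 a7 p6 u6 a5 p4 u4 a3 p2 u2 a1 q8 v8 b7 q6 v6 b5 q4 v4 b3 q2 v2 b1 : F},
    x8 p8 u8 * (x7 a7 * (x6 p6 u6 * (x5 a5 * (x4 p4 u4 * (x3 a3 * (x2 p2 u2 * x1 a1)))))) =
    x8 q8 v8 * (x7 b7 * (x6 q6 v6 * (x5 b5 * (x4 q4 v4 * (x3 b3 * (x2 q2 v2 * x1 b1)))))) →
    (p8 = q8 ∧ u8 = v8) ∧ a7 = b7 ∧ (p6 = q6 ∧ u6 = v6) ∧ a5 = b5 ∧ (p4 = q4 ∧ u4 = v4) ∧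
      a3 = b3 ∧ (p2 = q2 ∧ u2 = v2) ∧ a1 = b1

/-- The symmetries. -/
structure Sym (σ : F →+* F) (x1 x3 x5 x7 : F → G) (x2 x4 x6 x8 : F → F → G) (n1 n8 z k l : G) : Prop where
  n12 : ∀ p u, n1 * x2 p u * n1⁻¹ = x8 p u
  n13 : ∀ t, n1 * x3 t * n1⁻¹ = x7 t
  n14 : ∀ p u, n1 * x4 p u * n1⁻¹ = x6 p u
  n15 : ∀ t, n1 * x5 t * n1⁻¹ = x5 t
  n16 : ∀ p u, n1 * x6 p u * n1⁻¹ = x4 p u
  n17 : ∀ t, n1 * x7 t * n1⁻¹ = x3 t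
  n18 : ∀ p u, n1 * x8 p u * n1⁻¹ = x2 p u
  n81 : ∀ t, n8 * x1 t * n8⁻¹ = x7 t
  n82 : ∀ p u, n8 * x2 p u * n8⁻¹ = x6 p u
  n83 : ∀ t, n8 * x3 t * n8⁻¹ = x5 t
  n84 : ∀ p u, n8 * x4 p u * n8⁻¹ = x4 p u
  n85 : ∀ t, n8 * x5 t * n8⁻¹ = x3 t
  n86 : ∀ p u, n8 * x6 p u * n8⁻¹ = x2 p u
  n87 : ∀ t, n8 * x7 t * n8⁻¹ = x1 t
  /-- `z = x₋₁(1)` -/
  zz : z * z = 1
  z1 : ∀ t, z * x1 t = x1 t * z
  z5 : ∀ t, ∃ a b c, z * x5 t * z = x5 t * x3 a * x2 0 b * x1 c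
  n7 : n8 * n1 * n8⁻¹ = z * x7 1 * z
  /-- `n₈ = k y₈(1) l`, `l = x₀(1,1)` -/
  n8e : n8 = k * x8 0 1 * l
  k2 : ∀ u, k * x2 0 u = x2 0 u * k
  l_eq : l = n8⁻¹ * x8 1 1 * n8
  /-- the torus on `X₇` -/
  tor7 : ∀ s, s ≠ 0 → ∃ h : G, h * x7 1 * h⁻¹ = x7 s ∧ (∀ t, ∃ t', h * x1 t' * h⁻¹ = x1 t) ∧
    (∀ t, ∃ t', h * x3 t * h⁻¹ = x3 t') ∧ (∀ t, ∃ t', h * x5 t * h⁻¹ = x5 t')
  /-- the torus on `X₈` -/
  tor8 : ∀ q, q ≠ 0 → ∃ h : G, h * x8 1 1 * h⁻¹ = x8 q (q * σ q) ∧ (∀ u, ∃ u', h * x2 0 u' * h⁻¹ = x2 0 u) ∧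
    (∀ t, ∃ t', h * x3 t * h⁻¹ = x3 t') ∧ (∀ t, ∃ t', h * x5 t * h⁻¹ = x5 t') ∧
    (∀ u, ∃ u', h * x6 0 u * h⁻¹ = x6 0 u')

end Cfsg.Agent.SplitTwo.OctCoordBDefs
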