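import Cfsg.Agent.SplitTwo.OctCoordA

/-!
# Moufang octagons (S1144, [8]): the matrices of `X 8` on `W / Y 4` (interface)

`CM` : output of `OctCoordA2.lean` ((16) of bb #5290), input of the torus part and of the solution.
For `g ∈ X 8`: `P g, B g, N g, E g, H g` are the coefficients of `w ↦ g⁻¹ w g` on `W = Y 2 X 3 Y 4 X 5 Y 6` modulo `Y 4`.
-/

set_option autoImplicit false

namespace Cfsg.Agent.SplitTwo.OctCoordM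

open Cfsg.Agent.SplitTwo Cfsg.Agent.SplitTwo.OctDefs Cfsg.Agent.SplitTwo.OctTools
open Cfsg.Agent.SplitTwo.OctSkel Cfsg.Agent.SplitTwo.HexField Cfsg.Agent.SplitTwo.OctCoordA

universe u v

variable {G : Type u} [Group G]

/-- The coordinates with the matrices of `X 8` (`c = 1`). -/
structure CM (X : ZMod (2 * 8) → Subgroup G) {F : Type v} [Field F] (n1 n8 e1 e8 : G)
    (x1 x3 x5 x7 y2 y4 y6 y8 : F → G) (P B N E H : G → F) : Prop where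
  A : CA X n1 n8 e1 e8 x1 x3 x5 x7 y2 y4 y6 y8
  -- B-type relations
  b36 : ∀ t, ∀ x ∈ X 6, kk (x3 t) x = y4 (t * P (cj n1 (cj n8 x)))
  b74 : ∀ t, ∀ x ∈ X 4, kk (x7 t) x = y6 (t * P (cj n1 (cj n8 (cj n1 x))))
  b52 : ∀ t, ∀ x ∈ X 2, kk (x5 t) x = y4 (t * P (cj n1 x))
  b58 : ∀ t, ∀ x ∈ X 8, kk (x5 t) x = y6 (t * P x)
  b14 : ∀ t, ∀ x ∈ X 4, kk (x1 t) x = y2 (t * P (cj n1 (cj n8 (cj n1 x))))
  e68 : ∀ x ∈ X 6, ∀ z ∈ X 8, kk x z = x7 (P z * P (cj n1 (cj n8 x)))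
  -- the matrices
  m2 : ∀ g ∈ X 8, ∀ u, ∃ d, cj g (y2 u) = y2 u * x3 (P g * u) * y4 d * x5 (B g * u) * y6 (N g * u)
  m3 : ∀ g ∈ X 8, ∀ t, ∃ d, cj g (x3 t) = x3 t * y4 d * x5 (E g * t) * y6 (H g * t)
  m5 : ∀ g ∈ X 8, ∀ t, cj g (x5 t) = x5 t * y6 (P g * t)
  /-- unique components in `W` -/
  uniqW : ∀ a b c d e a' b' c' d' e', y2 a * x3 b * y4 c * x5 d * y6 e = y2 a' * x3 b' * y4 c' * x5 d' * y6 e' →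
    a = a' ∧ b = b' ∧ c = c' ∧ d = d' ∧ e = e'
  P_Y : ∀ g ∈ X 8, P g = 0 → g ∈ Yc X 8
  inj : ∀ g ∈ X 8, ∀ g' ∈ X 8, P g = P g' → B g = B g' → g = g'
  surj : ∀ v w, ∃ g ∈ X 8, P g = v ∧ B g = w
  P_mul : ∀ g ∈ X 8, ∀ g' ∈ X 8, P (g * g') = P g + P g'
  E_mul : ∀ g ∈ X 8, ∀ g' ∈ X 8, E (g * g') = E g + E g'
  B_mul : ∀ g ∈ X 8, ∀ g' ∈ X 8, B (g * g') = B g + B g' + P g * E g'
  H_mul : ∀ g ∈ X 8, ∀ g' ∈ X 8, H (g * g') = H g + H g' + E g * P g'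
  N_mul : ∀ g ∈ X 8, ∀ g' ∈ X 8, N (g * g') = N g + N g' + P g * H g' + B g * P g'
  P_y : ∀ w, P (y8 w) = 0
  E_y : ∀ w, E (y8 w) = 0
  B_y : ∀ w, B (y8 w) = w
  H_y : ∀ w, H (y8 w) = w
  N_one : N (y8 1) = 1
  /-- `[y₂(u), y₈(w)] = y₄(N(y₈(u)) w) x₅(u w) y₆(N(y₈(w)) u)` -/
  c28 : ∀ u w, kk (y2 u) (y8 w) = y4 (N (y8 u) * w) * x5 (u * w) * y6 (N (y8 w) * u)
  N_ne : ∀ g ∈ X 8, g ≠ 1 → N g ≠ 0
  EN_ne : ∀ g ∈ X 8, g ≠ 1 → E g * N g + B g * H g ≠ 0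

end Cfsg.Agent.SplitTwo.OctCoordM
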