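import Cfsg.Agent.SplitTwo.OctTorus
import Cfsg.Agent.SplitTwo.OctCoordBDefs

/-!
# Moufang octagons (S1144, [8]): the coordinates `x2, x4, x6, x8` and `Pre`

`exists_CN`: from the matrices (`CM`) via `OctSolve.solve`: the automorphism `σ` and `x8 : F → F → G` with
`P = v`, `B = w`, `E = σ v`, `H = w + v σ v`, `N = v² σ v + σ w + v w`.
`pre`: the relations `OctCoordBDefs.Pre`.
-/

set_option autoImplicit false

namespace Cfsg.Agent.SplitTwo.OctCoordN

open Cfsg.Agent.SplitTwo Cfsg.Agent.SplitTwo.OctDefs Cfsg.Agent.SplitTwo.OctTools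
open Cfsg.Agent.SplitTwo.OctSkel Cfsg.Agent.SplitTwo.HexField
open Cfsg.Agent.SplitTwo.OctCoordA Cfsg.Agent.SplitTwo.OctCoordM Cfsg.Agent.SplitTwo.OctTorus
open Cfsg.Agent.SplitTwo.OctCoordBDefs
open scoped commutatorElement

universe u v

variable {G : Type u} [Group G] {X : ZMod (2 * 8) → Subgroup G} {F : Type v} [Field F]

/-- Coordinates. -/
structure CN (X : ZMod (2 * 8) → Subgroup G) (n1 n8 e1 e8 : G) (x1 x3 x5 x7 y2 y4 y6 y8 : F → G)
    (P B N E H : G → F) (σ : F →+* F) (x2 x4 x6 x8 : F → F → G) : Prop where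
  M : CM X n1 n8 e1 e8 x1 x3 x5 x7 y2 y4 y6 y8 P B N E H
  sq : ∀ x, σ (σ x) = x ^ 2
  m8 : ∀ v w, x8 v w ∈ X 8
  P8 : ∀ v w, P (x8 v w) = v
  B8 : ∀ v w, B (x8 v w) = w
  E8 : ∀ v w, E (x8 v w) = σ v
  H8 : ∀ v w, H (x8 v w) = w + v * σ v
  N8 : ∀ v w, N (x8 v w) = v ^ 2 * σ v + σ w + v * w
  c2 : ∀ p u, x2 p u = cj n1 (x8 p u)
  c6 : ∀ p u, x6 p u = cj n8 (x2 p u)
  c4 : ∀ p u, x4 p u = cj n1 (x6 p u)

variable {n1 n8 e1 e8 : G} {x1 x3 x5 x7 y2 y4 y6 y8 : F → G} {P B N E H : G → F}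

section

variable (M : CM X n1 n8 e1 e8 x1 x3 x5 x7 y2 y4 y6 y8 P B N E H)
  {x8 : F → F → G} (m8 : ∀ v w, x8 v w ∈ X 8) (P8 : ∀ v w, P (x8 v w) = v) (B8 : ∀ v w, B (x8 v w) = w)

include M m8 P8 B8

theorem x8_zero (w : F) : x8 0 w = y8 w := by
  apply M.inj _ (m8 _ _) _ (yx (M.A.q8.m w))
  · rw [P8, M.P_y]
  · rw [B8, M.B_y]

theorem x8_split (v w : F) : x8 v w = x8 v 0 * y8 w := by
  have h1 := m8 v 0
  have h2 := yx (M.A.q8.m w)
  apply M.inj _ (m8 _ _) _ (mul_mem h1 h2)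
  · rw [P8, M.P_mul _ h1 _ h2, P8, M.P_y, add_zero]
  · rw [B8, M.B_mul _ h1 _ h2, B8, M.B_y, M.E_y, mul_zero, add_zero, zero_add]

theorem x8_mul0 (v v' : F) : x8 v 0 * x8 v' 0 = x8 (v + v') (v * E (x8 v' 0)) := by
  have h1 := m8 v 0
  have h2 := m8 v' 0
  apply M.inj _ (mul_mem h1 h2) _ (m8 _ _)
  · rw [P8, M.P_mul _ h1 _ h2, P8, P8]
  · rw [B8, M.B_mul _ h1 _ h2, B8, B8, P8, add_zero, zero_add]

theorem E_split (v w : F) : E (x8 v w) = E (x8 v 0) := by
  rw [x8_split M m8 P8 B8 v w, M.E_mul _ (m8 v 0) _ (yx (M.A.q8.m w)), M.E_y, add_zero]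

theorem H_split (v w : F) : H (x8 v w) = w + H (x8 v 0) := by
  rw [x8_split M m8 P8 B8 v w, M.H_mul _ (m8 v 0) _ (yx (M.A.q8.m w)), M.H_y, M.P_y]
  ring

theorem N_split (v w : F) : N (x8 v w) = N (x8 v 0) + N (y8 w) + v * w := by
  rw [x8_split M m8 P8 B8 v w, M.N_mul _ (m8 v 0) _ (yx (M.A.q8.m w)), M.H_y, M.P_y, P8]
  ring

/-- The functional equations. -/
theorem eqs : OctSolve.Eqs (fun v => E (x8 v 0)) (fun v => H (x8 v 0)) (fun v => N (x8 v 0)) (fun w => N (y8 w)) := by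
  have C := M.A
  have two : (2 : F) = 0 := C.two
  have hne : x8 1 0 ≠ 1 := by
    intro h
    have h1 : P (1 : G) = 0 := by
      have := M.P_mul 1 (one_mem _) 1 (one_mem _)
      rw [mul_one] at this
      linear_combination -this
    rw [← h, P8] at h1
    exact one_ne_zero h1
  have hEN := M.EN_ne _ (m8 1 0) hne
  rw [B8, zero_mul, add_zero] at hEN
  refine ⟨two, ?_, ?_, ?_, vs_mul M, M.N_one, ?_, ?_, ?_, tor M m8 P8 B8⟩
  · intro v v'
    have h := congrArg E (x8_mul0 M m8 P8 B8 v v')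
    rw [M.E_mul _ (m8 v 0) _ (m8 v' 0), E_split M m8 P8 B8 (v + v')] at h
    exact h.symm
  · exact left_ne_zero_of_mul hEN
  · intro w w'
    change N (y8 (w + w')) = N (y8 w) + N (y8 w')
    rw [C.q8.add, M.N_mul _ (yx (C.q8.m w)) _ (yx (C.q8.m w')), M.P_y, M.P_y]
    ring
  · intro v v'
    have h := congrArg H (x8_mul0 M m8 P8 B8 v v')
    rw [M.H_mul _ (m8 v 0) _ (m8 v' 0), H_split M m8 P8 B8 (v + v'), P8] at h
    change H (x8 (v + v') 0) = H (x8 v 0) + H (x8 v' 0) + E (x8 v 0) * v' + v * E (x8 v' 0)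
    linear_combination -h - (v * E (x8 v' 0)) * two
  · intro v v'
    have h := congrArg N (x8_mul0 M m8 P8 B8 v v')
    rw [M.N_mul _ (m8 v 0) _ (m8 v' 0), N_split M m8 P8 B8 (v + v'), P8, B8] at h
    change N (x8 (v + v') 0) = N (x8 v 0) + N (x8 v' 0) + v * H (x8 v' 0) + N (y8 (v * E (x8 v' 0))) +
      v ^ 2 * E (x8 v' 0) + v * v' * E (x8 v' 0)
    linear_combination -h - (N (y8 (v * E (x8 v' 0))) + v ^ 2 * E (x8 v' 0) + v * v' * E (x8 v' 0)) * two
  · exact right_ne_zero_of_mul hEN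

end

theorem exists_CN [Finite F] (M : CM X n1 n8 e1 e8 x1 x3 x5 x7 y2 y4 y6 y8 P B N E H) :
    ∃ (σ : F ≃+* F) (x2 x4 x6 x8 : F → F → G),
      CN X n1 n8 e1 e8 x1 x3 x5 x7 y2 y4 y6 y8 P B N E H (σ : F →+* F) x2 x4 x6 x8 := by
  have hs := M.surj
  choose x8 m8 P8 B8 using hs
  obtain ⟨σ, hσ, hE, hvs, hg, hnu⟩ := OctSolve.solve (eqs M m8 P8 B8)
  refine ⟨σ, fun p u => cj n1 (x8 p u), fun p u => cj n1 (cj n8 (cj n1 (x8 p u))),
    fun p u => cj n8 (cj n1 (x8 p u)), x8, M, hσ, m8, P8, B8, ?_, ?_, ?_, fun _ _ => rfl, fun _ _ => rfl,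
    fun _ _ => rfl⟩
  · intro v w
    rw [E_split M m8 P8 B8]; exact hE v
  · intro v w
    rw [H_split M m8 P8 B8]
    have := hg v
    change H (x8 v 0) = v * σ v at this
    rw [this]; rfl
  · intro v w
    rw [N_split M m8 P8 B8]
    have h1 := hnu v
    have h2 := hvs w
    change N (x8 v 0) = v ^ 2 * σ v at h1
    change N (y8 w) = σ w at h2
    rw [h1, h2]; rfl

section

variable {σ : F →+* F} {x2 x4 x6 x8 : F → F → G}
  (D : CN X n1 n8 e1 e8 x1 x3 x5 x7 y2 y4 y6 y8 P B N E H σ x2 x4 x6 x8)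

include D

theorem mul8 (p u q v : F) : x8 p u * x8 q v = x8 (p + q) (u + v + p * σ q) := by
  have h1 := D.m8 p u
  have h2 := D.m8 q v
  apply D.M.inj _ (mul_mem h1 h2) _ (D.m8 _ _)
  · rw [D.P8, D.M.P_mul _ h1 _ h2, D.P8, D.P8]
  · rw [D.B8, D.M.B_mul _ h1 _ h2, D.B8, D.B8, D.P8, D.E8]

theorem mul2 (p u q v : F) : x2 p u * x2 q v = x2 (p + q) (u + v + p * σ q) := by
  rw [D.c2, D.c2, D.c2, ← cj_mul, mul8 D]

theorem mul6 (p u q v : F) : x6 p u * x6 q v = x6 (p + q) (u + v + p * σ q) := by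
  rw [D.c6, D.c6, D.c6, ← cj_mul, mul2 D]

theorem mul4 (p u q v : F) : x4 p u * x4 q v = x4 (p + q) (u + v + p * σ q) := by
  rw [D.c4, D.c4, D.c4, ← cj_mul, mul6 D]

theorem cj11 (x : G) : cj n1 (cj n1 x) = x := cj_cj_self D.M.A.n1s x

theorem cj88 (x : G) : cj n8 (cj n8 x) = x := cj_cj_self D.M.A.n8s x

theorem y8e (w : F) : x8 0 w = y8 w := x8_zero D.M D.m8 D.P8 D.B8 w

theorem y2e (w : F) : x2 0 w = y2 w := by
  rw [D.c2, y8e D, D.M.A.n1_8]

theorem y6e (w : F) : x6 0 w = y6 w := by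
  rw [D.c6, y2e D, D.M.A.n8_2]

theorem y4e (w : F) : x4 0 w = y4 w := by
  rw [D.c4, y6e D, D.M.A.n1_6]

theorem m2 (p u : F) : x2 p u ∈ X 2 := by
  rw [D.c2]
  exact rx' (refl1 D.M.A) (D.m8 p u) (by decide)

theorem m6 (p u : F) : x6 p u ∈ X 6 := by
  rw [D.c6]
  exact rx' (refl8 D.M.A) (m2 D p u) (by decide)

theorem m4 (p u : F) : x4 p u ∈ X 4 := by
  rw [D.c4]
  exact rx' (refl1 D.M.A) (m6 D p u) (by decide)

theorem surj8 {g : G} (hg : g ∈ X 8) : ∃ v w, x8 v w = g :=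
  ⟨P g, B g, D.M.inj _ (D.m8 _ _) _ hg (D.P8 _ _) (D.B8 _ _)⟩

theorem surj2 {g : G} (hg : g ∈ X 2) : ∃ v w, x2 v w = g := by
  have h : cj n1 g ∈ X 8 := rx' (refl1 D.M.A) hg (by decide)
  obtain ⟨v, w, e⟩ := surj8 D h
  exact ⟨v, w, by rw [D.c2, e, cj11 D]⟩

theorem surj6 {g : G} (hg : g ∈ X 6) : ∃ v w, x6 v w = g := by
  have h : cj n8 g ∈ X 2 := rx' (refl8 D.M.A) hg (by decide)
  obtain ⟨v, w, e⟩ := surj2 D h
  exact ⟨v, w, by rw [D.c6, e, cj88 D]⟩

theorem surj4 {g : G} (hg : g ∈ X 4) : ∃ v w, x4 v w = g := by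
  have h : cj n1 g ∈ X 6 := rx' (refl1 D.M.A) hg (by decide)
  obtain ⟨v, w, e⟩ := surj6 D h
  exact ⟨v, w, by rw [D.c4, e, cj11 D]⟩

theorem inj8 {p u q v : F} (h : x8 p u = x8 q v) : p = q ∧ u = v := by
  constructor
  · rw [← D.P8 p u, h, D.P8]
  · rw [← D.B8 p u, h, D.B8]

theorem inj2 {p u q v : F} (h : x2 p u = x2 q v) : p = q ∧ u = v := by
  rw [D.c2, D.c2] at h
  exact inj8 D (cj_inj h)

theorem inj6 {p u q v : F} (h : x6 p u = x6 q v) : p = q ∧ u = v := by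
  rw [D.c6, D.c6] at h
  exact inj2 D (cj_inj h)

theorem inj4 {p u q v : F} (h : x4 p u = x4 q v) : p = q ∧ u = v := by
  rw [D.c4, D.c4] at h
  exact inj6 D (cj_inj h)

theorem cn1_2 (p u : F) : cj n1 (x2 p u) = x8 p u := by rw [D.c2, cj11 D]

theorem cn1_6 (p u : F) : cj n1 (x6 p u) = x4 p u := (D.c4 p u).symm

theorem cn1_4 (p u : F) : cj n1 (x4 p u) = x6 p u := by rw [D.c4, cj11 D]

theorem cn1_8 (p u : F) : cj n1 (x8 p u) = x2 p u := (D.c2 p u).symm

theorem cn8_2 (p u : F) : cj n8 (x2 p u) = x6 p u := (D.c6 p u).symm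

theorem cn8_6 (p u : F) : cj n8 (x6 p u) = x2 p u := by rw [D.c6, cj88 D]

theorem cn8_4 (p u : F) : cj n8 (x4 p u) = x4 p u := D.M.A.n8_4 _ (m4 D p u)

end

/-! ### Relations -/

theorem of_kk {a b c : G} (h : kk a b = c) : a * b = b * a * c := by
  rw [← h]; unfold kk; group

theorem of_kk' {a b c : G} (h : kk b a = c) (hc : c * c = 1) : a * b = b * a * c := by
  have h1 : kk a b = c := by
    rw [kk_inv b a, h]
    exact inv_eq_of_mul_eq_one_right hc
  exact of_kk h1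

theorem of_cj {a b c : G} (h : cj b a = c) : a * b = b * c := by
  rw [← h]; unfold cj; group

theorem kk_eq_comm {a b : G} : kk a b = ⁅a⁻¹, b⁻¹⁆ := by
  unfold kk; rw [commutatorElement_def]; group

section

variable {σ : F →+* F} {x2 x4 x6 x8 : F → F → G}
  (D : CN X n1 n8 e1 e8 x1 x3 x5 x7 y2 y4 y6 y8 P B N E H σ x2 x4 x6 x8)

include D

theorem sqe {f : F → G} {U : Subgroup G} (hf : Par U f) (t : F) : f t * f t = 1 := by
  rw [← hf.add, dbl D.M.A, hf.zero]

/-- **The relations.** -/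
theorem pre : Pre σ x1 x3 x5 x7 x2 x4 x6 x8 := by
  have M := D.M
  have C := M.A
  have K := C.K
  have S := K.A.sys
  have P6 : ∀ p u, P (cj n1 (cj n8 (x6 p u))) = p := fun p u => by rw [cn8_6 D, cn1_2 D, D.P8]
  have P4 : ∀ p u, P (cj n1 (cj n8 (cj n1 (x4 p u)))) = p := fun p u => by rw [cn1_4 D, P6]
  have P2 : ∀ p u, P (cj n1 (x2 p u)) = p := fun p u => by rw [cn1_2 D, D.P8]
  have e68 : ∀ p u q v, kk (x6 p u) (x8 q v) = x7 (p * q) := by
    intro p u q v
    rw [M.e68 _ (m6 D p u) _ (D.m8 q v), P6, D.P8, mul_comm]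
  have e42 : ∀ p u q v, kk (x4 p u) (x2 q v) = x3 (p * q) := by
    intro p u q v
    have h := congrArg (cj n1) (e68 p u q v)
    rw [cj_kk, cn1_6 D, cn1_8 D, C.n1_7] at h
    exact h
  have e46 : ∀ p u q v, kk (x4 p u) (x6 q v) = x5 (p * q) := by
    intro p u q v
    have h := congrArg (cj n8) (e42 p u q v)
    rw [cj_kk, cn8_4 D, cn8_2 D, C.n8_3] at h
    exact h
  have y2' : ∀ w, x2 0 w = y2 w := y2e D
  have y4' : ∀ w, x4 0 w = y4 w := y4e D
  have y6' : ∀ w, x6 0 w = y6 w := y6e D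
  have y8' : ∀ w, x8 0 w = y8 w := y8e D
  have hm1 := C.p1.m
  have hm3 := C.p3.m
  have hm5 := C.p5.m
  have hm7 := C.p7.m
  exact
    { two := C.two
      m1 := fun t s => (C.p1.add t s).symm
      m3 := fun t s => (C.p3.add t s).symm
      m5 := fun t s => (C.p5.add t s).symm
      m7 := fun t s => (C.p7.add t s).symm
      m2 := mul2 D
      m4 := mul4 D
      m6 := mul6 D
      m8 := mul8 D
      r12 := fun t q v => S.comm_one 1 (hm1 t) (xc (m2 D q v) (by decide))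
      r13 := fun t s => K.o2 0 _ (xc (hm1 t) (by decide)) _ (xc (hm3 s) (by decide))
      r14 := fun t q v => by
        rw [y2']
        apply of_kk
        rw [M.b14 t _ (m4 D q v), P4]
      r15 := fun t s => K.f4 1 _ (hm1 t) _ (xc (hm5 s) (by decide))
      r23 := fun p u s => S.comm_one 2 (m2 D p u) (xc (hm3 s) (by decide))
      r24 := fun p u q v => by
        refine of_kk' ?_ (sqe D C.p3 _)
        rw [e42, mul_comm]
      r25 := fun p u s => by
        rw [y4']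
        refine of_kk' ?_ (sqe D C.q4 _)
        rw [M.b52 s _ (m2 D p u), P2, mul_comm]
      r26 := fun p u q v => K.f4 2 _ (m2 D p u) _ (xc (m6 D q v) (by decide))
      r34 := fun t q v => S.comm_one 3 (hm3 t) (xc (m4 D q v) (by decide))
      r35 := fun t s => K.o2 1 _ (xc (hm3 t) (by decide)) _ (xc (hm5 s) (by decide))
      r36 := fun t q v => by
        rw [y4']
        apply of_kk
        rw [M.b36 t _ (m6 D q v), P6]
      r37 := fun t s => K.f4 3 _ (hm3 t) _ (xc (hm7 s) (by decide))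
      r45 := fun p u s => S.comm_one 4 (m4 D p u) (xc (hm5 s) (by decide))
      r46 := fun p u q v => by
        apply of_kk
        rw [e46]
      r47 := fun p u s => by
        rw [y6']
        refine of_kk' ?_ (sqe D C.q6 _)
        rw [M.b74 s _ (m4 D p u), P4, mul_comm]
      r48 := fun p u q v => K.f4 4 _ (m4 D p u) _ (xc (D.m8 q v) (by decide))
      r56 := fun t q v => S.comm_one 5 (hm5 t) (xc (m6 D q v) (by decide))
      r57 := fun t s => K.o2 2 _ (xc (hm5 t) (by decide)) _ (xc (hm7 s) (by decide))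
      r58 := fun t q v => by
        rw [y6']
        apply of_kk
        rw [M.b58 t _ (D.m8 q v), D.P8]
      r67 := fun p u s => S.comm_one 6 (m6 D p u) (xc (hm7 s) (by decide))
      r68 := fun p u q v => by
        apply of_kk
        rw [e68]
      r78 := fun t q v => S.comm_one 7 (hm7 t) (xc (D.m8 q v) (by decide))
      p38 := fun t q v => by
        obtain ⟨f, hf⟩ := M.m3 _ (D.m8 q v) t
        refine ⟨f, ?_⟩
        rw [D.E8, D.H8] at hf
        rw [of_cj hf, y4', y6']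
        have h1 : σ q * t = t * σ q := by ring
        have h2 : (v + q * σ q) * t = t * q * σ q + t * v := by ring
        rw [h1, h2]
        simp only [mul_assoc]
      p28 := fun u q v => by
        obtain ⟨b, hb⟩ := M.m2 _ (D.m8 q v) u
        refine ⟨b, ?_⟩
        rw [D.P8, D.B8, D.N8] at hb
        rw [y2', of_cj hb, y4', y6']
        have h1 : q * u = u * q := by ring
        have h2 : v * u = u * v := by ring
        have h3 : (q ^ 2 * σ q + σ v + q * v) * u = u * q * v + u * q * q * σ q + u * σ v := by ring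
        rw [h1, h2, h3]
        simp only [mul_assoc]
      c28 := fun u v => by
        have h := M.c28 u v
        have hN : ∀ w, N (y8 w) = σ w := by
          intro w
          rw [← y8', D.N8, zero_mul, add_zero]
          ring
        rw [hN, hN] at h
        rw [y2', y8', of_kk h, y4', y6']
        have h1 : σ v * u = u * σ v := by ring
        rw [h1]
        simp only [mul_assoc]
      p17 := fun t s => by
        obtain ⟨p, hp, q, hq, r, hr, e⟩ := K.s6 0 _ (xc (hm1 t) (by decide)) _ (xc (hm7 s) (by decide))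
        obtain ⟨a, rfl⟩ := (C.p3.mem p).mp (xc hp (by decide))
        obtain ⟨b, rfl⟩ := (C.q4.mem q).mp (yc hq (by decide))
        obtain ⟨c, rfl⟩ := (C.p5.mem r).mp (xc hr (by decide))
        refine ⟨a, b, c, ?_⟩
        rw [of_kk e, y4']
        simp only [mul_assoc]
      p18 := fun t q v => by
        have h : kk (x1 t) (x8 q v) ∈ seg X 2 6 := by
          rw [kk_eq_comm]
          exact cm S 6 (by norm_num) (inv_mem (hm1 t)) (inv_mem (D.m8 q v)) (by decide) (by decide)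
        obtain ⟨g2, h2, s2, hs2, e⟩ := (S.mem_seg_succ_left 2 (by norm_num)).mp h
        obtain ⟨g3, h3, s3, hs3, rfl⟩ := (S.mem_seg_succ_left (2 + 1) (by norm_num)).mp hs2
        obtain ⟨g4, h4, s4, hs4, rfl⟩ := (S.mem_seg_succ_left (2 + 1 + 1) (by norm_num)).mp hs3
        obtain ⟨g5, h5, s5, hs5, rfl⟩ := (S.mem_seg_succ_left (2 + 1 + 1 + 1) (by norm_num)).mp hs4
        obtain ⟨g6, h6, g7, h7, rfl⟩ := (S.mem_seg_succ_left (2 + 1 + 1 + 1 + 1) (by norm_num)).mp hs5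
        rw [seg_one] at h7
        obtain ⟨e2, f2, rfl⟩ := surj2 D h2
        obtain ⟨e3, rfl⟩ := (C.p3.mem g3).mp (xc h3 (by decide))
        obtain ⟨e4, f4, rfl⟩ := surj4 D (xc h4 (by decide))
        obtain ⟨e5, rfl⟩ := (C.p5.mem g5).mp (xc h5 (by decide))
        obtain ⟨e6, f6, rfl⟩ := surj6 D (xc h6 (by decide))
        obtain ⟨e7, rfl⟩ := (C.p7.mem g7).mp (xc h7 (by decide))
        refine ⟨e2, f2, e3, e4, f4, e5, e6, f6, e7, ?_⟩
        rw [of_kk e.symm]
        simp only [mul_assoc]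
      uniq := by
        intro p8 u8 a7 p6 u6 a5 p4 u4 a3 p2 u2 a1 q8 v8 b7 q6 v6 b5 q4 v4 b3 q2 v2 b1 h
        have key : ∀ {i j : ZMod (2 * 8)} (k : ℕ), k + 1 ≤ 8 → i + (k : ℕ) = j → ∀ {a a' b b' : G},
            a ∈ X j → a' ∈ X j → b ∈ seg X i k → b' ∈ seg X i k → a * b = a' * b' → a = a' ∧ b = b' := by
          intro i j k hk hj a a' b b' ha ha' hb hb' h
          have h1 : a'⁻¹ * a = b' * b⁻¹ := by
            calc a'⁻¹ * a = a'⁻¹ * (a * b) * b⁻¹ := by group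
              _ = b' * b⁻¹ := by rw [h]; group
          have h2 : a'⁻¹ * a = 1 := by
            apply S.inter_right i (k := k) (by omega)
            · rw [hj]; exact mul_mem (inv_mem ha') ha
            · rw [h1]; exact mul_mem hb' (inv_mem hb)
          have h3 : a = a' := by
            calc a = a' * (a'⁻¹ * a) := by group
              _ = a' := by rw [h2, mul_one]
          subst h3
          exact ⟨rfl, mul_left_cancel h⟩
        have s1 : ∀ t, x1 t ∈ seg X 1 1 := fun t => by rw [seg_one]; exact hm1 t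
        have s2 : ∀ p u t, x2 p u * x1 t ∈ seg X 1 2 := fun p u t =>
          mul_mem (ms (m2 D p u) 1 (by norm_num) (by decide)) (seg_mono X 1 (by norm_num) (s1 t))
        have s3 : ∀ s p u t, x3 s * (x2 p u * x1 t) ∈ seg X 1 3 := fun s p u t =>
          mul_mem (ms (hm3 s) 2 (by norm_num) (by decide)) (seg_mono X 1 (by norm_num) (s2 p u t))
        have s4 : ∀ q v s p u t, x4 q v * (x3 s * (x2 p u * x1 t)) ∈ seg X 1 4 := fun q v s p u t =>
          mul_mem (ms (m4 D q v) 3 (by norm_num) (by decide)) (seg_mono X 1 (by norm_num) (s3 s p u t))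
        have s5 : ∀ r q v s p u t, x5 r * (x4 q v * (x3 s * (x2 p u * x1 t))) ∈ seg X 1 5 :=
          fun r q v s p u t =>
          mul_mem (ms (hm5 r) 4 (by norm_num) (by decide)) (seg_mono X 1 (by norm_num) (s4 q v s p u t))
        have s6 : ∀ l w r q v s p u t, x6 l w * (x5 r * (x4 q v * (x3 s * (x2 p u * x1 t)))) ∈ seg X 1 6 :=
          fun l w r q v s p u t =>
          mul_mem (ms (m6 D l w) 5 (by norm_num) (by decide)) (seg_mono X 1 (by norm_num) (s5 r q v s p u t))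
        have s7 : ∀ k l w r q v s p u t,
            x7 k * (x6 l w * (x5 r * (x4 q v * (x3 s * (x2 p u * x1 t))))) ∈ seg X 1 7 :=
          fun k l w r q v s p u t =>
          mul_mem (ms (hm7 k) 6 (by norm_num) (by decide)) (seg_mono X 1 (by norm_num) (s6 l w r q v s p u t))
        obtain ⟨g8, h⟩ := key 7 (by norm_num) (by decide) (D.m8 _ _) (D.m8 _ _) (s7 _ _ _ _ _ _ _ _ _ _)
          (s7 _ _ _ _ _ _ _ _ _ _) h
        obtain ⟨g7, h⟩ := key (i := 1) (j := 7) 6 (by norm_num) (by decide) (hm7 _) (hm7 _)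
          (s6 _ _ _ _ _ _ _ _ _) (s6 _ _ _ _ _ _ _ _ _) h
        obtain ⟨g6, h⟩ := key (i := 1) (j := 6) 5 (by norm_num) (by decide) (m6 D _ _) (m6 D _ _)
          (s5 _ _ _ _ _ _ _) (s5 _ _ _ _ _ _ _) h
        obtain ⟨g5, h⟩ := key (i := 1) (j := 5) 4 (by norm_num) (by decide) (hm5 _) (hm5 _)
          (s4 _ _ _ _ _ _) (s4 _ _ _ _ _ _) h
        obtain ⟨g4, h⟩ := key (i := 1) (j := 4) 3 (by norm_num) (by decide) (m4 D _ _) (m4 D _ _)
          (s3 _ _ _ _) (s3 _ _ _ _) h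
        obtain ⟨g3, h⟩ := key (i := 1) (j := 3) 2 (by norm_num) (by decide) (hm3 _) (hm3 _)
          (s2 _ _ _) (s2 _ _ _) h
        obtain ⟨g2, g1⟩ := key (i := 1) (j := 2) 1 (by norm_num) (by decide) (m2 D _ _) (m2 D _ _)
          (s1 _) (s1 _) h
        exact ⟨inj8 D g8, C.p7.inj g7, inj6 D g6, C.p5.inj g5, inj4 D g4, C.p3.inj g3, inj2 D g2, C.p1.inj g1⟩ }

end

end Cfsg.Agent.SplitTwo.OctCoordN
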