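import Cfsg.Agent.SplitTwo.OctSix

/-!
# Moufang octagons (S1144): step (8), the abelian group `W ≤ X 2 ⋯ X 6`

`W = ⟨Y 4, Y 2, Y 6 ^ (X 0)⟩`: abelian, normalised by `X 0` and `X 8`, `[W, X 1 ⋯ X 7] ≤ Y 4`,
contained in `X 2 ⋯ X 6`, symmetric under the mirror `k ↦ 8 - k`.
-/

set_option autoImplicit false

namespace Cfsg.Agent.SplitTwo.OctEight

open Cfsg.Agent.SplitTwo Cfsg.Agent.SplitTwo.OctDefs Cfsg.Agent.SplitTwo.OctTools
open Cfsg.Agent.SplitTwo.OctFive Cfsg.Agent.SplitTwo.TorMaps Cfsg.Agent.SplitTwo.OctSix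
open scoped commutatorElement

universe u

variable {G : Type u} [Group G] {X : ZMod (2 * 8) → Subgroup G}

/-! ### The mirror `k ↦ 8 - k` -/

/-- mirror image of the system, `k ↦ 8 - k` -/
def mir (X : ZMod (2 * 8) → Subgroup G) : ZMod (2 * 8) → Subgroup G := fun j => X (8 - j)

theorem mir_eq : mir X = fun j => (fun i => X (-i)) (j + 2 * 4) := by
  funext j
  change X (8 - j) = X (-(j + 2 * 4))
  congr 1
  have h : (8 : ZMod (2 * 8)) + 2 * 4 = 0 := by decide
  linear_combination h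

theorem mir_apply (j : ZMod (2 * 8)) : mir X j = X (8 - j) := rfl

theorem mir_mir : mir (mir X) = X := by
  funext j
  change X (8 - (8 - j)) = X j
  congr 1
  ring

theorem mirA (O : OctA X) : OctA (mir X) := by
  rw [mir_eq]
  exact shiftA (negA O) 4

theorem Yc_mir (k : ZMod (2 * 8)) : Yc (mir X) k = Yc X (8 - k) := by
  rw [mir_eq]
  refine (Yc_shift (X := fun i => X (-i)) (2 * 4) k).trans ?_
  rw [Yc_neg]
  congr 1
  have h : (8 : ZMod (2 * 8)) + 2 * 4 = 0 := by decide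
  linear_combination -h

theorem seg_mir (k : ZMod (2 * 8)) (n : ℕ) : seg (mir X) k n = seg X (8 - k - ((n : ℕ) : ZMod (2 * 8)) + 1) n := by
  rw [mir_eq]
  refine (seg_shift (fun i => X (-i)) (2 * 4) k n).trans ?_
  rw [seg_neg]
  congr 1
  have h : (8 : ZMod (2 * 8)) + 2 * 4 = 0 := by decide
  linear_combination -h

/-! ### Conjugates of `Y 6` under `X 0`, of `Y 2` under `X 8` -/

theorem conj_y6 (S : Sys 8 X) {a y : G} (ha : a ∈ X 0) (ha1 : a ≠ 1) (hy : y ∈ Yc X 6) :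
    ∃ k ∈ X 8, ∃ z ∈ Yc X 2, a * y * a⁻¹ = k⁻¹ * z * k := by
  have hk : kap X 0 a ∈ X 8 := xc (S.kap_mem ha ha1) (by decide)
  have hl : lam X 0 a ∈ X 8 := xc (S.lam_mem ha ha1) (by decide)
  refine ⟨_, hk, muMap X 0 a * y * (muMap X 0 a)⁻¹, Yc_refl (S.refl ha ha1) hy (by decide), ?_⟩
  have hly : y * lam X 0 a = lam X 0 a * y := ycomm hy hl 6 (by norm_num) (by decide)
  unfold muMap
  calc a * y * a⁻¹ = a * (lam X 0 a * y * (lam X 0 a)⁻¹) * a⁻¹ := by rw [conj_eq_self hly.symm]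
    _ = _ := by group

theorem conj_y2 (S : Sys 8 X) {b y : G} (hb : b ∈ X 8) (hb1 : b ≠ 1) (hy : y ∈ Yc X 2) :
    ∃ k ∈ X 0, ∃ z ∈ Yc X 6, b * y * b⁻¹ = k⁻¹ * z * k := by
  have hk : kap X 8 b ∈ X 0 := xc (S.kap_mem hb hb1) (by decide)
  have hl : lam X 8 b ∈ X 0 := xc (S.lam_mem hb hb1) (by decide)
  refine ⟨_, hk, muMap X 8 b * y * (muMap X 8 b)⁻¹, Yc_refl (S.refl hb hb1) hy (by decide), ?_⟩
  have hly : y * lam X 8 b = lam X 8 b * y := ycomm hy hl 2 (by norm_num) (by decide)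
  unfold muMap
  calc b * y * b⁻¹ = b * (lam X 8 b * y * (lam X 8 b)⁻¹) * b⁻¹ := by rw [conj_eq_self hly.symm]
    _ = _ := by group

/-! ### The group `W` -/

/-- generators of `W` -/
def WS (X : ZMod (2 * 8) → Subgroup G) : Set G :=
  {w | w ∈ Yc X 4 ∨ w ∈ Yc X 2 ∨ ∃ a ∈ X 0, ∃ y ∈ Yc X 6, w = a * y * a⁻¹}

/-- `W = ⟨Y 4, Y 2, Y 6 ^ (X 0)⟩` -/
def W (X : ZMod (2 * 8) → Subgroup G) : Subgroup G := Subgroup.closure (WS X)

theorem W_le_mir (O : OctA X) : W X ≤ W (mir X) := by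
  have S := O.sys
  unfold W
  rw [Subgroup.closure_le]
  rintro w (hw | hw | ⟨a, ha, y, hy, rfl⟩)
  · apply Subgroup.subset_closure
    left
    rw [Yc_mir]
    exact yc hw (by decide)
  · apply Subgroup.subset_closure
    right; right
    refine ⟨1, one_mem _, w, ?_, by group⟩
    rw [Yc_mir]
    exact yc hw (by decide)
  · by_cases ha1 : a = 1
    · subst ha1
      apply Subgroup.subset_closure
      right; left
      rw [Yc_mir]
      have e : (1 : G) * y * 1⁻¹ = y := by group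
      rw [e]
      exact yc hy (by decide)
    · obtain ⟨k, hk, z, hz, e⟩ := conj_y6 S ha ha1 hy
      rw [e]
      apply Subgroup.subset_closure
      right; right
      refine ⟨k⁻¹, ?_, z, ?_, by group⟩
      · rw [mir_apply]; exact inv_mem (xc hk (by decide))
      · rw [Yc_mir]; exact yc hz (by decide)

theorem W_mir (O : OctA X) : W (mir X) = W X := by
  apply le_antisymm
  · have := W_le_mir (mirA O)
    rwa [mir_mir] at this
  · exact W_le_mir O

theorem Y4_le_W {w : G} (hw : w ∈ Yc X 4) : w ∈ W X := Subgroup.subset_closure (Or.inl hw)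

theorem Y2_le_W {w : G} (hw : w ∈ Yc X 2) : w ∈ W X := Subgroup.subset_closure (Or.inr (Or.inl hw))

theorem conj_Y6_W {a w : G} (ha : a ∈ X 0) (hw : w ∈ Yc X 6) : a * w * a⁻¹ ∈ W X :=
  Subgroup.subset_closure (Or.inr (Or.inr ⟨a, ha, w, hw, rfl⟩))

theorem Y6_le_W {w : G} (hw : w ∈ Yc X 6) : w ∈ W X := by
  have := conj_Y6_W (one_mem (X 0)) hw
  have e : (1 : G) * w * 1⁻¹ = w := by group
  rwa [e] at this

theorem WS_comm (S : Sys 8 X) : ∀ w ∈ WS X, ∀ w' ∈ WS X, w * w' = w' * w := by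
  have key4 : ∀ y ∈ Yc X 4, ∀ w ∈ WS X, y * w = w * y := by
    rintro y hy w (hw | hw | ⟨a, ha, z, hz, rfl⟩)
    · exact ycomm hy (yx hw) 4 (by norm_num) (by decide)
    · exact ycomm hy (yx hw) 2 (by norm_num) (by decide)
    · have h1 : y * a = a * y := ycomm hy ha 0 (by norm_num) (by decide)
      have h2 : y * z = z * y := ycomm hy (yx hz) 6 (by norm_num) (by decide)
      exact conj_comm_of (conj_comm_of h1 h2) (comm_inv_right h1)
  have key2 : ∀ y ∈ Yc X 2, ∀ w ∈ WS X, y * w = w * y := by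
    rintro y hy w (hw | hw | ⟨a, ha, z, hz, rfl⟩)
    · exact ycomm hy (yx hw) 6 (by norm_num) (by decide)
    · exact ycomm hy (yx hw) 4 (by norm_num) (by decide)
    · have h1 : y * a = a * y := ycomm hy ha 2 (by norm_num) (by decide)
      have h2 : y * z = z * y := ycomm hy (yx hz) 8 (by norm_num) (by decide)
      exact conj_comm_of (conj_comm_of h1 h2) (comm_inv_right h1)
  -- `Y 6` commutes with the `X 0`-conjugates of `Y 6`
  have key6 : ∀ y ∈ Yc X 6, ∀ a ∈ X 0, ∀ z ∈ Yc X 6, y * (a * z * a⁻¹) = a * z * a⁻¹ * y := by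
    intro y hy a ha z hz
    by_cases ha1 : a = 1
    · subst ha1
      have e : (1 : G) * z * 1⁻¹ = z := by group
      rw [e]
      exact ycomm hy (yx hz) 4 (by norm_num) (by decide)
    · obtain ⟨k, hk, x, hx, e⟩ := conj_y6 S ha ha1 hz
      rw [e]
      have h1 : y * k = k * y := ycomm hy hk 6 (by norm_num) (by decide)
      have h2 : y * x = x * y := ycomm hy (yx hx) 0 (by norm_num) (by decide)
      exact conj_comm_of (conj_comm_of (comm_inv_right h1) h2) h1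
  intro w hw w' hw'
  rcases hw with hw | hw | ⟨a, ha, y, hy, rfl⟩
  · exact key4 w hw w' hw'
  · exact key2 w hw w' hw'
  · rcases hw' with hw' | hw' | ⟨b, hb, z, hz, rfl⟩
    · exact (key4 w' hw' _ (Or.inr (Or.inr ⟨a, ha, y, hy, rfl⟩))).symm
    · exact (key2 w' hw' _ (Or.inr (Or.inr ⟨a, ha, y, hy, rfl⟩))).symm
    · have h := key6 y hy (a⁻¹ * b) (mul_mem (inv_mem ha) hb) z hz
      calc a * y * a⁻¹ * (b * z * b⁻¹) = a * (y * (a⁻¹ * b * z * (a⁻¹ * b)⁻¹)) * a⁻¹ := by group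
        _ = a * (a⁻¹ * b * z * (a⁻¹ * b)⁻¹ * y) * a⁻¹ := by rw [h]
        _ = _ := by group

/-- `W` is abelian. -/
theorem W_comm (O : OctA X) {w w' : G} (hw : w ∈ W X) (hw' : w' ∈ W X) : w * w' = w' * w := by
  have h1 : W X ≤ Subgroup.centralizer (WS X) := by
    unfold W
    rw [Subgroup.closure_le]
    intro x hx
    rw [SetLike.mem_coe, Subgroup.mem_centralizer_iff]
    intro y hy
    exact WS_comm O.sys y hy x hx
  have h2 : W X ≤ Subgroup.centralizer (W X : Set G) := by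
    conv_lhs => unfold W
    rw [Subgroup.closure_le]
    intro x hx
    rw [SetLike.mem_coe, Subgroup.mem_centralizer_iff]
    intro y hy
    have := Subgroup.mem_centralizer_iff.mp (h1 hy) x hx
    exact this.symm
  exact (Subgroup.mem_centralizer_iff.mp (h2 hw) w' hw').symm

/-- `X 0` normalises `W`. -/
theorem W_conj0 {c w : G} (hc : c ∈ X 0) (hw : w ∈ W X) : c * w * c⁻¹ ∈ W X := by
  have : W X ≤ (W X).comap (MulAut.conj c).toMonoidHom := by
    conv_lhs => unfold W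
    rw [Subgroup.closure_le]
    rintro x (hx | hx | ⟨a, ha, y, hy, rfl⟩)
    · change c * x * c⁻¹ ∈ W X
      have h1 : x * c = c * x := ycomm hx hc 0 (by norm_num) (by decide)
      rw [conj_eq_self h1.symm]
      exact Y4_le_W hx
    · change c * x * c⁻¹ ∈ W X
      have h1 : x * c = c * x := ycomm hx hc 2 (by norm_num) (by decide)
      rw [conj_eq_self h1.symm]
      exact Y2_le_W hx
    · change c * (a * y * a⁻¹) * c⁻¹ ∈ W X
      have e : c * (a * y * a⁻¹) * c⁻¹ = (c * a) * y * (c * a)⁻¹ := by group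
      rw [e]
      exact conj_Y6_W (mul_mem hc ha) hy
  exact this hw

/-- `X 8` normalises `W`. -/
theorem W_conj8 (O : OctA X) {c w : G} (hc : c ∈ X 8) (hw : w ∈ W X) : c * w * c⁻¹ ∈ W X := by
  have h := W_conj0 (X := mir X) (c := c) (w := w) (by rw [mir_apply]; exact xc hc (by decide))
    (by rw [W_mir O]; exact hw)
  rwa [W_mir O] at h

theorem W_le6 (S : Sys 8 X) {w : G} (hw : w ∈ W X) : w ∈ seg X 1 6 := by
  have : W X ≤ seg X 1 6 := by
    unfold W
    rw [Subgroup.closure_le]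
    rintro x (hx | hx | ⟨a, ha, y, hy, rfl⟩)
    · exact ms (yx hx) 3 (by norm_num) (by decide)
    · exact ms (yx hx) 1 (by norm_num) (by decide)
    · exact cl S 6 (by norm_num) ha (ms (yx hy) 5 (by norm_num) (by decide)) (by decide)
  exact this hw

/-- `W ≤ X 2 ⋯ X 6` -/
theorem W_le (O : OctA X) {w : G} (hw : w ∈ W X) : w ∈ seg X 2 5 := by
  have h1 := W_le6 O.sys hw
  have h2 : w ∈ seg X 2 6 := by
    have := W_le6 (mirA O).sys (w := w) (by rw [W_mir O]; exact hw)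
    rw [seg_mir] at this
    exact sc this (by decide)
  exact si O.sys 1 5 1 (by norm_num) (i := 1) (j := 2) h1 h2 (by decide)

/-- `[Y 2, X 1 ⋯ X 7] ≤ Y 4` -/
theorem comm_Y2 (O : OctA X) {y q : G} (hy : y ∈ Yc X 2) (hq : q ∈ seg X 1 7) : ⁅y, q⁆ ∈ Yc X 4 := by
  obtain ⟨r, hr, x, hx, rfl⟩ := (O.sys.mem_seg_succ 1 (by norm_num : 6 < 8)).mp hq
  have hx7 : x ∈ X 7 := xc hx (by decide)
  have h1 : y * r = r * y := ycomms hy hr 3 (by norm_num) (by decide)
  have h2 : ⁅y, x⁆ ∈ Yc X 4 := (aR' O hy hx7 1 (by decide) (by decide) (by decide)).2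
  have h3 : ⁅y, x⁆ * r = r * ⁅y, x⁆ := ycomms h2 hr 1 (by norm_num) (by decide)
  have e : ⁅y, r * x⁆ = ⁅y, r⁆ * (r * ⁅y, x⁆ * r⁻¹) := by simp only [commutatorElement_def]; group
  rw [e, conj_eq_self h3.symm, comm_eq_one.mpr h1, one_mul]
  exact h2

/-- `[Y 6, X 1 ⋯ X 7] ≤ Y 4` -/
theorem comm_Y6 (O : OctA X) {y q : G} (hy : y ∈ Yc X 6) (hq : q ∈ seg X 1 7) : ⁅y, q⁆ ∈ Yc X 4 := by
  have := comm_Y2 (mirA O) (y := y) (q := q) (by rw [Yc_mir]; exact yc hy (by decide))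
    (by rw [seg_mir]; exact sc hq (by decide))
  rw [Yc_mir] at this
  exact yc this (by decide)

/-- `[W, X 1 ⋯ X 7] ≤ Y 4` -/
theorem comm_W (O : OctA X) {w q : G} (hw : w ∈ W X) (hq : q ∈ seg X 1 7) : ⁅w, q⁆ ∈ Yc X 4 := by
  have S := O.sys
  -- `T`: the elements `w` of `X 1 ⋯ X 7` with `[w, X 1 ⋯ X 7] ≤ Y 4`
  let T : Subgroup G :=
    { carrier := {w | w ∈ seg X 1 7 ∧ ∀ q ∈ seg X 1 7, ⁅w, q⁆ ∈ Yc X 4}
      one_mem' := ⟨one_mem _, fun q _ => by rw [commutatorElement_one_left]; exact one_mem _⟩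
      mul_mem' := by
        rintro a b ⟨ha, ha'⟩ ⟨hb, hb'⟩
        refine ⟨mul_mem ha hb, fun q hq => ?_⟩
        have e : ⁅a * b, q⁆ = (a * ⁅b, q⁆ * a⁻¹) * ⁅a, q⁆ := by simp only [commutatorElement_def]; group
        have h1 : ⁅b, q⁆ * a = a * ⁅b, q⁆ := ycomms (hb' q hq) ha 1 (by norm_num) (by decide)
        rw [e, conj_eq_self h1.symm]
        exact mul_mem (hb' q hq) (ha' q hq)
      inv_mem' := by
        rintro a ⟨ha, ha'⟩
        refine ⟨inv_mem ha, fun q hq => ?_⟩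
        have e : ⁅a⁻¹, q⁆ = (a⁻¹ * ⁅a, q⁆ * a)⁻¹ := by simp only [commutatorElement_def]; group
        have h1 : ⁅a, q⁆ * a = a * ⁅a, q⁆ := ycomms (ha' q hq) ha 1 (by norm_num) (by decide)
        rw [e, conj_eq_self' h1.symm]
        exact inv_mem (ha' q hq) }
  have hT : W X ≤ T := by
    unfold W
    rw [Subgroup.closure_le]
    rintro x (hx | hx | ⟨a, ha, y, hy, rfl⟩)
    · refine ⟨ms (yx hx) 3 (by norm_num) (by decide), fun q hq => ?_⟩
      have h1 : x * q = q * x := ycomms hx hq 1 (by norm_num) (by decide)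
      rw [comm_eq_one.mpr h1]; exact one_mem _
    · exact ⟨ms (yx hx) 1 (by norm_num) (by decide), fun q hq => comm_Y2 O hx hq⟩
    · refine ⟨cl S 7 (by norm_num) ha (ms (yx hy) 5 (by norm_num) (by decide)) (by decide), fun q hq => ?_⟩
      have h1 : a⁻¹ * q * a ∈ seg X 1 7 := cl' S 7 (by norm_num) ha hq (by decide)
      have h2 := comm_Y6 O hy h1
      have h3 : ⁅y, a⁻¹ * q * a⁆ * a = a * ⁅y, a⁻¹ * q * a⁆ := ycomm h2 ha 0 (by norm_num) (by decide)
      have e : ⁅a * y * a⁻¹, q⁆ = a * ⁅y, a⁻¹ * q * a⁆ * a⁻¹ := by simp only [commutatorElement_def]; group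
      rw [e, conj_eq_self h3.symm]
      exact h2
  exact (hT hw).2 q hq

end Cfsg.Agent.SplitTwo.OctEight
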