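import Cfsg.Agent.SplitTwo.OctSeven

/-!
# Moufang octagons (S1144): step (8), the abelian group `W = Y 2 X 3 D X 5 Y 6`
-/

set_option autoImplicit false

namespace Cfsg.Agent.SplitTwo.OctEight788

open Cfsg.Agent.SplitTwo Cfsg.Agent.SplitTwo.OctDefs Cfsg.Agent.SplitTwo.OctTools
open Cfsg.Agent.SplitTwo.OctFive Cfsg.Agent.SplitTwo.TorMaps Cfsg.Agent.SplitTwo.OctSix
open Cfsg.Agent.SplitTwo.OctSixB Cfsg.Agent.SplitTwo.OctSeven
open scoped commutatorElement

universe u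

variable {G : Type u} [Group G] {X : ZMod (2 * 8) → Subgroup G}

/-- generators of `W` -/
def gen (X : ZMod (2 * 8) → Subgroup G) : Set G :=
  {g | (∃ x ∈ X 8, ∃ y ∈ Yc X 2, x * y * x⁻¹ = g) ∨ g ∈ Yc X 6 ∨ g ∈ Yc X 4}

def W (X : ZMod (2 * 8) → Subgroup G) : Subgroup G := Subgroup.closure (gen X)

theorem Y2_le : Yc X 2 ≤ W X := fun y hy => Subgroup.subset_closure (Or.inl ⟨1, one_mem _, y, hy, by group⟩)
theorem Y6_le : Yc X 6 ≤ W X := fun _ hy => Subgroup.subset_closure (Or.inr (Or.inl hy))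
theorem Y4_le : Yc X 4 ≤ W X := fun _ hy => Subgroup.subset_closure (Or.inr (Or.inr hy))

theorem sw1 (S : Sys 8 X) {x y : G} (hx : x ∈ X 8) (hx1 : x ≠ 1) (hy : y ∈ Yc X 2) :
    ∃ z ∈ X 0, ∃ y' ∈ Yc X 6, x * y * x⁻¹ = z * y' * z⁻¹ := by
  have hk : kap X 8 x ∈ X 0 := xc (S.kap_mem hx hx1) (by decide)
  have hl : lam X 8 x ∈ X 0 := xc (S.lam_mem hx hx1) (by decide)
  refine ⟨(kap X 8 x)⁻¹, inv_mem hk, _, Yc_refl (S.refl hx hx1) hy (by decide), ?_⟩
  have hc : y * lam X 8 x = lam X 8 x * y := ycomm hy hl 2 (by norm_num) (by decide)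
  unfold muMap
  calc x * y * x⁻¹ = x * (lam X 8 x * y * (lam X 8 x)⁻¹) * x⁻¹ := by rw [conj_eq_self hc.symm]
    _ = _ := by group

theorem sw2 (S : Sys 8 X) {z y : G} (hz : z ∈ X 0) (hz1 : z ≠ 1) (hy : y ∈ Yc X 6) :
    ∃ x ∈ X 8, ∃ y' ∈ Yc X 2, z * y * z⁻¹ = x * y' * x⁻¹ := by
  have hk : kap X 0 z ∈ X 8 := xc (S.kap_mem hz hz1) (by decide)
  have hl : lam X 0 z ∈ X 8 := xc (S.lam_mem hz hz1) (by decide)
  refine ⟨(kap X 0 z)⁻¹, inv_mem hk, _, Yc_refl (S.refl hz hz1) hy (by decide), ?_⟩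
  have hc : y * lam X 0 z = lam X 0 z * y := ycomm hy hl 6 (by norm_num) (by decide)
  unfold muMap
  calc z * y * z⁻¹ = z * (lam X 0 z * y * (lam X 0 z)⁻¹) * z⁻¹ := by rw [conj_eq_self hc.symm]
    _ = _ := by group

theorem gen_X8 {x g : G} (hx : x ∈ X 8) (hg : g ∈ gen X) : x * g * x⁻¹ ∈ gen X := by
  rcases hg with ⟨x', hx', y, hy, rfl⟩ | hg | hg
  · exact Or.inl ⟨x * x', mul_mem hx hx', y, hy, by group⟩
  · right; left
    rw [conj_eq_self (ycomm hg hx 6 (by norm_num) (by decide)).symm]; exact hg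
  · right; right
    rw [conj_eq_self (ycomm hg hx 8 (by norm_num) (by decide)).symm]; exact hg

theorem gen_X0 (S : Sys 8 X) {z g : G} (hz : z ∈ X 0) (hg : g ∈ gen X) : z * g * z⁻¹ ∈ gen X := by
  have h0 : ∀ z ∈ X 0, ∀ y ∈ Yc X 6, z * y * z⁻¹ ∈ gen X := by
    intro z hz y hy
    by_cases hz1 : z = 1
    · subst hz1
      right; left
      simpa using hy
    · obtain ⟨x, hx, y', hy', e⟩ := sw2 S hz hz1 hy
      rw [e]
      exact Or.inl ⟨x, hx, y', hy', rfl⟩
  rcases hg with ⟨x, hx, y, hy, rfl⟩ | hg | hg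
  · by_cases hx1 : x = 1
    · subst hx1
      left
      refine ⟨1, one_mem _, y, hy, ?_⟩
      have := conj_eq_self (ycomm hy hz 2 (by norm_num) (by decide)).symm
      calc 1 * y * 1⁻¹ = y := by group
        _ = z * y * z⁻¹ := this.symm
        _ = _ := by group
    · obtain ⟨z', hz', y', hy', e⟩ := sw1 S hx hx1 hy
      rw [e]
      have := h0 (z * z') (mul_mem hz hz') y' hy'
      have e2 : z * (z' * y' * z'⁻¹) * z⁻¹ = z * z' * y' * (z * z')⁻¹ := by group
      rw [e2]; exact this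
  · exact h0 z hz g hg
  · right; right
    rw [conj_eq_self (ycomm hg hz 0 (by norm_num) (by decide)).symm]; exact hg

theorem gen_tor {h g : G} (hh : Tor X h) (hg : g ∈ gen X) : h * g * h⁻¹ ∈ gen X := by
  rcases hg with ⟨x', hx', y, hy, rfl⟩ | hg | hg
  · exact Or.inl ⟨h * x' * h⁻¹, hh.mem hx', h * y * h⁻¹, Yc_tor hh hy, by group⟩
  · exact Or.inr (Or.inl (Yc_tor hh hg))
  · exact Or.inr (Or.inr (Yc_tor hh hg))

theorem W_conj {t : G} (ht : ∀ g ∈ gen X, t * g * t⁻¹ ∈ gen X) {w : G} (hw : w ∈ W X) : t * w * t⁻¹ ∈ W X := by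
  have key : W X ≤ (W X).comap (MulAut.conj t).toMonoidHom := by
    refine (Subgroup.closure_le _).mpr ?_
    intro g hg
    rw [SetLike.mem_coe, Subgroup.mem_comap]
    exact Subgroup.subset_closure (ht g hg)
  exact key hw

theorem W_X8 {x w : G} (hx : x ∈ X 8) (hw : w ∈ W X) : x * w * x⁻¹ ∈ W X := W_conj (fun _ hg => gen_X8 hx hg) hw

theorem W_X0 (S : Sys 8 X) {x w : G} (hx : x ∈ X 0) (hw : w ∈ W X) : x * w * x⁻¹ ∈ W X :=
  W_conj (fun _ hg => gen_X0 S hx hg) hw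

theorem W_tor {h w : G} (hh : Tor X h) (hw : w ∈ W X) : h * w * h⁻¹ ∈ W X := W_conj (fun _ hg => gen_tor hh hg) hw

theorem gen_comm (S : Sys 8 X) : ∀ g ∈ gen X, ∀ g' ∈ gen X, g * g' = g' * g := by
  have h86 : ∀ x ∈ X 8, ∀ y ∈ Yc X 2, ∀ g ∈ Yc X 6, (x * y * x⁻¹) * g = g * (x * y * x⁻¹) := by
    intro x hx y hy g hg
    have h1 : g * x = x * g := ycomm hg hx 6 (by norm_num) (by decide)
    have h2 : g * y = y * g := ycomm hg (yx hy) 0 (by norm_num) (by decide)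
    exact (conj_comm_of (conj_comm_of h1 h2) (comm_inv_right h1)).symm
  have h84 : ∀ x ∈ X 8, ∀ y ∈ Yc X 2, ∀ g ∈ Yc X 4, (x * y * x⁻¹) * g = g * (x * y * x⁻¹) := by
    intro x hx y hy g hg
    have h1 : g * x = x * g := ycomm hg hx 8 (by norm_num) (by decide)
    have h2 : g * y = y * g := ycomm hg (yx hy) 2 (by norm_num) (by decide)
    exact (conj_comm_of (conj_comm_of h1 h2) (comm_inv_right h1)).symm
  rintro g (⟨x, hx, y, hy, rfl⟩ | hg | hg) g' (⟨x', hx', y', hy', rfl⟩ | hg' | hg')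
  · -- both of type 8
    have key : y * ((x⁻¹ * x') * y' * (x⁻¹ * x')⁻¹) = ((x⁻¹ * x') * y' * (x⁻¹ * x')⁻¹) * y := by
      by_cases h1 : x⁻¹ * x' = 1
      · rw [h1]
        have := ycomm hy (yx hy') 4 (by norm_num) (by decide)
        simpa using this
      · obtain ⟨z, hz, y'', hy'', e⟩ := sw1 S (mul_mem (inv_mem hx) hx') h1 hy'
        rw [e]
        have h2 : y * z = z * y := ycomm hy hz 2 (by norm_num) (by decide)
        have h3 : y * y'' = y'' * y := ycomm hy (yx hy'') 8 (by norm_num) (by decide)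
        exact conj_comm_of (conj_comm_of h2 h3) (comm_inv_right h2)
    calc x * y * x⁻¹ * (x' * y' * x'⁻¹) = x * (y * ((x⁻¹ * x') * y' * (x⁻¹ * x')⁻¹)) * x⁻¹ := by group
      _ = x * (((x⁻¹ * x') * y' * (x⁻¹ * x')⁻¹) * y) * x⁻¹ := by rw [key]
      _ = _ := by group
  · exact h86 x hx y hy g' hg'
  · exact h84 x hx y hy g' hg'
  · exact (h86 x' hx' y' hy' g hg).symm
  · exact ycomm hg (yx hg') 4 (by norm_num) (by decide)
  · exact ycomm hg (yx hg') 2 (by norm_num) (by decide)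
  · exact (h84 x' hx' y' hy' g hg).symm
  · exact ycomm hg (yx hg') 6 (by norm_num) (by decide)
  · exact ycomm hg (yx hg') 4 (by norm_num) (by decide)

/-- `W` is abelian. -/
theorem W_comm (S : Sys 8 X) : ∀ a ∈ W X, ∀ b ∈ W X, a * b = b * a := by
  have h1 : W X ≤ Subgroup.centralizer (gen X) := by
    refine (Subgroup.closure_le _).mpr ?_
    intro g hg
    rw [SetLike.mem_coe, Subgroup.mem_centralizer_iff]
    intro g' hg'
    exact gen_comm S g' hg' g hg
  have h2 : W X ≤ Subgroup.centralizer (W X : Set G) := by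
    refine (Subgroup.closure_le _).mpr ?_
    intro g hg
    rw [SetLike.mem_coe, Subgroup.mem_centralizer_iff]
    intro w hw
    have := h1 hw
    rw [Subgroup.mem_centralizer_iff] at this
    exact (this g hg).symm
  intro a ha b hb
  have := h2 hb
  rw [Subgroup.mem_centralizer_iff] at this
  exact this a ha

/-- `W ≤ X 1 ⋯ X 7` -/
theorem W_le7 (S : Sys 8 X) : W X ≤ seg X 1 7 := by
  refine (Subgroup.closure_le _).mpr ?_
  rintro g (⟨x, hx, y, hy, rfl⟩ | hg | hg)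
  · exact cr S 7 (by norm_num) hx (ms (yx hy) 1 (by norm_num) (by decide)) (by decide)
  · exact ms (yx hg) 5 (by norm_num) (by decide)
  · exact ms (yx hg) 3 (by norm_num) (by decide)

theorem comm_seg7 {y : G} (hY : ∀ j : ℕ, j < 7 → ∀ q ∈ X (1 + ((j : ℕ) : ZMod (2 * 8))), ⁅y, q⁆ ∈ Yc X 4) :
    ∀ q ∈ seg X 1 7, ⁅y, q⁆ ∈ Yc X 4 := by
  let T : Subgroup G :=
    { carrier := {q | q ∈ seg X 1 7 ∧ ⁅y, q⁆ ∈ Yc X 4}
      one_mem' := ⟨one_mem _, by rw [commutatorElement_one_right]; exact one_mem _⟩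
      mul_mem' := by
        rintro a b ⟨ha, ha'⟩ ⟨hb, hb'⟩
        refine ⟨mul_mem ha hb, ?_⟩
        have e : ⁅y, a * b⁆ = ⁅y, a⁆ * (a * ⁅y, b⁆ * a⁻¹) := by simp only [commutatorElement_def]; group
        rw [e, conj_eq_self (ycomms hb' ha 1 (by norm_num) (by decide)).symm]
        exact mul_mem ha' hb'
      inv_mem' := by
        rintro a ⟨ha, ha'⟩
        refine ⟨inv_mem ha, ?_⟩
        have e : ⁅y, a⁻¹⁆ = a⁻¹ * ⁅y, a⁆⁻¹ * a := by simp only [commutatorElement_def]; group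
        have h1 := ycomms (inv_mem ha') ha 1 (by norm_num) (by decide)
        rw [e, conj_eq_self' h1.symm]
        exact inv_mem ha' }
  have hT : seg X 1 7 ≤ T := by
    refine seg_le fun r hr q hq => ?_
    exact ⟨le_seg X 1 hr hq, hY r hr q hq⟩
  intro q hq
  exact (hT hq).2

/-- `⁅W, X 1 ⋯ X 7⁆ ≤ Y 4` -/
theorem W_comm7 (O : OctA X) : ∀ w ∈ W X, ∀ q ∈ seg X 1 7, ⁅w, q⁆ ∈ Yc X 4 := by
  have S := O.sys
  let T : Subgroup G :=
    { carrier := {w | w ∈ seg X 1 7 ∧ ∀ q ∈ seg X 1 7, ⁅w, q⁆ ∈ Yc X 4}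
      one_mem' := ⟨one_mem _, fun q _ => by rw [commutatorElement_one_left]; exact one_mem _⟩
      mul_mem' := by
        rintro a b ⟨ha, ha'⟩ ⟨hb, hb'⟩
        refine ⟨mul_mem ha hb, fun q hq => ?_⟩
        have e : ⁅a * b, q⁆ = (a * ⁅b, q⁆ * a⁻¹) * ⁅a, q⁆ := by simp only [commutatorElement_def]; group
        rw [e, conj_eq_self (ycomms (hb' q hq) ha 1 (by norm_num) (by decide)).symm]
        exact mul_mem (hb' q hq) (ha' q hq)
      inv_mem' := by
        rintro a ⟨ha, ha'⟩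
        refine ⟨inv_mem ha, fun q hq => ?_⟩
        have e : ⁅a⁻¹, q⁆ = a⁻¹ * ⁅a, q⁆⁻¹ * a := by simp only [commutatorElement_def]; group
        have h1 := ycomms (inv_mem (ha' q hq)) ha 1 (by norm_num) (by decide)
        rw [e, conj_eq_self' h1.symm]
        exact inv_mem (ha' q hq) }
  have h2 : ∀ y ∈ Yc X 2, ∀ q ∈ seg X 1 7, ⁅y, q⁆ ∈ Yc X 4 := by
    intro y hy
    apply comm_seg7
    intro j hj q hq
    by_cases h6 : j = 6
    · subst h6
      exact (aR' O hy (xc hq (by decide) : q ∈ X 7) 1 (by decide) (by decide) (by decide)).2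
    · have hc := ycomm hy hq (3 + j) (by omega) (by push_cast; ring)
      rw [comm_eq_one.mpr hc]; exact one_mem _
  have hT : W X ≤ T := by
    refine (Subgroup.closure_le _).mpr ?_
    intro g hg
    refine ⟨W_le7 S (Subgroup.subset_closure hg), ?_⟩
    rcases hg with ⟨x, hx, y, hy, rfl⟩ | hg | hg
    · intro q hq
      have e : ⁅x * y * x⁻¹, q⁆ = x * ⁅y, x⁻¹ * q * x⁆ * x⁻¹ := by simp only [commutatorElement_def]; group
      have h3 := h2 y hy (x⁻¹ * q * x) (cr' S 7 (by norm_num) hx hq (by decide))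
      rw [e, conj_eq_self (ycomm h3 hx 8 (by norm_num) (by decide)).symm]
      exact h3
    · apply comm_seg7
      intro j hj q hq
      by_cases h0 : j = 0
      · subst h0
        exact (aL' O hg (xc hq (by decide) : q ∈ X 1) 3 (by decide) (by decide) (by decide)).2
      · obtain ⟨s, rfl⟩ : ∃ s, j = s + 1 := ⟨j - 1, by omega⟩
        have hc := ycomm hg hq s (by omega) (by push_cast; ring)
        rw [comm_eq_one.mpr hc]; exact one_mem _
    · intro q hq
      rw [comm_eq_one.mpr (ycomms hg hq 1 (by norm_num) (by decide))]; exact one_mem _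
  intro w hw q hq
  exact (hT hw).2 q hq

/-- `W ≤ X 2 ⋯ X 6` -/
theorem W_le (O : OctA X) : W X ≤ seg X 2 5 := by
  have S := O.sys
  intro w hw
  have hw7 := W_le7 S hw
  obtain ⟨y2, hy2, hy21⟩ := ne_even O 1 (by decide : 2 * (1 : ZMod (2 * 8)) = 2)
  obtain ⟨y6, hy6, hy61⟩ := ne_even O 3 (by decide : 2 * (3 : ZMod (2 * 8)) = 6)
  have c2 := W_comm S y2 (Y2_le hy2) w hw
  have c6 := W_comm S y6 (Y6_le hy6) w hw
  have hA : w ∈ seg X 1 6 := by
    obtain ⟨w1, hw1, w', hw', rfl⟩ := (S.mem_seg_succ_left 1 (k := 6) (by norm_num)).mp hw7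
    have h1 : y2 * w1 = w1 * y2 := ycomm hy2 hw1 3 (by norm_num) (by decide)
    have h2 : y2 * w' = w' * y2 := by
      have := conj_comm_of (comm_inv_right h1) c2
      have e : w1⁻¹ * (w1 * w') = w' := by group
      rwa [e] at this
    have h3 := S.mem_of_commute 2 (l := 5) (by norm_num) (yx hy2) hy21 h2 (k := 6) (by norm_num)
      (sc hw' (by decide))
    exact mul_mem (ms hw1 0 (by norm_num) (by decide)) (ss h3 1 (by norm_num) (by decide))
  have hB : w ∈ seg X 2 6 := by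
    obtain ⟨w', hw', w7, hw7', rfl⟩ := (S.mem_seg_succ 1 (k := 6) (by norm_num)).mp hw7
    have hw7'' : w7 ∈ X 7 := xc hw7' (by decide)
    have h1 : y6 * w7 = w7 * y6 := ycomm hy6 hw7'' 5 (by norm_num) (by decide)
    have h2 : y6 * w' = w' * y6 := by
      have := conj_comm_of c6 (comm_inv_right h1)
      have e : w' * w7 * w7⁻¹ = w' := by group
      rwa [e] at this
    have h3 := S.mem_of_commute' (-1) (l := 5) (by norm_num) (by norm_num) (h := y6) (z := w')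
      (xc (yx hy6) (by decide)) hy61 h2 (ss hw' 2 (by norm_num) (by decide))
    have h4 : w' ∈ seg X 2 5 := sc h3 (by decide)
    exact mul_mem (ss h4 0 (by norm_num) (by decide)) (ms hw7'' 5 (by norm_num) (by decide))
  exact si S 1 5 1 (by norm_num) (i := 1) (j := 2) hA hB (by decide)

/-- `X 3 ≤ W` -/
theorem X3_le [Finite G] (O : OctA X) : X 3 ≤ W X := by
  have S := O.sys
  have hT : X 3 ≤ X 3 ⊓ W X := by
    refine irrOdd O 1 3 (by decide) _ inf_le_left ?_ ?_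
    · obtain ⟨y0, h0, y6, h6, h01, h61, hc⟩ := exists_c3 O
      refine ⟨c3 X y0 y6, Subgroup.mem_inf.mpr ⟨c3_mem S h0 h6 h01 h61, ?_⟩, hc⟩
      have h1 : ⁅y6, y0⁆ ∈ W X := by
        have h2 := W_X0 S (yx h0) (inv_mem (Y6_le h6))
        have e : ⁅y6, y0⁆ = y6 * (y0 * y6⁻¹ * y0⁻¹) := by rw [commutatorElement_def]; group
        rw [e]
        exact mul_mem (Y6_le h6) h2
      unfold c3
      exact mul_mem (mul_mem (Y2_le (p2_mem S h0 h6 h01)) h1) (inv_mem (Y4_le (p4_mem S h0 h6 h61)))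
    · intro h hh t ht
      obtain ⟨h1, h2⟩ := Subgroup.mem_inf.mp ht
      exact Subgroup.mem_inf.mpr ⟨hh.mem h1, W_tor hh h2⟩
  exact fun x hx => (Subgroup.mem_inf.mp (hT hx)).2

/-- `W` is normalised by the mu-elements of `X 8` -/
theorem W_mu8 (S : Sys 8 X) {a w : G} (ha : a ∈ X 8) (ha1 : a ≠ 1) (hw : w ∈ W X) :
    muMap X 8 a * w * (muMap X 8 a)⁻¹ ∈ W X := by
  have hk : kap X 8 a ∈ X 0 := xc (S.kap_mem ha ha1) (by decide)
  have hl : lam X 8 a ∈ X 0 := xc (S.lam_mem ha ha1) (by decide)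
  have h1 := W_X0 S hk (W_X8 ha (W_X0 S hl hw))
  have e : muMap X 8 a * w * (muMap X 8 a)⁻¹ =
      kap X 8 a * (a * (lam X 8 a * w * (lam X 8 a)⁻¹) * a⁻¹) * (kap X 8 a)⁻¹ := by
    unfold muMap; group
  rw [e]; exact h1

theorem X5_le [Finite G] (O : OctA X) : X 5 ≤ W X := by
  have S := O.sys
  intro x hx
  obtain ⟨a, ha, ha1⟩ := S.exists_ne_one 8
  have hr := S.refl ha ha1
  have h1 : (muMap X 8 a)⁻¹ * x * muMap X 8 a ∈ X 3 := rx' hr hx (by decide)
  have h2 := W_mu8 S ha ha1 (X3_le O h1)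
  have e : muMap X 8 a * ((muMap X 8 a)⁻¹ * x * muMap X 8 a) * (muMap X 8 a)⁻¹ = x := by group
  rwa [e] at h2

/-- For `x ∈ X 8`, `x ≠ 1`, `y ∈ Y 2`: `⁅x, y⁆ = u (μ(x) y μ(x)⁻¹)` with `u ∈ X 3 X 4 X 5`. -/
theorem x8y2 (S : Sys 8 X) {x y : G} (hx : x ∈ X 8) (hx1 : x ≠ 1) (hy : y ∈ Yc X 2) :
    ⁅x, y⁆ * (muMap X 8 x * y * (muMap X 8 x)⁻¹)⁻¹ ∈ seg X 3 3 := by
  have hk : kap X 8 x ∈ X 0 := xc (S.kap_mem hx hx1) (by decide)
  have hl : lam X 8 x ∈ X 0 := xc (S.lam_mem hx hx1) (by decide)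
  set k := kap X 8 x with hkd
  set l := lam X 8 x with hld
  have hmu : muMap X 8 x = k * x * l := rfl
  obtain ⟨q, hqd⟩ : ∃ q, q = muMap X 8 x * y * (muMap X 8 x)⁻¹ := ⟨_, rfl⟩
  have hq : q ∈ Yc X 6 := hqd ▸ Yc_refl (S.refl hx hx1) hy (by decide)
  rw [← hqd]
  have hl2 : y * l = l * y := ycomm hy hl 2 (by norm_num) (by decide)
  have hqy : q * y = y * q := ycomm hq (yx hy) 0 (by norm_num) (by decide)
  have hcm : ⁅x, y⁆ ∈ seg X 3 5 := cm' S 5 (by norm_num) (yx hy) hx (by decide) (by decide)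
  have e1 : q = k * (⁅x, y⁆ * y) * k⁻¹ := by
    rw [hqd, hmu]
    calc k * x * l * y * (k * x * l)⁻¹ = k * x * (l * y * l⁻¹) * x⁻¹ * k⁻¹ := by group
      _ = k * (⁅x, y⁆ * y) * k⁻¹ := by rw [conj_eq_self hl2.symm, commutatorElement_def]; group
  have e2 : ⁅x, y⁆ * q⁻¹ = (k⁻¹ * q * k * q⁻¹) * y⁻¹ := by
    have e3 : ⁅x, y⁆ = k⁻¹ * q * k * y⁻¹ := by rw [e1]; group
    rw [e3]
    calc k⁻¹ * q * k * y⁻¹ * q⁻¹ = k⁻¹ * q * k * (y⁻¹ * q⁻¹) := by group
      _ = k⁻¹ * q * k * (q⁻¹ * y⁻¹) := by rw [comm_inv_right (comm_inv_left hqy.symm)]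
      _ = _ := by group
  refine si S 2 3 2 (by norm_num) (i := 1) (j := 3) ?_ ?_ (by decide)
  · rw [e2]
    refine mul_mem ?_ (inv_mem (ms (yx hy) 1 (by norm_num) (by decide)))
    have := cm S 5 (by norm_num) (inv_mem hk) (yx hq) (l := 1) (by decide) (by decide)
    rw [commutatorElement_def, inv_inv] at this
    exact this
  · exact mul_mem hcm (inv_mem (ms (yx hq) 3 (by norm_num) (by decide)))

/-- **Decomposition** `W = Y 2 · X 3 · (X 4 ∩ W) · X 5 · Y 6`. -/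
theorem dec [Finite G] (O : OctA X) {w : G} (hw : w ∈ W X) : ∃ a ∈ Yc X 2, ∃ b ∈ X 3, ∃ c ∈ X 4 ⊓ W X,
    ∃ d ∈ X 5, ∃ e ∈ Yc X 6, w = a * b * c * d * e := by
  have S := O.sys
  have hWc := W_comm S
  let T : Subgroup G :=
    { carrier := {w | ∃ a ∈ Yc X 2, ∃ b ∈ X 3, ∃ c ∈ X 4 ⊓ W X, ∃ d ∈ X 5, ∃ e ∈ Yc X 6, w = a * b * c * d * e}
      one_mem' := ⟨1, one_mem _, 1, one_mem _, 1, one_mem _, 1, one_mem _, 1, one_mem _, by simp⟩
      mul_mem' := by
        rintro _ _ ⟨a, ha, b, hb, c, hc, d, hd, e, he, rfl⟩ ⟨a', ha', b', hb', c', hc', d', hd', e', he', rfl⟩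
        refine ⟨a * a', mul_mem ha ha', b * b', mul_mem hb hb', c * c', mul_mem hc hc', d * d', mul_mem hd hd',
          e * e', mul_mem he he', ?_⟩
        have wa' := Y2_le ha'
        have wb' := X3_le O hb'
        have wc' := (Subgroup.mem_inf.mp hc').2
        have wd' := X5_le O hd'
        have wb := X3_le O hb
        have wc := (Subgroup.mem_inf.mp hc).2
        have wd := X5_le O hd
        have we := Y6_le he
        calc a * b * c * d * e * (a' * b' * c' * d' * e')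
            = a * ((b * c * d * e) * a') * (b' * c' * d' * e') := by group
          _ = a * (a' * (b * c * d * e)) * (b' * c' * d' * e') := by
              rw [hWc _ (mul_mem (mul_mem (mul_mem wb wc) wd) we) _ wa']
          _ = a * a' * b * ((c * d * e) * b') * (c' * d' * e') := by group
          _ = a * a' * b * (b' * (c * d * e)) * (c' * d' * e') := by
              rw [hWc _ (mul_mem (mul_mem wc wd) we) _ wb']
          _ = a * a' * (b * b') * c * ((d * e) * c') * (d' * e') := by group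
          _ = a * a' * (b * b') * c * (c' * (d * e)) * (d' * e') := by
              rw [hWc _ (mul_mem wd we) _ wc']
          _ = a * a' * (b * b') * (c * c') * d * (e * d') * e' := by group
          _ = a * a' * (b * b') * (c * c') * d * (d' * e) * e' := by rw [hWc _ we _ wd']
          _ = _ := by group
      inv_mem' := by
        rintro _ ⟨a, ha, b, hb, c, hc, d, hd, e, he, rfl⟩
        refine ⟨a⁻¹, inv_mem ha, b⁻¹, inv_mem hb, c⁻¹, inv_mem hc, d⁻¹, inv_mem hd, e⁻¹, inv_mem he, ?_⟩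
        have wa := Y2_le ha
        have wb := X3_le O hb
        have wc := (Subgroup.mem_inf.mp hc).2
        have wd := X5_le O hd
        have we := Y6_le he
        calc (a * b * c * d * e)⁻¹ = (e⁻¹ * d⁻¹ * c⁻¹ * b⁻¹) * a⁻¹ := by group
          _ = a⁻¹ * (e⁻¹ * d⁻¹ * c⁻¹ * b⁻¹) :=
              hWc _ (mul_mem (mul_mem (mul_mem (inv_mem we) (inv_mem wd)) (inv_mem wc)) (inv_mem wb)) _ (inv_mem wa)
          _ = a⁻¹ * ((e⁻¹ * d⁻¹ * c⁻¹) * b⁻¹) := by group
          _ = a⁻¹ * (b⁻¹ * (e⁻¹ * d⁻¹ * c⁻¹)) := by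
              rw [hWc _ (mul_mem (mul_mem (inv_mem we) (inv_mem wd)) (inv_mem wc)) _ (inv_mem wb)]
          _ = a⁻¹ * b⁻¹ * ((e⁻¹ * d⁻¹) * c⁻¹) := by group
          _ = a⁻¹ * b⁻¹ * (c⁻¹ * (e⁻¹ * d⁻¹)) := by rw [hWc _ (mul_mem (inv_mem we) (inv_mem wd)) _ (inv_mem wc)]
          _ = a⁻¹ * b⁻¹ * c⁻¹ * (e⁻¹ * d⁻¹) := by group
          _ = a⁻¹ * b⁻¹ * c⁻¹ * (d⁻¹ * e⁻¹) := by rw [hWc _ (inv_mem we) _ (inv_mem wd)]
          _ = _ := by group }
  have hT : W X ≤ T := by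
    refine (Subgroup.closure_le _).mpr ?_
    rintro g (⟨x, hx, y, hy, rfl⟩ | hg | hg)
    · by_cases hx1 : x = 1
      · subst hx1
        exact ⟨y, hy, 1, one_mem _, 1, one_mem _, 1, one_mem _, 1, one_mem _, by simp⟩
      · obtain ⟨q, hqd⟩ : ∃ q, q = muMap X 8 x * y * (muMap X 8 x)⁻¹ := ⟨_, rfl⟩
        have hq : q ∈ Yc X 6 := hqd ▸ Yc_refl (S.refl hx hx1) hy (by decide)
        have h1 := x8y2 S hx hx1 hy
        rw [← hqd] at h1
        obtain ⟨b, hb, r, hr, e1⟩ := (S.mem_seg_succ_left 3 (k := 2) (by norm_num)).mp h1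
        obtain ⟨c, hc, d, hd, e2⟩ := (S.mem_seg_succ_left (3 + 1) (k := 1) (by norm_num)).mp hr
        rw [seg_one] at hd
        have hc4 : c ∈ X 4 := xc hc (by decide)
        have hd5 : d ∈ X 5 := xc hd (by decide)
        have hxy : x * y * x⁻¹ ∈ W X := W_X8 hx (Y2_le hy)
        have hyW := Y2_le hy
        have hqW := Y6_le hq
        have hbW := X3_le O hb
        have hdW := X5_le O hd5
        have e3 : x * y * x⁻¹ = b * c * d * q * y := by
          have e4 : ⁅x, y⁆ = b * c * d * q := by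
            have : ⁅x, y⁆ = (⁅x, y⁆ * q⁻¹) * q := by group
            rw [this, ← e1, ← e2]; group
          have e5 : x * y * x⁻¹ = ⁅x, y⁆ * y := by rw [commutatorElement_def]; group
          rw [e5, e4]
        have hcW : c ∈ W X := by
          have : c = b⁻¹ * (x * y * x⁻¹) * y⁻¹ * q⁻¹ * d⁻¹ := by rw [e3]; group
          rw [this]
          exact mul_mem (mul_mem (mul_mem (mul_mem (inv_mem hbW) hxy) (inv_mem hyW)) (inv_mem hqW)) (inv_mem hdW)
        refine ⟨y, hy, b, hb, c, Subgroup.mem_inf.mpr ⟨hc4, hcW⟩, d, hd5, q, hq, ?_⟩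
        rw [e3, hWc _ (mul_mem (mul_mem (mul_mem hbW hcW) hdW) hqW) _ hyW]; group
    · exact ⟨1, one_mem _, 1, one_mem _, 1, one_mem _, 1, one_mem _, g, hg, by simp⟩
    · exact ⟨1, one_mem _, 1, one_mem _, g, Subgroup.mem_inf.mpr ⟨yx hg, Y4_le hg⟩, 1, one_mem _, 1, one_mem _,
        by simp⟩
  exact hT hw

/-- Uniqueness. -/
theorem uniq5 (S : Sys 8 X) {a b c d e : G} (ha : a ∈ X 2) (hb : b ∈ X 3) (hc : c ∈ X 4) (hd : d ∈ X 5) (he : e ∈ X 6)
    (h : a * b * c * d * e = 1) : a = 1 ∧ b = 1 ∧ c = 1 ∧ d = 1 ∧ e = 1 := by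
  have h1 : a = 1 := by
    refine sd S 1 4 (by norm_num) (i := 2) (j := 3) (ms ha 0 (by norm_num) (by decide)) ?_ (by decide)
    have : a = (b * c * d * e)⁻¹ := by
      have : a * (b * c * d * e) = 1 := by rw [← h]; group
      exact eq_inv_of_mul_eq_one_left this
    rw [this]
    exact inv_mem (mul_mem (mul_mem (mul_mem (ms hb 0 (by norm_num) (by decide)) (ms hc 1 (by norm_num) (by decide)))
      (ms hd 2 (by norm_num) (by decide))) (ms he 3 (by norm_num) (by decide)))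
  subst h1
  rw [one_mul] at h
  have h2 : b = 1 := by
    refine sd S 1 3 (by norm_num) (i := 3) (j := 4) (ms hb 0 (by norm_num) (by decide)) ?_ (by decide)
    have : b = (c * d * e)⁻¹ := by
      have : b * (c * d * e) = 1 := by rw [← h]; group
      exact eq_inv_of_mul_eq_one_left this
    rw [this]
    exact inv_mem (mul_mem (mul_mem (ms hc 0 (by norm_num) (by decide)) (ms hd 1 (by norm_num) (by decide)))
      (ms he 2 (by norm_num) (by decide)))
  subst h2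
  rw [one_mul] at h
  have h3 : c = 1 := by
    refine sd S 1 2 (by norm_num) (i := 4) (j := 5) (ms hc 0 (by norm_num) (by decide)) ?_ (by decide)
    have : c = (d * e)⁻¹ := by
      have : c * (d * e) = 1 := by rw [← h]; group
      exact eq_inv_of_mul_eq_one_left this
    rw [this]
    exact inv_mem (mul_mem (ms hd 0 (by norm_num) (by decide)) (ms he 1 (by norm_num) (by decide)))
  subst h3
  rw [one_mul] at h
  have h4 : d = 1 := by
    refine sd S 1 1 (by norm_num) (i := 5) (j := 6) (ms hd 0 (by norm_num) (by decide)) ?_ (by decide)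
    rw [eq_inv_of_mul_eq_one_left h]
    exact inv_mem (ms he 0 (by norm_num) (by decide))
  subst h4
  rw [one_mul] at h
  exact ⟨rfl, rfl, rfl, rfl, h⟩

end Cfsg.Agent.SplitTwo.OctEight788
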