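import Cfsg.Agent.SplitTwo.OctTools

/-!
# Moufang octagons (S1144): step (5), the commutator of `Y 0` and `Y 6`

`⁅y6, y0⁆ = y2⁻¹ c3 y4` with `y2 = μ(y0) y6 μ(y0)⁻¹ ∈ Y 2`, `c3 ∈ X 3`, `y4 = μ(y6) y0 μ(y6)⁻¹ ∈ Y 4`.
-/

set_option autoImplicit false

namespace Cfsg.Agent.SplitTwo.OctFive

open Cfsg.Agent.SplitTwo Cfsg.Agent.SplitTwo.OctDefs Cfsg.Agent.SplitTwo.OctTools
open scoped commutatorElement

universe u

variable {G : Type u} [Group G] {X : ZMod (2 * 8) → Subgroup G}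

/-- the `Y 4`-component -/
noncomputable def p4 (X : ZMod (2 * 8) → Subgroup G) (y0 y6 : G) : G := muMap X 6 y6 * y0 * (muMap X 6 y6)⁻¹

/-- the inverse of the `Y 2`-component -/
noncomputable def p2 (X : ZMod (2 * 8) → Subgroup G) (y0 y6 : G) : G := muMap X 0 y0 * y6 * (muMap X 0 y0)⁻¹

/-- the `X 3`-component -/
noncomputable def c3 (X : ZMod (2 * 8) → Subgroup G) (y0 y6 : G) : G := p2 X y0 y6 * ⁅y6, y0⁆ * (p4 X y0 y6)⁻¹

theorem comm_eq (y0 y6 : G) : ⁅y6, y0⁆ = (p2 X y0 y6)⁻¹ * c3 X y0 y6 * p4 X y0 y6 := by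
  unfold c3; group

theorem p4_mem (S : Sys 8 X) {y0 y6 : G} (h0 : y0 ∈ Yc X 0) (h6 : y6 ∈ Yc X 6) (h61 : y6 ≠ 1) :
    p4 X y0 y6 ∈ Yc X 4 :=
  Yc_refl (S.refl (yx h6) h61) h0 (by decide)

theorem p2_mem (S : Sys 8 X) {y0 y6 : G} (h0 : y0 ∈ Yc X 0) (h6 : y6 ∈ Yc X 6) (h01 : y0 ≠ 1) :
    p2 X y0 y6 ∈ Yc X 2 :=
  Yc_refl (S.refl (yx h0) h01) h6 (by decide)

theorem p4_ne {y0 y6 : G} (h : y0 ≠ 1) : p4 X y0 y6 ≠ 1 := by
  unfold p4; intro e; exact h (by simpa using e)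

theorem p2_ne {y0 y6 : G} (h : y6 ≠ 1) : p2 X y0 y6 ≠ 1 := by
  unfold p2; intro e; exact h (by simpa using e)

/-- `⁅y6, y0⁆ * (p4)⁻¹ ∈ X 1 X 2 X 3` -/
theorem right_part (S : Sys 8 X) {y0 y6 : G} (h0 : y0 ∈ Yc X 0) (h6 : y6 ∈ Yc X 6) (h61 : y6 ≠ 1) :
    ⁅y6, y0⁆ * (p4 X y0 y6)⁻¹ ∈ seg X 1 3 := by
  have hk : kap X 6 y6 ∈ X 14 := xc (S.kap_mem (yx h6) h61) (by decide)
  have hl : lam X 6 y6 ∈ X 14 := xc (S.lam_mem (yx h6) h61) (by decide)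
  set k := kap X 6 y6 with hkd
  set l := lam X 6 y6 with hld
  have hq := p4_mem S h0 h6 h61
  set q := p4 X y0 y6 with hqd
  have hk0 : y0 * k = k * y0 := ycomm h0 hk 2 (by norm_num) (by decide)
  have hl0 : y0 * l = l * y0 := ycomm h0 hl 2 (by norm_num) (by decide)
  have hq0 : y0 * q = q * y0 := ycomm h0 (yx hq) 8 (by norm_num) (by decide)
  have hcm : ⁅y6, y0⁆ ∈ seg X 1 5 := cm' S 5 (by norm_num) (yx h0) (yx h6) (by decide) (by decide)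
  -- `q = k (y6 y0 y6⁻¹) k⁻¹`
  have hq1 : q = k * (⁅y6, y0⁆ * y0) * k⁻¹ := by
    rw [hqd]; unfold p4 muMap
    rw [← hkd, ← hld]
    calc k * y6 * l * y0 * (k * y6 * l)⁻¹ = k * y6 * (l * y0 * l⁻¹) * y6⁻¹ * k⁻¹ := by group
      _ = k * y6 * y0 * y6⁻¹ * k⁻¹ := by rw [conj_eq_self hl0.symm]
      _ = k * (⁅y6, y0⁆ * y0) * k⁻¹ := by rw [commutatorElement_def]; group
  have hq2 : ⁅y6, y0⁆ * q⁻¹ = (k⁻¹ * q * k * q⁻¹) * y0⁻¹ := by
    have e1 : ⁅y6, y0⁆ * y0 = k⁻¹ * q * k := by rw [hq1]; group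
    have e2 : ⁅y6, y0⁆ = k⁻¹ * q * k * y0⁻¹ := by rw [← e1]; group
    rw [e2]
    calc k⁻¹ * q * k * y0⁻¹ * q⁻¹ = k⁻¹ * q * k * (y0⁻¹ * q⁻¹) := by group
      _ = k⁻¹ * q * k * (q⁻¹ * y0⁻¹) := by rw [comm_inv_right (comm_inv_left hq0)]
      _ = _ := by group
  refine si S 2 3 2 (by norm_num) (i := 15) (j := 1) ?_ ?_ (by decide)
  · rw [hq2]
    refine mul_mem ?_ (inv_mem (ms (yx h0) 1 (by norm_num) (by decide)))
    have := cm S 5 (by norm_num) (inv_mem hk) (yx hq) (l := 15) (by decide) (by decide)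
    rw [commutatorElement_def, inv_inv] at this
    exact this
  · exact mul_mem hcm (inv_mem (ms (yx hq) 3 (by norm_num) (by decide)))

/-- `p2 * ⁅y6, y0⁆ ∈ X 3 X 4 X 5` -/
theorem left_part (S : Sys 8 X) {y0 y6 : G} (h0 : y0 ∈ Yc X 0) (h6 : y6 ∈ Yc X 6) (h01 : y0 ≠ 1) :
    p2 X y0 y6 * ⁅y6, y0⁆ ∈ seg X 3 3 := by
  have hk : kap X 0 y0 ∈ X 8 := xc (S.kap_mem (yx h0) h01) (by decide)
  have hl : lam X 0 y0 ∈ X 8 := xc (S.lam_mem (yx h0) h01) (by decide)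
  set k := kap X 0 y0 with hkd
  set l := lam X 0 y0 with hld
  have hq := p2_mem S h0 h6 h01
  set q := p2 X y0 y6 with hqd
  have hl6 : y6 * l = l * y6 := ycomm h6 hl 6 (by norm_num) (by decide)
  have hq6 : y6 * q = q * y6 := ycomm h6 (yx hq) 0 (by norm_num) (by decide)
  have hcm : ⁅y6, y0⁆ ∈ seg X 1 5 := cm' S 5 (by norm_num) (yx h0) (yx h6) (by decide) (by decide)
  have hq1 : q = k * (⁅y6, y0⁆⁻¹ * y6) * k⁻¹ := by
    rw [hqd]; unfold p2 muMap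
    rw [← hkd, ← hld]
    calc k * y0 * l * y6 * (k * y0 * l)⁻¹ = k * y0 * (l * y6 * l⁻¹) * y0⁻¹ * k⁻¹ := by group
      _ = k * y0 * y6 * y0⁻¹ * k⁻¹ := by rw [conj_eq_self hl6.symm]
      _ = _ := by rw [commutatorElement_def]; group
  have hq2 : q * ⁅y6, y0⁆ = y6 * ((k⁻¹ * q * k * q⁻¹)⁻¹) := by
    have e1 : ⁅y6, y0⁆⁻¹ * y6 = k⁻¹ * q * k := by rw [hq1]; group
    have e2 : ⁅y6, y0⁆ = y6 * (k⁻¹ * q * k)⁻¹ := by rw [← e1]; group
    rw [e2]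
    calc q * (y6 * (k⁻¹ * q * k)⁻¹) = (q * y6) * (k⁻¹ * q * k)⁻¹ := by group
      _ = (y6 * q) * (k⁻¹ * q * k)⁻¹ := by rw [hq6]
      _ = _ := by group
  refine si S 2 3 2 (by norm_num) (i := 1) (j := 3) ?_ ?_ (by decide)
  · exact mul_mem (ms (yx hq) 1 (by norm_num) (by decide)) hcm
  · rw [hq2]
    refine mul_mem (ms (yx h6) 3 (by norm_num) (by decide)) (inv_mem ?_)
    have := cm' S 5 (by norm_num) (yx hq) (inv_mem hk) (l := 3) (by decide) (by decide)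
    rw [commutatorElement_def, inv_inv] at this
    exact this

theorem c3_mem (S : Sys 8 X) {y0 y6 : G} (h0 : y0 ∈ Yc X 0) (h6 : y6 ∈ Yc X 6) (h01 : y0 ≠ 1) (h61 : y6 ≠ 1) :
    c3 X y0 y6 ∈ X 3 := by
  have h1 := right_part S h0 h6 h61
  have h2 := left_part S h0 h6 h01
  have hq := p2_mem S h0 h6 h01
  have hp := p4_mem S h0 h6 h61
  have h3 : c3 X y0 y6 ∈ seg X 3 1 := by
    refine si S 2 1 2 (by norm_num) (i := 1) (j := 3) ?_ ?_ (by decide)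
    · unfold c3
      rw [mul_assoc]
      exact mul_mem (ms (yx hq) 1 (by norm_num) (by decide)) h1
    · unfold c3
      exact mul_mem h2 (inv_mem (ms (yx hp) 1 (by norm_num) (by decide)))
  rwa [seg_one] at h3

/-- `⁅y6, y0⁆` commutes with `X 1 ⋯ X 5`. -/
theorem comm_commutes (O : OctA X) {y0 y6 : G} (h0 : y0 ∈ Yc X 0) (h6 : y6 ∈ Yc X 6) :
    ∀ r < 5, ∀ x ∈ X (1 + ((r : ℕ) : ZMod (2 * 8))), ⁅y6, y0⁆ * x = x * ⁅y6, y0⁆ := by
  have hy0 : ∀ r < 4, ∀ x ∈ X (1 + ((r : ℕ) : ZMod (2 * 8))), y0 * x = x * y0 := by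
    intro r hr x hx
    refine ycomm h0 hx (5 + r) (by omega) ?_
    push_cast
    have : (0 : ZMod (2 * 8)) - 4 + 5 = 1 := by decide
    rw [← add_assoc, this]
  have hy6 : ∀ r < 4, ∀ x ∈ X (2 + ((r : ℕ) : ZMod (2 * 8))), y6 * x = x * y6 := by
    intro r hr x hx
    refine ycomm h6 hx (0 + r) (by omega) ?_
    push_cast
    have : (6 : ZMod (2 * 8)) - 4 + 0 = 2 := by decide
    rw [← add_assoc, this]
  intro r hr x hx
  symm
  by_cases h4 : r = 4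
  · -- `x ∈ X 5`
    subst h4
    have hx5 : x ∈ X 5 := xc hx (by decide)
    have hx6 : y6 * x = x * y6 := ycomm h6 hx5 3 (by norm_num) (by decide)
    -- `⁅x, y0⁆ ∈ Y 2`
    have ha := (aR' O h0 hx5 0 (by decide) (by decide) (by decide : 2 * (0 : ZMod (2 * 8)) + 2 = 2)).1
    have h6c : y6 * ⁅x, y0⁆ = ⁅x, y0⁆ * y6 := ycomm h6 (yx ha) 0 (by norm_num) (by decide)
    have h0c : y0 * ⁅x, y0⁆ = ⁅x, y0⁆ * y0 := ycomm h0 (yx ha) 6 (by norm_num) (by decide)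
    -- conjugate by `x`
    have e1 : x * ⁅y6, y0⁆ * x⁻¹ = ⁅x * y6 * x⁻¹, x * y0 * x⁻¹⁆ := by
      simp only [commutatorElement_def]; group
    have e2 : x * y0 * x⁻¹ = ⁅x, y0⁆ * y0 := by rw [commutatorElement_def]; group
    rw [conj_eq_self hx6.symm, e2] at e1
    have e3 : ⁅y6, ⁅x, y0⁆ * y0⁆ = ⁅y6, y0⁆ := comm_absorb_right h6c.symm h0c.symm
    rw [e3] at e1
    calc x * ⁅y6, y0⁆ = (x * ⁅y6, y0⁆ * x⁻¹) * x := by group
      _ = ⁅y6, y0⁆ * x := by rw [e1]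
  · by_cases h00 : r = 0
    · -- `x ∈ X 1`
      subst h00
      have hx1 : x ∈ X 1 := xc hx (by decide)
      have hx0 : y0 * x = x * y0 := ycomm h0 hx1 5 (by norm_num) (by decide)
      have ha := (aL' O h6 hx1 3 (by decide) (by decide) (by decide : 2 * (3 : ZMod (2 * 8)) - 2 = 4)).1
      have h6c : y6 * ⁅x, y6⁆ = ⁅x, y6⁆ * y6 := ycomm h6 (yx ha) 2 (by norm_num) (by decide)
      have h0c : y0 * ⁅x, y6⁆ = ⁅x, y6⁆ * y0 := ycomm h0 (yx ha) 8 (by norm_num) (by decide)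
      have e1 : x * ⁅y6, y0⁆ * x⁻¹ = ⁅x * y6 * x⁻¹, x * y0 * x⁻¹⁆ := by
        simp only [commutatorElement_def]; group
      have e2 : x * y6 * x⁻¹ = ⁅x, y6⁆ * y6 := by rw [commutatorElement_def]; group
      rw [conj_eq_self hx0.symm, e2] at e1
      have e3 : ⁅⁅x, y6⁆ * y6, y0⁆ = ⁅y6, y0⁆ := comm_absorb_left h6c.symm h0c.symm
      rw [e3] at e1
      calc x * ⁅y6, y0⁆ = (x * ⁅y6, y0⁆ * x⁻¹) * x := by group
        _ = ⁅y6, y0⁆ * x := by rw [e1]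
    · obtain ⟨s, rfl⟩ : ∃ s, r = s + 1 := ⟨r - 1, by omega⟩
      have h1 := hy0 (s + 1) (by omega) x hx
      have h2 := hy6 s (by omega) x (xc hx (by push_cast; ring))
      rw [commutatorElement_def]
      exact conj_comm_of (conj_comm_of (conj_comm_of h2.symm h1.symm) (comm_inv_right h2.symm))
        (comm_inv_right h1.symm)

/-- `c3` commutes with `X 1 ⋯ X 5`. -/
theorem c3_commutes (O : OctA X) {y0 y6 : G} (h0 : y0 ∈ Yc X 0) (h6 : y6 ∈ Yc X 6) (h01 : y0 ≠ 1) (h61 : y6 ≠ 1) :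
    ∀ r < 5, ∀ x ∈ X (1 + ((r : ℕ) : ZMod (2 * 8))), c3 X y0 y6 * x = x * c3 X y0 y6 := by
  intro r hr x hx
  have h1 := comm_commutes O h0 h6 r hr x hx
  have hq := p2_mem O.sys h0 h6 h01
  have hp := p4_mem O.sys h0 h6 h61
  have h2 : p2 X y0 y6 * x = x * p2 X y0 y6 := by
    refine ycomm hq hx (3 + r) (by omega) ?_
    push_cast
    have : (2 : ZMod (2 * 8)) - 4 + 3 = 1 := by decide
    rw [← add_assoc, this]
  have h3 : p4 X y0 y6 * x = x * p4 X y0 y6 := by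
    refine ycomm hp hx (1 + r) (by omega) ?_
    push_cast
    have : (4 : ZMod (2 * 8)) - 4 + 1 = 1 := by decide
    rw [← add_assoc, this]
  unfold c3
  symm
  exact conj_comm_of (conj_comm_of h2.symm h1.symm) (comm_inv_right h3.symm)

end Cfsg.Agent.SplitTwo.OctFive
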