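import Mathlib

/-!
# Moufang octagons: the input of the last step of the coordinatisation (S1144, m = 8)

`OctMin σ x1 x3 x5 x7 x2 x4 x6 x8 n1 n8`: one commutator relation per orbit of the two reflections `n1`
(`k ↦ 10 - k`) and `n8` (`k ↦ 8 - k`), the relation `[y_2, x_8]`, existence and uniqueness of coordinates.
`OctLast.lean` proves all relations of helper171's `OctRel` from it.

All relations are written `a * b = b * a * c`.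
-/

set_option autoImplicit false

namespace Cfsg.Agent.SplitTwo.OctLast

/-- Everything about the coordinates of an octagon except the relations `(2,8)` and `(1,8)`. -/
structure OctMin {F : Type*} [Field F] (σ : F →+* F) {G : Type*} [Group G] (x1 x3 x5 x7 : F → G)
    (x2 x4 x6 x8 : F → F → G) (n1 n8 : G) : Prop where
  two : (2 : F) = 0
  sq : ∀ x : F, σ (σ x) = x * x
  m1 : ∀ t s : F, x1 t * x1 s = x1 (t + s)
  m2 : ∀ p u q v : F, x2 p u * x2 q v = x2 (p + q) (u + v + p * σ q)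
  r12 : ∀ t q v : F, x1 t * x2 q v = x2 q v * x1 t
  r13 : ∀ t s : F, x1 t * x3 s = x3 s * x1 t
  r14 : ∀ t q v : F, x1 t * x4 q v = x4 q v * x1 t * x2 0 (t * q)
  r15 : ∀ t s : F, x1 t * x5 s = x5 s * x1 t
  r16 : ∀ t q v : F, x1 t * x6 q v =
    x6 q v * x1 t * x2 0 (σ t * q) * x3 (t * σ q) * x4 0 (t * q * σ q + t * v)
  r17 : ∀ t s : F, x1 t * x7 s = x7 s * x1 t * x3 (σ t * s) * x5 (t * σ s)
  r24 : ∀ p u q v : F, x2 p u * x4 q v = x4 q v * x2 p u * x3 (p * q)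
  r26 : ∀ p u q v : F, x2 p u * x6 q v = x6 q v * x2 p u
  r28y : ∀ u q v : F, x2 0 u * x8 q v = x8 q v * x2 0 u * x3 (u * q) * x4 0 (σ u * q * σ q + σ u * v) *
    x5 (u * v) * x6 0 (u * q * v + u * q * q * σ q + u * σ v)
  e28 : ∀ p u q v : F, ∃ a b b' c d d' e : F, x2 p u * x8 q v =
    x8 q v * x2 p u * (x3 a * (x4 b b' * (x5 c * (x6 d d' * x7 e))))
  e18 : ∀ t q v : F, ∃ g g' a b b' c d d' e : F, x1 t * x8 q v =
    x8 q v * x1 t * (x2 g g' * (x3 a * (x4 b b' * (x5 c * (x6 d d' * x7 e)))))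
  inj : ∀ {t p u a b b' c d d' e t₁ p₁ u₁ a₁ b₁ b₁' c₁ d₁ d₁' e₁ : F},
    x1 t * (x2 p u * (x3 a * (x4 b b' * (x5 c * (x6 d d' * x7 e))))) =
      x1 t₁ * (x2 p₁ u₁ * (x3 a₁ * (x4 b₁ b₁' * (x5 c₁ * (x6 d₁ d₁' * x7 e₁))))) →
    t = t₁ ∧ p = p₁ ∧ u = u₁ ∧ a = a₁ ∧ b = b₁ ∧ b' = b₁' ∧ c = c₁ ∧ d = d₁ ∧ d' = d₁' ∧ e = e₁
  n1_sq : n1 * n1 = 1
  n8_sq : n8 * n8 = 1
  n1_2 : ∀ p u : F, n1⁻¹ * x2 p u * n1 = x8 p u
  n1_3 : ∀ t : F, n1⁻¹ * x3 t * n1 = x7 t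
  n1_4 : ∀ p u : F, n1⁻¹ * x4 p u * n1 = x6 p u
  n1_5 : ∀ t : F, n1⁻¹ * x5 t * n1 = x5 t
  n8_1 : ∀ t : F, n8⁻¹ * x1 t * n8 = x7 t
  n8_2 : ∀ p u : F, n8⁻¹ * x2 p u * n8 = x6 p u
  n8_3 : ∀ t : F, n8⁻¹ * x3 t * n8 = x5 t
  n8_4 : ∀ p u : F, n8⁻¹ * x4 p u * n8 = x4 p u
  /-- from `μ(x_8)`, `x_8 = x8 q 0` -/
  muM : ∀ t q : F, q ≠ 0 → ∃ s q' v' : F,
    (x8 q 0)⁻¹ * x1 t * x8 q 0 = n8⁻¹ * ((x8 q' v')⁻¹ * x1 s * x8 q' v') * n8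

end Cfsg.Agent.SplitTwo.OctLast
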