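import Cfsg.Agent.SplitTwo.OctCoordB
import Cfsg.Agent.SplitTwo.OctLastDef

/-!
# Moufang octagons: `Pre` and `Sym` give `OctMin` (S1144, `m = 8`)

Glue between `OctCoordB.lean` ((18) of #5290) and `OctLast.lean` ((19')).
-/

set_option autoImplicit false

namespace Cfsg.Agent.SplitTwo.OctMinOf

open Cfsg.Agent.SplitTwo.OctCoordBDefs Cfsg.Agent.SplitTwo.OctCoordB Cfsg.Agent.SplitTwo.OctLast

variable {F : Type*} [Field F] {G : Type*} [Group G]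
variable {σ : F →+* F} {x1 x3 x5 x7 : F → G} {x2 x4 x6 x8 : F → F → G}

theorem flip {n a b : G} (hn : n * n = 1) (h : n * a * n⁻¹ = b) : n⁻¹ * a * n = b := by
  have h1 : n⁻¹ = n := inv_eq_of_mul_eq_one_left hn
  rw [h1] at h ⊢
  exact h

/-- `Pre`, `Sym`, `σσ = Frobenius`, `n₁² = n₈² = 1`, the existence of the coordinates of `[x₂, x₈]` and
the property `(M)` give `OctMin`. -/
theorem octMin (h : Pre σ x1 x3 x5 x7 x2 x4 x6 x8) {n1 n8 z k l : G}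
    (s : Sym σ x1 x3 x5 x7 x2 x4 x6 x8 n1 n8 z k l) (sq : ∀ x : F, σ (σ x) = x * x)
    (hn1 : n1 * n1 = 1) (hn8 : n8 * n8 = 1)
    (e28 : ∀ p u q v : F, ∃ a b b' c d d' e : F, x2 p u * x8 q v =
      x8 q v * x2 p u * (x3 a * (x4 b b' * (x5 c * (x6 d d' * x7 e)))))
    (muM : ∀ t q : F, q ≠ 0 → ∃ s q' v' : F,
      (x8 q 0)⁻¹ * x1 t * x8 q 0 = n8⁻¹ * ((x8 q' v')⁻¹ * x1 s * x8 q' v') * n8) :
    OctMin σ x1 x3 x5 x7 x2 x4 x6 x8 n1 n8 := by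
  have o := out h s
  refine {
    two := h.two, sq := sq, m1 := h.m1, m2 := h.m2, r12 := h.r12, r13 := h.r13, r14 := h.r14,
    r15 := h.r15, r16 := o.r16, r17 := o.r17, r24 := h.r24, r26 := h.r26, r28y := o.r28y, e28 := e28,
    e18 := ?_, inj := ?_, n1_sq := hn1, n8_sq := hn8,
    n1_2 := fun p u => flip hn1 (s.n12 p u), n1_3 := fun t => flip hn1 (s.n13 t),
    n1_4 := fun p u => flip hn1 (s.n14 p u), n1_5 := fun t => flip hn1 (s.n15 t),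
    n8_1 := fun t => flip hn8 (s.n81 t), n8_2 := fun p u => flip hn8 (s.n82 p u),
    n8_3 := fun t => flip hn8 (s.n83 t), n8_4 := fun p u => flip hn8 (s.n84 p u), muM := muM }
  · intro t q v
    obtain ⟨e2, f2, e3, e4, f4, e5, e6, f6, e7, e⟩ := h.p18 t q v
    exact ⟨e2, f2, e3, e4, f4, e5, e6, f6, e7, by rw [e]; simp only [mul_assoc]⟩
  · intro t p u a b b' c d d' e t₁ p₁ u₁ a₁ b₁ b₁' c₁ d₁ d₁' e₁ he
    have key : ∀ t p u a b b' c d d' e : F,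
        n8 * (x1 t * (x2 p u * (x3 a * (x4 b b' * (x5 c * (x6 d d' * x7 e)))))) * n8⁻¹ =
          x7 t * (x6 p u * (x5 a * (x4 b b' * (x3 c * (x2 d d' * x1 e))))) := fun t p u a b b' c d d' e =>
      cjm (s.n81 t) (cjm (s.n82 p u) (cjm (s.n83 a) (cjm (s.n84 b b') (cjm (s.n85 c) (cjm (s.n86 d d')
        (s.n87 e))))))
    have h0 := key t p u a b b' c d d' e
    rw [he, key] at h0
    have h1 := u7 h h0.symm
    exact ⟨h1.1, h1.2.1.1, h1.2.1.2, h1.2.2.1, h1.2.2.2.1.1, h1.2.2.2.1.2, h1.2.2.2.2.1,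
      h1.2.2.2.2.2.1.1, h1.2.2.2.2.2.1.2, h1.2.2.2.2.2.2⟩

end Cfsg.Agent.SplitTwo.OctMinOf
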