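import Cfsg.Agent.SplitTwo.OctSix

/-!
# Moufang octagons (S1144): step (6), second half

`⁅Y 0, Y 6⁆` is not contained in `Y 4 Y 2`.
-/

set_option autoImplicit false

namespace Cfsg.Agent.SplitTwo.OctSixB

open Cfsg.Agent.SplitTwo Cfsg.Agent.SplitTwo.OctDefs Cfsg.Agent.SplitTwo.OctTools
open Cfsg.Agent.SplitTwo.OctFive Cfsg.Agent.SplitTwo.TorMaps Cfsg.Agent.SplitTwo.OctSix
open scoped commutatorElement

universe u

variable {G : Type u} [Group G] {X : ZMod (2 * 8) → Subgroup G}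

theorem uniq46 (S : Sys 8 X) {a c : G} (ha : a ∈ Yc X 4) (hc : c ∈ Yc X 6) (h : a * c = 1) : a = 1 ∧ c = 1 := by
  have h1 : a = c⁻¹ := eq_inv_of_mul_eq_one_left h
  have h2 : a = 1 := by
    refine sd S 2 1 (by norm_num) (i := 4) (j := 6) (ms (yx ha) 0 (by norm_num) (by decide)) ?_ (by decide)
    rw [seg_one, h1]; exact inv_mem (yx hc)
  refine ⟨h2, ?_⟩
  rw [h2, one_mul] at h; exact h

/-- `R 8`: elements `r ∈ X 8` with `⁅r, Y 2⁆ ≤ Y 4 Y 6`. -/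
def R8 (O : OctA X) : Subgroup G where
  carrier := {r | r ∈ X 8 ∧ ∀ y2 ∈ Yc X 2, ∃ y4 ∈ Yc X 4, ∃ y6 ∈ Yc X 6, ⁅r, y2⁆ = y4 * y6}
  one_mem' := ⟨one_mem _, fun y2 _ => ⟨1, one_mem _, 1, one_mem _, by simp⟩⟩
  mul_mem' := by
    rintro r s ⟨hr, hr'⟩ ⟨hs, hs'⟩
    refine ⟨mul_mem hr hs, fun y2 hy2 => ?_⟩
    obtain ⟨a4, ha4, a6, ha6, ea⟩ := hr' y2 hy2
    obtain ⟨b4, hb4, b6, hb6, eb⟩ := hs' y2 hy2
    refine ⟨b4 * a4, mul_mem hb4 ha4, b6 * a6, mul_mem hb6 ha6, ?_⟩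
    have h1 : ⁅r * s, y2⁆ = (r * ⁅s, y2⁆ * r⁻¹) * ⁅r, y2⁆ := by simp only [commutatorElement_def]; group
    have h2 : r * (b4 * b6) = (b4 * b6) * r :=
      conj_comm_of (ycomm hb4 hr 8 (by norm_num) (by decide)).symm (ycomm hb6 hr 6 (by norm_num) (by decide)).symm
    have h3 : b6 * a4 = a4 * b6 := ycomm hb6 (yx ha4) 2 (by norm_num) (by decide)
    rw [h1, ea, eb, conj_eq_self h2]
    calc b4 * b6 * (a4 * a6) = b4 * (b6 * a4) * a6 := by group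
      _ = b4 * a4 * (b6 * a6) := by rw [h3]; group
  inv_mem' := by
    rintro r ⟨hr, hr'⟩
    refine ⟨inv_mem hr, fun y2 hy2 => ?_⟩
    obtain ⟨a4, ha4, a6, ha6, ea⟩ := hr' y2 hy2
    refine ⟨a4⁻¹, inv_mem ha4, a6⁻¹, inv_mem ha6, ?_⟩
    have h1 : ⁅r⁻¹, y2⁆ = r⁻¹ * ⁅r, y2⁆⁻¹ * r := by simp only [commutatorElement_def]; group
    have h2 : r * (a4 * a6) = (a4 * a6) * r :=
      conj_comm_of (ycomm ha4 hr 8 (by norm_num) (by decide)).symm (ycomm ha6 hr 6 (by norm_num) (by decide)).symm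
    have h3 : a6 * a4 = a4 * a6 := ycomm ha6 (yx ha4) 2 (by norm_num) (by decide)
    rw [h1, ea, conj_eq_self' (comm_inv_right h2), ← h3]; group

theorem mem_R8 (O : OctA X) {r : G} : r ∈ R8 O ↔ r ∈ X 8 ∧ ∀ y2 ∈ Yc X 2, ∃ y4 ∈ Yc X 4, ∃ y6 ∈ Yc X 6,
    ⁅r, y2⁆ = y4 * y6 := Iff.rfl

/-- `P0 z`: `z ∈ X 0` with `⁅z, Y 6⁆ ≤ Y 4 Y 2`. -/
def P0 (X : ZMod (2 * 8) → Subgroup G) (z : G) : Prop :=
  z ∈ X 0 ∧ ∀ y6 ∈ Yc X 6, ∃ y4 ∈ Yc X 4, ∃ y2 ∈ Yc X 2, ⁅z, y6⁆ = y4 * y2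

theorem P0_conj (O : OctA X) {n r : G} (hn : Refl X 8 n) (hr : r ∈ R8 O) : P0 X (n * r * n⁻¹) := by
  refine ⟨rx hn hr.1 (by decide), fun y6 hy6 => ?_⟩
  obtain ⟨a4, ha4, a6, ha6, ea⟩ := hr.2 (n⁻¹ * y6 * n) (Yc_refl' hn hy6 (by decide))
  refine ⟨n * a4 * n⁻¹, Yc_refl hn ha4 (by decide), n * a6 * n⁻¹, Yc_refl hn ha6 (by decide), ?_⟩
  have e1 : ⁅n * r * n⁻¹, y6⁆ = n * ⁅r, n⁻¹ * y6 * n⁆ * n⁻¹ := by simp only [commutatorElement_def]; group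
  rw [e1, ea]; group

theorem R8_conj (O : OctA X) {n z : G} (hn : Refl X 8 n) (hz : P0 X z) : n * z * n⁻¹ ∈ R8 O := by
  refine ⟨rx hn hz.1 (by decide), fun y2 hy2 => ?_⟩
  obtain ⟨a4, ha4, a6, ha6, ea⟩ := hz.2 (n⁻¹ * y2 * n) (Yc_refl' hn hy2 (by decide))
  refine ⟨n * a4 * n⁻¹, Yc_refl hn ha4 (by decide), n * a6 * n⁻¹, Yc_refl hn ha6 (by decide), ?_⟩
  have e1 : ⁅n * z * n⁻¹, y2⁆ = n * ⁅z, n⁻¹ * y2 * n⁆ * n⁻¹ := by simp only [commutatorElement_def]; group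
  rw [e1, ea]; group

/-- Key computation. -/
theorem key (O : OctA X) {r y2 y4 y6 : G} (hr : r ∈ X 8) (hr1 : r ≠ 1) (h2 : y2 ∈ Yc X 2) (h4 : y4 ∈ Yc X 4)
    (h6 : y6 ∈ Yc X 6) (e : ⁅r, y2⁆ = y4 * y6) :
    muMap X 8 r * y2 * (muMap X 8 r)⁻¹ = y6 ∧ ⁅kap X 8 r, y6⁆ = y4⁻¹ * y2⁻¹ := by
  have S := O.sys
  have hk : kap X 8 r ∈ X 0 := xc (S.kap_mem hr hr1) (by decide)
  have hl : lam X 8 r ∈ X 0 := xc (S.lam_mem hr hr1) (by decide)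
  have hrf := S.refl hr hr1
  set k := kap X 8 r with hkd
  set l := lam X 8 r with hld
  have hmu : muMap X 8 r = k * r * l := rfl
  have hm : muMap X 8 r * y2 * (muMap X 8 r)⁻¹ ∈ Yc X 6 := Yc_refl hrf h2 (by decide)
  have hl2 : y2 * l = l * y2 := ycomm h2 hl 2 (by norm_num) (by decide)
  have hk2 : y2 * k = k * y2 := ycomm h2 hk 2 (by norm_num) (by decide)
  have hk4 : y4 * k = k * y4 := ycomm h4 hk 0 (by norm_num) (by decide)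
  have h62 : y6 * y2 = y2 * y6 := ycomm h6 (yx h2) 0 (by norm_num) (by decide)
  have e1 : muMap X 8 r * y2 * (muMap X 8 r)⁻¹ = y4 * ⁅k, y6⁆ * y2 * y6 := by
    rw [hmu]
    calc k * r * l * y2 * (k * r * l)⁻¹ = k * r * (l * y2 * l⁻¹) * r⁻¹ * k⁻¹ := by group
      _ = k * (⁅r, y2⁆ * y2) * k⁻¹ := by rw [conj_eq_self hl2.symm, commutatorElement_def]; group
      _ = k * (y4 * y6 * y2) * k⁻¹ := by rw [e]
      _ = (k * y4 * k⁻¹) * (k * y6 * k⁻¹) * (k * y2 * k⁻¹) := by group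
      _ = y4 * (⁅k, y6⁆ * y6) * y2 := by
          rw [conj_eq_self hk4.symm, conj_eq_self hk2.symm, commutatorElement_def]; group
      _ = y4 * ⁅k, y6⁆ * (y6 * y2) := by group
      _ = y4 * ⁅k, y6⁆ * y2 * y6 := by rw [h62]; group
  have hc : ⁅k, y6⁆ ∈ seg X 1 5 := cm S 5 (by norm_num) hk (yx h6) (by decide) (by decide)
  have h7 : y4 * ⁅k, y6⁆ * y2 = 1 := by
    refine sd S 5 1 (by norm_num) (i := 1) (j := 6) ?_ ?_ (by decide)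
    · exact mul_mem (mul_mem (ms (yx h4) 3 (by norm_num) (by decide)) hc) (ms (yx h2) 1 (by norm_num) (by decide))
    · rw [seg_one]
      have e2 : y4 * ⁅k, y6⁆ * y2 = (muMap X 8 r * y2 * (muMap X 8 r)⁻¹) * y6⁻¹ := by rw [e1]; group
      rw [e2]
      exact mul_mem (yx hm) (inv_mem (yx h6))
  constructor
  · rw [e1, h7, one_mul]
  · calc ⁅k, y6⁆ = y4⁻¹ * (y4 * ⁅k, y6⁆ * y2) * y2⁻¹ := by group
      _ = y4⁻¹ * y2⁻¹ := by rw [h7]; group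

open Classical in
/-- conjugation by `μ(r)`, additive version -/
noncomputable def bb (X : ZMod (2 * 8) → Subgroup G) (r a : G) : G :=
  if r = 1 then 1 else muMap X 8 r * a * (muMap X 8 r)⁻¹

theorem bb_ne {r : G} (hr : r ≠ 1) (a : G) : bb X r a = muMap X 8 r * a * (muMap X 8 r)⁻¹ := by
  unfold bb; rw [if_neg hr]

theorem comp_eq (O : OctA X) {r y2 y4 y6 : G} (hr : r ∈ X 8) (h2 : y2 ∈ Yc X 2) (h4 : y4 ∈ Yc X 4)
    (h6 : y6 ∈ Yc X 6) (e : ⁅r, y2⁆ = y4 * y6) : bb X r y2 = y6 := by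
  by_cases hr1 : r = 1
  · subst hr1
    rw [commutatorElement_one_left] at e
    rw [(uniq46 O.sys h4 h6 e.symm).2]
    unfold bb; rw [if_pos rfl]
  · rw [bb_ne hr1]
    exact (key O hr hr1 h2 h4 h6 e).1

theorem bb_mem (O : OctA X) {r a : G} (hr : r ∈ R8 O) (ha : a ∈ Yc X 2) : bb X r a ∈ Yc X 6 := by
  obtain ⟨y4, h4, y6, h6, e⟩ := hr.2 a ha
  rw [comp_eq O hr.1 ha h4 h6 e]; exact h6

theorem bb_add (O : OctA X) {r s a : G} (hr : r ∈ R8 O) (hs : s ∈ R8 O) (ha : a ∈ Yc X 2) :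
    bb X (r * s) a = bb X r a * bb X s a := by
  obtain ⟨a4, ha4, a6, ha6, ea⟩ := hr.2 a ha
  obtain ⟨b4, hb4, b6, hb6, eb⟩ := hs.2 a ha
  have h1 : ⁅r * s, a⁆ = (r * ⁅s, a⁆ * r⁻¹) * ⁅r, a⁆ := by simp only [commutatorElement_def]; group
  have h2 : r * (b4 * b6) = (b4 * b6) * r :=
    conj_comm_of (ycomm hb4 hr.1 8 (by norm_num) (by decide)).symm (ycomm hb6 hr.1 6 (by norm_num) (by decide)).symm
  have h3 : b6 * a4 = a4 * b6 := ycomm hb6 (yx ha4) 2 (by norm_num) (by decide)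
  have h4 : b6 * a6 = a6 * b6 := ycomm hb6 (yx ha6) 4 (by norm_num) (by decide)
  have h5 : ⁅r * s, a⁆ = (b4 * a4) * (a6 * b6) := by
    rw [h1, ea, eb, conj_eq_self h2, ← h4]
    calc b4 * b6 * (a4 * a6) = b4 * (b6 * a4) * a6 := by group
      _ = b4 * a4 * (b6 * a6) := by rw [h3]; group
  rw [comp_eq O (mul_mem hr.1 hs.1) ha (mul_mem hb4 ha4) (mul_mem ha6 hb6) h5,
    comp_eq O hr.1 ha ha4 ha6 ea, comp_eq O hs.1 ha hb4 hb6 eb]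

theorem bb_mul {r a a' : G} : bb X r (a * a') = bb X r a * bb X r a' := by
  unfold bb
  split_ifs with h
  · simp
  · group

theorem bb_inv_left (O : OctA X) {r a : G} (hr : r ∈ R8 O) (ha : a ∈ Yc X 2) : bb X r⁻¹ a = (bb X r a)⁻¹ := by
  have := bb_add O hr (inv_mem hr) ha
  rw [mul_inv_cancel] at this
  have h1 : bb X 1 a = 1 := by unfold bb; rw [if_pos rfl]
  rw [h1] at this
  exact (inv_eq_of_mul_eq_one_right this.symm).symm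

theorem bb_inv_right {r a : G} : bb X r a⁻¹ = (bb X r a)⁻¹ := by
  unfold bb
  split_ifs with h
  · simp
  · group

theorem P0_kap (O : OctA X) {r : G} (hr : r ∈ R8 O) (hr1 : r ≠ 1) : P0 X (kap X 8 r) := by
  have S := O.sys
  refine ⟨xc (S.kap_mem hr.1 hr1) (by decide), fun y6 hy6 => ?_⟩
  have h2 : (muMap X 8 r)⁻¹ * y6 * muMap X 8 r ∈ Yc X 2 := Yc_refl' (S.refl hr.1 hr1) hy6 (by decide)
  obtain ⟨y4, h4, y6', h6', e⟩ := hr.2 _ h2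
  obtain ⟨e1, e2⟩ := key O hr.1 hr1 h2 h4 h6' e
  have e3 : y6' = y6 := by rw [← e1]; group
  subst e3
  exact ⟨y4⁻¹, inv_mem h4, _, inv_mem h2, e2⟩

/-- Under the hypothesis `⁅Y 0, Y 6⁆ ≤ Y 4 Y 2`, the group `R 8` is `Y 8`. -/
theorem R8_le [Finite G] (O : OctA X)
    (hN : ∀ y0 ∈ Yc X 0, ∀ y6 ∈ Yc X 6, ∃ y4 ∈ Yc X 4, ∃ y2 ∈ Yc X 2, ⁅y0, y6⁆ = y4 * y2) :
    R8 O ≤ Yc X 8 := by
  have S := O.sys
  -- `Y 8 ≤ R 8`
  have hY8 : Yc X 8 ≤ R8 O := by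
    intro y hy
    obtain ⟨a, ha, ha1⟩ := S.exists_ne_one 8
    have hn := S.refl ha ha1
    set n := muMap X 8 a
    have hz : P0 X (n⁻¹ * y * n) := by
      refine ⟨rx' hn (yx hy) (by decide), fun y6 hy6 => hN _ (Yc_refl' hn hy (by decide)) y6 hy6⟩
    have := R8_conj O hn hz
    have e : n * (n⁻¹ * y * n) * n⁻¹ = y := by group
    rwa [e] at this
  refine OctIrr.irrG (Yc X 2) (Yc X 6) (R8 O) (Yc X 8) (bb X) ?_ ?_ ?_ ?_ ?_ ?_ ?_ ?_ hY8 ?_ ?_ ?_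
  · intro x hx y hy; exact ycomm hx (yx hy) 4 (by norm_num) (by decide)
  · intro x hx y hy; exact ycomm hx (yx hy) 4 (by norm_num) (by decide)
  · intro r hr a ha; exact bb_mem O hr ha
  · intro r hr a ha a' ha'; exact bb_mul
  · intro r hr s hs a ha; exact bb_add O hr hs ha
  · intro r hr hr1 a ha h
    rw [bb_ne hr1] at h
    simpa using h
  · intro r hr hr1 c hc
    refine ⟨(muMap X 8 r)⁻¹ * c * muMap X 8 r, Yc_refl' (S.refl hr.1 hr1) hc (by decide), ?_⟩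
    rw [bb_ne hr1]; group
  · intro r hr e he hr1 he1
    have hre := S.refl he.1 he1
    have hz := P0_kap O hr hr1
    refine ⟨muMap X 8 e * kap X 8 r * (muMap X 8 e)⁻¹, R8_conj O hre hz, ?_⟩
    intro a ha a' ha' haa
    obtain ⟨w, hw⟩ : ∃ w, w = (muMap X 8 e)⁻¹ * a * muMap X 8 e := ⟨_, rfl⟩
    have hw6 : w ∈ Yc X 6 := hw ▸ Yc_refl' hre ha (by decide)
    have haw : a = muMap X 8 e * w * (muMap X 8 e)⁻¹ := by rw [hw]; group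
    have hw2 : w = bb X r a'⁻¹ := by
      have h1 : bb X e⁻¹ a = w := by
        rw [bb_ne (inv_ne_one.mpr he1), S.muMap_inv he.1 he1, hw, inv_inv]
      rw [← h1, bb_inv_left O he ha, ← haa, bb_inv_right]
    -- `⁅κ(r), w⁆ = y4⁻¹ a'`
    obtain ⟨y4, h4, y6, h6, e1⟩ := hr.2 a'⁻¹ (inv_mem ha')
    obtain ⟨k1, k2⟩ := key O hr.1 hr1 (inv_mem ha') h4 h6 e1
    have hyw : y6 = w := by rw [hw2, bb_ne hr1, k1]
    subst hyw
    rw [inv_inv] at k2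
    have hfin : ⁅muMap X 8 e * kap X 8 r * (muMap X 8 e)⁻¹, a⁆ =
        (muMap X 8 e * y4⁻¹ * (muMap X 8 e)⁻¹) * (muMap X 8 e * a' * (muMap X 8 e)⁻¹) := by
      have e2 : ⁅muMap X 8 e * kap X 8 r * (muMap X 8 e)⁻¹, a⁆ =
          muMap X 8 e * ⁅kap X 8 r, y6⁆ * (muMap X 8 e)⁻¹ := by
        rw [haw]; simp only [commutatorElement_def]; group
      rw [e2, k2]; group
    rw [comp_eq O (R8_conj O hre hz).1 ha (Yc_refl hre (inv_mem h4) (by decide)) (Yc_refl hre ha' (by decide)) hfin,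
      bb_ne he1]
  · intro s hs e he r hr hs1 he1
    have hh : Tor X (muMap X 8 e * (muMap X 8 s)⁻¹) := tor_of_refl (S.refl he.1 he1) (S.refl hs.1 hs1)
    refine ⟨_, Yc_tor hh hr, ?_⟩
    intro a ha a' ha' a'' ha'' h1 h2
    set h := muMap X 8 e * (muMap X 8 s)⁻¹ with hd
    have hrR : r ∈ R8 O := hY8 hr
    -- `a = h a' h⁻¹`
    have e1 : a = h * a' * h⁻¹ := by
      have h3 : bb X s⁻¹ a' = bb X e⁻¹ a := by rw [bb_inv_left O hs ha', bb_inv_left O he ha, h1]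
      rw [bb_ne (inv_ne_one.mpr hs1), bb_ne (inv_ne_one.mpr he1), S.muMap_inv hs.1 hs1, S.muMap_inv he.1 he1,
        inv_inv, inv_inv] at h3
      rw [hd]
      calc a = muMap X 8 e * ((muMap X 8 e)⁻¹ * a * muMap X 8 e) * (muMap X 8 e)⁻¹ := by group
        _ = muMap X 8 e * ((muMap X 8 s)⁻¹ * a' * muMap X 8 s) * (muMap X 8 e)⁻¹ := by rw [h3]
        _ = _ := by group
    -- `bb (h r h⁻¹) a = h (bb r a') h⁻¹`
    obtain ⟨y4, h4, y6, h6, e2⟩ := hrR.2 a' ha'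
    have e3 : ⁅h * r * h⁻¹, a⁆ = (h * y4 * h⁻¹) * (h * y6 * h⁻¹) := by
      have : ⁅h * r * h⁻¹, a⁆ = h * ⁅r, a'⁆ * h⁻¹ := by rw [e1]; simp only [commutatorElement_def]; group
      rw [this, e2]; group
    rw [comp_eq O (yx (Yc_tor hh hr)) ha (Yc_tor hh h4) (Yc_tor hh h6) e3]
    rw [comp_eq O hrR.1 ha' h4 h6 e2] at h2
    rw [← h2, bb_ne hs1, bb_ne he1, hd]
    group
  · exact ne_even O 1 (by decide)
  · exact ne_even O 4 (by decide)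

/-- **Step (6)**: `⁅Y 0, Y 6⁆` is not contained in `Y 4 Y 2`. -/
theorem six [Finite G] (O : OctA X) :
    ¬ ∀ y0 ∈ Yc X 0, ∀ y6 ∈ Yc X 6, ∃ y4 ∈ Yc X 4, ∃ y2 ∈ Yc X 2, ⁅y0, y6⁆ = y4 * y2 := by
  intro hN
  have S := O.sys
  have hR := R8_le O hN
  obtain ⟨y8, hy8, hy81⟩ := ne_even O 4 (by decide : 2 * (4 : ZMod (2 * 8)) = 8)
  have hY8 : y8 ∈ R8 O := by
    obtain ⟨a, ha, ha1⟩ := S.exists_ne_one 8
    have hn := S.refl ha ha1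
    set n := muMap X 8 a
    have hz : P0 X (n⁻¹ * y8 * n) := by
      refine ⟨rx' hn (yx hy8) (by decide), fun y6 hy6 => hN _ (Yc_refl' hn hy8 (by decide)) y6 hy6⟩
    have := R8_conj O hn hz
    have e : n * (n⁻¹ * y8 * n) * n⁻¹ = y8 := by group
    rwa [e] at this
  -- `κ, λ ∈ Y 0`
  have hP : ∀ z, P0 X z → z ∈ Yc X 0 := by
    intro z hz
    have hn := S.refl (yx hy8) hy81
    have h1 := hR (R8_conj O hn hz)
    have h2 := Yc_refl' hn h1 (by decide : 2 * (8 : ZMod (2 * 8)) + ((8 : ℕ) : ZMod (2 * 8)) - 8 = 0)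
    have e : (muMap X 8 y8)⁻¹ * (muMap X 8 y8 * z * (muMap X 8 y8)⁻¹) * muMap X 8 y8 = z := by group
    rwa [e] at h2
  have hk : kap X 8 y8 ∈ Yc X 0 := hP _ (P0_kap O hY8 hy81)
  have hl : lam X 8 y8 ∈ Yc X 0 := by
    have h1 := hP _ (P0_kap O (inv_mem hY8) (inv_ne_one.mpr hy81))
    rw [S.kap_inv (yx hy8) hy81] at h1
    simpa using inv_mem h1
  have hrf := S.refl (yx hy8) hy81
  obtain ⟨x3, hx3, hx31⟩ := S.exists_ne_one 3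
  set k := kap X 8 y8 with hkd
  set l := lam X 8 y8 with hld
  have hmu : muMap X 8 y8 = k * y8 * l := rfl
  have hm : muMap X 8 y8 * x3 * (muMap X 8 y8)⁻¹ ∈ X 5 := rx hrf hx3 (by decide)
  have hlx : l * x3 = x3 * l := ycomm hl hx3 7 (by norm_num) (by decide)
  have hkx : k * x3 = x3 * k := ycomm hk hx3 7 (by norm_num) (by decide)
  have h6 : ⁅y8, x3⁆ ∈ Yc X 6 := (aL' O hy8 hx3 4 (by decide) (by decide) (by decide)).2
  obtain ⟨y4, h4, y2, h2, e2⟩ := hN k hk _ h6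
  have e1 : muMap X 8 y8 * x3 * (muMap X 8 y8)⁻¹ = y4 * y2 * ⁅y8, x3⁆ * x3 := by
    rw [hmu]
    calc k * y8 * l * x3 * (k * y8 * l)⁻¹ = k * (y8 * (l * x3 * l⁻¹) * y8⁻¹) * k⁻¹ := by group
      _ = k * (⁅y8, x3⁆ * x3) * k⁻¹ := by rw [conj_eq_self hlx, commutatorElement_def]; group
      _ = (⁅k, ⁅y8, x3⁆⁆ * ⁅y8, x3⁆) * (k * x3 * k⁻¹) := by
          rw [commutatorElement_def k]; group
      _ = _ := by rw [e2, conj_eq_self hkx]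
  have h4' := yx h4
  have h2' := yx h2
  have h6' := yx h6
  have c42 : y4 * y2 = y2 * y4 := ycomm h4 h2' 2 (by norm_num) (by decide)
  have c4x : y4 * x3 = x3 * y4 := ycomm h4 hx3 3 (by norm_num) (by decide)
  have c6x : ⁅y8, x3⁆ * x3 = x3 * ⁅y8, x3⁆ := ycomm h6 hx3 1 (by norm_num) (by decide)
  have e3 : y2 * x3 = (muMap X 8 y8 * x3 * (muMap X 8 y8)⁻¹) * ⁅y8, x3⁆⁻¹ * y4⁻¹ := by
    rw [e1]
    calc y2 * x3 = y2 * (y4 * x3) * y4⁻¹ := by rw [c4x]; group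
      _ = (y2 * y4) * (x3 * ⁅y8, x3⁆) * ⁅y8, x3⁆⁻¹ * y4⁻¹ := by group
      _ = (y4 * y2) * (⁅y8, x3⁆ * x3) * ⁅y8, x3⁆⁻¹ * y4⁻¹ := by rw [← c42, ← c6x]
      _ = _ := by group
  have h7 : y2 * x3 = 1 := by
    refine sd S 2 3 (by norm_num) (i := 2) (j := 4) ?_ ?_ (by decide)
    · exact mul_mem (ms h2' 0 (by norm_num) (by decide)) (ms hx3 1 (by norm_num) (by decide))
    · rw [e3]
      exact mul_mem (mul_mem (ms hm 1 (by norm_num) (by decide)) (inv_mem (ms h6' 2 (by norm_num) (by decide))))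
        (inv_mem (ms h4' 0 (by norm_num) (by decide)))
  apply hx31
  refine sd S 1 1 (by norm_num) (i := 2) (j := 3) ?_ ?_ (by decide)
  · rw [seg_one, eq_inv_of_mul_eq_one_right h7]
    exact inv_mem h2'
  · rw [seg_one]; exact hx3

/-- There are `y0 ∈ Y 0`, `y6 ∈ Y 6` with non-trivial `X 3`-component. -/
theorem exists_c3 [Finite G] (O : OctA X) : ∃ y0 ∈ Yc X 0, ∃ y6 ∈ Yc X 6, y0 ≠ 1 ∧ y6 ≠ 1 ∧ c3 X y0 y6 ≠ 1 := by
  by_contra hcon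
  push Not at hcon
  apply six O
  intro y0 h0 y6 h6
  by_cases h01 : y0 = 1
  · exact ⟨1, one_mem _, 1, one_mem _, by rw [h01]; simp⟩
  by_cases h61 : y6 = 1
  · exact ⟨1, one_mem _, 1, one_mem _, by rw [h61]; simp⟩
  have h1 := comm_eq (X := X) y0 y6
  rw [hcon y0 h0 y6 h6 h01 h61, mul_one] at h1
  refine ⟨(p4 X y0 y6)⁻¹, inv_mem (p4_mem O.sys h0 h6 h61), p2 X y0 y6, p2_mem O.sys h0 h6 h01, ?_⟩
  rw [← commutatorElement_inv, h1]; group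

end Cfsg.Agent.SplitTwo.OctSixB
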