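import Cfsg.Agent.SplitTwo.OctEight
import Cfsg.Agent.SplitTwo.OctSixB

/-!
# Moufang octagons (S1144): steps (8), (9): decomposition of `W`, the pairing `X 8 × Y 2 → X 3`
-/

set_option autoImplicit false

namespace Cfsg.Agent.SplitTwo.OctNine

open Cfsg.Agent.SplitTwo Cfsg.Agent.SplitTwo.OctDefs Cfsg.Agent.SplitTwo.OctTools
open Cfsg.Agent.SplitTwo.OctFive Cfsg.Agent.SplitTwo.TorMaps Cfsg.Agent.SplitTwo.OctSix
open Cfsg.Agent.SplitTwo.OctEight
open scoped commutatorElement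

universe u

variable {G : Type u} [Group G] {X : ZMod (2 * 8) → Subgroup G}

/-- Structure after step (7). -/
structure Oct7 (X : ZMod (2 * 8) → Subgroup G) : Prop where
  a : OctA X
  odd2 : ∀ i, ∀ a ∈ X (2 * i + 1), ∀ b ∈ X (2 * i + 3), a * b = b * a
  odd4 : ∀ i, ∀ a ∈ X (2 * i + 1), ∀ b ∈ X (2 * i + 5), a * b = b * a

theorem Oct7.shift (O : Oct7 X) (c : ZMod (2 * 8)) : Oct7 (fun j => X (j + 2 * c)) where
  a := shiftA O.a c
  odd2 := by
    intro i a ha b hb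
    refine O.odd2 (i + c) a ?_ b ?_
    · exact xc ha (by ring)
    · exact xc hb (by ring)
  odd4 := by
    intro i a ha b hb
    refine O.odd4 (i + c) a ?_ b ?_
    · exact xc ha (by ring)
    · exact xc hb (by ring)

theorem Oct7.mir (O : Oct7 X) : Oct7 (mir X) where
  a := mirA O.a
  odd2 := by
    intro i a ha b hb
    rw [mir_apply] at ha hb
    symm
    have h : (8 : ZMod (2 * 8)) = -2 * 4 := by decide
    refine O.odd2 (2 - i) b ?_ a ?_
    · exact xc hb (by ring)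
    · exact xc ha (by ring)
  odd4 := by
    intro i a ha b hb
    rw [mir_apply] at ha hb
    symm
    refine O.odd4 (1 - i) b ?_ a ?_
    · exact xc hb (by ring)
    · exact xc ha (by ring)

theorem Oct7.o2 (O : Oct7 X) {j k : ZMod (2 * 8)} {a b : G} (ha : a ∈ X j) (hb : b ∈ X k) (i : ZMod (2 * 8))
    (hj : j = 2 * i + 1) (hk : k = 2 * i + 3) : a * b = b * a :=
  O.odd2 i a (xc ha hj) b (xc hb hk)

theorem Oct7.o4 (O : Oct7 X) {j k : ZMod (2 * 8)} {a b : G} (ha : a ∈ X j) (hb : b ∈ X k) (i : ZMod (2 * 8))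
    (hj : j = 2 * i + 1) (hk : k = 2 * i + 5) : a * b = b * a :=
  O.odd4 i a (xc ha hj) b (xc hb hk)

/-- adjacent root groups commute -/
theorem adj (S : Sys 8 X) {j k : ZMod (2 * 8)} {a b : G} (ha : a ∈ X j) (hb : b ∈ X k) (h : j + 1 = k) :
    a * b = b * a := by
  subst h
  exact S.comm_one j ha hb

/-! ### Irreducibility at `3` -/

theorem Tor.unshift {c : ZMod (2 * 8)} {h : G} (hh : Tor (fun j => X (j + c)) h) : Tor X h := by
  intro j x
  have := hh (j - c) x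
  simp only [sub_add_cancel] at this
  exact this

theorem irr3 [Finite G] (O : OctA X) (T : Subgroup G) (hT : T ≤ X 3) (hne : ∃ t ∈ T, t ≠ 1)
    (hinv : ∀ h, Tor X h → ∀ t ∈ T, h * t * h⁻¹ ∈ T) : X 3 ≤ T := by
  have h1 := irr1 (shiftA O 1) T
  have e : (1 : ZMod (2 * 8)) + 2 * 1 = 3 := by decide
  simp only [e] at h1
  exact h1 hT hne (fun h hh t ht => hinv h (Tor.unshift hh) t ht)

/-- Torus elements normalise `W`. -/
theorem W_tor {h w : G} (hh : Tor X h) (hw : w ∈ W X) : h * w * h⁻¹ ∈ W X := by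
  have : W X ≤ (W X).comap (MulAut.conj h).toMonoidHom := by
    conv_lhs => unfold W
    rw [Subgroup.closure_le]
    rintro x (hx | hx | ⟨a, ha, y, hy, rfl⟩)
    · exact Y4_le_W (Yc_tor hh hx)
    · exact Y2_le_W (Yc_tor hh hx)
    · change h * (a * y * a⁻¹) * h⁻¹ ∈ W X
      have e : h * (a * y * a⁻¹) * h⁻¹ = (h * a * h⁻¹) * (h * y * h⁻¹) * (h * a * h⁻¹)⁻¹ := by group
      rw [e]
      exact conj_Y6_W (hh.mem ha) (Yc_tor hh hy)
  exact this hw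

theorem X3_le_W [Finite G] (O : OctA X) : X 3 ≤ W X := by
  have S := O.sys
  obtain ⟨y0, h0, y6, h6, h01, h61, hc⟩ := OctSixB.exists_c3 O
  have hc3 := c3_mem S h0 h6 h01 h61
  have h1 : c3 X y0 y6 ∈ W X := by
    unfold c3
    refine mul_mem (mul_mem (Y2_le_W (p2_mem S h0 h6 h01)) ?_) (inv_mem (Y4_le_W (p4_mem S h0 h6 h61)))
    have e : ⁅y6, y0⁆ = y6 * (y0 * y6 * y0⁻¹)⁻¹ := by rw [commutatorElement_def]; group
    rw [e]
    exact mul_mem (Y6_le_W h6) (inv_mem (conj_Y6_W (yx h0) h6))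
  have h2 := irr3 O (X 3 ⊓ W X) inf_le_left ⟨_, ⟨hc3, h1⟩, hc⟩
    (fun h hh t ht => ⟨hh.mem ht.1, W_tor hh ht.2⟩)
  exact h2.trans inf_le_right

theorem X5_le_W [Finite G] (O : OctA X) : X 5 ≤ W X := by
  have := X3_le_W (mirA O)
  rw [W_mir O, mir_apply] at this
  intro x hx
  exact this (xc hx (by decide))

/-! ### `⁅Y 2, X 8⁆` -/

/-- `⁅x, y⁆ = b d e f`, `b ∈ X 3`, `d ∈ X 4 ∩ W`, `e ∈ X 5`, `f ∈ Y 6` for `x ∈ X 8`, `y ∈ Y 2` -/
theorem comm82 [Finite G] (O : OctA X) {x y : G} (hx : x ∈ X 8) (hy : y ∈ Yc X 2) :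
    ∃ b ∈ X 3, ∃ d ∈ X 4 ⊓ W X, ∃ e ∈ X 5, ∃ f ∈ Yc X 6, ⁅x, y⁆ = b * d * e * f := by
  have S := O.sys
  by_cases hx1 : x = 1
  · subst hx1
    exact ⟨1, one_mem _, 1, one_mem _, 1, one_mem _, 1, one_mem _, by simp⟩
  obtain ⟨k, hk, z, hz, e⟩ := conj_y2 S hx hx1 hy
  -- `⁅x, y⁆ = k⁻¹ z k y⁻¹`
  have e1 : ⁅x, y⁆ * z⁻¹ = (k⁻¹ * z * k * z⁻¹) * y⁻¹ := by
    have hyz : y * z = z * y := ycomm hy (yx hz) 8 (by norm_num) (by decide)
    rw [commutatorElement_def, e]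
    calc k⁻¹ * z * k * y⁻¹ * z⁻¹ = k⁻¹ * z * k * (y⁻¹ * z⁻¹) := by group
      _ = k⁻¹ * z * k * (z⁻¹ * y⁻¹) := by rw [comm_inv_right (comm_inv_left hyz)]
      _ = _ := by group
  have h1 : ⁅x, y⁆ * z⁻¹ ∈ seg X 1 5 := by
    rw [e1]
    refine mul_mem ?_ (inv_mem (ms (yx hy) 1 (by norm_num) (by decide)))
    have := cm S 5 (by norm_num) (inv_mem hk) (yx hz) (l := 1) (by decide) (by decide)
    rw [commutatorElement_def, inv_inv] at this
    exact this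
  have h2 : ⁅x, y⁆ * z⁻¹ ∈ seg X 3 5 := by
    refine mul_mem ?_ (inv_mem (ms (yx hz) 3 (by norm_num) (by decide)))
    exact cm' S 5 (by norm_num) (yx hy) hx (by decide) (by decide)
  have h3 : ⁅x, y⁆ * z⁻¹ ∈ seg X 3 3 := si S 2 3 2 (by norm_num) (i := 1) (j := 3) h1 h2 (by decide)
  have hW : ⁅x, y⁆ * z⁻¹ ∈ W X := by
    refine mul_mem ?_ (inv_mem (Y6_le_W hz))
    rw [commutatorElement_def]
    exact mul_mem (W_conj8 O hx (Y2_le_W hy)) (inv_mem (Y2_le_W hy))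
  obtain ⟨r, hr, e', he', hre⟩ := (S.mem_seg_succ 3 (by norm_num : 2 < 8)).mp h3
  obtain ⟨b, hb, d, hd, rfl⟩ := (S.mem_seg_succ 3 (by norm_num : 1 < 8)).mp hr
  rw [seg_one] at hb
  have hd4 : d ∈ X 4 := xc hd (by decide)
  have he5 : e' ∈ X 5 := xc he' (by decide)
  refine ⟨b, hb, d, Subgroup.mem_inf.mpr ⟨hd4, ?_⟩, e', he5, z, hz, ?_⟩
  · have e2 : d = b⁻¹ * (⁅x, y⁆ * z⁻¹) * e'⁻¹ := by rw [← hre]; group
    rw [e2]
    exact mul_mem (mul_mem (inv_mem (X3_le_W O hb)) hW) (inv_mem (X5_le_W O he5))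
  · rw [hre]; group

/-- mirror: `⁅x, y⁆ = b d e f`, `b ∈ X 5`, `d ∈ X 4 ∩ W`, `e ∈ X 3`, `f ∈ Y 2` for `x ∈ X 0`, `y ∈ Y 6` -/
theorem comm06 [Finite G] (O : OctA X) {x y : G} (hx : x ∈ X 0) (hy : y ∈ Yc X 6) :
    ∃ b ∈ X 5, ∃ d ∈ X 4 ⊓ W X, ∃ e ∈ X 3, ∃ f ∈ Yc X 2, ⁅x, y⁆ = b * d * e * f := by
  obtain ⟨b, hb, d, hd, e, he, f, hf, h⟩ := comm82 (mirA O) (x := x) (y := y)
    (by rw [mir_apply]; exact xc hx (by decide)) (by rw [Yc_mir]; exact yc hy (by decide))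
  rw [W_mir O, mir_apply] at hd
  rw [mir_apply] at hb he
  rw [Yc_mir] at hf
  exact ⟨b, xc hb (by decide), d, ⟨xc hd.1 (by decide), hd.2⟩, e, xc he (by decide), f, yc hf (by decide), h⟩

/-! ### Decomposition of `W` -/

theorem mem_sup_comm {A B : Subgroup G} (h : ∀ a ∈ A, ∀ b ∈ B, a * b = b * a) {x : G} (hx : x ∈ A ⊔ B) :
    ∃ a ∈ A, ∃ b ∈ B, x = a * b := by
  have : A ⊔ B ≤ ({ carrier := {x | ∃ a ∈ A, ∃ b ∈ B, x = a * b}
                    one_mem' := ⟨1, one_mem _, 1, one_mem _, by simp⟩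
                    mul_mem' := by
                      rintro _ _ ⟨a, ha, b, hb, rfl⟩ ⟨a', ha', b', hb', rfl⟩
                      refine ⟨a * a', mul_mem ha ha', b * b', mul_mem hb hb', ?_⟩
                      calc a * b * (a' * b') = a * (b * a') * b' := by group
                        _ = a * (a' * b) * b' := by rw [h a' ha' b hb]
                        _ = _ := by group
                    inv_mem' := by
                      rintro _ ⟨a, ha, b, hb, rfl⟩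
                      refine ⟨a⁻¹, inv_mem ha, b⁻¹, inv_mem hb, ?_⟩
                      rw [h a ha b hb, mul_inv_rev] } : Subgroup G) := by
    rw [sup_le_iff]
    constructor
    · intro a ha; exact ⟨a, ha, 1, one_mem _, by simp⟩
    · intro b hb; exact ⟨1, one_mem _, b, hb, by simp⟩
  exact this hx

theorem W_le_sup [Finite G] (O : OctA X) : W X ≤ Yc X 2 ⊔ (X 3 ⊔ ((X 4 ⊓ W X) ⊔ (X 5 ⊔ Yc X 6))) := by
  have i2 : Yc X 2 ≤ Yc X 2 ⊔ (X 3 ⊔ ((X 4 ⊓ W X) ⊔ (X 5 ⊔ Yc X 6))) := le_sup_left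
  have i3 : X 3 ≤ Yc X 2 ⊔ (X 3 ⊔ ((X 4 ⊓ W X) ⊔ (X 5 ⊔ Yc X 6))) := le_sup_left.trans le_sup_right
  have i4 : X 4 ⊓ W X ≤ Yc X 2 ⊔ (X 3 ⊔ ((X 4 ⊓ W X) ⊔ (X 5 ⊔ Yc X 6))) :=
    (le_sup_left.trans le_sup_right).trans le_sup_right
  have i5 : X 5 ≤ Yc X 2 ⊔ (X 3 ⊔ ((X 4 ⊓ W X) ⊔ (X 5 ⊔ Yc X 6))) :=
    ((le_sup_left.trans le_sup_right).trans le_sup_right).trans le_sup_right
  have i6 : Yc X 6 ≤ Yc X 2 ⊔ (X 3 ⊔ ((X 4 ⊓ W X) ⊔ (X 5 ⊔ Yc X 6))) :=
    ((le_sup_right.trans le_sup_right).trans le_sup_right).trans le_sup_right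
  conv_lhs => unfold W
  rw [Subgroup.closure_le]
  rintro x (hx | hx | ⟨a, ha, y, hy, rfl⟩)
  · exact i4 ⟨yx hx, Y4_le_W hx⟩
  · exact i2 hx
  · obtain ⟨b, hb, d, hd, e, he, f, hf, h⟩ := comm06 O ha hy
    have e1 : a * y * a⁻¹ = b * d * e * f * y := by rw [← h, commutatorElement_def]; group
    rw [e1]
    exact mul_mem (mul_mem (mul_mem (mul_mem (i5 hb) (i4 hd)) (i3 he)) (i2 hf)) (i6 hy)

/-- `W = Y 2 · X 3 · D · X 5 · Y 6` -/
theorem W_dec [Finite G] (O : OctA X) {w : G} (hw : w ∈ W X) :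
    ∃ a ∈ Yc X 2, ∃ b ∈ X 3, ∃ d ∈ X 4 ⊓ W X, ∃ e ∈ X 5, ∃ f ∈ Yc X 6, w = a * (b * (d * (e * f))) := by
  have h2 : Yc X 2 ≤ W X := fun x hx => Y2_le_W hx
  have h3 := X3_le_W O
  have h4 : X 4 ⊓ W X ≤ W X := inf_le_right
  have h5 := X5_le_W O
  have h6 : Yc X 6 ≤ W X := fun x hx => Y6_le_W hx
  have h56 : X 5 ⊔ Yc X 6 ≤ W X := sup_le h5 h6
  have h456 : (X 4 ⊓ W X) ⊔ (X 5 ⊔ Yc X 6) ≤ W X := sup_le h4 h56
  have h3456 : X 3 ⊔ ((X 4 ⊓ W X) ⊔ (X 5 ⊔ Yc X 6)) ≤ W X := sup_le h3 h456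
  obtain ⟨a, ha, r, hr, rfl⟩ := mem_sup_comm (fun a ha b hb => W_comm O (h2 ha) (h3456 hb)) (W_le_sup O hw)
  obtain ⟨b, hb, s, hs, rfl⟩ := mem_sup_comm (fun a ha b hb => W_comm O (h3 ha) (h456 hb)) hr
  obtain ⟨d, hd, t, ht, rfl⟩ := mem_sup_comm (fun a ha b hb => W_comm O (h4 ha) (h56 hb)) hs
  obtain ⟨e, he, f, hf, rfl⟩ := mem_sup_comm (fun a ha b hb => W_comm O (h5 ha) (h6 hb)) ht
  exact ⟨a, ha, b, hb, d, hd, e, he, f, hf, rfl⟩

/-! ### `D = X 4 ∩ W` commutes with `X 1, X 2, X 6, X 7` -/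

theorem D_comm (O : OctA X) {d x : G} (hd : d ∈ X 4) (hd' : d ∈ W X) {j : ZMod (2 * 8)} (hx : x ∈ X j) :
    (j = 1 ∨ j = 2 ∨ j = 6 ∨ j = 7) → d * x = x * d := by
  have S := O.sys
  intro hj
  have h1 : ⁅d, x⁆ ∈ Yc X 4 := by
    refine comm_W O hd' ?_
    rcases hj with rfl | rfl | rfl | rfl
    · exact ms hx 0 (by norm_num) (by decide)
    · exact ms hx 1 (by norm_num) (by decide)
    · exact ms hx 5 (by norm_num) (by decide)
    · exact ms hx 6 (by norm_num) (by decide)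
  rw [← comm_eq_one]
  rcases hj with rfl | rfl | rfl | rfl
  · refine sd S 2 1 (by norm_num) (i := 2) (j := 4) ?_ (by rw [seg_one]; exact yx h1) (by decide)
    exact cm' S 2 (by norm_num) hx hd (by decide) (by decide)
  · refine sd S 1 1 (by norm_num) (i := 3) (j := 4) ?_ (by rw [seg_one]; exact yx h1) (by decide)
    exact cm' S 1 (by norm_num) hx hd (by decide) (by decide)
  · refine sd S 1 1 (by norm_num) (i := 4) (j := 5) (by rw [seg_one]; exact yx h1) ?_ (by decide)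
    exact cm S 1 (by norm_num) hd hx (by decide) (by decide)
  · refine sd S 1 2 (by norm_num) (i := 4) (j := 5) (by rw [seg_one]; exact yx h1) ?_ (by decide)
    exact cm S 2 (by norm_num) hd hx (by decide) (by decide)

/-- `b ∈ X 3` commuting with `X 6` is trivial. -/
theorem X3_ne (O : Oct7 X) {b : G} (hb : b ∈ X 3) (h : ∀ u ∈ X 6, b * u = u * b) : b = 1 := by
  have S := O.a.sys
  have h1 : b ∈ Yc X 4 := by
    have h7 := O.a.cen7 2 b (ms hb 2 (by norm_num) (by decide)) ?_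
    · exact yc h7 (by decide)
    · intro y hy
      refine commute_seg (k := 7) ?_ y (sc hy (by decide : _ = (1 : ZMod (2 * 8))))
      intro r hr x hx
      interval_cases r
      · exact (O.o2 (xc hx (by decide : _ = (1 : ZMod (2 * 8)))) hb 0 (by decide) (by decide)).symm
      · exact (adj S (xc hx (by decide : _ = (2 : ZMod (2 * 8)))) hb (by decide)).symm
      · exact O.a.odd_comm 1 b (xc hb (by decide)) x (xc hx (by decide))
      · exact adj S hb (xc hx (by decide : _ = (4 : ZMod (2 * 8)))) (by decide)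
      · exact O.o2 hb (xc hx (by decide : _ = (5 : ZMod (2 * 8)))) 1 (by decide) (by decide)
      · exact h x (xc hx (by decide))
      · exact O.o4 hb (xc hx (by decide : _ = (7 : ZMod (2 * 8)))) 1 (by decide) (by decide)
  refine sd S 1 1 (by norm_num) (i := 3) (j := 4) ?_ ?_ (by decide)
  · rw [seg_one]; exact hb
  · rw [seg_one]; exact yx h1

end Cfsg.Agent.SplitTwo.OctNine
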