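import Cfsg.Agent.SplitTwo.OctEight788

/-!
# Moufang octagons (S1144): steps (8d), (9), (10)
-/

set_option autoImplicit false

namespace Cfsg.Agent.SplitTwo.OctNine788

open Cfsg.Agent.SplitTwo Cfsg.Agent.SplitTwo.OctDefs Cfsg.Agent.SplitTwo.OctTools
open Cfsg.Agent.SplitTwo.OctFive Cfsg.Agent.SplitTwo.TorMaps Cfsg.Agent.SplitTwo.OctSix
open Cfsg.Agent.SplitTwo.OctSixB Cfsg.Agent.SplitTwo.OctSeven Cfsg.Agent.SplitTwo.OctEight788
open scoped commutatorElement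

universe u

variable {G : Type u} [Group G] {X : ZMod (2 * 8) → Subgroup G}

/-- `D = X 4 ∩ W` commutes with `X 1, X 2, X 3, X 5, X 6, X 7`. -/
theorem D_comm (O : OctA X) {d : G} (hd : d ∈ X 4 ⊓ W X) :
    (∀ x ∈ X 1, d * x = x * d) ∧ (∀ x ∈ X 2, d * x = x * d) ∧ (∀ x ∈ X 6, d * x = x * d) ∧
      (∀ x ∈ X 7, d * x = x * d) := by
  have S := O.sys
  obtain ⟨h4, hW⟩ := Subgroup.mem_inf.mp hd
  refine ⟨fun x hx => ?_, fun x hx => ?_, fun x hx => ?_, fun x hx => ?_⟩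
  · rw [← comm_eq_one]
    have h1 := yx (W_comm7 O d hW x (ms hx 0 (by norm_num) (by decide)))
    have h2 := cm' S 2 (by norm_num) hx h4 (l := 2) (by decide) (by decide)
    exact sd S 2 1 (by norm_num) (i := 2) (j := 4) h2 (ms h1 0 (by norm_num) (by decide)) (by decide)
  · rw [← comm_eq_one]
    have h1 := yx (W_comm7 O d hW x (ms hx 1 (by norm_num) (by decide)))
    have h2 := cm' S 1 (by norm_num) hx h4 (l := 3) (by decide) (by decide)
    exact sd S 1 1 (by norm_num) (i := 3) (j := 4) h2 (ms h1 0 (by norm_num) (by decide)) (by decide)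
  · rw [← comm_eq_one]
    have h1 := yx (W_comm7 O d hW x (ms hx 5 (by norm_num) (by decide)))
    have h2 := cm S 1 (by norm_num) h4 hx (l := 5) (by decide) (by decide)
    exact sd S 1 1 (by norm_num) (i := 4) (j := 5) (ms h1 0 (by norm_num) (by decide)) h2 (by decide)
  · rw [← comm_eq_one]
    have h1 := yx (W_comm7 O d hW x (ms hx 6 (by norm_num) (by decide)))
    have h2 := cm S 2 (by norm_num) h4 hx (l := 5) (by decide) (by decide)
    exact sd S 1 2 (by norm_num) (i := 4) (j := 5) (ms h1 0 (by norm_num) (by decide)) h2 (by decide)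

/-- an element of `X 3` commuting with `X 6` is trivial -/
theorem x3_nc [Finite G] (O : OctA X) {x : G} (hx : x ∈ X 3) (h6 : ∀ y ∈ X 6, x * y = y * x) : x = 1 := by
  have S := O.sys
  have h1 : x ∈ Yc X (2 * 2) := by
    apply O.cen7 2
    · exact ms hx 2 (by norm_num) (by decide)
    · apply commute_seg
      intro r hr y hy
      interval_cases r
      · exact (two O y (xc hy (by decide)) x hx).symm
      · exact (S.comm_one 2 (xc hy (by decide)) (xc hx (by decide))).symm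
      · exact O.odd_comm 1 x (xc hx (by decide)) y (xc hy (by decide))
      · exact S.comm_one 3 hx (xc hy (by decide))
      · exact twoK O 1 (by decide) (by decide) x hx y (xc hy (by decide : _ = (5 : ZMod (2 * 8))))
      · exact h6 y (xc hy (by decide))
      · exact sevenK O 1 (by decide) (by decide) x hx y (xc hy (by decide : _ = (7 : ZMod (2 * 8))))
  have h2 := yx h1
  exact sd S 1 1 (by norm_num) (i := 3) (j := 4) (ms hx 0 (by norm_num) (by decide))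
    (ms h2 0 (by norm_num) (by decide)) (by decide)

/-- `b` is the `X 3`-component of `⁅x, y⁆`, `x ∈ X 8`, `y ∈ Y 2` -/
def B3 (X : ZMod (2 * 8) → Subgroup G) (x y b : G) : Prop :=
  b ∈ X 3 ∧ ∃ c ∈ X 4 ⊓ W X, ∃ d ∈ X 5, ∃ e ∈ Yc X 6, ⁅x, y⁆ = b * c * d * e

theorem comm_W {x y : G} (hx : x ∈ X 8) (hy : y ∈ W X) : ⁅x, y⁆ ∈ W X := by
  rw [commutatorElement_def]
  exact mul_mem (W_X8 hx hy) (inv_mem hy)

theorem B3_exists [Finite G] (O : OctA X) {x y : G} (hx : x ∈ X 8) (hy : y ∈ Yc X 2) : ∃ b, B3 X x y b := by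
  have S := O.sys
  obtain ⟨a, ha, b, hb, c, hc, d, hd, e, he, h⟩ := dec O (comm_W hx (Y2_le hy))
  have hcm : ⁅x, y⁆ ∈ seg X 3 5 := cm' S 5 (by norm_num) (yx hy) hx (by decide) (by decide)
  have ha1 : a = 1 := by
    refine sd S 1 5 (by norm_num) (i := 2) (j := 3) (ms (yx ha) 0 (by norm_num) (by decide)) ?_ (by decide)
    have : a = ⁅x, y⁆ * (b * c * d * e)⁻¹ := by rw [h]; group
    rw [this]
    exact mul_mem hcm (inv_mem (mul_mem (mul_mem (mul_mem (ms hb 0 (by norm_num) (by decide))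
      (ms (Subgroup.mem_inf.mp hc).1 1 (by norm_num) (by decide))) (ms hd 2 (by norm_num) (by decide)))
      (ms (yx he) 3 (by norm_num) (by decide))))
  subst ha1
  rw [one_mul] at h
  exact ⟨b, hb, c, hc, d, hd, e, he, h⟩

theorem B3_unique (S : Sys 8 X) {x y b b' : G} (h : B3 X x y b) (h' : B3 X x y b') : b = b' := by
  obtain ⟨hb, c, hc, d, hd, e, he, h1⟩ := h
  obtain ⟨hb', c', hc', d', hd', e', he', h2⟩ := h'
  rw [h1] at h2
  have h3 : b'⁻¹ * b = (c' * d' * e') * (c * d * e)⁻¹ := by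
    have : b * (c * d * e) = b' * (c' * d' * e') := by
      calc b * (c * d * e) = b * c * d * e := by group
        _ = b' * c' * d' * e' := h2
        _ = _ := by group
    calc b'⁻¹ * b = b'⁻¹ * (b * (c * d * e)) * (c * d * e)⁻¹ := by group
      _ = b'⁻¹ * (b' * (c' * d' * e')) * (c * d * e)⁻¹ := by rw [this]
      _ = _ := by group
  have h4 : b'⁻¹ * b = 1 := by
    refine sd S 1 3 (by norm_num) (i := 3) (j := 4) (ms (mul_mem (inv_mem hb') hb) 0 (by norm_num) (by decide)) ?_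
      (by decide)
    rw [h3]
    exact mul_mem (mul_mem (mul_mem (ms (Subgroup.mem_inf.mp hc').1 0 (by norm_num) (by decide))
      (ms hd' 1 (by norm_num) (by decide))) (ms (yx he') 2 (by norm_num) (by decide)))
      (inv_mem (mul_mem (mul_mem (ms (Subgroup.mem_inf.mp hc).1 0 (by norm_num) (by decide))
      (ms hd 1 (by norm_num) (by decide))) (ms (yx he) 2 (by norm_num) (by decide))))
  exact (inv_mul_eq_one.mp h4).symm

/-- product of two decomposed elements of `W` -/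
theorem dec_mul [Finite G] (O : OctA X) {b c d e b' c' d' e' : G} (hb : b ∈ X 3) (hc : c ∈ X 4 ⊓ W X) (hd : d ∈ X 5)
    (he : e ∈ Yc X 6) (hb' : b' ∈ X 3) (hc' : c' ∈ X 4 ⊓ W X) (hd' : d' ∈ X 5) (he' : e' ∈ Yc X 6) :
    (b * c * d * e) * (b' * c' * d' * e') = (b * b') * (c * c') * (d * d') * (e * e') := by
  have hWc := W_comm O.sys
  have wb' := X3_le O hb'
  have wc' := (Subgroup.mem_inf.mp hc').2
  have wd' := X5_le O hd'
  have wb := X3_le O hb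
  have wc := (Subgroup.mem_inf.mp hc).2
  have wd := X5_le O hd
  have we := Y6_le he
  calc (b * c * d * e) * (b' * c' * d' * e') = b * ((c * d * e) * b') * (c' * d' * e') := by group
    _ = b * (b' * (c * d * e)) * (c' * d' * e') := by rw [hWc _ (mul_mem (mul_mem wc wd) we) _ wb']
    _ = (b * b') * c * ((d * e) * c') * (d' * e') := by group
    _ = (b * b') * c * (c' * (d * e)) * (d' * e') := by rw [hWc _ (mul_mem wd we) _ wc']
    _ = (b * b') * (c * c') * d * (e * d') * e' := by group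
    _ = (b * b') * (c * c') * d * (d' * e) * e' := by rw [hWc _ we _ wd']
    _ = _ := by group

theorem B3_mul_right [Finite G] (O : OctA X) {x y y' b b' : G} (hx : x ∈ X 8) (hy : y ∈ Yc X 2) (hy' : y' ∈ Yc X 2)
    (h : B3 X x y b) (h' : B3 X x y' b') : B3 X x (y * y') (b * b') := by
  obtain ⟨hb, c, hc, d, hd, e, he, h1⟩ := h
  obtain ⟨hb', c', hc', d', hd', e', he', h2⟩ := h'
  refine ⟨mul_mem hb hb', c * c', mul_mem hc hc', d * d', mul_mem hd hd', e * e', mul_mem he he', ?_⟩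
  have e1 : ⁅x, y * y'⁆ = ⁅x, y⁆ * (y * ⁅x, y'⁆ * y⁻¹) := by simp only [commutatorElement_def]; group
  rw [e1, conj_eq_self (W_comm O.sys _ (Y2_le hy) _ (comm_W hx (Y2_le hy'))), h1, h2,
    dec_mul O hb hc hd he hb' hc' hd' he']

/-- `x b c d e x⁻¹` for `x ∈ X 8`: the `X 3`-component is `b`. -/
theorem conj_dec [Finite G] (O : OctA X) {x w b c d e : G} (hx : x ∈ X 8) (hb : b ∈ X 3) (hc : c ∈ X 4 ⊓ W X)
    (hd : d ∈ X 5) (he : e ∈ Yc X 6) (hw : w = b * c * d * e) :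
    ∃ c' ∈ X 4 ⊓ W X, ∃ d' ∈ X 5, ∃ e' ∈ Yc X 6, x * w * x⁻¹ = b * c' * d' * e' := by
  have S := O.sys
  have wb := X3_le O hb
  have wc := (Subgroup.mem_inf.mp hc).2
  have wd := X5_le O hd
  have we := Y6_le he
  have hwW : w ∈ W X := by rw [hw]; exact mul_mem (mul_mem (mul_mem wb wc) wd) we
  have h1 : b⁻¹ * (x * w * x⁻¹) ∈ W X := mul_mem (inv_mem wb) (W_X8 hx hwW)
  have h2 : b⁻¹ * (x * w * x⁻¹) ∈ seg X 4 4 := by
    have e1 : b⁻¹ * (x * w * x⁻¹) = (b⁻¹ * x * b * x⁻¹) * (x * (c * d * e) * x⁻¹) := by rw [hw]; group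
    rw [e1]
    refine mul_mem ?_ ?_
    · have := cm S 4 (by norm_num) (inv_mem hb) hx (l := 4) (by decide) (by decide)
      rw [commutatorElement_def, inv_inv] at this
      exact this
    · refine cr S 4 (by norm_num) hx ?_ (by decide)
      exact mul_mem (mul_mem (ms (Subgroup.mem_inf.mp hc).1 0 (by norm_num) (by decide))
        (ms hd 1 (by norm_num) (by decide))) (ms (yx he) 2 (by norm_num) (by decide))
  obtain ⟨a', ha', b', hb', c', hc', d', hd', e', he', h3⟩ := dec O h1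
  have hc4' := (Subgroup.mem_inf.mp hc').1
  have ha1 : a' = 1 := by
    refine sd S 1 6 (by norm_num) (i := 2) (j := 3) (ms (yx ha') 0 (by norm_num) (by decide)) ?_ (by decide)
    have : a' = (b⁻¹ * (x * w * x⁻¹)) * (b' * c' * d' * e')⁻¹ := by rw [h3]; group
    rw [this]
    exact mul_mem (ss h2 1 (by norm_num) (by decide)) (inv_mem (mul_mem (mul_mem (mul_mem
      (ms hb' 0 (by norm_num) (by decide)) (ms hc4' 1 (by norm_num) (by decide)))
      (ms hd' 2 (by norm_num) (by decide))) (ms (yx he') 3 (by norm_num) (by decide))))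
  subst ha1
  rw [one_mul] at h3
  have hb1 : b' = 1 := by
    refine sd S 1 5 (by norm_num) (i := 3) (j := 4) (ms hb' 0 (by norm_num) (by decide)) ?_ (by decide)
    have : b' = (b⁻¹ * (x * w * x⁻¹)) * (c' * d' * e')⁻¹ := by rw [h3]; group
    rw [this]
    exact mul_mem (ss h2 0 (by norm_num) (by decide)) (inv_mem (mul_mem (mul_mem
      (ms hc4' 0 (by norm_num) (by decide)) (ms hd' 1 (by norm_num) (by decide)))
      (ms (yx he') 2 (by norm_num) (by decide))))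
  subst hb1
  rw [one_mul] at h3
  refine ⟨c', hc', d', hd', e', he', ?_⟩
  have : x * w * x⁻¹ = b * (b⁻¹ * (x * w * x⁻¹)) := by group
  rw [this, h3]; group

theorem B3_mul_left [Finite G] (O : OctA X) {x x' y b b' : G} (hx : x ∈ X 8)
    (h : B3 X x y b) (h' : B3 X x' y b') : B3 X (x * x') y (b' * b) := by
  obtain ⟨hb, c, hc, d, hd, e, he, h1⟩ := h
  obtain ⟨hb', c', hc', d', hd', e', he', h2⟩ := h'
  obtain ⟨c2, hc2, d2, hd2, e2, he2, h3⟩ := conj_dec O hx hb' hc' hd' he' h2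
  refine ⟨mul_mem hb' hb, c2 * c, mul_mem hc2 hc, d2 * d, mul_mem hd2 hd, e2 * e, mul_mem he2 he, ?_⟩
  have e1 : ⁅x * x', y⁆ = (x * ⁅x', y⁆ * x⁻¹) * ⁅x, y⁆ := by simp only [commutatorElement_def]; group
  rw [e1, h3, h1, dec_mul O hb' hc2 hd2 he2 hb hc hd he]

theorem B3_tor {h x y b : G} (hh : Tor X h) (hB : B3 X x y b) : B3 X (h * x * h⁻¹) (h * y * h⁻¹) (h * b * h⁻¹) := by
  obtain ⟨hb, c, hc, d, hd, e, he, h1⟩ := hB
  obtain ⟨hc1, hc2⟩ := Subgroup.mem_inf.mp hc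
  refine ⟨hh.mem hb, h * c * h⁻¹, Subgroup.mem_inf.mpr ⟨hh.mem hc1, W_tor hh hc2⟩, h * d * h⁻¹, hh.mem hd,
    h * e * h⁻¹, Yc_tor hh he, ?_⟩
  have e1 : ⁅h * x * h⁻¹, h * y * h⁻¹⁆ = h * ⁅x, y⁆ * h⁻¹ := by simp only [commutatorElement_def]; group
  rw [e1, h1]; group

/-- **(9)** `⁅x6, b⁆ = ⁅⁅x6, x8⁆, y2⁆`. -/
theorem nine [Finite G] (O : OctA X) {x6 x8 y2 b : G} (h6 : x6 ∈ X 6) (h8 : x8 ∈ X 8) (h2 : y2 ∈ Yc X 2)
    (hB : B3 X x8 y2 b) : ⁅x6, b⁆ = ⁅⁅x6, x8⁆, y2⁆ := by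
  have S := O.sys
  obtain ⟨hb, c, hc, d, hd, e, he, h1⟩ := hB
  have hv : ⁅x6, x8⁆ ∈ X 7 := by
    have := cm S 1 (by norm_num) h6 h8 (l := 7) (by decide) (by decide)
    rwa [seg_one] at this
  obtain ⟨v, hvd⟩ : ∃ v, v = ⁅x6, x8⁆ := ⟨_, rfl⟩
  rw [← hvd] at hv ⊢
  obtain ⟨w, hwd⟩ : ∃ w, w = ⁅x8, y2⁆ := ⟨_, rfl⟩
  have hwW : w ∈ W X := hwd ▸ comm_W h8 (Y2_le h2)
  rw [← hwd] at h1
  -- `v` commutes with `w`
  have hvb : v * b = b * v := (sevenK O 1 (by decide) (by decide) b hb v hv).symm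
  have hvc : v * c = c * v := ((D_comm O hc).2.2.2 v hv).symm
  have hvd' : v * d = d * v := (twoK O 2 (by decide) (by decide) d hd v hv).symm
  have hve : v * e = e * v := (ycomm he hv 5 (by norm_num) (by decide)).symm
  have hvw : v * w = w * v := by
    rw [h1]; exact conj_comm_of (conj_comm_of (conj_comm_of hvb hvc) hvd') hve
  -- `x6` commutes with `c, d, e`
  have h6c : x6 * c = c * x6 := ((D_comm O hc).2.2.1 x6 h6).symm
  have h6d : x6 * d = d * x6 := (S.comm_one 5 hd (xc h6 (by decide))).symm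
  have h6e : x6 * e = e * x6 := (ycomm he h6 4 (by norm_num) (by decide)).symm
  have h6y : x6 * y2 = y2 * x6 := (ycomm h2 h6 8 (by norm_num) (by decide)).symm
  have hxw : ⁅x6, w⁆ = ⁅x6, b⁆ := by
    have h7 : x6 * (c * d * e) = (c * d * e) * x6 := conj_comm_of (conj_comm_of h6c h6d) h6e
    have e1 : ⁅x6, w⁆ = ⁅x6, b⁆ * (b * ⁅x6, c * d * e⁆ * b⁻¹) := by
      rw [h1]; simp only [commutatorElement_def]; group
    rw [e1, comm_eq_one.mpr h7]; group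
  rw [← hxw]
  -- main computation
  have hvy : ⁅v, y2⁆ ∈ Yc X 4 := (aR' O h2 hv 1 (by decide) (by decide) (by decide)).1
  have hvyw : w * ⁅v, y2⁆ = ⁅v, y2⁆ * w := W_comm S _ hwW _ (Y4_le hvy)
  have e1 : x8 * y2 * x8⁻¹ = w * y2 := by rw [hwd, commutatorElement_def]; group
  have e2 : x6 * (w * y2) * x6⁻¹ = ⁅x6, w⁆ * w * y2 := by
    have : x6 * (w * y2) * x6⁻¹ = (x6 * w * x6⁻¹) * (x6 * y2 * x6⁻¹) := by group
    rw [this, conj_eq_self h6y, commutatorElement_def]; group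
  have e3 : x6 * (w * y2) * x6⁻¹ = w * ⁅v, y2⁆ * y2 := by
    calc x6 * (w * y2) * x6⁻¹ = x6 * (x8 * y2 * x8⁻¹) * x6⁻¹ := by rw [e1]
      _ = (v * x8) * (x6 * y2 * x6⁻¹) * (v * x8)⁻¹ := by rw [hvd, commutatorElement_def]; group
      _ = v * (x8 * y2 * x8⁻¹) * v⁻¹ := by rw [conj_eq_self h6y]; group
      _ = (v * w * v⁻¹) * (v * y2 * v⁻¹) := by rw [e1]; group
      _ = w * ⁅v, y2⁆ * y2 := by rw [conj_eq_self hvw, commutatorElement_def]; group
  rw [e2, hvyw] at e3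
  have e4 : ⁅x6, w⁆ = ⁅x6, w⁆ * w * y2 * y2⁻¹ * w⁻¹ := by group
  rw [e4, e3]; group

/-- (9a) -/
theorem nine_a [Finite G] (O : OctA X) {x8 y2 : G} (h8 : x8 ∈ X 8) (h2 : y2 ∈ Yc X 2) (h21 : y2 ≠ 1)
    (hB : B3 X x8 y2 1) : ∀ x6 ∈ X 6, x6 * x8 = x8 * x6 := by
  intro x6 h6
  have h := nine O h6 h8 h2 hB
  rw [commutatorElement_one_right] at h
  have hv : ⁅x6, x8⁆ ∈ X 7 := by
    have := cm O.sys 1 (by norm_num) h6 h8 (l := 7) (by decide) (by decide)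
    rwa [seg_one] at this
  rcases never_commute O.sys 5 (by norm_num) (by norm_num) (i := 2) (j := 7) (by decide) (yx h2) hv
    (comm_eq_one.mp h.symm).symm with h3 | h3
  · exact absurd h3 h21
  · exact comm_eq_one.mp h3

/-- (9b) -/
theorem nine_b [Finite G] (O : OctA X) {x8 y2 b : G} (h8 : x8 ∈ X 8) (h2 : y2 ∈ Yc X 2)
    (hc : ∀ x6 ∈ X 6, x6 * x8 = x8 * x6) (hB : B3 X x8 y2 b) : b = 1 := by
  apply x3_nc O hB.1
  intro x6 h6
  have h := nine O h6 h8 h2 hB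
  rw [comm_eq_one.mpr (hc x6 h6), commutatorElement_one_left] at h
  exact (comm_eq_one.mp h).symm

/-- (9c) the `X 3`-component of `⁅κ(y0), p2⁆` is `c3`. -/
theorem nine_c [Finite G] (O : OctA X) {y0 y6 : G} (h0 : y0 ∈ Yc X 0) (h6 : y6 ∈ Yc X 6) (h01 : y0 ≠ 1)
    (h61 : y6 ≠ 1) : B3 X (kap X 0 y0) (p2 X y0 y6) (c3 X y0 y6) := by
  have S := O.sys
  have hk : kap X 0 y0 ∈ X 8 := xc (S.kap_mem (yx h0) h01) (by decide)
  have hl : lam X 0 y0 ∈ X 8 := xc (S.lam_mem (yx h0) h01) (by decide)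
  have hq := p2_mem S h0 h6 h01
  have hp := p4_mem S h0 h6 h61
  have hr := c3_mem S h0 h6 h01 h61
  have hcomm := comm_eq (X := X) y0 y6
  have hq1 : p2 X y0 y6 = kap X 0 y0 * (⁅y6, y0⁆⁻¹ * y6) * (kap X 0 y0)⁻¹ := by
    have hl6 : y6 * lam X 0 y0 = lam X 0 y0 * y6 := ycomm h6 hl 6 (by norm_num) (by decide)
    unfold p2 muMap
    calc kap X 0 y0 * y0 * lam X 0 y0 * y6 * (kap X 0 y0 * y0 * lam X 0 y0)⁻¹
        = kap X 0 y0 * y0 * (lam X 0 y0 * y6 * (lam X 0 y0)⁻¹) * y0⁻¹ * (kap X 0 y0)⁻¹ := by group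
      _ = kap X 0 y0 * y0 * y6 * y0⁻¹ * (kap X 0 y0)⁻¹ := by rw [conj_eq_self hl6.symm]
      _ = _ := by rw [commutatorElement_def]; group
  set k := kap X 0 y0 with hkd
  obtain ⟨q, hqd⟩ : ∃ q, q = p2 X y0 y6 := ⟨_, rfl⟩
  obtain ⟨p, hpd⟩ : ∃ p, p = p4 X y0 y6 := ⟨_, rfl⟩
  obtain ⟨r, hrd⟩ : ∃ r, r = c3 X y0 y6 := ⟨_, rfl⟩
  rw [← hqd] at hq hq1 hcomm ⊢
  rw [← hpd] at hp hcomm
  rw [← hrd] at hr hcomm ⊢
  have hkp : k * p = p * k := (ycomm hp hk 8 (by norm_num) (by decide)).symm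
  have hk6 : k * y6 = y6 * k := (ycomm h6 hk 6 (by norm_num) (by decide)).symm
  rw [hcomm] at hq1
  -- q = p⁻¹ (k r⁻¹ k⁻¹) (k q k⁻¹) y6
  have hq2 : q = p⁻¹ * (⁅k, r⁻¹⁆ * r⁻¹) * (⁅k, q⁆ * q) * y6 := by
    calc q = k * ((q⁻¹ * r * p)⁻¹ * y6) * k⁻¹ := hq1
      _ = (k * p⁻¹ * k⁻¹) * (k * r⁻¹ * k⁻¹) * (k * q * k⁻¹) * (k * y6 * k⁻¹) := by group
      _ = p⁻¹ * (⁅k, r⁻¹⁆ * r⁻¹) * (⁅k, q⁆ * q) * y6 := by
          rw [conj_eq_self (comm_inv_right hkp), conj_eq_self hk6, commutatorElement_def, commutatorElement_def]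
          group
  obtain ⟨b, hB⟩ := B3_exists O hk hq
  have hB' := hB
  obtain ⟨hb, c, hc, d, hd, e, he, h1⟩ := hB
  suffices r = b by rw [this]; exact hB'
  have hWc := W_comm S
  have wq := Y2_le hq
  have wp := Y4_le hp
  have wr := X3_le O hr
  have wy := Y6_le h6
  have wkr : ⁅k, r⁻¹⁆ ∈ W X := comm_W hk (inv_mem wr)
  have wkq : ⁅k, q⁆ ∈ W X := comm_W hk wq
  -- `r = p⁻¹ ⁅k, r⁻¹⁆ ⁅k, q⁆ y6`
  have hr2 : r = p⁻¹ * ⁅k, r⁻¹⁆ * (b * c * d * e) * y6 := by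
    rw [← h1]
    have h3 : q = (p⁻¹ * ⁅k, r⁻¹⁆ * ⁅k, q⁆ * y6) * r⁻¹ * q := by
      calc q = p⁻¹ * (⁅k, r⁻¹⁆ * r⁻¹) * (⁅k, q⁆ * q) * y6 := hq2
        _ = (p⁻¹ * ⁅k, r⁻¹⁆) * (r⁻¹ * (⁅k, q⁆ * q * y6)) := by group
        _ = (p⁻¹ * ⁅k, r⁻¹⁆) * ((⁅k, q⁆ * q * y6) * r⁻¹) := by
            rw [hWc _ (inv_mem wr) _ (mul_mem (mul_mem wkq wq) wy)]
        _ = (p⁻¹ * ⁅k, r⁻¹⁆) * ⁅k, q⁆ * (q * (y6 * r⁻¹)) := by group
        _ = (p⁻¹ * ⁅k, r⁻¹⁆) * ⁅k, q⁆ * ((y6 * r⁻¹) * q) := by rw [hWc _ wq _ (mul_mem wy (inv_mem wr))]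
        _ = _ := by group
    have h4 : (p⁻¹ * ⁅k, r⁻¹⁆ * ⁅k, q⁆ * y6) * r⁻¹ = 1 := by
      have : (p⁻¹ * ⁅k, r⁻¹⁆ * ⁅k, q⁆ * y6) * r⁻¹ = ((p⁻¹ * ⁅k, r⁻¹⁆ * ⁅k, q⁆ * y6) * r⁻¹ * q) * q⁻¹ := by group
      rw [this, ← h3]; group
    exact (mul_inv_eq_one.mp h4).symm
  have h5 : b⁻¹ * r = p⁻¹ * ⁅k, r⁻¹⁆ * (c * d * e) * y6 := by
    have wb := X3_le O hb
    calc b⁻¹ * r = b⁻¹ * (p⁻¹ * ⁅k, r⁻¹⁆ * (b * c * d * e) * y6) := congrArg (b⁻¹ * ·) hr2
      _ = (b⁻¹ * (p⁻¹ * ⁅k, r⁻¹⁆)) * (b * c * d * e) * y6 := by group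
      _ = ((p⁻¹ * ⁅k, r⁻¹⁆) * b⁻¹) * (b * c * d * e) * y6 := by
          rw [hWc _ (inv_mem wb) _ (mul_mem (inv_mem wp) wkr)]
      _ = _ := by group
  have h6' : b⁻¹ * r = 1 := by
    refine sd S 1 4 (by norm_num) (i := 3) (j := 4) (ms (mul_mem (inv_mem hb) hr) 0 (by norm_num) (by decide)) ?_
      (by decide)
    rw [h5]
    refine mul_mem (mul_mem (mul_mem (inv_mem (ms (yx hp) 0 (by norm_num) (by decide))) ?_)
      (mul_mem (mul_mem (ms (Subgroup.mem_inf.mp hc).1 0 (by norm_num) (by decide))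
      (ms hd 1 (by norm_num) (by decide))) (ms (yx he) 2 (by norm_num) (by decide))))
      (ms (yx h6) 2 (by norm_num) (by decide))
    exact cm' S 4 (by norm_num) (inv_mem hr) hk (l := 4) (by decide) (by decide)
  exact (inv_mul_eq_one.mp h6').symm

/-- There is `y0 ∈ Y 0` with `κ(y0)` not commuting with `X 6`. -/
theorem exists_kap [Finite G] (O : OctA X) : ∃ y0 ∈ Yc X 0, y0 ≠ 1 ∧ ¬ ∀ x6 ∈ X 6, x6 * kap X 0 y0 = kap X 0 y0 * x6 := by
  obtain ⟨y0, h0, y6, h6, h01, h61, hc⟩ := exists_c3 O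
  refine ⟨y0, h0, h01, fun h => hc ?_⟩
  exact nine_b O (xc (O.sys.kap_mem (yx h0) h01) (by decide)) (p2_mem O.sys h0 h6 h01) h
    (nine_c O h0 h6 h01 h61)

end Cfsg.Agent.SplitTwo.OctNine788
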