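import Cfsg.Agent.SplitTwo.OctTen788

/-!
# Moufang octagons (S1144): the commutator relations `r14 r03 r16 r05 ry06 rx06`
-/

set_option autoImplicit false

namespace Cfsg.Agent.SplitTwo.OctRel788

open Cfsg.Agent.SplitTwo Cfsg.Agent.SplitTwo.OctDefs Cfsg.Agent.SplitTwo.OctTools
open Cfsg.Agent.SplitTwo.OctFive Cfsg.Agent.SplitTwo.TorMaps Cfsg.Agent.SplitTwo.OctSix
open Cfsg.Agent.SplitTwo.OctSixB Cfsg.Agent.SplitTwo.OctSeven Cfsg.Agent.SplitTwo.OctEight788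
open Cfsg.Agent.SplitTwo.OctNine788 Cfsg.Agent.SplitTwo.OctTen788
open scoped commutatorElement

universe u

variable {G : Type u} [Group G] {X : ZMod (2 * 8) → Subgroup G}

/-- `W = Y 2 X 3 Y 4 X 5 Y 6` -/
theorem decY [Finite G] (O : OctA X) {w : G} (hw : w ∈ W X) : ∃ a ∈ Yc X 2, ∃ b ∈ X 3, ∃ c ∈ Yc X 4,
    ∃ d ∈ X 5, ∃ e ∈ Yc X 6, w = a * b * c * d * e := by
  obtain ⟨a, ha, b, hb, c, hc, d, hd, e, he, h⟩ := dec O hw
  exact ⟨a, ha, b, hb, c, D_le O hc, d, hd, e, he, h⟩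

/-- `W ∩ X 3 ⋯ X 7` -/
theorem dec3 [Finite G] (O : OctA X) {w : G} (hw : w ∈ W X) (h3 : w ∈ seg X 3 5) : ∃ b ∈ X 3, ∃ c ∈ Yc X 4,
    ∃ d ∈ X 5, ∃ e ∈ Yc X 6, w = b * c * d * e := by
  obtain ⟨a, ha, b, hb, c, hc, d, hd, e, he, h⟩ := decY O hw
  have ha1 : a = 1 := by
    refine sd O.sys 1 5 (by norm_num) (i := 2) (j := 3) (ms (yx ha) 0 (by norm_num) (by decide)) ?_ (by decide)
    have : a = w * (b * c * d * e)⁻¹ := by rw [h]; group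
    rw [this]
    exact mul_mem h3 (inv_mem (mul_mem (mul_mem (mul_mem (ms hb 0 (by norm_num) (by decide))
      (ms (yx hc) 1 (by norm_num) (by decide))) (ms hd 2 (by norm_num) (by decide)))
      (ms (yx he) 3 (by norm_num) (by decide))))
  subst ha1
  rw [one_mul] at h
  exact ⟨b, hb, c, hc, d, hd, e, he, h⟩

/-- `W ∩ X 4 ⋯ X 7` -/
theorem dec4 [Finite G] (O : OctA X) {w : G} (hw : w ∈ W X) (h4 : w ∈ seg X 4 4) : ∃ c ∈ Yc X 4,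
    ∃ d ∈ X 5, ∃ e ∈ Yc X 6, w = c * d * e := by
  obtain ⟨b, hb, c, hc, d, hd, e, he, h⟩ := dec3 O hw (ss h4 1 (by norm_num) (by decide))
  have hb1 : b = 1 := by
    refine sd O.sys 1 4 (by norm_num) (i := 3) (j := 4) (ms hb 0 (by norm_num) (by decide)) ?_ (by decide)
    have : b = w * (c * d * e)⁻¹ := by rw [h]; group
    rw [this]
    exact mul_mem h4 (inv_mem (mul_mem (mul_mem (ms (yx hc) 0 (by norm_num) (by decide))
      (ms hd 1 (by norm_num) (by decide))) (ms (yx he) 2 (by norm_num) (by decide))))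
  subst hb1
  rw [one_mul] at h
  exact ⟨c, hc, d, hd, e, he, h⟩

/-- `W ∩ X 1 ⋯ X 5` -/
theorem dec5 [Finite G] (O : OctA X) {w : G} (hw : w ∈ W X) (h5 : w ∈ seg X 1 5) : ∃ a ∈ Yc X 2, ∃ b ∈ X 3,
    ∃ c ∈ Yc X 4, ∃ d ∈ X 5, w = a * b * c * d := by
  obtain ⟨a, ha, b, hb, c, hc, d, hd, e, he, h⟩ := decY O hw
  have he1 : e = 1 := by
    refine sd O.sys 5 1 (by norm_num) (i := 1) (j := 6) ?_ (ms (yx he) 0 (by norm_num) (by decide)) (by decide)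
    have : e = (a * b * c * d)⁻¹ * w := by rw [h]; group
    rw [this]
    exact mul_mem (inv_mem (mul_mem (mul_mem (mul_mem (ms (yx ha) 1 (by norm_num) (by decide))
      (ms hb 2 (by norm_num) (by decide))) (ms (yx hc) 3 (by norm_num) (by decide)))
      (ms hd 4 (by norm_num) (by decide)))) h5
  subst he1
  rw [mul_one] at h
  exact ⟨a, ha, b, hb, c, hc, d, hd, h⟩

/-- `W ∩ X 1 ⋯ X 4` -/
theorem dec6 [Finite G] (O : OctA X) {w : G} (hw : w ∈ W X) (h5 : w ∈ seg X 1 4) : ∃ a ∈ Yc X 2, ∃ b ∈ X 3,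
    ∃ c ∈ Yc X 4, w = a * b * c := by
  obtain ⟨a, ha, b, hb, c, hc, d, hd, h⟩ := dec5 O hw (ss h5 0 (by norm_num) (by decide))
  have hd1 : d = 1 := by
    refine sd O.sys 4 1 (by norm_num) (i := 1) (j := 5) ?_ (ms hd 0 (by norm_num) (by decide)) (by decide)
    have : d = (a * b * c)⁻¹ * w := by rw [h]; group
    rw [this]
    exact mul_mem (inv_mem (mul_mem (mul_mem (ms (yx ha) 1 (by norm_num) (by decide))
      (ms hb 2 (by norm_num) (by decide))) (ms (yx hc) 3 (by norm_num) (by decide)))) h5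
  subst hd1
  rw [mul_one] at h
  exact ⟨a, ha, b, hb, c, hc, h⟩

theorem r14_1 [Finite G] (O : OctA X) {a b : G} (ha : a ∈ X 3) (hb : b ∈ X 6) : ⁅a, b⁆ ∈ Yc X 4 :=
  W_comm7 O a (X3_le O ha) b (ms hb 5 (by norm_num) (by decide))

theorem r03_1 [Finite G] (O : OctA X) {a b : G} (ha : a ∈ X 2) (hb : b ∈ X 5) : ⁅a, b⁆ ∈ Yc X 4 := by
  rw [← commutatorElement_inv]
  exact inv_mem (W_comm7 O b (X5_le O hb) a (ms ha 1 (by norm_num) (by decide)))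

theorem r16_1 [Finite G] (O : OctA X) {a b : G} (ha : a ∈ X 3) (hb : b ∈ X 8) : ∃ c ∈ Yc X 4,
    ∃ d ∈ X 5, ∃ e ∈ Yc X 6, ⁅a, b⁆ = c * d * e := by
  refine dec4 O ?_ (cm O.sys 4 (by norm_num) ha hb (by decide) (by decide))
  rw [← commutatorElement_inv]
  exact inv_mem (comm_W hb (X3_le O ha))

theorem comm_W0 (S : Sys 8 X) {x y : G} (hx : x ∈ X 0) (hy : y ∈ W X) : ⁅x, y⁆ ∈ W X := by
  rw [commutatorElement_def]
  exact mul_mem (W_X0 S hx hy) (inv_mem hy)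

theorem r05_1 [Finite G] (O : OctA X) {a b : G} (ha : a ∈ X 0) (hb : b ∈ X 5) : ∃ c ∈ Yc X 2,
    ∃ d ∈ X 3, ∃ e ∈ Yc X 4, ⁅a, b⁆ = c * d * e :=
  dec6 O (comm_W0 O.sys ha (X5_le O hb)) (cm O.sys 4 (by norm_num) ha hb (by decide) (by decide))

theorem ry06_1 [Finite G] (O : OctA X) {a b : G} (ha : a ∈ Yc X 2) (hb : b ∈ X 8) : ∃ c ∈ X 3,
    ∃ d ∈ Yc X 4, ∃ e ∈ X 5, ∃ f ∈ Yc X 6, ⁅a, b⁆ = c * d * e * f := by
  refine dec3 O ?_ (cm O.sys 5 (by norm_num) (yx ha) hb (by decide) (by decide))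
  rw [← commutatorElement_inv]
  exact inv_mem (comm_W hb (Y2_le ha))

theorem rx06_1 [Finite G] (O : OctA X) {a b : G} (ha : a ∈ X 0) (hb : b ∈ Yc X 6) : ∃ c ∈ Yc X 2,
    ∃ d ∈ X 3, ∃ e ∈ Yc X 4, ∃ f ∈ X 5, ⁅a, b⁆ = c * d * e * f :=
  dec5 O (comm_W0 O.sys ha (Y6_le hb)) (cm O.sys 5 (by norm_num) ha (yx hb) (by decide) (by decide))

/-! ### Shifted versions -/

variable [Finite G]

theorem two_i (O : OctA X) (i : ZMod (2 * 8)) : ∀ a ∈ X (2 * i + 1), ∀ b ∈ X (2 * i + 3), a * b = b * a :=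
  twoK O i (by ring) (by ring)

theorem four_odd (O : OctA X) (i : ZMod (2 * 8)) : ∀ a ∈ X (2 * i + 1), ∀ b ∈ X (2 * i + 5), a * b = b * a :=
  sevenK O i (by ring) (by ring)

theorem r14 (O : OctA X) (i : ZMod (2 * 8)) : ∀ a ∈ X (2 * i + 1), ∀ b ∈ X (2 * i + 4), ⁅a, b⁆ ∈ Yc X (2 * i + 2) := by
  intro a ha b hb
  have h := r14_1 (shiftA O (i - 1)) (a := a) (b := b)
    (xc ha (by ring) : a ∈ X (3 + 2 * (i - 1))) (xc hb (by ring) : b ∈ X (6 + 2 * (i - 1)))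
  rw [Yc_shift] at h
  exact yc h (by ring)

theorem r03 (O : OctA X) (i : ZMod (2 * 8)) : ∀ a ∈ X (2 * i), ∀ b ∈ X (2 * i + 3), ⁅a, b⁆ ∈ Yc X (2 * i + 2) := by
  intro a ha b hb
  have h := r03_1 (shiftA O (i - 1)) (a := a) (b := b)
    (xc ha (by ring) : a ∈ X (2 + 2 * (i - 1))) (xc hb (by ring) : b ∈ X (5 + 2 * (i - 1)))
  rw [Yc_shift] at h
  exact yc h (by ring)

theorem r16 (O : OctA X) (i : ZMod (2 * 8)) : ∀ a ∈ X (2 * i + 1), ∀ b ∈ X (2 * i + 6), ∃ c ∈ Yc X (2 * i + 2),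
    ∃ d ∈ X (2 * i + 3), ∃ e ∈ Yc X (2 * i + 4), ⁅a, b⁆ = c * d * e := by
  intro a ha b hb
  obtain ⟨c, hc, d, hd, e, he, h⟩ := r16_1 (shiftA O (i - 1)) (a := a) (b := b)
    (xc ha (by ring) : a ∈ X (3 + 2 * (i - 1))) (xc hb (by ring) : b ∈ X (8 + 2 * (i - 1)))
  rw [Yc_shift] at hc he
  exact ⟨c, yc hc (by ring), d, xc (hd : d ∈ X (5 + 2 * (i - 1))) (by ring), e, yc he (by ring), h⟩

theorem r05 (O : OctA X) (i : ZMod (2 * 8)) : ∀ a ∈ X (2 * i), ∀ b ∈ X (2 * i + 5), ∃ c ∈ Yc X (2 * i + 2),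
    ∃ d ∈ X (2 * i + 3), ∃ e ∈ Yc X (2 * i + 4), ⁅a, b⁆ = c * d * e := by
  intro a ha b hb
  obtain ⟨c, hc, d, hd, e, he, h⟩ := r05_1 (shiftA O i) (a := a) (b := b)
    (xc ha (by ring) : a ∈ X (0 + 2 * i)) (xc hb (by ring) : b ∈ X (5 + 2 * i))
  rw [Yc_shift] at hc he
  exact ⟨c, yc hc (by ring), d, xc (hd : d ∈ X (3 + 2 * i)) (by ring), e, yc he (by ring), h⟩

theorem ry06 (O : OctA X) (i : ZMod (2 * 8)) : ∀ a ∈ Yc X (2 * i), ∀ b ∈ X (2 * i + 6), ∃ c ∈ X (2 * i + 1),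
    ∃ d ∈ Yc X (2 * i + 2), ∃ e ∈ X (2 * i + 3), ∃ f ∈ Yc X (2 * i + 4), ⁅a, b⁆ = c * d * e * f := by
  intro a ha b hb
  have ha' : a ∈ Yc (fun j => X (j + 2 * (i - 1))) 2 := by
    rw [Yc_shift]; exact yc ha (by ring)
  obtain ⟨c, hc, d, hd, e, he, f, hf, h⟩ := ry06_1 (shiftA O (i - 1)) (a := a) (b := b)
    ha' (xc hb (by ring) : b ∈ X (8 + 2 * (i - 1)))
  rw [Yc_shift] at hd hf
  exact ⟨c, xc (hc : c ∈ X (3 + 2 * (i - 1))) (by ring), d, yc hd (by ring), e,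
    xc (he : e ∈ X (5 + 2 * (i - 1))) (by ring), f, yc hf (by ring), h⟩

theorem rx06 (O : OctA X) (i : ZMod (2 * 8)) : ∀ a ∈ X (2 * i), ∀ b ∈ Yc X (2 * i + 6), ∃ c ∈ Yc X (2 * i + 2),
    ∃ d ∈ X (2 * i + 3), ∃ e ∈ Yc X (2 * i + 4), ∃ f ∈ X (2 * i + 5), ⁅a, b⁆ = c * d * e * f := by
  intro a ha b hb
  have hb' : b ∈ Yc (fun j => X (j + 2 * i)) 6 := by
    rw [Yc_shift]; exact yc hb (by ring)
  obtain ⟨c, hc, d, hd, e, he, f, hf, h⟩ := rx06_1 (shiftA O i) (a := a) (b := b)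
    (xc ha (by ring) : a ∈ X (0 + 2 * i)) hb'
  rw [Yc_shift] at hc he
  exact ⟨c, yc hc (by ring), d, xc (hd : d ∈ X (3 + 2 * i)) (by ring), e, yc he (by ring), f,
    xc (hf : f ∈ X (5 + 2 * i)) (by ring), h⟩

end Cfsg.Agent.SplitTwo.OctRel788
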