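import Cfsg.Agent.SplitTwo.OctSixB
import Cfsg.Agent.SplitTwo.OctDefsB

/-!
# Moufang octagons (S1144): steps (6a) and (7): `[X 1, X 3] = 1`, `[X 1, X 5] = 1`
-/

set_option autoImplicit false

namespace Cfsg.Agent.SplitTwo.OctSeven

open Cfsg.Agent.SplitTwo Cfsg.Agent.SplitTwo.OctDefs Cfsg.Agent.SplitTwo.OctTools
open Cfsg.Agent.SplitTwo.OctFive Cfsg.Agent.SplitTwo.TorMaps Cfsg.Agent.SplitTwo.OctSix
open Cfsg.Agent.SplitTwo.OctSixB
open scoped commutatorElement

universe u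

variable {G : Type u} [Group G] {X : ZMod (2 * 8) → Subgroup G}

/-- Reversal `j ↦ 2 c - j`. -/
theorem revA (O : OctA X) (c : ZMod (2 * 8)) : OctA (fun j => X (2 * c - j)) := by
  have h := shiftA (negA O) (-c)
  have e : (fun j => (fun j => X (-j)) (j + 2 * -c)) = fun j => X (2 * c - j) := by
    funext j
    change X (-(j + 2 * -c)) = X (2 * c - j)
    congr 1; ring
  rw [e] at h
  exact h

theorem Yc_rev (c k : ZMod (2 * 8)) : Yc (fun j => X (c - j)) k = Yc X (c - k) := by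
  have h1 : (fun j => X (c - j)) = fun j => (fun j => X (-j)) (j + -c) := by
    funext j
    change X (c - j) = X (-(j + -c))
    congr 1; ring
  rw [h1, Yc_shift (X := fun j => X (-j)) (-c) k, Yc_neg]
  congr 1; ring

theorem Tor_shift {c : ZMod (2 * 8)} {h : G} (hh : Tor (fun j => X (j + c)) h) : Tor X h := by
  intro j x
  have := hh (j - c) x
  change h * x * h⁻¹ ∈ X (j - c + c) ↔ x ∈ X (j - c + c) at this
  rwa [sub_add_cancel] at this

theorem irrOdd [Finite G] (O : OctA X) (c k : ZMod (2 * 8)) (hk : 1 + 2 * c = k) (T : Subgroup G) (hT : T ≤ X k)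
    (hne : ∃ t ∈ T, t ≠ 1) (hinv : ∀ h, Tor X h → ∀ t ∈ T, h * t * h⁻¹ ∈ T) : X k ≤ T := by
  subst hk
  exact irr1 (shiftA O c) T hT hne (fun h hh => hinv h (Tor_shift hh))

/-- `[X 1, X 3] = 1` -/
theorem two [Finite G] (O : OctA X) : ∀ a ∈ X 1, ∀ b ∈ X 3, a * b = b * a := by
  have S := O.sys
  let T : Subgroup G := X 3 ⊓ Subgroup.centralizer (X 1 : Set G)
  have hT : X 3 ≤ T := by
    refine irrOdd O 1 3 (by decide) T inf_le_left ?_ ?_
    · obtain ⟨y0, h0, y6, h6, h01, h61, hc⟩ := exists_c3 O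
      refine ⟨c3 X y0 y6, Subgroup.mem_inf.mpr ⟨c3_mem S h0 h6 h01 h61, ?_⟩, hc⟩
      rw [Subgroup.mem_centralizer_iff]
      intro x hx
      exact (c3_commutes O h0 h6 h01 h61 0 (by norm_num) x (xc hx (by decide))).symm
    · intro h hh t ht
      obtain ⟨ht3, htc⟩ := Subgroup.mem_inf.mp ht
      rw [Subgroup.mem_centralizer_iff] at htc
      refine Subgroup.mem_inf.mpr ⟨hh.mem ht3, ?_⟩
      rw [Subgroup.mem_centralizer_iff]
      intro x hx
      have h1 := htc _ (hh.mem' hx)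
      calc x * (h * t * h⁻¹) = h * ((h⁻¹ * x * h) * t) * h⁻¹ := by group
        _ = h * (t * (h⁻¹ * x * h)) * h⁻¹ := by rw [h1]
        _ = h * t * h⁻¹ * x := by group
  intro a ha b hb
  have h1 := (Subgroup.mem_inf.mp (hT hb)).2
  rw [Subgroup.mem_centralizer_iff] at h1
  exact h1 a ha

/-- `[X k, X (k+2)] = 1`, `k` odd -/
theorem twoK [Finite G] (O : OctA X) {k l : ZMod (2 * 8)} (c : ZMod (2 * 8)) (hk : 1 + 2 * c = k) (hl : 3 + 2 * c = l) :
    ∀ a ∈ X k, ∀ b ∈ X l, a * b = b * a := by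
  subst hk hl
  exact two (shiftA O c)

/-- half of `[X 1, X 5] = 1` -/
theorem seven_half [Finite G] (O : OctA X) : ∀ a ∈ X 1, ∀ b ∈ X 5, ⁅a, b⁆ ∈ X 4 := by
  intro x1 h1 x5 h5
  have S := O.sys
  by_cases h11 : x1 = 1
  · rw [h11, commutatorElement_one_left]; exact one_mem _
  obtain ⟨y8, hy8, hy81⟩ := ne_even O 4 (by decide : 2 * (4 : ZMod (2 * 8)) = 8)
  -- `x1⁻¹ y8 x1 = c d y8`
  have hm : ⁅x1⁻¹, y8⁆ ∈ seg X 2 6 := cm S 6 (by norm_num) (inv_mem h1) (yx hy8) (by decide) (by decide)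
  rw [commutatorElement_def, inv_inv] at hm
  obtain ⟨c, hc, d, hd, hcd⟩ := (S.mem_seg_succ_left 2 (k := 5) (by norm_num)).mp hm
  have hd3 : d ∈ seg X 3 5 := sc hd (by decide)
  have htw := S.tw_left (i := 1) (a := x1) (x := y8) (c := c) (d := d) h1 h11 (xc (yx hy8) (by decide))
    (xc hc (by decide)) (sc hd (by decide)) hcd.symm
  have hcY : c ∈ Yc X 2 := by
    rw [← htw]
    exact Yc_refl' (S.refl h1 h11) hy8 (by decide)
  have hb8 : y8 * x5 = x5 * y8 := ycomm hy8 h5 1 (by norm_num) (by decide)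
  have hbc : c * x5 = x5 * c := ycomm hcY h5 7 (by norm_num) (by decide)
  have hbd : x5 * d = d * x5 := by
    refine commute_seg (X := X) (i := 3) (k := 5) ?_ d hd3
    intro r hr y hy
    interval_cases r
    · exact (twoK O 1 (by decide) (by decide) y (xc hy (by decide : _ = (3 : ZMod (2 * 8)))) x5 h5).symm
    · exact (S.comm_one 4 (xc hy (by decide)) (xc h5 (by decide))).symm
    · exact O.odd_comm 2 x5 (xc h5 (by decide)) y (xc hy (by decide))
    · exact S.comm_one 5 h5 (xc hy (by decide))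
    · exact twoK O 2 (by decide) (by decide) x5 h5 y (xc hy (by decide : _ = (7 : ZMod (2 * 8))))
  have h2 : (x1⁻¹ * y8 * x1) * x5 = x5 * (x1⁻¹ * y8 * x1) := by
    have e : x1⁻¹ * y8 * x1 = c * d * y8 := by rw [hcd]; group
    rw [e]
    symm
    exact conj_comm_of (conj_comm_of hbc.symm hbd) hb8.symm
  have h3 := hw hb8 h2
  have he : ⁅x1, x5⁆ ∈ seg X 2 3 := cm S 3 (by norm_num) h1 h5 (by decide) (by decide)
  have h4 := S.mem_of_commute' 1 (l := 5) (by norm_num) (by norm_num) (h := y8) (z := ⁅x1, x5⁆)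
    (xc (yx hy8) (by decide)) hy81 h3 (ss he 1 (by norm_num) (by decide))
  have h5' : ⁅x1, x5⁆ ∈ seg X 4 1 := si S 2 1 4 (by norm_num) (i := 2) (j := 4) he (sc h4 (by decide)) (by decide)
  rwa [seg_one] at h5'

/-- `[X 1, X 5] = 1` -/
theorem seven [Finite G] (O : OctA X) : ∀ a ∈ X 1, ∀ b ∈ X 5, a * b = b * a := by
  intro x1 h1 x5 h5
  have S := O.sys
  have h4 := seven_half O x1 h1 x5 h5
  have h2 := seven_half (revA O 3) x5 (xc h5 (by decide) : x5 ∈ X (2 * 3 - 1)) x1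
    (xc h1 (by decide) : x1 ∈ X (2 * 3 - 5))
  have h2' : ⁅x1, x5⁆ ∈ X 2 := by
    rw [← commutatorElement_inv]
    exact inv_mem (xc h2 (by decide))
  rw [← comm_eq_one]
  refine sd S 2 1 (by norm_num) (i := 2) (j := 4) (ms h2' 0 (by norm_num) (by decide)) ?_ (by decide)
  rw [seg_one]; exact h4

/-- `[X k, X (k+4)] = 1`, `k` odd -/
theorem sevenK [Finite G] (O : OctA X) {k l : ZMod (2 * 8)} (c : ZMod (2 * 8)) (hk : 1 + 2 * c = k)
    (hl : 5 + 2 * c = l) : ∀ a ∈ X k, ∀ b ∈ X l, a * b = b * a := by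
  subst hk hl
  exact seven (shiftA O c)

end Cfsg.Agent.SplitTwo.OctSeven
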