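import Mathlib

/-!
# Functional equations of the finite Moufang octagons (S1144, `m = 8`)

`solve`: the functions `eps`, `g`, `nu`, `vs` describing the action of `X 8` on `Y 2 X 3 Y 4 X 5 Y 6` are given by one
automorphism `σ` with `σ² = Frobenius`.
-/

set_option autoImplicit false

namespace Cfsg.Agent.SplitTwo.OctSolve

variable {F : Type*} [Field F]

/-- the functional equations -/
structure Eqs (eps g nu vs : F → F) : Prop where
  two : (2 : F) = 0
  eps_add : ∀ v v', eps (v + v') = eps v + eps v'
  eps_one : eps 1 ≠ 0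
  vs_add : ∀ w w', vs (w + w') = vs w + vs w'
  vs_mul : ∀ t w, vs (t * w) = vs t * vs w
  vs_one : vs 1 = 1
  g_add : ∀ v v', g (v + v') = g v + g v' + eps v * v' + v * eps v'
  nu_add : ∀ v v', nu (v + v') = nu v + nu v' + v * g v' + vs (v * eps v') + v ^ 2 * eps v' + v * v' * eps v'
  nu_one : nu 1 ≠ 0
  tor : ∀ t, t ≠ 0 → ∃ b, b ≠ 0 ∧ (∀ v, b * eps (t * v) = eps v) ∧ (∀ v, b * g (t * v) = t * g v) ∧
    ∀ v, b * nu (t * v) = t ^ 2 * nu v

theorem add_self_two (h2 : (2 : F) = 0) (x : F) : x + x = 0 := by
  rw [← two_mul, h2, zero_mul]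

/-- independence of four automorphisms with coefficients one -/
theorem four_homs (s p r t : F →* F) (h : ∀ v, s v + p v + r v + t v = 0) : p = s ∨ r = s ∨ t = s := by
  classical
  by_contra hcon
  push Not at hcon
  obtain ⟨h1, h2, h3⟩ := hcon
  have hli := linearIndependent_iff.1 (linearIndependent_monoidHom F F)
    (Finsupp.single s 1 + Finsupp.single p 1 + Finsupp.single r 1 + Finsupp.single t 1) (by
      rw [map_add, map_add, map_add, Finsupp.linearCombination_single, Finsupp.linearCombination_single,
        Finsupp.linearCombination_single, Finsupp.linearCombination_single]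
      funext v
      simpa using h v)
  have := DFunLike.congr_fun hli s
  simp [h1, h2, h3] at this

theorem eq_zero_or_one_of_sq {x : F} (h : x ^ 2 = x) : x = 0 ∨ x = 1 := by
  have : x * (x - 1) = 0 := by linear_combination h
  rcases mul_eq_zero.1 this with h1 | h1
  · exact Or.inl h1
  · exact Or.inr (sub_eq_zero.1 h1)

variable [Finite F] {eps g nu vs : F → F}

/-- **Solution of the functional equations.** -/
theorem solve (h : Eqs eps g nu vs) : ∃ σ : F ≃+* F, (∀ x, σ (σ x) = x ^ 2) ∧ (∀ v, eps v = σ v) ∧ (∀ v, vs v = σ v) ∧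
    (∀ v, g v = v * σ v) ∧ ∀ v, nu v = v ^ 2 * σ v := by
  have ch := add_self_two h.two
  have neg_eq : ∀ x : F, -x = x := fun x => by
    rw [neg_eq_iff_add_eq_zero]; exact ch x
  set e0 := eps 1 with he0
  have he0' : e0 ≠ 0 := h.eps_one
  -- `eps = e0 τ`
  have hbt : ∀ t, t ≠ 0 → ∃ b, b ≠ 0 ∧ b * eps t = e0 ∧ (∀ v, b * eps (t * v) = eps v) ∧
      (∀ v, b * g (t * v) = t * g v) ∧ ∀ v, b * nu (t * v) = t ^ 2 * nu v := by
    intro t ht
    obtain ⟨b, hb, h1, h2, h3⟩ := h.tor t ht
    refine ⟨b, hb, ?_, h1, h2, h3⟩
    have := h1 1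
    rwa [mul_one] at this
  have eps_zero : eps 0 = 0 := by
    have := h.eps_add 0 0
    rw [add_zero] at this
    exact left_eq_add.1 this
  have eps_mul : ∀ t v, eps t * eps v = e0 * eps (t * v) := by
    intro t v
    by_cases ht : t = 0
    · rw [ht, zero_mul, eps_zero]; ring
    obtain ⟨b, hb, h1, h2, -, -⟩ := hbt t ht
    apply mul_left_cancel₀ hb
    rw [← mul_assoc, h1, ← h2 v]
    ring
  let τh : F →+* F :=
    { toFun := fun v => eps v / e0
      map_one' := div_self he0'
      map_zero' := by rw [eps_zero, zero_div]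
      map_add' := fun v w => by rw [h.eps_add, add_div]
      map_mul' := fun v w => by
        rw [div_mul_div_comm, eps_mul]
        field_simp }
  have τe : ∀ v, eps v = e0 * τh v := fun v => by
    change eps v = e0 * (eps v / e0)
    field_simp
  let σh : F →+* F :=
    { toFun := vs
      map_one' := h.vs_one
      map_zero' := by
        have := h.vs_add 0 0
        rw [add_zero] at this
        exact left_eq_add.1 this
      map_add' := h.vs_add
      map_mul' := h.vs_mul }
  have σv : ∀ v, vs v = σh v := fun v => rfl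
  clear_value σh τh
  have σbij : Function.Bijective σh := Finite.injective_iff_bijective.1 σh.injective
  -- `g`
  have nu_zero : nu 0 = 0 := by
    have := h.nu_add 0 0
    rw [add_zero, zero_mul, zero_mul, σv, map_zero] at this
    linear_combination -this
  have vg : ∀ v, v * g v = σh e0 * (σh v * σh (τh v)) := by
    intro v
    have := h.nu_add v v
    rw [ch v, nu_zero, σv] at this
    have e1 : σh (v * eps v) = σh e0 * (σh v * σh (τh v)) := by
      rw [τe, map_mul, map_mul]; ring
    rw [← e1]
    linear_combination -this - (nu v + v ^ 2 * eps v + σh (v * eps v)) * h.two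
  -- trivial case
  have htriv : (∀ v : F, v ^ 2 = v) → ∃ σ : F ≃+* F, (∀ x, σ (σ x) = x ^ 2) ∧ (∀ v, eps v = σ v) ∧ (∀ v, vs v = σ v) ∧
      (∀ v, g v = v * σ v) ∧ ∀ v, nu v = v ^ 2 * σ v := by
    intro hF
    have h01 : ∀ v : F, v = 0 ∨ v = 1 := fun v => eq_zero_or_one_of_sq (hF v)
    have hf : ∀ f : F → F, f 0 = 0 → f 1 ≠ 0 → ∀ v, f v = v := by
      intro f h0 h1 v
      rcases h01 v with rfl | rfl
      · exact h0
      · exact (h01 _).resolve_left h1
    have g0 : g 0 = 0 := by
      have := h.g_add 0 0
      rw [add_zero, eps_zero] at this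
      linear_combination -this
    have e01 : e0 = 1 := (h01 _).resolve_left he0'
    have g1 : g 1 = 1 := by
      have := vg 1
      rw [e01] at this
      simpa using this
    refine ⟨RingEquiv.refl F, fun x => (hF x).symm, hf eps eps_zero h.eps_one, hf vs ?_ ?_, ?_, ?_⟩
    · rw [σv, map_zero]
    · rw [h.vs_one]; exact one_ne_zero
    · intro v
      rcases h01 v with rfl | rfl
      · rw [g0]; simp
      · rw [g1]; simp
    · intro v
      rcases h01 v with rfl | rfl
      · rw [nu_zero]; simp
      · rw [(h01 (nu 1)).resolve_left h.nu_one]; simp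
  by_cases hF : ∀ v : F, v ^ 2 = v
  · exact htriv hF
  -- `τ ≠ id`
  have hτ : ∃ v, τh v ≠ v := by
    by_contra hcon
    push Not at hcon
    apply hF
    -- `g v = g1 v^2`, hence `v^3 = σ(v)^2`
    have hg : ∀ v, g v = v ^ 2 * g 1 := by
      intro t
      by_cases ht : t = 0
      · have := h.g_add 0 0
        rw [add_zero, eps_zero] at this
        rw [ht]
        linear_combination -this
      obtain ⟨b, hb, h1, h2, h3, -⟩ := hbt t ht
      have hbt1 : b * t = 1 := by
        rw [τe, hcon] at h1
        apply mul_left_cancel₀ he0'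
        linear_combination h1
      have h4 := h3 1
      rw [mul_one] at h4
      linear_combination t * h4 - g t * hbt1
    have hcube : ∀ v, σh e0 * σh v ^ 2 = v ^ 3 * g 1 := by
      intro v
      have := vg v
      rw [hcon, hg] at this
      linear_combination -this
    have hg1 : g 1 ≠ 0 := by
      intro h0
      have := hcube 1
      rw [h0, mul_zero, map_one, one_pow, mul_one] at this
      exact he0' (σh.injective (by rw [this, map_zero]))
    intro v
    have e1 := hcube v
    have e2 := hcube 1
    have e3 := hcube (v + 1)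
    rw [map_add, map_one] at e3
    rw [map_one] at e2
    apply mul_left_cancel₀ hg1
    linear_combination e1 + e2 - e3 + (σh e0 * σh v - 2 * g 1 * v - g 1 * v ^ 2) * h.two
  obtain ⟨v0, hv0⟩ := hτ
  have τe1 : eps 1 = e0 := rfl
  -- `g v = v τ(v) g 1`
  have hg : ∀ v, g v = v * τh v * g 1 := by
    intro t
    by_cases ht : t = 0
    · have := h.g_add 0 0
      rw [add_zero, eps_zero] at this
      rw [ht]
      linear_combination -this
    obtain ⟨b, hb, h1, h2, h3, -⟩ := hbt t ht
    have hbt1 : b * τh t = 1 := by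
      rw [τe] at h1
      apply mul_left_cancel₀ he0'
      linear_combination h1
    have h4 := h3 1
    rw [mul_one] at h4
    linear_combination τh t * h4 - g t * hbt1
  have hg1 : g 1 = e0 := by
    have := h.g_add v0 1
    rw [hg, hg v0, τe v0, τe1, map_add, map_one] at this
    have h3 : (v0 - τh v0) * (g 1 - e0) = 0 := by
      linear_combination this + (e0 * τh v0 - g 1 * τh v0) * h.two
    rcases mul_eq_zero.1 h3 with h4 | h4
    · exact absurd (sub_eq_zero.1 h4).symm hv0
    · exact sub_eq_zero.1 h4
  have hσe0 : σh e0 = e0 := by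
    have := vg 1
    rw [hg1] at this
    simpa using this.symm
  -- symmetry of `nu (v + 1)`
  have hsym : ∀ v, σh v + v ^ 2 + σh (τh v) + τh v = 0 := by
    intro v
    have e1 := h.nu_add v 1
    have e2 := h.nu_add 1 v
    have e3 : σh (v * e0) = e0 * σh v := by rw [map_mul, hσe0, mul_comm]
    have e4 : σh (1 * (e0 * τh v)) = e0 * σh (τh v) := by rw [one_mul, map_mul, hσe0]
    rw [add_comm 1 v, e1, hg v, hg1, σv, σv, τe v, τe1, e3, e4] at e2
    apply mul_left_cancel₀ he0'
    linear_combination e2 + (e0 * σh (τh v) + e0 * τh v - (e0 * v) + e0 * v * τh v) * h.two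
  have hd := four_homs (σh : F →* F) (powMonoidHom 2) ((σh : F →* F).comp (τh : F →* F)) (τh : F →* F)
    (fun v => by simpa using hsym v)
  have σid : (∀ v, σh v = v) → False := by
    intro hid
    apply hF
    intro v
    have := hsym v
    rw [hid, hid] at this
    linear_combination this - (v + τh v) * h.two
  have hστ : ∀ v, τh v = σh v := by
    rcases hd with h1 | h1 | h1
    · exfalso
      have h2 : ∀ v, v ^ 2 = σh v := fun v => DFunLike.congr_fun h1 v
      have h3 : ∀ v, σh (τh v) = τh v := by
        intro v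
        have := hsym v
        rw [← h2 v] at this
        linear_combination this - (v ^ 2 + τh v) * h.two
      apply σid
      intro v
      obtain ⟨w, rfl⟩ := (Finite.injective_iff_bijective.1 τh.injective).2 v
      exact h3 w
    · exfalso
      apply hv0
      have h2 : σh (τh v0) = σh v0 := DFunLike.congr_fun h1 v0
      exact σh.injective h2
    · exact fun v => DFunLike.congr_fun h1 v
  have hσσ : ∀ v, σh (σh v) = v ^ 2 := by
    intro v
    have := hsym v
    rw [hστ] at this
    linear_combination this - (σh v + v ^ 2) * h.two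
  have he1 : e0 = 1 := by
    have := hσσ e0
    rw [hσe0, hσe0] at this
    rcases eq_zero_or_one_of_sq this.symm with h1 | h1
    · exact absurd h1 he0'
    · exact h1
  -- `nu`
  have hnu : ∀ v, nu v = v ^ 2 * τh v * nu 1 := by
    intro t
    by_cases ht : t = 0
    · rw [ht, nu_zero]; ring
    obtain ⟨b, hb, h1, h2, h3, h5⟩ := hbt t ht
    have hbt1 : b * τh t = 1 := by
      rw [τe] at h1
      apply mul_left_cancel₀ he0'
      linear_combination h1
    have h4 := h5 1
    rw [mul_one] at h4
    linear_combination τh t * h4 - nu t * hbt1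
  have hnu1 : nu 1 = 1 := by
    by_contra hne
    have key : ∀ v, σh v = v ^ 2 := by
      intro v
      have e1 := h.nu_add v 1
      rw [hnu, hnu v, hg1, σv, τe1, he1, mul_one, map_add, map_one, hστ v] at e1
      have : (nu 1 - 1) * (σh v - v ^ 2) = 0 := by
        linear_combination e1 - (nu 1 * v * σh v + nu 1 * v - v + nu 1 * v ^ 2 - v ^ 2) * h.two
      rcases mul_eq_zero.1 this with h1 | h1
      · exact absurd (sub_eq_zero.1 h1) hne
      · exact sub_eq_zero.1 h1
    apply hF
    intro w
    obtain ⟨v, rfl⟩ := σbij.2 w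
    rw [← key (σh v), hσσ, key v]
  refine ⟨RingEquiv.ofBijective σh σbij, hσσ, fun v => ?_, σv, fun v => ?_, fun v => ?_⟩
  · rw [τe, he1, one_mul]; exact hστ v
  · rw [hg, hg1, he1, mul_one, hστ]; rfl
  · rw [hnu, hnu1, mul_one, hστ]; rfl

end Cfsg.Agent.SplitTwo.OctSolve
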