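import Cfsg.Agent.SplitTwo.OctNine

/-!
# Moufang octagons (S1144): steps (9), (10), (11)

The pairing `b3 x y ∈ X 3` (`x ∈ X 8`, `y ∈ Y 2`), the orders `|Y 2 i| = |X odd|`, `|X 2 i| = |X odd|²`,
centralisers of root groups in `X (2 i)`.
-/

set_option autoImplicit false

namespace Cfsg.Agent.SplitTwo.OctTen

open Cfsg.Agent.SplitTwo Cfsg.Agent.SplitTwo.OctDefs Cfsg.Agent.SplitTwo.OctTools
open Cfsg.Agent.SplitTwo.OctFive Cfsg.Agent.SplitTwo.TorMaps Cfsg.Agent.SplitTwo.OctSix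
open Cfsg.Agent.SplitTwo.OctEight Cfsg.Agent.SplitTwo.OctNine
open scoped commutatorElement

universe u

variable {G : Type u} [Group G] {X : ZMod (2 * 8) → Subgroup G}

/-! ### The `X 3`-component of elements of `X 3 X 4 X 5 X 6` -/

open Classical in
/-- the `X 3`-component -/
noncomputable def pr3 (X : ZMod (2 * 8) → Subgroup G) (w : G) : G :=
  if h : ∃ b ∈ X 3, ∃ r ∈ seg X 4 3, w = b * r then h.choose else 1

theorem pr3_eq (S : Sys 8 X) {w b r : G} (hb : b ∈ X 3) (hr : r ∈ seg X 4 3) (h : w = b * r) : pr3 X w = b := by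
  have hex : ∃ b ∈ X 3, ∃ r ∈ seg X 4 3, w = b * r := ⟨b, hb, r, hr, h⟩
  unfold pr3
  rw [dif_pos hex]
  obtain ⟨h1, r', hr', h2⟩ := hex.choose_spec
  have h3 : hex.choose⁻¹ * b = 1 := by
    refine sd S 1 3 (by norm_num) (i := 3) (j := 4) ?_ ?_ (by decide)
    · rw [seg_one]; exact mul_mem (inv_mem h1) hb
    · have e : hex.choose⁻¹ * b = r' * r⁻¹ := by
        have h4 := h.symm.trans h2
        calc hex.choose⁻¹ * b = hex.choose⁻¹ * (b * r) * r⁻¹ := by group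
          _ = hex.choose⁻¹ * (hex.choose * r') * r⁻¹ := by rw [h4]
          _ = _ := by group
      rw [e]; exact mul_mem hr' (inv_mem hr)
  exact inv_mul_eq_one.mp h3

theorem pr3_spec (S : Sys 8 X) {w : G} (hw : w ∈ seg X 3 4) : pr3 X w ∈ X 3 ∧ (pr3 X w)⁻¹ * w ∈ seg X 4 3 := by
  obtain ⟨b, hb, r, hr, h⟩ := (S.mem_seg_succ_left 3 (by norm_num : 3 < 8)).mp hw
  have hr' : r ∈ seg X 4 3 := sc hr (by decide)
  rw [pr3_eq S hb hr' h.symm]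
  refine ⟨hb, ?_⟩
  rw [← h]
  have e : b⁻¹ * (b * r) = r := by group
  rw [e]; exact hr'

theorem pr3_mul [Finite G] (O : OctA X) {w w' : G} (hw : w ∈ seg X 3 4) (hw' : w' ∈ seg X 3 4)
    (hW : w ∈ W X) (_hW' : w' ∈ W X) : pr3 X (w * w') = pr3 X w * pr3 X w' := by
  have S := O.sys
  obtain ⟨h1, h2⟩ := pr3_spec S hw
  obtain ⟨h3, h4⟩ := pr3_spec S hw'
  refine pr3_eq S (mul_mem h1 h3) (mul_mem h2 h4) ?_
  have h5 : (pr3 X w)⁻¹ * w * pr3 X w' = pr3 X w' * ((pr3 X w)⁻¹ * w) :=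
    W_comm O (mul_mem (inv_mem (X3_le_W O h1)) hW) (X3_le_W O h3)
  calc w * w' = pr3 X w * ((pr3 X w)⁻¹ * w * pr3 X w') * ((pr3 X w')⁻¹ * w') := by group
    _ = pr3 X w * (pr3 X w' * ((pr3 X w)⁻¹ * w)) * ((pr3 X w')⁻¹ * w') := by rw [h5]
    _ = _ := by group

theorem pr3_of_mem4 (S : Sys 8 X) {w : G} (hw : w ∈ seg X 4 3) : pr3 X w = 1 :=
  pr3_eq S (one_mem _) hw (one_mul w).symm

theorem pr3_of_mem3 (S : Sys 8 X) {w : G} (hw : w ∈ X 3) : pr3 X w = w :=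
  pr3_eq S hw (one_mem _) (mul_one w).symm

/-- conjugation by `x ∈ X 8` does not change the `X 3`-component of `w ∈ W ∩ X 3 X 4 X 5 X 6` -/
theorem pr3_conj [Finite G] (O : OctA X) {w x : G} (hw : w ∈ seg X 3 4) (hW : w ∈ W X) (hx : x ∈ X 8) :
    x * w * x⁻¹ ∈ seg X 3 4 ∧ pr3 X (x * w * x⁻¹) = pr3 X w := by
  have S := O.sys
  obtain ⟨h1, h2⟩ := pr3_spec S hw
  have hb := X3_le_W O h1
  -- `x w x⁻¹ = b * (⁅b⁻¹, x⁆ * (x r x⁻¹))`
  have e : x * w * x⁻¹ = pr3 X w * (⁅(pr3 X w)⁻¹, x⁆ * (x * ((pr3 X w)⁻¹ * w) * x⁻¹)) := by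
    rw [commutatorElement_def]; group
  have h3 : ⁅(pr3 X w)⁻¹, x⁆ ∈ seg X 4 4 := cm S 4 (by norm_num) (inv_mem h1) hx (by decide) (by decide)
  have h4 : ⁅(pr3 X w)⁻¹, x⁆ ∈ W X := by
    have e' : ⁅(pr3 X w)⁻¹, x⁆ = (pr3 X w)⁻¹ * (x * pr3 X w * x⁻¹) := by rw [commutatorElement_def]; group
    rw [e']
    exact mul_mem (inv_mem hb) (W_conj8 O hx hb)
  have h5 : x * ((pr3 X w)⁻¹ * w) * x⁻¹ ∈ seg X 4 4 :=
    cr S 4 (by norm_num) hx (ss h2 0 (by norm_num) (by decide)) (by decide)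
  have h6 : x * ((pr3 X w)⁻¹ * w) * x⁻¹ ∈ W X := W_conj8 O hx (mul_mem (inv_mem hb) hW)
  have h7 : ⁅(pr3 X w)⁻¹, x⁆ * (x * ((pr3 X w)⁻¹ * w) * x⁻¹) ∈ seg X 4 3 :=
    si S 2 3 1 (by norm_num) (i := 2) (j := 4) (W_le O (mul_mem h4 h6)) (mul_mem h3 h5) (by decide)
  refine ⟨?_, ?_⟩
  · rw [e]
    exact mul_mem (ms h1 0 (by norm_num) (by decide)) (ss h7 1 (by norm_num) (by decide))
  · exact pr3_eq S h1 h7 e

/-! ### The pairing -/

/-- `X 3`-component of `⁅x, y⁆`, `x ∈ X 8`, `y ∈ Y 2` -/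
noncomputable def b3 (X : ZMod (2 * 8) → Subgroup G) (x y : G) : G := pr3 X ⁅x, y⁆

theorem comm82_mem [Finite G] (O : OctA X) {x y : G} (hx : x ∈ X 8) (hy : y ∈ Yc X 2) :
    ⁅x, y⁆ ∈ seg X 3 4 ∧ ⁅x, y⁆ ∈ W X := by
  obtain ⟨b, hb, d, hd, e, he, f, hf, h⟩ := comm82 O hx hy
  rw [h]
  refine ⟨mul_mem (mul_mem (mul_mem (ms hb 0 (by norm_num) (by decide)) (ms hd.1 1 (by norm_num) (by decide)))
    (ms he 2 (by norm_num) (by decide))) (ms (yx hf) 3 (by norm_num) (by decide)), ?_⟩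
  exact mul_mem (mul_mem (mul_mem (X3_le_W O hb) hd.2) (X5_le_W O he)) (Y6_le_W hf)

theorem b3_mem [Finite G] (O : OctA X) {x y : G} (hx : x ∈ X 8) (hy : y ∈ Yc X 2) : b3 X x y ∈ X 3 :=
  (pr3_spec O.sys (comm82_mem O hx hy).1).1

theorem b3_mul_right [Finite G] (O : OctA X) {x y y' : G} (hx : x ∈ X 8) (hy : y ∈ Yc X 2) (hy' : y' ∈ Yc X 2) :
    b3 X x (y * y') = b3 X x y * b3 X x y' := by
  obtain ⟨h1, h2⟩ := comm82_mem O hx hy
  obtain ⟨h3, h4⟩ := comm82_mem O hx hy'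
  have e : ⁅x, y * y'⁆ = ⁅x, y⁆ * (y * ⁅x, y'⁆ * y⁻¹) := by simp only [commutatorElement_def]; group
  unfold b3
  rw [e, conj_eq_self (W_comm O (Y2_le_W hy) h4)]
  exact pr3_mul O h1 h3 h2 h4

theorem b3_mul_left [Finite G] (O : OctA X) {x x' y : G} (hx : x ∈ X 8) (hx' : x' ∈ X 8) (hy : y ∈ Yc X 2) :
    b3 X (x * x') y = b3 X x y * b3 X x' y := by
  obtain ⟨h1, h2⟩ := comm82_mem O hx hy
  obtain ⟨h3, h4⟩ := comm82_mem O hx' hy
  obtain ⟨h5, h6⟩ := pr3_conj O h3 h4 hx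
  have e : ⁅x * x', y⁆ = (x * ⁅x', y⁆ * x⁻¹) * ⁅x, y⁆ := by simp only [commutatorElement_def]; group
  unfold b3
  rw [e, W_comm O (W_conj8 O hx h4) h2, pr3_mul O h1 h5 h2 (W_conj8 O hx h4), h6]

theorem b3_one_left (x : G) : b3 X 1 x = pr3 X 1 := by unfold b3; rw [commutatorElement_one_left]

theorem b3_one_right [Finite G] (O : OctA X) (x : G) : b3 X x 1 = 1 := by
  unfold b3
  rw [commutatorElement_one_right]
  exact pr3_of_mem4 O.sys (one_mem _)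

theorem b3_inv_left [Finite G] (O : OctA X) {x y : G} (hx : x ∈ X 8) (hy : y ∈ Yc X 2) :
    b3 X x⁻¹ y = (b3 X x y)⁻¹ := by
  have := b3_mul_left O (inv_mem hx) hx hy
  rw [inv_mul_cancel, b3_one_left, pr3_of_mem4 O.sys (one_mem _)] at this
  exact eq_inv_of_mul_eq_one_left this.symm

theorem b3_inv_right [Finite G] (O : OctA X) {x y : G} (hx : x ∈ X 8) (hy : y ∈ Yc X 2) :
    b3 X x y⁻¹ = (b3 X x y)⁻¹ := by
  have := b3_mul_right O hx (inv_mem hy) hy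
  rw [inv_mul_cancel, b3_one_right O] at this
  exact eq_inv_of_mul_eq_one_left this.symm

/-- torus elements -/
theorem b3_tor [Finite G] (O : OctA X) {h x y : G} (hh : Tor X h) (hx : x ∈ X 8) (hy : y ∈ Yc X 2) :
    b3 X (h * x * h⁻¹) (h * y * h⁻¹) = h * b3 X x y * h⁻¹ := by
  have S := O.sys
  obtain ⟨h1, h2⟩ := pr3_spec S (comm82_mem O hx hy).1
  have hseg : ∀ w ∈ seg X 4 3, h * w * h⁻¹ ∈ seg X 4 3 := by
    intro w hw
    have : seg X 4 3 ≤ (seg X 4 3).comap (MulAut.conj h).toMonoidHom :=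
      seg_le fun r hr w hw => le_seg X 4 hr (hh.mem hw)
    exact this hw
  unfold b3
  refine pr3_eq S (hh.mem h1) (hseg _ h2) ?_
  simp only [commutatorElement_def]; group

/-- **Hall-Witt for `y ∈ Y 2`, `x ∈ X 8`, `u ∈ X 6`**: `⁅y, ⁅x, u⁆⁆ ⁅b3 x y, u⁆ = 1`. -/
theorem nine [Finite G] (O : Oct7 X) {x y u : G} (hx : x ∈ X 8) (hy : y ∈ Yc X 2) (hu : u ∈ X 6) :
    ⁅y, ⁅x, u⁆⁆ * ⁅b3 X x y, u⁆ = 1 := by
  have A := O.a
  have S := A.sys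
  obtain ⟨b, hb, d, hd, e, he, f, hf, h⟩ := comm82 A hx hy
  obtain ⟨_, hwW⟩ := comm82_mem A hx hy
  have hb3 : b3 X x y = b := by
    unfold b3
    refine pr3_eq S hb (r := d * e * f) ?_ (by rw [h]; group)
    exact mul_mem (mul_mem (ms hd.1 0 (by norm_num) (by decide)) (ms he 1 (by norm_num) (by decide)))
      (ms (yx hf) 2 (by norm_num) (by decide))
  rw [hb3]
  have hv : ⁅x, u⁆ ∈ X 7 := by
    have := cm' S 1 (by norm_num) hu hx (l := 7) (by decide) (by decide)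
    rwa [seg_one] at this
  obtain ⟨v, hv'⟩ : ∃ v, v = ⁅x, u⁆ := ⟨_, rfl⟩
  rw [← hv'] at hv ⊢
  obtain ⟨w, hw'⟩ : ∃ w, w = ⁅x, y⁆ := ⟨_, rfl⟩
  rw [← hw'] at h hwW
  have hyu : y * u = u * y := ycomm hy hu 8 (by norm_num) (by decide)
  have h1 : (w * y) * (v * u) = (v * u) * (w * y) := by
    have e1 : w * y = x * y * x⁻¹ := by rw [hw', commutatorElement_def]; group
    have e2 : v * u = x * u * x⁻¹ := by rw [hv', commutatorElement_def]; group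
    rw [e1, e2]
    calc x * y * x⁻¹ * (x * u * x⁻¹) = x * (y * u) * x⁻¹ := by group
      _ = x * (u * y) * x⁻¹ := by rw [hyu]
      _ = _ := by group
  -- `d, e, f` commute with `u`, all of `w` commutes with `v`
  have hdu : d * u = u * d := D_comm A hd.1 hd.2 hu (by decide)
  have heu : e * u = u * e := adj S he hu (by decide)
  have hfu : f * u = u * f := ycomm hf hu 4 (by norm_num) (by decide)
  have hbv : b * v = v * b := O.o4 hb hv 1 (by decide) (by decide)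
  have hdv : d * v = v * d := D_comm A hd.1 hd.2 hv (by decide)
  have hev : e * v = v * e := O.o2 he hv 2 (by decide) (by decide)
  have hfv : f * v = v * f := ycomm hf hv 5 (by norm_num) (by decide)
  have hwv : v * w = w * v := by
    rw [h]
    exact conj_comm_of (conj_comm_of (conj_comm_of hbv.symm hdv.symm) hev.symm) hfv.symm
  have hyv : ⁅y, v⁆ ∈ Yc X 4 := comm_Y2 A hy (ms hv 6 (by norm_num) (by decide))
  have hbu : ⁅b, u⁆ ∈ Yc X 4 := comm_W A (X3_le_W A hb) (ms hu 5 (by norm_num) (by decide))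
  have hwu : ⁅w, u⁆ = ⁅b, u⁆ := by
    have h2 : ⁅w, u⁆ = b * (d * e * f * u * (d * e * f)⁻¹) * b⁻¹ * u⁻¹ := by
      rw [h, commutatorElement_def]; group
    have h3 : u * (d * e * f) = (d * e * f) * u := conj_comm_of (conj_comm_of hdu.symm heu.symm) hfu.symm
    rw [h2, conj_eq_self h3.symm, commutatorElement_def]
  -- `1 = ⁅w y, v u⁆ = ⁅w y, v⁆ ⁅w y, u⁆`
  have e3 : ⁅w * y, v * u⁆ = (w * ⁅y, v⁆ * w⁻¹) * ⁅w, v⁆ * (v * ((w * ⁅y, u⁆ * w⁻¹) * ⁅w, u⁆) * v⁻¹) := by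
    simp only [commutatorElement_def]; group
  rw [comm_eq_one.mpr h1, comm_eq_one.mpr hwv.symm, comm_eq_one.mpr hyu, hwu] at e3
  have h4 : ⁅y, v⁆ * w = w * ⁅y, v⁆ := W_comm A (Y4_le_W hyv) hwW
  have h5 : ⁅b, u⁆ * v = v * ⁅b, u⁆ := ycomm hbu hv 7 (by norm_num) (by decide)
  have e4 : (v * ((w * 1 * w⁻¹) * ⁅b, u⁆) * v⁻¹) = ⁅b, u⁆ := by
    have : v * ((w * 1 * w⁻¹) * ⁅b, u⁆) * v⁻¹ = v * ⁅b, u⁆ * v⁻¹ := by group
    rw [this, conj_eq_self h5.symm]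
  rw [e4, conj_eq_self h4.symm, mul_one] at e3
  exact e3.symm

/-- If `b3 x y = 1` for one `y ≠ 1`, then `x` commutes with `X 6`. -/
theorem comm6_of_b3 [Finite G] (O : Oct7 X) {x y : G} (hx : x ∈ X 8) (hy : y ∈ Yc X 2) (hy1 : y ≠ 1)
    (h : b3 X x y = 1) {u : G} (hu : u ∈ X 6) : x * u = u * x := by
  have S := O.a.sys
  have h1 := nine O hx hy hu
  rw [h, commutatorElement_one_left, mul_one, comm_eq_one] at h1
  have hv : ⁅x, u⁆ ∈ X 7 := by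
    have := cm' S 1 (by norm_num) hu hx (l := 7) (by decide) (by decide)
    rwa [seg_one] at this
  rcases never_commute S 5 (by norm_num) (by norm_num) (i := 2) (j := 7) (by decide) (yx hy) hv h1 with h2 | h2
  · exact absurd h2 hy1
  · exact comm_eq_one.mp h2

/-- If `x` commutes with `X 6` then `b3 x · = 1`. -/
theorem b3_of_comm6 [Finite G] (O : Oct7 X) {x y : G} (hx : x ∈ X 8) (hy : y ∈ Yc X 2)
    (h : ∀ u ∈ X 6, x * u = u * x) : b3 X x y = 1 := by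
  apply X3_ne O (b3_mem O.a hx hy)
  intro u hu
  have h1 := nine O hx hy hu
  rw [comm_eq_one.mpr (h u hu), commutatorElement_one_right, one_mul] at h1
  exact comm_eq_one.mp h1

/-- (6c): `b3 (κ(y0)) (p2 y0 y6) = c3 y0 y6` -/
theorem b3_kap [Finite G] (O : OctA X) {y0 y6 : G} (h0 : y0 ∈ Yc X 0) (h6 : y6 ∈ Yc X 6) (h01 : y0 ≠ 1)
    (h61 : y6 ≠ 1) : b3 X (kap X 0 y0) (p2 X y0 y6) = c3 X y0 y6 := by
  have S := O.sys
  have hk : kap X 0 y0 ∈ X 8 := xc (S.kap_mem (yx h0) h01) (by decide)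
  have hl : lam X 0 y0 ∈ X 8 := xc (S.lam_mem (yx h0) h01) (by decide)
  have hp2 := p2_mem S h0 h6 h01
  have hp4 := p4_mem S h0 h6 h61
  have hc := c3_mem S h0 h6 h01 h61
  have hce := comm_eq (X := X) y0 y6
  obtain ⟨k, hkk⟩ : ∃ k, k = kap X 0 y0 := ⟨_, rfl⟩
  obtain ⟨p, hpp⟩ : ∃ p, p = p2 X y0 y6 := ⟨_, rfl⟩
  obtain ⟨q, hqq⟩ : ∃ q, q = p4 X y0 y6 := ⟨_, rfl⟩
  obtain ⟨c, hcc⟩ : ∃ c, c = c3 X y0 y6 := ⟨_, rfl⟩
  rw [← hkk] at hk ⊢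
  rw [← hpp] at hp2 ⊢
  rw [← hqq] at hp4
  rw [← hcc] at hc ⊢
  rw [← hpp, ← hcc, ← hqq] at hce
  have hl6 : y6 * lam X 0 y0 = lam X 0 y0 * y6 := ycomm h6 hl 6 (by norm_num) (by decide)
  have hk6 : y6 * k = k * y6 := ycomm h6 hk 6 (by norm_num) (by decide)
  have hkq : q * k = k * q := ycomm hp4 hk 8 (by norm_num) (by decide)
  have cW : c ∈ W X := X3_le_W O hc
  have qW : q ∈ W X := Y4_le_W hp4
  have pW : p ∈ W X := Y2_le_W hp2
  have yW : y6 ∈ W X := Y6_le_W h6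
  -- `p = k (y0 y6 y0⁻¹) k⁻¹`
  have e1 : p = k * (y0 * y6 * y0⁻¹) * k⁻¹ := by
    rw [hpp]; unfold p2 muMap
    rw [← hkk]
    calc k * y0 * lam X 0 y0 * y6 * (k * y0 * lam X 0 y0)⁻¹
        = k * y0 * (lam X 0 y0 * y6 * (lam X 0 y0)⁻¹) * y0⁻¹ * k⁻¹ := by group
      _ = _ := by rw [conj_eq_self hl6.symm]; group
  have e2 : y0 * y6 * y0⁻¹ = q⁻¹ * c⁻¹ * p * y6 := by
    have : y0 * y6 * y0⁻¹ = ⁅y6, y0⁆⁻¹ * y6 := by rw [commutatorElement_def]; group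
    rw [this, hce]; group
  have e3 : p = q⁻¹ * (k * c⁻¹ * k⁻¹) * (⁅k, p⁆ * p) * y6 := by
    have : p = (k * q⁻¹ * k⁻¹) * (k * c⁻¹ * k⁻¹) * (k * p * k⁻¹) * (k * y6 * k⁻¹) := by
      rw [e2] at e1
      calc p = k * (q⁻¹ * c⁻¹ * p * y6) * k⁻¹ := e1
        _ = _ := by group
    rw [conj_eq_self (comm_inv_left hkq).symm, conj_eq_self hk6.symm] at this
    have e4 : k * p * k⁻¹ = ⁅k, p⁆ * p := by rw [commutatorElement_def]; group
    rw [e4] at this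
    exact this
  obtain ⟨hs, hsW⟩ := comm82_mem O hk hp2
  have kcW := W_conj8 O hk (inv_mem cW)
  -- everything commutes
  have e5 : (k * c⁻¹ * k⁻¹) * ⁅k, p⁆ = q * y6⁻¹ := by
    have h1 : q⁻¹ * ((k * c⁻¹ * k⁻¹) * ⁅k, p⁆) * (p * y6) = p := by
      calc q⁻¹ * ((k * c⁻¹ * k⁻¹) * ⁅k, p⁆) * (p * y6) = q⁻¹ * (k * c⁻¹ * k⁻¹) * (⁅k, p⁆ * p) * y6 := by group
        _ = p := e3.symm
    have h2 : p * y6 = y6 * p := W_comm O pW yW
    have h3 : p * (p * y6)⁻¹ = y6⁻¹ := by rw [h2]; group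
    calc (k * c⁻¹ * k⁻¹) * ⁅k, p⁆ = q * (q⁻¹ * ((k * c⁻¹ * k⁻¹) * ⁅k, p⁆) * (p * y6)) * (p * y6)⁻¹ := by group
      _ = q * p * (p * y6)⁻¹ := by rw [h1]
      _ = q * (p * (p * y6)⁻¹) := by group
      _ = _ := by rw [h3]
  have h7 : c⁻¹ ∈ seg X 3 4 := ms (inv_mem hc) 0 (by norm_num) (by decide)
  obtain ⟨h8, h9⟩ := pr3_conj O h7 (inv_mem cW) hk
  have h10 := pr3_mul O h8 hs kcW hsW
  rw [e5, h9, pr3_of_mem3 S (inv_mem hc)] at h10
  have h11 : pr3 X (q * y6⁻¹) = 1 :=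
    pr3_of_mem4 S (mul_mem (ms (yx hp4) 0 (by norm_num) (by decide)) (inv_mem (ms (yx h6) 2 (by norm_num) (by decide))))
  rw [h11] at h10
  have h12 : b3 X k p = pr3 X ⁅k, p⁆ := rfl
  rw [h12]
  exact (inv_mul_eq_one.mp h10.symm).symm

theorem exists_b3 [Finite G] (O : OctA X) : ∃ x ∈ X 8, ∃ y ∈ Yc X 2, b3 X x y ≠ 1 := by
  have S := O.sys
  obtain ⟨y0, h0, y6, h6, h01, h61, hc⟩ := OctSixB.exists_c3 O
  refine ⟨kap X 0 y0, xc (S.kap_mem (yx h0) h01) (by decide), p2 X y0 y6, p2_mem S h0 h6 h01, ?_⟩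
  rw [b3_kap O h0 h6 h01 h61]
  exact hc

end Cfsg.Agent.SplitTwo.OctTen
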