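import Cfsg.Agent.SplitTwo.OctNine788

/-!
# Moufang octagons (S1144): steps (9d), (9e), (10), (11): cardinalities and centralisers
-/

set_option autoImplicit false

namespace Cfsg.Agent.SplitTwo.OctTen788

open Cfsg.Agent.SplitTwo Cfsg.Agent.SplitTwo.OctDefs Cfsg.Agent.SplitTwo.OctTools
open Cfsg.Agent.SplitTwo.OctFive Cfsg.Agent.SplitTwo.TorMaps Cfsg.Agent.SplitTwo.OctSix
open Cfsg.Agent.SplitTwo.OctSixB Cfsg.Agent.SplitTwo.OctSeven Cfsg.Agent.SplitTwo.OctEight788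
open Cfsg.Agent.SplitTwo.OctNine788
open scoped commutatorElement

universe u

variable {G : Type u} [Group G] {X : ZMod (2 * 8) → Subgroup G}

/-! ### Cardinalities -/

theorem card_le_Y [Finite G] {c k k' : ZMod (2 * 8)} {n : G} (hr : Refl X c n)
    (h : 2 * c + ((8 : ℕ) : ZMod (2 * 8)) - k = k') : Nat.card (Yc X k) ≤ Nat.card (Yc X k') := by
  refine Nat.card_le_card_of_injective (fun y : Yc X k => (⟨n * y * n⁻¹, Yc_refl hr y.2 h⟩ : Yc X k')) ?_
  intro a b hab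
  have := congrArg Subtype.val hab
  exact Subtype.ext (by simpa using this)

theorem card_le_X [Finite G] {c k k' : ZMod (2 * 8)} {n : G} (hr : Refl X c n)
    (h : 2 * c + ((8 : ℕ) : ZMod (2 * 8)) - k = k') : Nat.card (X k) ≤ Nat.card (X k') := by
  refine Nat.card_le_card_of_injective (fun y : X k => (⟨n * y * n⁻¹, rx hr y.2 h⟩ : X k')) ?_
  intro a b hab
  have := congrArg Subtype.val hab
  exact Subtype.ext (by simpa using this)

theorem exists_refl (S : Sys 8 X) (c : ZMod (2 * 8)) : ∃ n, Refl X c n := by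
  obtain ⟨a, ha, ha1⟩ := S.exists_ne_one c
  exact ⟨_, S.refl ha ha1⟩

theorem card_Y [Finite G] (S : Sys 8 X) (c : ZMod (2 * 8)) {k k' : ZMod (2 * 8)}
    (h : 2 * c + ((8 : ℕ) : ZMod (2 * 8)) - k = k') : Nat.card (Yc X k) = Nat.card (Yc X k') := by
  obtain ⟨n, hr⟩ := exists_refl S c
  exact le_antisymm (card_le_Y hr h) (card_le_Y hr (by rw [← h]; ring))

theorem card_X [Finite G] (S : Sys 8 X) (c : ZMod (2 * 8)) {k k' : ZMod (2 * 8)}
    (h : 2 * c + ((8 : ℕ) : ZMod (2 * 8)) - k = k') : Nat.card (X k) = Nat.card (X k') := by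
  obtain ⟨n, hr⟩ := exists_refl S c
  exact le_antisymm (card_le_X hr h) (card_le_X hr (by rw [← h]; ring))

/-- an element of `X 8` not commuting with `X 6` -/
theorem exists_nc [Finite G] (O : OctA X) : ∃ x8 ∈ X 8, ¬ ∀ x6 ∈ X 6, x6 * x8 = x8 * x6 := by
  obtain ⟨y0, h0, h01, h⟩ := exists_kap O
  exact ⟨kap X 0 y0, xc (O.sys.kap_mem (yx h0) h01) (by decide), h⟩

/-- `B3` is injective in `y` for `x` not commuting with `X 6` -/
theorem B3_inj [Finite G] (O : OctA X) {x y y' b : G} (hx : x ∈ X 8) (hnc : ¬ ∀ x6 ∈ X 6, x6 * x = x * x6)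
    (hy : y ∈ Yc X 2) (hy' : y' ∈ Yc X 2) (h : B3 X x y b) (h' : B3 X x y' b) : y = y' := by
  obtain ⟨b', hb'⟩ := B3_exists O hx (inv_mem hy)
  have h1 := B3_mul_right O hx (inv_mem hy) hy hb' h
  have h2 := B3_mul_right O hx (inv_mem hy) hy' hb' h'
  rw [inv_mul_cancel] at h1
  have h3 : B3 X x 1 1 := ⟨one_mem _, 1, one_mem _, 1, one_mem _, 1, one_mem _, by
    rw [commutatorElement_one_right]; simp⟩
  have h4 := B3_unique O.sys h1 h3
  rw [h4] at h2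
  by_contra hne
  have h5 : y⁻¹ * y' ≠ 1 := fun h => hne (inv_mul_eq_one.mp h)
  exact hnc (nine_a O hx (mul_mem (inv_mem hy) hy') h5 h2)

theorem card_Y2_le [Finite G] (O : OctA X) : Nat.card (Yc X 2) ≤ Nat.card (X 3) := by
  obtain ⟨x, hx, hnc⟩ := exists_nc O
  choose f hf using fun y : Yc X 2 => B3_exists O hx y.2
  refine Nat.card_le_card_of_injective (fun y : Yc X 2 => (⟨f y, (hf y).1⟩ : X 3)) ?_
  intro a b hab
  have h1 : f a = f b := congrArg Subtype.val hab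
  have h2 := hf a
  rw [h1] at h2
  exact Subtype.ext (B3_inj O hx hnc a.2 b.2 h2 (hf b))

/-- `x ↦ ⁅x, y⁆`, `X 1 → Y 4`, is injective for `y ∈ Y 6`, `y ≠ 1`. -/
theorem com_inj6 [Finite G] (O : OctA X) {x x' y : G} (hx : x ∈ X 1) (hx' : x' ∈ X 1) (hy : y ∈ Yc X 6) (hy1 : y ≠ 1)
    (h : ⁅x, y⁆ = ⁅x', y⁆) : x = x' := by
  have h1 : (x'⁻¹ * x) * y = y * (x'⁻¹ * x) := by
    rw [commutatorElement_def, commutatorElement_def] at h
    have h2 : x * y * x⁻¹ = x' * y * x'⁻¹ := mul_right_cancel h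
    calc (x'⁻¹ * x) * y = x'⁻¹ * (x * y * x⁻¹) * x := by group
      _ = x'⁻¹ * (x' * y * x'⁻¹) * x := by rw [h2]
      _ = _ := by group
  rcases never_commute O.sys 5 (by norm_num) (by norm_num) (i := 1) (j := 6) (by decide)
    (mul_mem (inv_mem hx') hx) (yx hy) h1 with h2 | h2
  · exact (inv_mul_eq_one.mp h2).symm
  · exact absurd h2 hy1

theorem com_inj2 [Finite G] (O : OctA X) {x x' y : G} (hx : x ∈ X 7) (hx' : x' ∈ X 7) (hy : y ∈ Yc X 2) (hy1 : y ≠ 1)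
    (h : ⁅x, y⁆ = ⁅x', y⁆) : x = x' := by
  have h1 : (x'⁻¹ * x) * y = y * (x'⁻¹ * x) := by
    rw [commutatorElement_def, commutatorElement_def] at h
    have h2 : x * y * x⁻¹ = x' * y * x'⁻¹ := mul_right_cancel h
    calc (x'⁻¹ * x) * y = x'⁻¹ * (x * y * x⁻¹) * x := by group
      _ = x'⁻¹ * (x' * y * x'⁻¹) * x := by rw [h2]
      _ = _ := by group
  rcases never_commute O.sys 5 (by norm_num) (by norm_num) (i := 2) (j := 7) (by decide)
    (yx hy) (mul_mem (inv_mem hx') hx) h1.symm with h2 | h2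
  · exact absurd h2 hy1
  · exact (inv_mul_eq_one.mp h2).symm

theorem card_X1_le [Finite G] (O : OctA X) : Nat.card (X 1) ≤ Nat.card (Yc X 4) := by
  obtain ⟨y6, hy6, hy61⟩ := ne_even O 3 (by decide : 2 * (3 : ZMod (2 * 8)) = 6)
  refine Nat.card_le_card_of_injective (fun x : X 1 =>
    (⟨⁅(x : G), y6⁆, (aL' O hy6 x.2 3 (by decide) (by decide) (by decide)).1⟩ : Yc X 4)) ?_
  intro a b hab
  exact Subtype.ext (com_inj6 O a.2 b.2 hy6 hy61 (congrArg Subtype.val hab))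

theorem card_Y2 [Finite G] (O : OctA X) : Nat.card (Yc X 2) = Nat.card (X 3) := by
  refine le_antisymm (card_Y2_le O) ?_
  rw [card_X O.sys 6 (k := 3) (k' := 1) (by decide), card_Y O.sys 7 (k := 2) (k' := 4) (by decide)]
  exact card_X1_le O

/-- every `b ∈ X 3` is `b3(x, y)` for some `y ∈ Y 2` -/
theorem B3_surj [Finite G] (O : OctA X) {x : G} (hx : x ∈ X 8) (hnc : ¬ ∀ x6 ∈ X 6, x6 * x = x * x6) {b : G}
    (hb : b ∈ X 3) : ∃ y ∈ Yc X 2, B3 X x y b := by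
  choose f hf using fun y : Yc X 2 => B3_exists O hx y.2
  let g : Yc X 2 → X 3 := fun y => ⟨f y, (hf y).1⟩
  have hg : Function.Injective g := by
    intro a b hab
    have h1 : f a = f b := congrArg Subtype.val hab
    have h2 := hf a
    rw [h1] at h2
    exact Subtype.ext (B3_inj O hx hnc a.2 b.2 h2 (hf b))
  obtain ⟨y, hy⟩ := (hg.bijective_of_nat_card_le (card_Y2 O).ge).2 ⟨b, hb⟩
  have h1 : f y = b := congrArg Subtype.val hy
  exact ⟨y, y.2, h1 ▸ hf y⟩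

/-- `s ↦ ⁅s, y⁆`, `X 7 → Y 4`, is onto for `y ∈ Y 2`, `y ≠ 1`. -/
theorem com_surj2 [Finite G] (O : OctA X) {y z : G} (hy : y ∈ Yc X 2) (hy1 : y ≠ 1) (hz : z ∈ Yc X 4) :
    ∃ s ∈ X 7, ⁅s, y⁆ = z := by
  let g : X 7 → Yc X 4 := fun s => ⟨⁅(s : G), y⁆, (aR' O hy s.2 1 (by decide) (by decide) (by decide)).1⟩
  have hg : Function.Injective g := fun a b hab =>
    Subtype.ext (com_inj2 O a.2 b.2 hy hy1 (congrArg Subtype.val hab))
  have hc : Nat.card (Yc X 4) = Nat.card (X 7) := by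
    rw [← card_Y O.sys 7 (k := 2) (k' := 4) (by decide), card_Y2 O, card_X O.sys 1 (k := 3) (k' := 7) (by decide)]
  obtain ⟨s, hs⟩ := (hg.bijective_of_nat_card_le hc.le).2 ⟨z, hz⟩
  exact ⟨s, s.2, congrArg Subtype.val hs⟩

/-! ### (9e) -/

theorem comm63 [Finite G] (O : OctA X) {x : G} (hx : x ∈ X 6) (h : ∀ b ∈ X 8, x * b = b * x) :
    ∀ b ∈ X 3, x * b = b * x := by
  intro b hb
  obtain ⟨x8, h8, hnc⟩ := exists_nc O
  obtain ⟨y, hy, hB⟩ := B3_surj O h8 hnc hb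
  have h1 := nine O hx h8 hy hB
  rw [comm_eq_one.mpr (h x8 h8), commutatorElement_one_left] at h1
  exact comm_eq_one.mp h1

theorem comm68 [Finite G] (O : OctA X) {x : G} (hx : x ∈ X 6) (h : ∀ b ∈ X 3, x * b = b * x) :
    ∀ b ∈ X 8, x * b = b * x := by
  intro x8 h8
  obtain ⟨y2, hy2, hy21⟩ := ne_even O 1 (by decide : 2 * (1 : ZMod (2 * 8)) = 2)
  obtain ⟨b, hB⟩ := B3_exists O h8 hy2
  have h1 := nine O hx h8 hy2 hB
  rw [comm_eq_one.mpr (h b hB.1)] at h1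
  have hv : ⁅x, x8⁆ ∈ X 7 := by
    have := cm O.sys 1 (by norm_num) hx h8 (l := 7) (by decide) (by decide)
    rwa [seg_one] at this
  rcases never_commute O.sys 5 (by norm_num) (by norm_num) (i := 2) (j := 7) (by decide) (yx hy2) hv
    (comm_eq_one.mp h1.symm).symm with h3 | h3
  · exact absurd h3 hy21
  · exact comm_eq_one.mp h3

/-- mirror image of `comm63` -/
theorem comm811 [Finite G] (O : OctA X) {x : G} (hx : x ∈ X 8) (h : ∀ b ∈ X 6, x * b = b * x) :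
    ∀ b ∈ X 11, x * b = b * x := by
  intro b hb
  exact comm63 (revA O 7) (xc hx (by decide) : x ∈ X (2 * 7 - 6))
    (fun c hc => h c (xc (hc : c ∈ X (2 * 7 - 8)) (by decide))) b (xc hb (by decide) : b ∈ X (2 * 7 - 3))

/-! ### (10) -/

/-- An element of `X 8` commuting with `X 11` is in `Y 8`. -/
theorem ten [Finite G] (O : OctA X) {a : G} (ha : a ∈ X 8) (h : ∀ b ∈ X 11, a * b = b * a) : a ∈ Yc X 8 := by
  have S := O.sys
  obtain ⟨x3, h3, h31⟩ := S.exists_ne_one 3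
  have hk : kap X 3 x3 ∈ X 11 := xc (S.kap_mem h3 h31) (by decide)
  have hl : lam X 3 x3 ∈ X 11 := xc (S.lam_mem h3 h31) (by decide)
  have hr := S.refl h3 h31
  set k := kap X 3 x3 with hkd
  set l := lam X 3 x3 with hld
  have hmu : muMap X 3 x3 = k * x3 * l := rfl
  have hka := h k hk
  have hla := h l hl
  obtain ⟨u, hud⟩ : ∃ u, u = ⁅x3, a⁆ := ⟨_, rfl⟩
  have huW : u ∈ W X := by
    have e : u = x3 * (a * x3⁻¹ * a⁻¹) := by rw [hud, commutatorElement_def]; group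
    rw [e]
    exact mul_mem (X3_le O h3) (W_X8 ha (inv_mem (X3_le O h3)))
  have hu4 : u ∈ seg X 4 4 := hud ▸ cm S 4 (by norm_num) h3 ha (l := 4) (by decide) (by decide)
  obtain ⟨a2, ha2, b, hb, d, hd, x5, h5, y6, h6, hu⟩ := dec O huW
  have hd4 := (Subgroup.mem_inf.mp hd).1
  have ha21 : a2 = 1 := by
    refine sd S 1 6 (by norm_num) (i := 2) (j := 3) (ms (yx ha2) 0 (by norm_num) (by decide)) ?_ (by decide)
    have : a2 = u * (b * d * x5 * y6)⁻¹ := by rw [hu]; group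
    rw [this]
    exact mul_mem (ss hu4 1 (by norm_num) (by decide)) (inv_mem (mul_mem (mul_mem (mul_mem
      (ms hb 0 (by norm_num) (by decide)) (ms hd4 1 (by norm_num) (by decide)))
      (ms h5 2 (by norm_num) (by decide))) (ms (yx h6) 3 (by norm_num) (by decide))))
  subst ha21
  rw [one_mul] at hu
  have hb1 : b = 1 := by
    refine sd S 1 5 (by norm_num) (i := 3) (j := 4) (ms hb 0 (by norm_num) (by decide)) ?_ (by decide)
    have : b = u * (d * x5 * y6)⁻¹ := by rw [hu]; group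
    rw [this]
    exact mul_mem (ss hu4 0 (by norm_num) (by decide)) (inv_mem (mul_mem (mul_mem
      (ms hd4 0 (by norm_num) (by decide)) (ms h5 1 (by norm_num) (by decide)))
      (ms (yx h6) 2 (by norm_num) (by decide))))
  subst hb1
  rw [one_mul] at hu
  -- the element of `X 6`
  obtain ⟨f, hfd⟩ : ∃ f, f = muMap X 3 x3 * a * (muMap X 3 x3)⁻¹ := ⟨_, rfl⟩
  have hf6 : f ∈ X 6 := hfd ▸ rx hr ha (by decide)
  have hf1 : f = k * u * k⁻¹ * a := by
    rw [hfd, hmu, hud]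
    calc k * x3 * l * a * (k * x3 * l)⁻¹ = k * x3 * (l * a * l⁻¹) * x3⁻¹ * k⁻¹ := by group
      _ = k * (x3 * a * x3⁻¹) * k⁻¹ := by rw [conj_eq_self hla.symm]; group
      _ = (k * ⁅x3, a⁆ * k⁻¹) * (k * a * k⁻¹) := by rw [commutatorElement_def]; group
      _ = _ := by rw [conj_eq_self hka.symm]
  have hf2 : f = ⁅k, d⁆ * d * (⁅k, x5⁆ * x5 * (⁅k, y6⁆ * y6 * a)) := by
    rw [hf1, hu]; simp only [commutatorElement_def]; group
  have hkd5 : ⁅k, d⁆ ∈ seg X 5 6 := cm' S 6 (by norm_num) hd4 hk (by decide) (by decide)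
  have hkx6 : ⁅k, x5⁆ ∈ seg X 6 5 := cm' S 5 (by norm_num) h5 hk (by decide) (by decide)
  have hky8 : ⁅k, y6⁆ ∈ Yc X 8 := (aR' O h6 hk 3 (by decide) (by decide) (by decide)).1
  have hd1 : d = 1 := by
    refine sd S 1 6 (by norm_num) (i := 4) (j := 5) (ms hd4 0 (by norm_num) (by decide)) ?_ (by decide)
    have : d = ⁅k, d⁆⁻¹ * f * (⁅k, x5⁆ * x5 * (⁅k, y6⁆ * y6 * a))⁻¹ := by
      calc d = ⁅k, d⁆⁻¹ * (⁅k, d⁆ * d * (⁅k, x5⁆ * x5 * (⁅k, y6⁆ * y6 * a))) *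
            (⁅k, x5⁆ * x5 * (⁅k, y6⁆ * y6 * a))⁻¹ := by group
        _ = _ := by rw [← hf2]
    rw [this]
    exact mul_mem (mul_mem (inv_mem hkd5) (ms hf6 1 (by norm_num) (by decide))) (inv_mem (mul_mem (mul_mem
      (ss hkx6 1 (by norm_num) (by decide)) (ms h5 0 (by norm_num) (by decide))) (mul_mem (mul_mem
      (ms (yx hky8) 3 (by norm_num) (by decide)) (ms (yx h6) 1 (by norm_num) (by decide)))
      (ms ha 3 (by norm_num) (by decide)))))
  subst hd1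
  rw [commutatorElement_one_right, one_mul, one_mul] at hf2
  have hx1 : x5 = 1 := by
    refine sd S 1 5 (by norm_num) (i := 5) (j := 6) (ms h5 0 (by norm_num) (by decide)) ?_ (by decide)
    have : x5 = ⁅k, x5⁆⁻¹ * f * (⁅k, y6⁆ * y6 * a)⁻¹ := by
      calc x5 = ⁅k, x5⁆⁻¹ * (⁅k, x5⁆ * x5 * (⁅k, y6⁆ * y6 * a)) * (⁅k, y6⁆ * y6 * a)⁻¹ := by group
        _ = _ := by rw [← hf2]
    rw [this]
    exact mul_mem (mul_mem (inv_mem hkx6) (ms hf6 0 (by norm_num) (by decide))) (inv_mem (mul_mem (mul_mem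
      (ms (yx hky8) 2 (by norm_num) (by decide)) (ms (yx h6) 0 (by norm_num) (by decide)))
      (ms ha 2 (by norm_num) (by decide))))
  subst hx1
  rw [commutatorElement_one_right, one_mul, one_mul] at hf2
  have h68 : ⁅k, y6⁆ * y6 = y6 * ⁅k, y6⁆ := ycomm hky8 (yx h6) 2 (by norm_num) (by decide)
  have h7 : y6⁻¹ * f = ⁅k, y6⁆ * a := by rw [hf2, h68]; group
  have h8 : ⁅k, y6⁆ * a = 1 := by
    refine sd S 2 1 (by norm_num) (i := 6) (j := 8) ?_ (ms (mul_mem (yx hky8) ha) 0 (by norm_num) (by decide))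
      (by decide)
    rw [← h7]
    exact ms (mul_mem (inv_mem (yx h6)) hf6) 0 (by norm_num) (by decide)
  rw [eq_inv_of_mul_eq_one_right h8]
  exact inv_mem hky8

theorem cp3 [Finite G] (O : OctA X) (i : ZMod (2 * 8)) {a : G} (ha : a ∈ X (2 * i))
    (h : ∀ b ∈ X (2 * i + 3), a * b = b * a) : a ∈ Yc X (2 * i) := by
  have e1 : (8 : ZMod (2 * 8)) + 2 * (i - 4) = 2 * i := by ring
  have e2 : (11 : ZMod (2 * 8)) + 2 * (i - 4) = 2 * i + 3 := by ring
  have h1 := ten (shiftA O (i - 4)) (a := a) (xc ha e1.symm : a ∈ X (8 + 2 * (i - 4)))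
    (fun b hb => h b (xc (hb : b ∈ X (11 + 2 * (i - 4))) e2))
  rw [Yc_shift] at h1
  exact yc h1 e1

theorem cm3 [Finite G] (O : OctA X) (i : ZMod (2 * 8)) {a : G} (ha : a ∈ X (2 * i))
    (h : ∀ b ∈ X (2 * i - 3), a * b = b * a) : a ∈ Yc X (2 * i) := by
  have e1 : -(2 * (-i)) = 2 * i := by ring
  have e2 : -(2 * (-i) + 3) = 2 * i - 3 := by ring
  have h1 := cp3 (negA O) (-i) (a := a) (xc ha e1.symm : a ∈ X (-(2 * (-i))))
    (fun b hb => h b (xc (hb : b ∈ X (-(2 * (-i) + 3))) e2))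
  rw [Yc_neg] at h1
  exact yc h1 e1

/-- an element of `X 8` commuting with `X 6` is in `Y 8` -/
theorem cm2_8 [Finite G] (O : OctA X) {a : G} (ha : a ∈ X 8) (h : ∀ b ∈ X 6, a * b = b * a) : a ∈ Yc X 8 :=
  ten O ha (comm811 O ha h)

theorem cm2 [Finite G] (O : OctA X) (i : ZMod (2 * 8)) {a : G} (ha : a ∈ X (2 * i))
    (h : ∀ b ∈ X (2 * i - 2), a * b = b * a) : a ∈ Yc X (2 * i) := by
  have e1 : (8 : ZMod (2 * 8)) + 2 * (i - 4) = 2 * i := by ring
  have e2 : (6 : ZMod (2 * 8)) + 2 * (i - 4) = 2 * i - 2 := by ring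
  have h1 := cm2_8 (shiftA O (i - 4)) (a := a) (xc ha e1.symm : a ∈ X (8 + 2 * (i - 4)))
    (fun b hb => h b (xc (hb : b ∈ X (6 + 2 * (i - 4))) e2))
  rw [Yc_shift] at h1
  exact yc h1 e1

theorem cp2 [Finite G] (O : OctA X) (i : ZMod (2 * 8)) {a : G} (ha : a ∈ X (2 * i))
    (h : ∀ b ∈ X (2 * i + 2), a * b = b * a) : a ∈ Yc X (2 * i) := by
  have e1 : -(2 * (-i)) = 2 * i := by ring
  have e2 : -(2 * (-i) - 2) = 2 * i + 2 := by ring
  have h1 := cm2 (negA O) (-i) (a := a) (xc ha e1.symm : a ∈ X (-(2 * (-i))))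
    (fun b hb => h b (xc (hb : b ∈ X (-(2 * (-i) - 2))) e2))
  rw [Yc_neg] at h1
  exact yc h1 e1

/-- (11a) `X 4 ∩ W ≤ Y 4` -/
theorem D_le [Finite G] (O : OctA X) {d : G} (hd : d ∈ X 4 ⊓ W X) : d ∈ Yc X 4 := by
  have h := cm3 O 2 (a := d) (xc (Subgroup.mem_inf.mp hd).1 (by decide))
    (fun b hb => (D_comm O hd).1 b (xc hb (by decide)))
  exact yc h (by decide)

/-! ### Torus elements centralising `X 3` -/

/-- `μ(x) y μ(x)⁻¹ = ⁅x, y⁆` for `x ∈ X 7`, `y ∈ Y 2`. -/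
theorem mu_y2 (O : OctA X) {x y : G} (hx : x ∈ X 7) (hx1 : x ≠ 1) (hy : y ∈ Yc X 2) :
    muMap X 7 x * y * (muMap X 7 x)⁻¹ = ⁅x, y⁆ := by
  have S := O.sys
  have hk : kap X 7 x ∈ X 15 := xc (S.kap_mem hx hx1) (by decide)
  have hl : lam X 7 x ∈ X 15 := xc (S.lam_mem hx hx1) (by decide)
  have hr := S.refl hx hx1
  set k := kap X 7 x with hkd
  set l := lam X 7 x with hld
  have hmu : muMap X 7 x = k * x * l := rfl
  have hly : y * l = l * y := ycomm hy hl 1 (by norm_num) (by decide)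
  have hky : y * k = k * y := ycomm hy hk 1 (by norm_num) (by decide)
  have h4 : ⁅x, y⁆ ∈ Yc X 4 := (aR' O hy hx 1 (by decide) (by decide) (by decide)).1
  have h2 : ⁅k, ⁅x, y⁆⁆ ∈ Yc X 2 := (aL' O h4 hk 2 (by decide) (by decide) (by decide)).1
  have hm : muMap X 7 x * y * (muMap X 7 x)⁻¹ ∈ Yc X 4 := Yc_refl hr hy (by decide)
  have e1 : muMap X 7 x * y * (muMap X 7 x)⁻¹ = ⁅k, ⁅x, y⁆⁆ * ⁅x, y⁆ * y := by
    rw [hmu]
    calc k * x * l * y * (k * x * l)⁻¹ = k * x * (l * y * l⁻¹) * x⁻¹ * k⁻¹ := by group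
      _ = k * (x * y * x⁻¹) * k⁻¹ := by rw [conj_eq_self hly.symm]; group
      _ = (k * ⁅x, y⁆ * k⁻¹) * (k * y * k⁻¹) := by rw [commutatorElement_def]; group
      _ = (k * ⁅x, y⁆ * k⁻¹) * y := by rw [conj_eq_self hky.symm]
      _ = ⁅k, ⁅x, y⁆⁆ * ⁅x, y⁆ * y := by
          congr 1
          rw [commutatorElement_def k]; group
  have hc42 : ⁅x, y⁆ * ⁅k, ⁅x, y⁆⁆ = ⁅k, ⁅x, y⁆⁆ * ⁅x, y⁆ := ycomm h4 (yx h2) 2 (by norm_num) (by decide)
  have e2 : (⁅x, y⁆)⁻¹ * (muMap X 7 x * y * (muMap X 7 x)⁻¹) = ⁅k, ⁅x, y⁆⁆ * y := by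
    rw [e1, ← hc42]; group
  have h7 : ⁅k, ⁅x, y⁆⁆ * y = 1 := by
    refine sd S 2 1 (by norm_num) (i := 2) (j := 4) ?_ ?_ (by decide)
    · exact ms (mul_mem (yx h2) (yx hy)) 0 (by norm_num) (by decide)
    · rw [← e2, seg_one]
      exact mul_mem (inv_mem (yx h4)) (yx hm)
  rw [h7] at e2
  exact (inv_mul_eq_one.mp e2).symm

/-- `μ(x)`, `x ∈ X 7`, centralises `X 3`. -/
theorem mu7_x3 [Finite G] (O : OctA X) {x b : G} (hx : x ∈ X 7) (hx1 : x ≠ 1) (hb : b ∈ X 3) :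
    b * muMap X 7 x = muMap X 7 x * b := by
  have S := O.sys
  have hk : kap X 7 x ∈ X 15 := xc (S.kap_mem hx hx1) (by decide)
  have hl : lam X 7 x ∈ X 15 := xc (S.lam_mem hx hx1) (by decide)
  have h1 : ∀ c ∈ X 15, b * c = c * b := fun c hc => (sevenK O 7 (by decide) (by decide) c hc b hb).symm
  have h2 : b * x = x * b := sevenK O 1 (by decide) (by decide) b hb x hx
  unfold muMap
  exact conj_comm_of (conj_comm_of (h1 _ hk) h2) (h1 _ hl)

/-- A torus element centralising `X 3` which maps `y` to `y'`. -/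
theorem exists_tor [Finite G] (O : OctA X) {y y' : G} (hy : y ∈ Yc X 2) (hy1 : y ≠ 1) (hy' : y' ∈ Yc X 2)
    (hy1' : y' ≠ 1) : ∃ h, Tor X h ∧ h * y * h⁻¹ = y' ∧ ∀ b ∈ X 3, b * h = h * b := by
  have S := O.sys
  obtain ⟨e, he, he1⟩ := S.exists_ne_one 7
  have hz : ⁅e, y'⁆ ∈ Yc X 4 := (aR' O hy' he 1 (by decide) (by decide) (by decide)).1
  have hz1 : ⁅e, y'⁆ ≠ 1 := by
    intro h
    rcases never_commute S 5 (by norm_num) (by norm_num) (i := 2) (j := 7) (by decide) (yx hy') he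
      (comm_eq_one.mp h).symm with h3 | h3
    · exact hy1' h3
    · exact he1 h3
  obtain ⟨s, hs, hsz⟩ := com_surj2 O hy hy1 hz
  have hs1 : s ≠ 1 := by
    rintro rfl
    rw [commutatorElement_one_left] at hsz
    exact hz1 hsz.symm
  have h1 := mu_y2 O hs hs1 hy
  have h2 := mu_y2 O he he1 hy'
  refine ⟨(muMap X 7 e)⁻¹ * muMap X 7 s, ?_, ?_, ?_⟩
  · have h3 := tor_of_refl (S.refl he he1).inv (S.refl hs hs1).inv
    rwa [inv_inv] at h3
  · rw [hsz, ← h2] at h1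
    calc (muMap X 7 e)⁻¹ * muMap X 7 s * y * ((muMap X 7 e)⁻¹ * muMap X 7 s)⁻¹
        = (muMap X 7 e)⁻¹ * (muMap X 7 s * y * (muMap X 7 s)⁻¹) * muMap X 7 e := by group
      _ = y' := by rw [h1]; group
  · intro b hb
    exact conj_comm_of (comm_inv_right (mu7_x3 O he he1 hb)) (mu7_x3 O hs hs1 hb)

/-- for fixed `y ∈ Y 2`, `y ≠ 1`: every `b ∈ X 3` is `b3(x, y)` for some `x ∈ X 8` -/
theorem B3_surj8 [Finite G] (O : OctA X) {y b : G} (hy : y ∈ Yc X 2) (hy1 : y ≠ 1)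
    (hb : b ∈ X 3) : ∃ x ∈ X 8, B3 X x y b := by
  by_cases hb1 : b = 1
  · subst hb1
    exact ⟨1, one_mem _, one_mem _, 1, one_mem _, 1, one_mem _, 1, one_mem _, by
      rw [commutatorElement_one_left]; simp⟩
  obtain ⟨x, hx, hnc⟩ := exists_nc O
  obtain ⟨y', hy', hB⟩ := B3_surj O hx hnc hb
  have hy1' : y' ≠ 1 := by
    rintro rfl
    have h3 : B3 X x 1 1 := ⟨one_mem _, 1, one_mem _, 1, one_mem _, 1, one_mem _, by
      rw [commutatorElement_one_right]; simp⟩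
    exact hb1 (B3_unique O.sys hB h3)
  obtain ⟨h, hh, h1, h2⟩ := exists_tor O hy' hy1' hy hy1
  have h3 := B3_tor hh hB
  rw [h1, conj_eq_self (h2 b hb).symm] at h3
  exact ⟨_, hh.mem hx, h3⟩

theorem card_X8 [Finite G] (O : OctA X) : Nat.card (X 8) = Nat.card (Yc X 8) * Nat.card (X 3) := by
  obtain ⟨y, hy, hy1⟩ := ne_even O 1 (by decide : 2 * (1 : ZMod (2 * 8)) = 2)
  choose f hf using fun x : X 8 => B3_exists O x.2 hy
  let φ : X 8 →* X 3 := MonoidHom.mk' (fun x => ⟨f x, (hf x).1⟩) (by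
    intro a b
    apply Subtype.ext
    change f (a * b) = f a * f b
    have h1 := B3_mul_left O a.2 (hf a) (hf b)
    rw [B3_unique O.sys (hf (a * b)) h1]
    exact O.odd_comm 1 _ (xc (hf b).1 (by decide)) _ (xc (hf a).1 (by decide)))
  have hsurj : Function.Surjective φ := by
    rintro ⟨b, hb⟩
    obtain ⟨x, hx, hB⟩ := B3_surj8 O hy hy1 hb
    exact ⟨⟨x, hx⟩, Subtype.ext (B3_unique O.sys (hf ⟨x, hx⟩) hB)⟩
  have hker : Nat.card φ.ker = Nat.card (Yc X 8) := by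
    refine Nat.card_congr ⟨fun x => ⟨x.1.1, ?_⟩, fun x => ⟨⟨x.1, yx x.2⟩, ?_⟩, fun x => rfl, fun x => rfl⟩
    · have h1 : f x.1 = 1 := congrArg Subtype.val (MonoidHom.mem_ker.mp x.2)
      have h2 := hf x.1
      rw [h1] at h2
      exact cm2_8 O x.1.2 (fun b hb => (nine_a O x.1.2 hy hy1 h2 b hb).symm)
    · rw [MonoidHom.mem_ker]
      apply Subtype.ext
      change f ⟨x.1, yx x.2⟩ = 1
      exact nine_b O (yx x.2) hy (fun x6 h6 => (ycomm x.2 h6 2 (by norm_num) (by decide)).symm) (hf ⟨x.1, yx x.2⟩)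
  have h1 := φ.ker.card_mul_index
  rw [Subgroup.index_ker, MonoidHom.range_eq_top.mpr hsurj, Subgroup.card_top, hker] at h1
  exact h1.symm

theorem cardY [Finite G] (O : OctA X) (i : ZMod (2 * 8)) : Nat.card (Yc X (2 * i)) = Nat.card (X (2 * i + 1)) := by
  rw [card_Y O.sys (i - 3) (k := 2 * i) (k' := 2) (by push_cast; ring), card_Y2 O]
  exact card_X O.sys (i - 2) (by push_cast; ring)

theorem cardX [Finite G] (O : OctA X) (i : ZMod (2 * 8)) :
    Nat.card (X (2 * i)) = Nat.card (X (2 * i + 1)) * Nat.card (X (2 * i + 1)) := by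
  rw [card_X O.sys i (k := 2 * i) (k' := 8) (by push_cast; ring), card_X8 O, ← cardY O i]
  rw [card_Y O.sys i (k := 2 * i) (k' := 8) (by push_cast; ring)]
  congr 1
  rw [cardY O i |> fun _ => card_Y2 O |>.symm]
  exact card_Y O.sys 1 (by decide)

end Cfsg.Agent.SplitTwo.OctTen788
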