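import Cfsg.Agent.SplitTwo.OctDefs

/-!
# Moufang octagons (S1144): tools (casts, `Yc`, shifted and mirrored systems)
-/

set_option autoImplicit false

namespace Cfsg.Agent.SplitTwo.OctTools

open Cfsg.Agent.SplitTwo Cfsg.Agent.SplitTwo.OctDefs
open scoped commutatorElement

universe u

variable {G : Type u} [Group G]

section Casts

variable {m : ℕ} {X : ZMod (2 * m) → Subgroup G}

theorem xc {i j : ZMod (2 * m)} {x : G} (hx : x ∈ X i) (h : i = j) : x ∈ X j := h ▸ hx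

theorem sc {i j : ZMod (2 * m)} {k : ℕ} {x : G} (hx : x ∈ seg X i k) (h : i = j) : x ∈ seg X j k := h ▸ hx

/-- membership of a root group element in a segment -/
theorem ms {i j : ZMod (2 * m)} {k : ℕ} {x : G} (hx : x ∈ X j) (r : ℕ) (hr : r < k) (hj : j = i + (r : ℕ)) :
    x ∈ seg X i k := le_seg_one r hr hj hx

/-- sub-segment -/
theorem ss {i j : ZMod (2 * m)} {k l : ℕ} {x : G} (hx : x ∈ seg X j l) (r : ℕ) (hr : r + l ≤ k)
    (hj : j = i + (r : ℕ)) : x ∈ seg X i k := seg_le_seg r hr hj hx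

/-- intersection of segments, with explicit indices -/
theorem si (S : Sys m X) {i j : ZMod (2 * m)} {x : G} (a k l : ℕ) (h : a + k + l ≤ m)
    (hx : x ∈ seg X i (a + k)) (hx' : x ∈ seg X j (k + l)) (hj : i + (a : ℕ) = j) : x ∈ seg X j k := by
  subst hj
  exact S.seg_inter i a k l h hx hx'

/-- disjoint segments -/
theorem sd (S : Sys m X) {i j : ZMod (2 * m)} {x : G} (a b : ℕ) (h : a + b ≤ m)
    (hx : x ∈ seg X i a) (hx' : x ∈ seg X j b) (hj : i + (a : ℕ) = j) : x = 1 := by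
  subst hj
  exact S.seg_disjoint i h hx hx'

/-- commutator `⁅a, b⁆` with `a ∈ X i`, `b ∈ X (i+k+1)` -/
theorem cm (S : Sys m X) {i j l : ZMod (2 * m)} {a b : G} (k : ℕ) (hk : k + 1 < m) (ha : a ∈ X i) (hb : b ∈ X j)
    (hj : i + ((k + 1 : ℕ) : ZMod (2 * m)) = j) (hl : i + 1 = l) : ⁅a, b⁆ ∈ seg X l k := by
  subst hj hl
  exact S.comm i k hk a ha b hb

/-- the same with the arguments exchanged -/
theorem cm' (S : Sys m X) {i j l : ZMod (2 * m)} {a b : G} (k : ℕ) (hk : k + 1 < m) (ha : a ∈ X i) (hb : b ∈ X j)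
    (hj : i + ((k + 1 : ℕ) : ZMod (2 * m)) = j) (hl : i + 1 = l) : ⁅b, a⁆ ∈ seg X l k := by
  rw [← commutatorElement_inv]
  exact inv_mem (cm S k hk ha hb hj hl)

/-- `X j` normalises the segment just left of it -/
theorem cr (S : Sys m X) {i j : ZMod (2 * m)} {b x : G} (k : ℕ) (hk : k < m) (hb : b ∈ X j)
    (hx : x ∈ seg X i k) (hj : i + (k : ℕ) = j) : b * x * b⁻¹ ∈ seg X i k := by
  subst hj
  exact S.conj_right i hk hb hx

/-- `X j` normalises the segment just right of it -/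
theorem cl (S : Sys m X) {i j : ZMod (2 * m)} {b x : G} (k : ℕ) (hk : k < m) (hb : b ∈ X j)
    (hx : x ∈ seg X i k) (hj : j + 1 = i) : b * x * b⁻¹ ∈ seg X i k := by
  subst hj
  exact S.conj_left j hk hb hx

theorem cr' (S : Sys m X) {i j : ZMod (2 * m)} {b x : G} (k : ℕ) (hk : k < m) (hb : b ∈ X j)
    (hx : x ∈ seg X i k) (hj : i + (k : ℕ) = j) : b⁻¹ * x * b ∈ seg X i k := by
  have := cr S k hk (inv_mem hb) hx hj
  rwa [inv_inv] at this

theorem cl' (S : Sys m X) {i j : ZMod (2 * m)} {b x : G} (k : ℕ) (hk : k < m) (hb : b ∈ X j)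
    (hx : x ∈ seg X i k) (hj : j + 1 = i) : b⁻¹ * x * b ∈ seg X i k := by
  have := cl S k hk (inv_mem hb) hx hj
  rwa [inv_inv] at this

/-- reflection on `X` -/
theorem rx {i j j' : ZMod (2 * m)} {n x : G} (hr : Refl X i n) (hx : x ∈ X j)
    (h : 2 * i + (m : ℕ) - j = j') : n * x * n⁻¹ ∈ X j' := h ▸ hr.mem hx

theorem rx' {i j j' : ZMod (2 * m)} {n x : G} (hr : Refl X i n) (hx : x ∈ X j)
    (h : 2 * i + (m : ℕ) - j = j') : n⁻¹ * x * n ∈ X j' := h ▸ hr.mem' hx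

end Casts

/-! ### Elementary group facts -/

theorem conj_comm_of {a b c : G} (h : a * b = b * a) (h' : a * c = c * a) : a * (b * c) = (b * c) * a := by
  rw [← mul_assoc, h, mul_assoc, h', mul_assoc]

theorem comm_inv_right {a b : G} (h : a * b = b * a) : a * b⁻¹ = b⁻¹ * a := by
  calc a * b⁻¹ = b⁻¹ * (b * a) * b⁻¹ := by group
    _ = b⁻¹ * (a * b) * b⁻¹ := by rw [h]
    _ = b⁻¹ * a := by group

theorem comm_inv_left {a b : G} (h : a * b = b * a) : a⁻¹ * b = b * a⁻¹ := (comm_inv_right h.symm).symm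

theorem conj_eq_self {a b : G} (h : a * b = b * a) : a * b * a⁻¹ = b := by
  rw [h]; group

theorem conj_eq_self' {a b : G} (h : a * b = b * a) : a⁻¹ * b * a = b := by
  rw [mul_assoc, ← h]; group

theorem comm_eq_one {a b : G} : ⁅a, b⁆ = 1 ↔ a * b = b * a := by
  rw [commutatorElement_def]
  constructor
  · intro h
    calc a * b = (a * b * a⁻¹ * b⁻¹) * (b * a) := by group
      _ = b * a := by rw [h, one_mul]
  · intro h
    rw [h]; group

theorem comm_comm_of {a b t : G} (h : t * a = a * t) (h' : t * b = b * t) : t * ⁅a, b⁆ = ⁅a, b⁆ * t := by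
  rw [commutatorElement_def]
  exact conj_comm_of (conj_comm_of (conj_comm_of h h') (comm_inv_right h)) (comm_inv_right h')

theorem comm_absorb_right {a b t : G} (h : t * a = a * t) (h' : t * b = b * t) : ⁅a, t * b⁆ = ⁅a, b⁆ := by
  have h1 := comm_comm_of h h'
  have e : ⁅a, t * b⁆ = (a * t) * b * a⁻¹ * b⁻¹ * t⁻¹ := by rw [commutatorElement_def]; group
  rw [e, ← h]
  have e2 : t * a * b * a⁻¹ * b⁻¹ * t⁻¹ = (t * ⁅a, b⁆) * t⁻¹ := by rw [commutatorElement_def]; group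
  rw [e2, h1]; group

theorem comm_absorb_left {a b t : G} (h : t * a = a * t) (h' : t * b = b * t) : ⁅t * a, b⁆ = ⁅a, b⁆ := by
  rw [← commutatorElement_inv, comm_absorb_right h' h, commutatorElement_inv]

/-- **Hall-Witt, special case**: if `c` and `a⁻¹ c a` commute with `b`, then `c` commutes with `⁅a, b⁆`. -/
theorem hw {a b c : G} (h1 : c * b = b * c) (h2 : (a⁻¹ * c * a) * b = b * (a⁻¹ * c * a)) :
    c * ⁅a, b⁆ = ⁅a, b⁆ * c := by
  have h3 : c * (a * b * a⁻¹) = (a * b * a⁻¹) * c := by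
    calc c * (a * b * a⁻¹) = a * ((a⁻¹ * c * a) * b) * a⁻¹ := by group
      _ = a * (b * (a⁻¹ * c * a)) * a⁻¹ := by rw [h2]
      _ = (a * b * a⁻¹) * c := by group
  rw [commutatorElement_def]
  exact conj_comm_of h3 (comm_inv_right h1)

/-! ### `Yc` -/

variable {X : ZMod (2 * 8) → Subgroup G}

theorem yx {k : ZMod (2 * 8)} {y : G} (hy : y ∈ Yc X k) : y ∈ X k := (mem_Yc.mp hy).1

theorem yc {i j : ZMod (2 * 8)} {x : G} (hx : x ∈ Yc X i) (h : i = j) : x ∈ Yc X j := h ▸ hx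

/-- `Yc X k` commutes with `X j`, `j = k - 4 + r`, `r ≤ 8` -/
theorem ycomm {k j : ZMod (2 * 8)} {y x : G} (hy : y ∈ Yc X k) (hx : x ∈ X j) (r : ℕ) (hr : r < 9)
    (hj : j = k - 4 + (r : ℕ)) : y * x = x * y :=
  (mem_Yc.mp hy).2 x (ms hx r hr hj)

/-- `Yc X k` commutes with a segment inside `k-4..k+4` -/
theorem ycomms {k j : ZMod (2 * 8)} {y x : G} (hy : y ∈ Yc X k) {l : ℕ} (hx : x ∈ seg X j l) (r : ℕ) (hr : r + l ≤ 9)
    (hj : j = k - 4 + (r : ℕ)) : y * x = x * y :=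
  (mem_Yc.mp hy).2 x (ss hx r hr hj)

/-- an element of `X k` commuting with `X (k-4+r)`, `r ≤ 8`, is in `Yc X k` -/
theorem mem_Yc_of {k : ZMod (2 * 8)} {x : G} (hx : x ∈ X k)
    (h : ∀ r < 9, ∀ y ∈ X (k - 4 + (r : ℕ)), x * y = y * x) : x ∈ Yc X k :=
  mem_Yc.mpr ⟨hx, commute_seg h⟩

theorem Yc_refl {k j j' : ZMod (2 * 8)} {n x : G} (hr : Refl X k n) (hx : x ∈ Yc X j)
    (h : 2 * k + ((8 : ℕ) : ZMod (2 * 8)) - j = j') : n * x * n⁻¹ ∈ Yc X j' := by
  subst h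
  rw [mem_Yc] at hx ⊢
  refine ⟨hr.mem hx.1, ?_⟩
  intro y hy
  have h1 : n⁻¹ * y * n ∈ seg X (j - 4) 9 := by
    refine hr.seg_mem' ?_ hy
    push_cast; ring
  have h2 := hx.2 _ h1
  calc n * x * n⁻¹ * y = n * (x * (n⁻¹ * y * n)) * n⁻¹ := by group
    _ = n * ((n⁻¹ * y * n) * x) * n⁻¹ := by rw [h2]
    _ = y * (n * x * n⁻¹) := by group

theorem Yc_refl' {k j j' : ZMod (2 * 8)} {n x : G} (hr : Refl X k n) (hx : x ∈ Yc X j)
    (h : 2 * k + ((8 : ℕ) : ZMod (2 * 8)) - j = j') : n⁻¹ * x * n ∈ Yc X j' := by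
  have := Yc_refl hr.inv hx h
  rwa [inv_inv] at this

theorem Yc_shift (c k : ZMod (2 * 8)) : Yc (fun j => X (j + c)) k = Yc X (k + c) := by
  ext x
  rw [mem_Yc, mem_Yc, seg_shift]
  have e : k - 4 + c = k + c - 4 := by ring
  rw [e]

theorem Yc_neg (k : ZMod (2 * 8)) : Yc (fun j => X (-j)) k = Yc X (-k) := by
  ext x
  rw [mem_Yc, mem_Yc, seg_neg]
  have e : -(k - 4) - ((9 : ℕ) : ZMod (2 * 8)) + 1 = -k - 4 := by push_cast; ring
  rw [e]

/-- Even shift. -/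
theorem shiftA (O : OctA X) (c : ZMod (2 * 8)) : OctA (fun j => X (j + 2 * c)) where
  sys := O.sys.shift (2 * c)
  ne := by
    intro i
    rw [Yc_shift, ← mul_add]
    exact O.ne (i + c)
  cen7 := by
    intro i v hv hc
    rw [seg_shift] at hv hc
    rw [Yc_shift]
    have e1 : 2 * i - 3 + 2 * c = 2 * (i + c) - 3 := by ring
    have e2 : 2 * i + 2 * c = 2 * (i + c) := by ring
    rw [e1] at hv hc
    rw [e2]
    exact O.cen7 (i + c) v hv hc
  cenL := by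
    intro i v hv hc
    rw [seg_shift] at hv hc
    rw [Yc_shift]
    have e1 : 2 * i - 2 + 2 * c = 2 * (i + c) - 2 := by ring
    have e2 : 2 * i + 2 * c = 2 * (i + c) := by ring
    rw [e1] at hc
    rw [e2] at hv ⊢
    exact O.cenL (i + c) v hv hc
  cenR := by
    intro i v hv hc
    rw [seg_shift] at hv hc
    rw [Yc_shift]
    have e1 : 2 * i - 4 + 2 * c = 2 * (i + c) - 4 := by ring
    have e2 : 2 * i + 2 * c = 2 * (i + c) := by ring
    have e3 : 2 * i - 1 + 2 * c = 2 * (i + c) - 1 := by ring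
    rw [e1] at hc
    rw [e3] at hv
    rw [e2]
    exact O.cenR (i + c) v hv hc
  aL := by
    intro i y hy x hx
    rw [Yc_shift] at hy ⊢
    have e1 : 2 * i - 5 + 2 * c = 2 * (i + c) - 5 := by ring
    have e2 : 2 * i + 2 * c = 2 * (i + c) := by ring
    have e3 : 2 * i - 2 + 2 * c = 2 * (i + c) - 2 := by ring
    rw [e2] at hy
    rw [e1] at hx
    rw [e3]
    exact O.aL (i + c) y hy x hx
  aR := by
    intro i y hy x hx
    rw [Yc_shift] at hy ⊢
    have e1 : 2 * i + 5 + 2 * c = 2 * (i + c) + 5 := by ring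
    have e2 : 2 * i + 2 * c = 2 * (i + c) := by ring
    have e3 : 2 * i + 2 + 2 * c = 2 * (i + c) + 2 := by ring
    rw [e2] at hy
    rw [e1] at hx
    rw [e3]
    exact O.aR (i + c) y hy x hx
  odd_comm := by
    intro i a ha b hb
    have e1 : 2 * i + 1 + 2 * c = 2 * (i + c) + 1 := by ring
    rw [e1] at ha hb
    exact O.odd_comm (i + c) a ha b hb

/-- Mirrored system. -/
theorem negA (O : OctA X) : OctA (fun j => X (-j)) where
  sys := O.sys.neg
  ne := by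
    intro i
    rw [Yc_neg]
    have e : -(2 * i) = 2 * (-i) := by ring
    rw [e]
    exact O.ne (-i)
  cen7 := by
    intro i v hv hc
    rw [seg_neg] at hv hc
    rw [Yc_neg]
    have e1 : -(2 * i - 3) - ((7 : ℕ) : ZMod (2 * 8)) + 1 = 2 * (-i) - 3 := by push_cast; ring
    have e2 : -(2 * i) = 2 * (-i) := by ring
    rw [e1] at hv hc
    rw [e2]
    exact O.cen7 (-i) v hv hc
  cenL := by
    intro i v hv hc
    rw [seg_neg] at hv hc
    rw [Yc_neg]
    have e1 : -(2 * i - 2) - ((7 : ℕ) : ZMod (2 * 8)) + 1 = 2 * (-i) - 4 := by push_cast; ring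
    have e2 : -(2 * i) = 2 * (-i) := by ring
    have e3 : -(2 * i) - ((2 : ℕ) : ZMod (2 * 8)) + 1 = 2 * (-i) - 1 := by push_cast; ring
    rw [e1] at hc
    rw [e3] at hv
    rw [e2]
    exact O.cenR (-i) v hv hc
  cenR := by
    intro i v hv hc
    rw [seg_neg] at hv hc
    rw [Yc_neg]
    have e1 : -(2 * i - 4) - ((7 : ℕ) : ZMod (2 * 8)) + 1 = 2 * (-i) - 2 := by push_cast; ring
    have e2 : -(2 * i) = 2 * (-i) := by ring
    have e3 : -(2 * i - 1) - ((2 : ℕ) : ZMod (2 * 8)) + 1 = 2 * (-i) := by push_cast; ring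
    rw [e1] at hc
    rw [e3] at hv
    rw [e2]
    exact O.cenL (-i) v hv hc
  aL := by
    intro i y hy x hx
    rw [Yc_neg] at hy ⊢
    have e1 : -(2 * i - 5) = 2 * (-i) + 5 := by ring
    have e2 : -(2 * i) = 2 * (-i) := by ring
    have e3 : -(2 * i - 2) = 2 * (-i) + 2 := by ring
    rw [e2] at hy
    rw [e1] at hx
    rw [e3]
    exact O.aR (-i) y hy x hx
  aR := by
    intro i y hy x hx
    rw [Yc_neg] at hy ⊢
    have e1 : -(2 * i + 5) = 2 * (-i) - 5 := by ring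
    have e2 : -(2 * i) = 2 * (-i) := by ring
    have e3 : -(2 * i + 2) = 2 * (-i) - 2 := by ring
    rw [e2] at hy
    rw [e1] at hx
    rw [e3]
    exact O.aL (-i) y hy x hx
  odd_comm := by
    intro i a ha b hb
    have e1 : -(2 * i + 1) = 2 * (-i - 1) + 1 := by ring
    rw [e1] at ha hb
    exact O.odd_comm (-i - 1) a ha b hb

/-! ### Numeral forms -/

theorem ne_even (O : OctA X) {k : ZMod (2 * 8)} (i : ZMod (2 * 8)) (h : 2 * i = k) : ∃ y ∈ Yc X k, y ≠ 1 :=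
  h ▸ O.ne i

/-- `y ∈ Y k`, `x ∈ X (k - 5)`: `⁅x, y⁆ ∈ Y (k - 2)` -/
theorem aL' (O : OctA X) {k j l : ZMod (2 * 8)} {y x : G} (hy : y ∈ Yc X k) (hx : x ∈ X j)
    (i : ZMod (2 * 8)) (h : k = 2 * i) (hj : j = 2 * i - 5) (hl : 2 * i - 2 = l) :
    ⁅x, y⁆ ∈ Yc X l ∧ ⁅y, x⁆ ∈ Yc X l := by
  subst h hj hl
  have := O.aL i y hy x hx
  refine ⟨?_, this⟩
  rw [← commutatorElement_inv]; exact inv_mem this

/-- `y ∈ Y k`, `x ∈ X (k + 5)`: `⁅x, y⁆ ∈ Y (k + 2)` -/
theorem aR' (O : OctA X) {k j l : ZMod (2 * 8)} {y x : G} (hy : y ∈ Yc X k) (hx : x ∈ X j)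
    (i : ZMod (2 * 8)) (h : k = 2 * i) (hj : j = 2 * i + 5) (hl : 2 * i + 2 = l) :
    ⁅x, y⁆ ∈ Yc X l ∧ ⁅y, x⁆ ∈ Yc X l := by
  subst h hj hl
  have := O.aR i y hy x hx
  refine ⟨?_, this⟩
  rw [← commutatorElement_inv]; exact inv_mem this

end Cfsg.Agent.SplitTwo.OctTools
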