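import Cfsg.Agent.SplitTwo.OctCoordM
import Cfsg.Agent.SplitTwo.OctSolve

/-!
# Moufang octagons (S1144, [8]): the torus part of the coordinates

`Act … h a1 a3 a5 a7 c2 c4 c6 c8`: `h` acts (`x ↦ h x h⁻¹`) on the coordinates of `CA` by scalars.
`act_h`: the element `n1 μ(x1 t)`. `Act.conj8`, `Act.conj1`: conjugates by `n8`, `n1`.
`act8`: the torus on `X 8` in terms of the matrix entries `P B N E H` of `CM`.
`tor`, `vs_mul`: the torus equations of `OctSolve.Eqs`. `tor7`, `tor8`: the torus fields of `OctCoordBDefs.Sym`.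
-/

set_option autoImplicit false

namespace Cfsg.Agent.SplitTwo.OctTorus

open Cfsg.Agent.SplitTwo Cfsg.Agent.SplitTwo.OctDefs Cfsg.Agent.SplitTwo.OctTools
open Cfsg.Agent.SplitTwo.OctSix Cfsg.Agent.SplitTwo.OctSkel Cfsg.Agent.SplitTwo.HexField
open Cfsg.Agent.SplitTwo.TorMaps Cfsg.Agent.SplitTwo.OctCoordA Cfsg.Agent.SplitTwo.OctCoordM
open scoped commutatorElement

universe u v

variable {G : Type u} [Group G] {X : ZMod (2 * 8) → Subgroup G} {F : Type v} [Field F]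

/-- `h` acts on the root groups by scalars. -/
structure Act (X : ZMod (2 * 8) → Subgroup G) (x1 x3 x5 x7 y2 y4 y6 y8 : F → G) (h : G)
    (a1 a3 a5 a7 c2 c4 c6 c8 : F) : Prop where
  tor : Tor X h
  ne1 : a1 ≠ 0
  ne3 : a3 ≠ 0
  ne5 : a5 ≠ 0
  ne7 : a7 ≠ 0
  ne2 : c2 ≠ 0
  ne4 : c4 ≠ 0
  ne6 : c6 ≠ 0
  ne8 : c8 ≠ 0
  d1 : ∀ s, h * x1 s * h⁻¹ = x1 (a1 * s)
  d3 : ∀ s, h * x3 s * h⁻¹ = x3 (a3 * s)
  d5 : ∀ s, h * x5 s * h⁻¹ = x5 (a5 * s)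
  d7 : ∀ s, h * x7 s * h⁻¹ = x7 (a7 * s)
  d2 : ∀ s, h * y2 s * h⁻¹ = y2 (c2 * s)
  d4 : ∀ s, h * y4 s * h⁻¹ = y4 (c4 * s)
  d6 : ∀ s, h * y6 s * h⁻¹ = y6 (c6 * s)
  d8 : ∀ s, h * y8 s * h⁻¹ = y8 (c8 * s)

theorem kk_conj (h a b : G) : h * kk a b * h⁻¹ = kk (h * a * h⁻¹) (h * b * h⁻¹) := by
  unfold kk; group

theorem mul_conj (h a b : G) : h * (a * b) * h⁻¹ = (h * a * h⁻¹) * (h * b * h⁻¹) := by group

theorem tor_conj {i : ZMod (2 * 8)} {n h : G} (hn : Refl X i n) (hh : Tor X h) : Tor X (n * h * n⁻¹) := by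
  intro j x
  have e : n * h * n⁻¹ * x * (n * h * n⁻¹)⁻¹ = n * (h * (n⁻¹ * x * n) * h⁻¹) * n⁻¹ := by group
  rw [e]
  have h1 := hn (2 * i + ((8 : ℕ) : ZMod (2 * 8)) - j) (h * (n⁻¹ * x * n) * h⁻¹)
  have e2 : 2 * i + ((8 : ℕ) : ZMod (2 * 8)) - (2 * i + ((8 : ℕ) : ZMod (2 * 8)) - j) = j := by ring
  rw [e2] at h1
  rw [h1, hh]
  have h2 := hn.inv j x
  rw [inv_inv] at h2
  exact h2

variable {n1 n8 e1 e8 : G} {x1 x3 x5 x7 y2 y4 y6 y8 : F → G}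

section

variable (C : CA X n1 n8 e1 e8 x1 x3 x5 x7 y2 y4 y6 y8)

include C

theorem n1i : n1⁻¹ = n1 := inv_eq_of_mul_eq_one_right C.n1s

theorem n8i : n8⁻¹ = n8 := inv_eq_of_mul_eq_one_right C.n8s

theorem refl1 : Refl X 1 n1 := C.n1d ▸ C.K.A.sys.refl C.e1m C.e1n

theorem refl8 : Refl X 8 n8 := C.n8d ▸ C.K.A.sys.refl (yx C.e8m) C.e8n

theorem dbl (t : F) : t + t = 0 := by linear_combination t * C.two

theorem neg_eq (t : F) : -t = t := by linear_combination (-t) * C.two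

/-- conjugation by `n1` (in both directions) -/
theorem cn1 {x y : G} (h : cj n1 x = y) : n1 * x * n1⁻¹ = y ∧ n1⁻¹ * x * n1 = y ∧
    n1 * y * n1⁻¹ = x ∧ n1⁻¹ * y * n1 = x := by
  have hi := n1i C
  have h1 : n1⁻¹ * x * n1 = y := h
  have h2 : n1 * y * n1⁻¹ = x := by rw [← h1]; group
  have h3 : n1 * x * n1⁻¹ = y := by rw [← h1, hi]
  have h4 : n1⁻¹ * y * n1 = x := by
    rw [← h2]
    rw [hi]
  exact ⟨h3, h1, h2, h4⟩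

theorem cn8 {x y : G} (h : cj n8 x = y) : n8 * x * n8⁻¹ = y ∧ n8⁻¹ * x * n8 = y ∧
    n8 * y * n8⁻¹ = x ∧ n8⁻¹ * y * n8 = x := by
  have hi := n8i C
  have h1 : n8⁻¹ * x * n8 = y := h
  have h2 : n8 * y * n8⁻¹ = x := by rw [← h1]; group
  have h3 : n8 * x * n8⁻¹ = y := by rw [← h1, hi]
  have h4 : n8⁻¹ * y * n8 = x := by
    rw [← h2]
    rw [hi]
  exact ⟨h3, h1, h2, h4⟩

/-- The action of `μ(x1 t)`. -/
theorem act_mu {t : F} (ht : t ≠ 0) : ∃ μ : G, μ = muMap X 1 (x1 t) ∧ μ * μ = 1 ∧ Refl X 1 μ ∧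
    (∀ w, μ * y6 w * μ⁻¹ = y4 (t * w)) ∧ (∀ w, μ * y4 w * μ⁻¹ = y6 (w / t)) ∧ ∀ s, μ * x5 s * μ⁻¹ = x5 s := by
  have O := C.K.A
  have S := O.sys
  have hx := C.p1.m t
  have hx1 : x1 t ≠ 1 := by
    intro h
    apply ht
    apply C.p1.inj
    rw [h, C.p1.zero]
  have hsq : (x1 t)⁻¹ = x1 t := by
    apply inv_eq_of_mul_eq_one_right
    rw [← C.p1.add, dbl C, C.p1.zero]
  obtain ⟨μ, hμ⟩ : ∃ μ, μ = muMap X 1 (x1 t) := ⟨_, rfl⟩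
  have hμi : μ = μ⁻¹ := by
    have h := S.muMap_inv hx hx1
    rw [hsq, ← hμ] at h
    exact h
  have hμμ : μ * μ = 1 := by
    nth_rewrite 2 [hμi]
    exact mul_inv_cancel μ
  have h6 : ∀ w, μ * y6 w * μ⁻¹ = y4 (t * w) := by
    intro w
    rw [hμ, mu_y6 O hx hx1 (C.q6.m w)]
    have e : ⁅x1 t, y6 w⁆ = kk (x1 (-t)) (y6 (-w)) := by
      rw [C.p1.neg, C.q6.neg, commutatorElement_def]
      unfold kk; group
    rw [e, C.a16]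
    congr 1
    ring
  refine ⟨μ, hμ, hμμ, hμ ▸ S.refl hx hx1, h6, ?_, ?_⟩
  · intro w
    have e : w = t * (w / t) := by field_simp
    have e2 : y4 w = μ * y6 (w / t) * μ⁻¹ := by rw [h6, ← e]
    rw [e2]
    calc μ * (μ * y6 (w / t) * μ⁻¹) * μ⁻¹ = (μ * μ) * y6 (w / t) * (μ * μ)⁻¹ := by group
      _ = y6 (w / t) := by rw [hμμ]; group
  · intro s
    have h := commute_mu (g := x5 s) S hx hx1 (fun z hz => (C.K.f4 1 z hz _ (C.p5.m s)).symm)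
      (fun z hz => C.K.f4 5 _ (C.p5.m s) z hz)
    rw [← hμ] at h
    have h' : μ⁻¹ * x5 s * μ = x5 s := h
    rw [← hμi] at h' ⊢
    exact h'

/-- The torus element `n1 μ(x1 t)`. -/
theorem act_h {t : F} (ht : t ≠ 0) : ∃ h b, b ≠ 0 ∧
    Act X x1 x3 x5 x7 y2 y4 y6 y8 h ((t ^ 2)⁻¹) b 1 b⁻¹ (b / t) t⁻¹ t (t / b) := by
  obtain ⟨μ, -, hμμ, hr, h6, h4, h5⟩ := act_mu C ht
  have O := C.K.A
  have S := O.sys
  have hi := n1i C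
  have hμi : μ⁻¹ = μ := inv_eq_of_mul_eq_one_right hμμ
  obtain ⟨h, hh⟩ : ∃ h, h = n1 * μ := ⟨_, rfl⟩
  have hT : Tor X h := by
    rw [hh, ← hμi]
    exact tor_of_refl (refl1 C) hr
  have key : ∀ x, h * x * h⁻¹ = n1 * (μ * x * μ⁻¹) * n1⁻¹ := by
    intro x; rw [hh]; group
  have d6 : ∀ s, h * y6 s * h⁻¹ = y6 (t * s) := by
    intro s; rw [key, h6]; exact (cn1 C (C.n1_4 _)).1
  have d4 : ∀ s, h * y4 s * h⁻¹ = y4 (t⁻¹ * s) := by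
    intro s; rw [key, h4, (cn1 C (C.n1_6 _)).1]
    congr 1
    field_simp
  have d5 : ∀ s, h * x5 s * h⁻¹ = x5 (1 * s) := by
    intro s; rw [key, h5, one_mul]; exact (cn1 C (C.n1_5 _)).1
  have d1 : ∀ s, h * x1 s * h⁻¹ = x1 ((t ^ 2)⁻¹ * s) := by
    intro s
    obtain ⟨s', hs'⟩ := (C.p1.mem _).mp (hT.mem (C.p1.m s))
    rw [← hs']
    congr 1
    have e := kk_conj h (x1 s) (y6 1)
    rw [C.a16, d4, d6, ← hs', C.a16] at e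
    have e2 := C.q4.inj e
    field_simp
    field_simp at e2
    linear_combination -e2
  obtain ⟨φ, hφ⟩ : ∃ φ : F → F, ∀ s, x3 (φ s) = h * x3 s * h⁻¹ := by
    have : ∀ s, ∃ s', x3 s' = h * x3 s * h⁻¹ := fun s => (C.p3.mem _).mp (hT.mem (C.p3.m s))
    choose φ hφ using this
    exact ⟨φ, hφ⟩
  obtain ⟨ψ, hψ⟩ : ∃ ψ : F → F, ∀ s, y8 (ψ s) = h * y8 s * h⁻¹ := by
    have : ∀ s, ∃ s', y8 s' = h * y8 s * h⁻¹ := fun s => (C.q8.mem _).mp (Yc_tor hT (C.q8.m s))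
    choose φ hφ using this
    exact ⟨φ, hφ⟩
  have hφψ : ∀ s w, φ s * ψ w = t * (s * w) := by
    intro s w
    have e := kk_conj h (x3 s) (y8 w)
    rw [C.a38, d6, ← hφ, ← hψ, C.a38] at e
    exact (C.q6.inj e).symm
  have h11 := hφψ 1 1
  rw [one_mul, mul_one] at h11
  have hb : φ 1 ≠ 0 := by
    intro h0
    rw [h0, zero_mul] at h11
    exact ht h11.symm
  have hc : ψ 1 ≠ 0 := by
    intro h0
    rw [h0, mul_zero] at h11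
    exact ht h11.symm
  have d3 : ∀ s, h * x3 s * h⁻¹ = x3 (φ 1 * s) := by
    intro s
    rw [← hφ]
    congr 1
    apply mul_right_cancel₀ hc
    rw [hφψ]
    linear_combination (-s) * h11
  have d8 : ∀ s, h * y8 s * h⁻¹ = y8 (t / φ 1 * s) := by
    intro s
    rw [← hψ]
    congr 1
    apply mul_left_cancel₀ hb
    rw [hφψ]
    field_simp
  -- symmetry
  have hn1 : n1 * h * n1⁻¹ = h⁻¹ := by
    have e1 : n1 * n1 = 1 := C.n1s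
    rw [hh, mul_inv_rev, hμi, hi]
    calc n1 * (n1 * μ) * n1 = (n1 * n1) * μ * n1 := by group
      _ = μ * n1 := by rw [e1, one_mul]
  have hsym : ∀ x, h * (n1⁻¹ * x * n1) * h⁻¹ = n1⁻¹ * (h⁻¹ * x * h) * n1 := by
    intro x
    have e1 : h * n1⁻¹ = n1⁻¹ * h⁻¹ := by rw [← hn1]; group
    have e2 : n1 * h⁻¹ = h * n1 := by
      have := congrArg (·⁻¹) e1
      simpa using this
    calc h * (n1⁻¹ * x * n1) * h⁻¹ = (h * n1⁻¹) * x * (n1 * h⁻¹) := by group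
      _ = n1⁻¹ * (h⁻¹ * x * h) * n1 := by rw [e1, e2]; group
  have d7 : ∀ s, h * x7 s * h⁻¹ = x7 ((φ 1)⁻¹ * s) := by
    intro s
    rw [← (cn1 C (C.n1_3 s)).2.1, hsym]
    have e : h⁻¹ * x3 s * h = x3 ((φ 1)⁻¹ * s) := by
      have e1 := d3 ((φ 1)⁻¹ * s)
      have e2 : φ 1 * ((φ 1)⁻¹ * s) = s := by field_simp
      rw [e2] at e1
      rw [← e1]; group
    rw [e]
    exact (cn1 C (C.n1_3 _)).2.1
  have d2 : ∀ s, h * y2 s * h⁻¹ = y2 (φ 1 / t * s) := by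
    intro s
    rw [← (cn1 C (C.n1_8 s)).2.1, hsym]
    have e : h⁻¹ * y8 s * h = y8 (φ 1 / t * s) := by
      have e1 := d8 (φ 1 / t * s)
      have e2 : t / φ 1 * (φ 1 / t * s) = s := by field_simp
      rw [e2] at e1
      rw [← e1]; group
    rw [e]
    exact (cn1 C (C.n1_8 _)).2.1
  exact ⟨h, φ 1, hb, hT, inv_ne_zero (pow_ne_zero 2 ht), hb, one_ne_zero, inv_ne_zero hb, div_ne_zero hb ht,
    inv_ne_zero ht, ht, div_ne_zero ht hb, d1, d3, d5, d7, d2, d4, d6, d8⟩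

variable {h : G} {a1 a3 a5 a7 c2 c4 c6 c8 : F}

theorem act_conj8 (A : Act X x1 x3 x5 x7 y2 y4 y6 y8 h a1 a3 a5 a7 c2 c4 c6 c8) :
    Act X x1 x3 x5 x7 y2 y4 y6 y8 (n8 * h * n8⁻¹) a7 a5 a3 a1 c6 c4 c2 (c2 / a5) := by
  have key : ∀ x, n8 * h * n8⁻¹ * x * (n8 * h * n8⁻¹)⁻¹ = n8 * (h * (n8⁻¹ * x * n8) * h⁻¹) * n8⁻¹ := by
    intro x; group
  have hT : Tor X (n8 * h * n8⁻¹) := tor_conj (refl8 C) A.tor
  have d3 : ∀ s, n8 * h * n8⁻¹ * x3 s * (n8 * h * n8⁻¹)⁻¹ = x3 (a5 * s) := by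
    intro s
    rw [key, (cn8 C (C.n8_3 s)).2.1, A.d5, (cn8 C (C.n8_5 _)).1]
  have d6 : ∀ s, n8 * h * n8⁻¹ * y6 s * (n8 * h * n8⁻¹)⁻¹ = y6 (c2 * s) := by
    intro s
    rw [key, (cn8 C (C.n8_6 s)).2.1, A.d2, (cn8 C (C.n8_2 _)).1]
  refine ⟨hT, A.ne7, A.ne5, A.ne3, A.ne1, A.ne6, A.ne4, A.ne2, div_ne_zero A.ne2 A.ne5, ?_, d3, ?_, ?_, ?_, ?_,
    d6, ?_⟩
  · intro s
    rw [key, (cn8 C (C.n8_1 s)).2.1, A.d7, (cn8 C (C.n8_7 _)).1]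
  · intro s
    rw [key, (cn8 C (C.n8_5 s)).2.1, A.d3, (cn8 C (C.n8_3 _)).1]
  · intro s
    rw [key, (cn8 C (C.n8_7 s)).2.1, A.d1, (cn8 C (C.n8_1 _)).1]
  · intro s
    rw [key, (cn8 C (C.n8_2 s)).2.1, A.d6, (cn8 C (C.n8_6 _)).1]
  · intro s
    rw [key, (cn8 C (C.n8_4 _ (yx (C.q4.m s)))).2.1, A.d4, (cn8 C (C.n8_4 _ (yx (C.q4.m _)))).1]
  · intro w
    obtain ⟨w', hw'⟩ := (C.q8.mem _).mp (Yc_tor hT (C.q8.m w))
    rw [← hw']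
    congr 1
    have e := kk_conj (n8 * h * n8⁻¹) (x3 1) (y8 w)
    rw [C.a38, d6, d3, ← hw', C.a38] at e
    have e2 := C.q6.inj e
    have := A.ne5
    field_simp
    linear_combination -e2

theorem act_conj1 (A : Act X x1 x3 x5 x7 y2 y4 y6 y8 h a1 a3 a5 a7 c2 c4 c6 c8) :
    Act X x1 x3 x5 x7 y2 y4 y6 y8 (n1 * h * n1⁻¹) (c6 / c4) a7 a5 a3 c8 c6 c4 c2 := by
  have key : ∀ x, n1 * h * n1⁻¹ * x * (n1 * h * n1⁻¹)⁻¹ = n1 * (h * (n1⁻¹ * x * n1) * h⁻¹) * n1⁻¹ := by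
    intro x; group
  have hT : Tor X (n1 * h * n1⁻¹) := tor_conj (refl1 C) A.tor
  have d4 : ∀ s, n1 * h * n1⁻¹ * y4 s * (n1 * h * n1⁻¹)⁻¹ = y4 (c6 * s) := by
    intro s
    rw [key, (cn1 C (C.n1_4 s)).2.1, A.d6, (cn1 C (C.n1_6 _)).1]
  have d6 : ∀ s, n1 * h * n1⁻¹ * y6 s * (n1 * h * n1⁻¹)⁻¹ = y6 (c4 * s) := by
    intro s
    rw [key, (cn1 C (C.n1_6 s)).2.1, A.d4, (cn1 C (C.n1_4 _)).1]
  refine ⟨hT, div_ne_zero A.ne6 A.ne4, A.ne7, A.ne5, A.ne3, A.ne8, A.ne6, A.ne4, A.ne2, ?_, ?_, ?_, ?_, ?_, d4,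
    d6, ?_⟩
  · intro s
    obtain ⟨s', hs'⟩ := (C.p1.mem _).mp (hT.mem (C.p1.m s))
    rw [← hs']
    congr 1
    have e := kk_conj (n1 * h * n1⁻¹) (x1 s) (y6 1)
    rw [C.a16, d4, d6, ← hs', C.a16] at e
    have e2 := C.q4.inj e
    have := A.ne4
    field_simp
    linear_combination -e2
  · intro s
    rw [key, (cn1 C (C.n1_3 s)).2.1, A.d7, (cn1 C (C.n1_7 _)).1]
  · intro s
    rw [key, (cn1 C (C.n1_5 s)).2.1, A.d5, (cn1 C (C.n1_5 _)).1]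
  · intro s
    rw [key, (cn1 C (C.n1_7 s)).2.1, A.d3, (cn1 C (C.n1_3 _)).1]
  · intro s
    rw [key, (cn1 C (C.n1_2 s)).2.1, A.d8, (cn1 C (C.n1_8 _)).1]
  · intro s
    rw [key, (cn1 C (C.n1_8 s)).2.1, A.d2, (cn1 C (C.n1_2 _)).1]

/-- The torus element of type `t` on `Y 8`. -/
theorem act_h' {t : F} (ht : t ≠ 0) : ∃ h b, b ≠ 0 ∧
    Act X x1 x3 x5 x7 y2 y4 y6 y8 h b ((t ^ 2)⁻¹) b 1 (b / t) (b / t) t⁻¹ t := by
  obtain ⟨h, b, hb, A⟩ := act_h C ht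
  have A2 := act_conj1 C (act_conj8 C A)
  have e : b / t / t⁻¹ = b := by field_simp
  rw [e, div_one] at A2
  exact ⟨_, b, hb, A2⟩

end

/-! ### The torus on `X 8` -/

section

variable {P B N E H : G → F} (M : CM X n1 n8 e1 e8 x1 x3 x5 x7 y2 y4 y6 y8 P B N E H)
  {h : G} {a1 a3 a5 a7 c2 c4 c6 c8 : F}

include M

/-- The torus on `X 8`. -/
theorem act8 (A : Act X x1 x3 x5 x7 y2 y4 y6 y8 h a1 a3 a5 a7 c2 c4 c6 c8) {g : G} (hg : g ∈ X 8) :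
    h * g * h⁻¹ ∈ X 8 ∧ P (h * g * h⁻¹) = a3 / c2 * P g ∧ B (h * g * h⁻¹) = a5 / c2 * B g ∧
    N (h * g * h⁻¹) = c6 / c2 * N g ∧ E (h * g * h⁻¹) = a5 / a3 * E g ∧ H (h * g * h⁻¹) = c6 / a3 * H g := by
  have C := M.A
  have z2 := A.ne2
  have z3 := A.ne3
  have hg' := A.tor.mem hg
  obtain ⟨g', hgg⟩ : ∃ g', g' = h * g * h⁻¹ := ⟨_, rfl⟩
  rw [← hgg] at hg' ⊢
  have key : ∀ x, h * cj g x * h⁻¹ = cj g' (h * x * h⁻¹) := by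
    intro x; rw [hgg]; unfold cj; group
  obtain ⟨d, hd⟩ := M.m2 g hg 1
  obtain ⟨d', hd'⟩ := M.m2 g' hg' (c2 * 1)
  have e := key (y2 1)
  rw [A.d2, hd, hd', mul_conj, mul_conj, mul_conj, mul_conj, A.d2, A.d3, A.d4, A.d5, A.d6] at e
  obtain ⟨-, q1, -, q2, q3⟩ := M.uniqW _ _ _ _ _ _ _ _ _ _ e
  obtain ⟨f, hf⟩ := M.m3 g hg 1
  obtain ⟨f', hf'⟩ := M.m3 g' hg' (a3 * 1)
  have i := key (x3 1)
  rw [A.d3, hf, hf', mul_conj, mul_conj, mul_conj, A.d3, A.d4, A.d5, A.d6] at i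
  have i2 : y2 0 * x3 (a3 * 1) * y4 (c4 * f) * x5 (a5 * (E g * 1)) * y6 (c6 * (H g * 1)) =
      y2 0 * x3 (a3 * 1) * y4 f' * x5 (E g' * (a3 * 1)) * y6 (H g' * (a3 * 1)) := by
    rw [C.q2.zero, one_mul (x3 _)]; exact i
  obtain ⟨-, -, -, q4, q5⟩ := M.uniqW _ _ _ _ _ _ _ _ _ _ i2
  refine ⟨hg', ?_, ?_, ?_, ?_, ?_⟩
  · field_simp
    linear_combination -q1
  · field_simp
    linear_combination -q2
  · field_simp
    linear_combination -q3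
  · field_simp
    linear_combination -q4
  · field_simp
    linear_combination -q5

/-- (T1) -/
theorem t1 {t : F} (ht : t ≠ 0) : ∃ h b, b ≠ 0 ∧
    Act X x1 x3 x5 x7 y2 y4 y6 y8 h ((t ^ 2)⁻¹) b 1 b⁻¹ (b / t) t⁻¹ t (t / b) ∧
    ∀ g ∈ X 8, h * g * h⁻¹ ∈ X 8 ∧ P (h * g * h⁻¹) = t * P g ∧ B (h * g * h⁻¹) = t / b * B g ∧
      b * N (h * g * h⁻¹) = t ^ 2 * N g ∧ b * E (h * g * h⁻¹) = E g ∧ b * H (h * g * h⁻¹) = t * H g := by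
  obtain ⟨h, b, hb, A⟩ := act_h M.A ht
  refine ⟨h, b, hb, A, ?_⟩
  intro g hg
  obtain ⟨h1, h2, h3, h4, h5, h6⟩ := act8 M A hg
  refine ⟨h1, ?_, ?_, ?_, ?_, ?_⟩
  · rw [h2]; field_simp
  · rw [h3]; field_simp
  · rw [h4]; field_simp
  · rw [h5]; field_simp
  · rw [h6]; field_simp

/-- (T2) -/
theorem vs_mul (t w : F) : N (y8 (t * w)) = N (y8 t) * N (y8 w) := by
  have C := M.A
  have h0 : N (y8 0) = 0 := by
    have h1 := M.N_mul (y8 0) (yx (C.q8.m 0)) (y8 0) (yx (C.q8.m 0))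
    rw [← C.q8.add, add_zero, M.P_y, M.B_y] at h1
    linear_combination -h1
  by_cases ht : t = 0
  · rw [ht, zero_mul, h0, zero_mul]
  obtain ⟨h, b, hb, A⟩ := act_h' C ht
  have key : ∀ w, N (y8 (t * w)) = b⁻¹ * N (y8 w) := by
    intro w
    obtain ⟨-, -, -, h3, -, -⟩ := act8 M A (yx (C.q8.m w))
    rw [A.d8] at h3
    rw [h3]; field_simp
  have h1 := key 1
  rw [mul_one, M.N_one, mul_one] at h1
  rw [key, h1]

section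

variable {x8 : F → F → G} (m8 : ∀ v w, x8 v w ∈ X 8) (P8 : ∀ v w, P (x8 v w) = v) (B8 : ∀ v w, B (x8 v w) = w)

include m8 P8 B8

/-- The torus on `X 8` in coordinates. -/
theorem act_x8 (A : Act X x1 x3 x5 x7 y2 y4 y6 y8 h a1 a3 a5 a7 c2 c4 c6 c8) (v w : F) :
    h * x8 v w * h⁻¹ = x8 (a3 / c2 * v) (a5 / c2 * w) := by
  obtain ⟨h1, h2, h3, -⟩ := act8 M A (m8 v w)
  apply M.inj _ h1 _ (m8 _ _)
  · rw [h2, P8, P8]
  · rw [h3, B8, B8]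

/-- The field `tor` of `OctSolve.Eqs`, with `eps v = E (x8 v 0)`, `g v = H (x8 v 0)`, `nu v = N (x8 v 0)`. -/
theorem tor (t : F) (ht : t ≠ 0) : ∃ b, b ≠ 0 ∧ (∀ v, b * E (x8 (t * v) 0) = E (x8 v 0)) ∧
    (∀ v, b * H (x8 (t * v) 0) = t * H (x8 v 0)) ∧ ∀ v, b * N (x8 (t * v) 0) = t ^ 2 * N (x8 v 0) := by
  obtain ⟨h, b, hb, A, hA⟩ := t1 M ht
  have e : ∀ v, h * x8 v 0 * h⁻¹ = x8 (t * v) 0 := by
    intro v
    rw [act_x8 M m8 P8 B8 A, mul_zero]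
    congr 1
    field_simp
  refine ⟨b, hb, ?_, ?_, ?_⟩
  · intro v
    rw [← e]; exact (hA _ (m8 v 0)).2.2.2.2.1
  · intro v
    rw [← e]; exact (hA _ (m8 v 0)).2.2.2.2.2
  · intro v
    rw [← e]; exact (hA _ (m8 v 0)).2.2.2.1

/-- The torus on `X 8`: the field `tor8` of `OctCoordBDefs.Sym`. -/
theorem tor8 {σ : F →+* F} (hE : ∀ v, E (x8 v 0) = σ v) (q : F) (hq : q ≠ 0) :
    ∃ h : G, h * x8 1 1 * h⁻¹ = x8 q (q * σ q) ∧ (∀ u, ∃ u', h * y2 u' * h⁻¹ = y2 u) ∧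
    (∀ t, ∃ t', h * x3 t * h⁻¹ = x3 t') ∧ (∀ t, ∃ t', h * x5 t * h⁻¹ = x5 t') ∧
    ∀ u, ∃ u', h * y6 u * h⁻¹ = y6 u' := by
  obtain ⟨h, b, hb, A, hA⟩ := t1 M hq
  have hbq : b * σ q = 1 := by
    have e : h * x8 1 0 * h⁻¹ = x8 q 0 := by
      rw [act_x8 M m8 P8 B8 A, mul_zero]
      congr 1
      field_simp
    have e2 := (hA _ (m8 1 0)).2.2.2.2.1
    rw [e, hE, hE, map_one] at e2
    exact e2
  have z2 := A.ne2
  refine ⟨h, ?_, ?_, fun t => ⟨_, A.d3 t⟩, fun t => ⟨_, A.d5 t⟩, fun t => ⟨_, A.d6 t⟩⟩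
  · rw [act_x8 M m8 P8 B8 A]
    congr 1
    · field_simp
    · field_simp
      linear_combination -hbq
  · intro u
    refine ⟨u / (b / q), ?_⟩
    rw [A.d2]
    congr 1
    field_simp

end

end

section

variable (C : CA X n1 n8 e1 e8 x1 x3 x5 x7 y2 y4 y6 y8)

include C

/-- The torus on `X 7`: the field `tor7` of `OctCoordBDefs.Sym`. -/
theorem tor7 [Finite F] (s : F) (hs : s ≠ 0) : ∃ h : G, h * x7 1 * h⁻¹ = x7 s ∧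
    (∀ t, ∃ t', h * x1 t' * h⁻¹ = x1 t) ∧ (∀ t, ∃ t', h * x3 t * h⁻¹ = x3 t') ∧
    ∀ t, ∃ t', h * x5 t * h⁻¹ = x5 t' := by
  have hinj : Function.Injective (fun x : F => x ^ 2) := by
    intro x y hxy
    have h1 : (x - y) ^ 2 = 0 := by
      have : x ^ 2 = y ^ 2 := hxy
      linear_combination this + (y ^ 2 - x * y) * C.two
    exact sub_eq_zero.mp (pow_eq_zero_iff (two_ne_zero) |>.mp h1)
  obtain ⟨t, ht⟩ := (Finite.injective_iff_surjective.mp hinj) s⁻¹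
  have ht' : t ^ 2 = s⁻¹ := ht
  have ht0 : t ≠ 0 := by
    rintro rfl
    rw [zero_pow two_ne_zero] at ht'
    exact inv_ne_zero hs ht'.symm
  obtain ⟨h, b, hb, A⟩ := act_h C ht0
  have A2 := act_conj8 C A
  rw [ht', inv_inv] at A2
  refine ⟨_, ?_, ?_, fun t => ⟨_, A2.d3 t⟩, fun t => ⟨_, A2.d5 t⟩⟩
  · rw [A2.d7, mul_one]
  · intro u
    refine ⟨u / b⁻¹, ?_⟩
    rw [A2.d1]
    congr 1
    field_simp

end

end Cfsg.Agent.SplitTwo.OctTorus
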