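import Cfsg.Agent.SplitTwo.QuadCoord
import Cfsg.Agent.TitsThree.PQAbs

/-!
# Positive relations of type `B₂` over an abstract pseudo-quadratic system
-/

set_option autoImplicit false

universe u

namespace Cfsg.Agent.SplitTwo.QuadPos

open Cfsg.Agent.TitsThree.PQAbs Cfsg.Agent.SplitTwo.QuadBase
open scoped commutatorElement

/-- Positive part of `B2Rel` over an abstract pseudo-quadratic system `S`, with the ranges of the
four families. -/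
structure Pos {G : Type*} [Group G] {F : Type*} [Field F] {T : Type*} [Group T] (S : Sys F T)
    (U1 U2 U3 U4 : Subgroup G) (x y : F → G) (z₁ z₂ : T → G) : Prop where
  x_add : ∀ a b, x (a + b) = x a * x b
  y_add : ∀ a b, y (a + b) = y a * y b
  z₁_mul : ∀ p q, z₁ (p * q) = z₁ p * z₁ q
  z₂_mul : ∀ p q, z₂ (p * q) = z₂ p * z₂ q
  x_inj : Function.Injective x
  y_inj : Function.Injective y
  z₁_inj : Function.Injective z₁
  z₂_inj : Function.Injective z₂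
  x_mem : ∀ g, g ∈ U1 ↔ ∃ a, x a = g
  z₁_mem : ∀ g, g ∈ U2 ↔ ∃ p, z₁ p = g
  y_mem : ∀ g, g ∈ U3 ↔ ∃ a, y a = g
  z₂_mem : ∀ g, g ∈ U4 ↔ ∃ p, z₂ p = g
  x_z₂ : ∀ a p, ⁅x a, z₂ p⁆ = z₁ (S.smul (S.σ a) p) * y (-(S.ε * a * S.σ (S.c p)))
  z₁_z₂ : ∀ p q, ⁅z₁ p, z₂ q⁆ = y (-S.h q p)
  x_y : ∀ a b, ⁅x a, y b⁆ = z₁ (S.tr (S.σ a * b))
  x_z₁ : ∀ a p, Commute (x a) (z₁ p)
  y_z₁ : ∀ b p, Commute (y b) (z₁ p)
  y_z₂ : ∀ b p, Commute (y b) (z₂ p)

theorem brk_inv_eq {G : Type*} [Group G] (u v : G) : ⁅u⁻¹, v⁆ = κ u v := by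
  unfold κ; rw [commutatorElement_def]; group

theorem brk_eq {G : Type*} [Group G] (u v : G) : ⁅u, v⁆ = κ u⁻¹ v := by
  unfold κ; rw [commutatorElement_def]; group

end Cfsg.Agent.SplitTwo.QuadPos
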