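import Cfsg.Agent.SplitTwo.MuMaps
import Cfsg.Agent.SplitTwo.QuadPos
import Cfsg.Agent.TitsThree.B2Derived

/-!
# Positive relations of type `B₂` and a root group system give a `B₂` package (S1144, `m = 4`)
-/

set_option autoImplicit false

namespace Cfsg.Agent.SplitTwo.QuadB2

open Cfsg.Agent.TitsThree.B2Pkg Cfsg.Agent.TitsThree.Siegel Cfsg.Agent.TitsThree
open scoped commutatorElement

universe u

variable {F : Type*} [Field F] {V : Type*} [AddCommGroup V] [Module F V]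

/-- Positive relations over a parameter system `D`, inside a root group system of type `B₂`. -/
structure PB {G : Type u} [Group G] (D : PQDatum F V) (X : ZMod (2 * 4) → Subgroup G) (x y : F → G)
    (z₁ z₂ : D.T → G) : Prop where
  S : Sys 4 X
  x_add : ∀ a b, x (a + b) = x a * x b
  y_add : ∀ a b, y (a + b) = y a * y b
  z₁_mul : ∀ p q, z₁ (p * q) = z₁ p * z₁ q
  z₂_mul : ∀ p q, z₂ (p * q) = z₂ p * z₂ q
  x_inj : Function.Injective x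
  y_inj : Function.Injective y
  z₁_inj : Function.Injective z₁
  z₂_inj : Function.Injective z₂
  x_mem : ∀ g, g ∈ X 1 ↔ ∃ a, x a = g
  z₁_mem : ∀ g, g ∈ X 2 ↔ ∃ p, z₁ p = g
  y_mem : ∀ g, g ∈ X 3 ↔ ∃ a, y a = g
  z₂_mem : ∀ g, g ∈ X 4 ↔ ∃ p, z₂ p = g
  x_z₂ : ∀ a p, ⁅x a, z₂ p⁆ = z₁ (D.sc a p) * y (-(D.ε * a * D.σ p.c))
  z₁_z₂ : ∀ p q, ⁅z₁ p, z₂ q⁆ = y (-D.h q.w p.w)
  x_y : ∀ a b, ⁅x a, y b⁆ = z₁ (D.tr a b)
  x_z₁ : ∀ a p, Commute (x a) (z₁ p)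
  y_z₁ : ∀ b p, Commute (y b) (z₁ p)
  y_z₂ : ∀ b p, Commute (y b) (z₂ p)

namespace PB

variable {G : Type u} [Group G] {D : PQDatum F V} {X : ZMod (2 * 4) → Subgroup G} {x y : F → G}
  {z₁ z₂ : D.T → G} (P : PB D X x y z₁ z₂)

include P

theorem mx (a : F) : x a ∈ X 1 := (P.x_mem _).2 ⟨a, rfl⟩
theorem mz₁ (a : D.T) : z₁ a ∈ X 2 := (P.z₁_mem _).2 ⟨a, rfl⟩
theorem my (a : F) : y a ∈ X 3 := (P.y_mem _).2 ⟨a, rfl⟩
theorem mz₂ (a : D.T) : z₂ a ∈ X 4 := (P.z₂_mem _).2 ⟨a, rfl⟩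

theorem x_zero : x 0 = 1 := add_zero' P.x_add
theorem y_zero : y 0 = 1 := add_zero' P.y_add
theorem z₁_one : z₁ 1 = 1 := mul_one' P.z₁_mul
theorem z₂_one : z₂ 1 = 1 := mul_one' P.z₂_mul
theorem x_neg (a : F) : x (-a) = (x a)⁻¹ := add_neg' P.x_add a
theorem y_neg (a : F) : y (-a) = (y a)⁻¹ := add_neg' P.y_add a
theorem z₁_inv (a : D.T) : z₁ a⁻¹ = (z₁ a)⁻¹ := mul_inv' P.z₁_mul a
theorem z₂_inv (a : D.T) : z₂ a⁻¹ = (z₂ a)⁻¹ := mul_inv' P.z₂_mul a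

theorem x_ne {a : F} (h : a ≠ 0) : x a ≠ 1 := fun e => h (P.x_inj (e.trans P.x_zero.symm))
theorem y_ne {a : F} (h : a ≠ 0) : y a ≠ 1 := fun e => h (P.y_inj (e.trans P.y_zero.symm))

theorem z₂_ne {p : D.T} (h : p.c ≠ 0) : z₂ p ≠ 1 := fun e =>
  h (PQDatum.T.c_eq_zero_iff.2 (P.z₂_inj (e.trans P.z₂_one.symm)))
theorem z₁_ne {p : D.T} (h : p.c ≠ 0) : z₁ p ≠ 1 := fun e =>
  h (PQDatum.T.c_eq_zero_iff.2 (P.z₁_inj (e.trans P.z₁_one.symm)))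

end PB

section idx
variable {G : Type u} [Group G] (X : ZMod (2 * 4) → Subgroup G)

theorem s41 : X 4 = seg X 4 1 := (seg_one X 4).symm
theorem s3_3 : X 3 ≤ seg X 3 2 := le_seg X 3 (k := 2) (r := 0) (by norm_num)
theorem s3_4 : X 4 ≤ seg X 3 2 := le_seg X 3 (k := 2) (r := 1) (by norm_num)
theorem s2_2 : X 2 ≤ seg X 2 3 := le_seg X 2 (k := 3) (r := 0) (by norm_num)
theorem s2_3 : X 3 ≤ seg X 2 3 := le_seg X 2 (k := 3) (r := 1) (by norm_num)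
theorem s2_4 : X 4 ≤ seg X 2 3 := le_seg X 2 (k := 3) (r := 2) (by norm_num)

end idx

section conj
variable {G : Type u} [Group G] {m : ℕ} {X : ZMod (2 * m) → Subgroup G}

theorem refl_conj {i i₀ : ZMod (2 * m)} {n g : G} (hn : Refl X i₀ n) (h : Refl X i g) :
    Refl X (2 * i₀ + (m : ℕ) - i) (n * g * n⁻¹) := by
  intro j x
  have e1 : 2 * (2 * i₀ + (m : ℕ) - i) + (m : ℕ) - j =
      2 * i₀ + (m : ℕ) - (2 * i + (m : ℕ) - (2 * i₀ + (m : ℕ) - j)) := by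
    have := two_m_cast m
    linear_combination this
  have e2 : n * g * n⁻¹ * x * (n * g * n⁻¹)⁻¹ = n * (g * (n⁻¹ * x * n⁻¹⁻¹) * g⁻¹) * n⁻¹ := by group
  rw [e1, e2, hn, h, hn.inv]

theorem isMu_conj {i i₀ : ZMod (2 * m)} {n u v w : G} (hn : Refl X i₀ n) (h : IsMu X i u v w) :
    IsMu X (2 * i₀ + (m : ℕ) - i) (n * u * n⁻¹) (n * v * n⁻¹) (n * w * n⁻¹) := by
  have e : 2 * i₀ + (m : ℕ) - i + (m : ℕ) = 2 * i₀ + (m : ℕ) - (i + (m : ℕ)) := by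
    have := two_m_cast m
    linear_combination this
  refine ⟨?_, ?_, ?_⟩
  · rw [e]; exact hn.mem h.1
  · rw [e]; exact hn.mem h.2.1
  · have e2 : n * v * n⁻¹ * (n * u * n⁻¹) * (n * w * n⁻¹) = n * (v * u * w) * n⁻¹ := by group
    rw [e2]
    exact refl_conj hn h.2.2

theorem lam_conj (S : Sys m X) {i i₀ : ZMod (2 * m)} {n u : G} (hn : Refl X i₀ n) (hu : u ∈ X i)
    (hu1 : u ≠ 1) : lam X (2 * i₀ + (m : ℕ) - i) (n * u * n⁻¹) = n * lam X i u * n⁻¹ := by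
  refine S.lam_eq (hn.mem hu) ?_ (isMu_conj hn (S.isMu hu hu1))
  intro h
  apply hu1
  simpa using h

end conj

namespace PB

variable {G : Type u} [Group G] {D : PQDatum F V} {X : ZMod (2 * 4) → Subgroup G} {x y : F → G}
  {z₁ z₂ : D.T → G} (P : PB D X x y z₁ z₂)

include P

/-! ### Components -/

theorem comp_yz {b b' : F} {q q' : D.T} (h : y b * z₂ q = y b' * z₂ q') : b = b' ∧ q = q' := by
  have h1 : (y b')⁻¹ * y b = 1 := by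
    apply P.S.inter_left 3 (k := 1) (by norm_num) (mul_mem (inv_mem (P.my b')) (P.my b))
    have e : (y b')⁻¹ * y b = z₂ q' * (z₂ q)⁻¹ := by
      rw [inv_mul_eq_iff_eq_mul, ← mul_assoc, ← h]; group
    rw [e]
    exact (s41 X).le (mul_mem (P.mz₂ q') (inv_mem (P.mz₂ q)))
  have h2 : b' = b := P.y_inj (inv_mul_eq_one.1 h1)
  subst h2
  exact ⟨rfl, P.z₂_inj (mul_left_cancel h)⟩

theorem comp_zyz {p p' : D.T} {b b' : F} {q q' : D.T}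
    (h : z₁ p * (y b * z₂ q) = z₁ p' * (y b' * z₂ q')) : p = p' ∧ b = b' ∧ q = q' := by
  have h1 : (z₁ p')⁻¹ * z₁ p = 1 := by
    apply P.S.inter_left 2 (k := 2) (by norm_num) (mul_mem (inv_mem (P.mz₁ p')) (P.mz₁ p))
    have e : (z₁ p')⁻¹ * z₁ p = (y b' * z₂ q') * (y b * z₂ q)⁻¹ := by
      rw [inv_mul_eq_iff_eq_mul, ← mul_assoc, ← h]; group
    rw [e]
    have h3 : ∀ b q, y b * z₂ q ∈ seg X (2 + 1) 2 := fun b q =>
      mul_mem (s3_3 X (P.my b)) (s3_4 X (P.mz₂ q))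
    exact mul_mem (h3 _ _) (inv_mem (h3 _ _))
  have h2 : p' = p := P.z₁_inj (inv_mul_eq_one.1 h1)
  subst h2
  exact ⟨rfl, P.comp_yz (mul_left_cancel h)⟩

theorem comp {a a' : F} {p p' : D.T} {b b' : F} {q q' : D.T}
    (h : x a * (z₁ p * (y b * z₂ q)) = x a' * (z₁ p' * (y b' * z₂ q'))) :
    a = a' ∧ p = p' ∧ b = b' ∧ q = q' := by
  have h1 : (x a')⁻¹ * x a = 1 := by
    apply P.S.inter_left 1 (k := 3) (by norm_num) (mul_mem (inv_mem (P.mx a')) (P.mx a))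
    have e : (x a')⁻¹ * x a = (z₁ p' * (y b' * z₂ q')) * (z₁ p * (y b * z₂ q))⁻¹ := by
      rw [inv_mul_eq_iff_eq_mul, ← mul_assoc, ← h]; group
    rw [e]
    have h3 : ∀ p b q, z₁ p * (y b * z₂ q) ∈ seg X (1 + 1) 3 := fun p b q =>
      mul_mem (s2_2 X (P.mz₁ p)) (mul_mem (s2_3 X (P.my b)) (s2_4 X (P.mz₂ q)))
    exact mul_mem (h3 _ _ _) (inv_mem (h3 _ _ _))
  have h2 : a' = a := P.x_inj (inv_mul_eq_one.1 h1)
  subst h2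
  exact ⟨rfl, P.comp_zyz (mul_left_cancel h)⟩

theorem comp_zy {p p' : D.T} {b b' : F} (h : z₁ p * y b = z₁ p' * y b') : p = p' ∧ b = b' := by
  have h1 := P.comp_zyz (p := p) (p' := p') (b := b) (b' := b') (q := 1) (q' := 1)
    (by rw [P.z₂_one, mul_one, mul_one, h])
  exact ⟨h1.1, h1.2.1⟩

/-! ### Conjugation formulas -/

theorem cxz₂ (a : F) (p : D.T) : x a * z₂ p * (x a)⁻¹ = z₁ (D.sc a p) * (y (-(D.ε * a * D.σ p.c)) * z₂ p) := by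
  rw [B2Rel.conj_of_br (P.x_z₂ a p), mul_assoc]

theorem cxy (a b : F) : x a * y b * (x a)⁻¹ = z₁ (D.tr a b) * y b := B2Rel.conj_of_br (P.x_y a b)

theorem cxz₁ (a : F) (p : D.T) : x a * z₁ p * (x a)⁻¹ = z₁ p := B2Rel.conj_of_commute (P.x_z₁ a p)

theorem cz₂x (p : D.T) (a : F) :
    z₂ p * x a * (z₂ p)⁻¹ = x a * (z₁ (D.sc (-a) p) * y (D.ε * a * D.σ p.c)) := by
  have h := P.x_z₂ (-a) p
  rw [commutatorElement_def, P.x_neg, inv_inv] at h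
  have e : z₂ p * x a * (z₂ p)⁻¹ = x a * ((x a)⁻¹ * z₂ p * x a * (z₂ p)⁻¹) := by group
  rw [e, h]
  congr 3
  ring

theorem cz₂z₁ (p q : D.T) : z₂ p * z₁ q * (z₂ p)⁻¹ = z₁ q * y (D.h p.w q.w) := by
  have h := P.z₁_z₂ q⁻¹ p
  rw [commutatorElement_def, P.z₁_inv, inv_inv, PQDatum.T.inv_w] at h
  have h2 : D.h p.w (-q.w) = -D.h p.w q.w := by
    have := D.smul_right (-1) p.w q.w
    simpa using this
  rw [h2, neg_neg] at h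
  have e : z₂ p * z₁ q * (z₂ p)⁻¹ = z₁ q * ((z₁ q)⁻¹ * z₂ p * z₁ q * (z₂ p)⁻¹) := by group
  rw [e, h]

theorem cz₂y (p : D.T) (b : F) : z₂ p * y b * (z₂ p)⁻¹ = y b :=
  B2Rel.conj_of_commute (P.y_z₂ b p).symm

theorem cz₁z₂ (q p : D.T) : z₁ q * z₂ p * (z₁ q)⁻¹ = y (-D.h p.w q.w) * z₂ p :=
  B2Rel.conj_of_br (P.z₁_z₂ q p)

/-! ### The reflections `N t = μ (x t)`, `M p = μ (z₂ p)` -/

omit P in
/-- `μ (x t)` -/
noncomputable def N (X : ZMod (2 * 4) → Subgroup G) (x : F → G) (t : F) : G := muMap X 1 (x t)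

omit P in
/-- `μ (z₂ p)` -/
noncomputable def M (X : ZMod (2 * 4) → Subgroup G) (z₂ : D.T → G) (p : D.T) : G := muMap X 4 (z₂ p)

theorem N_neg {t : F} (ht : t ≠ 0) : N X x (-t) = (N X x t)⁻¹ := by
  unfold N
  rw [P.x_neg, P.S.muMap_inv (P.mx t) (P.x_ne ht)]

theorem M_inv {p : D.T} (hp : p.c ≠ 0) : M X z₂ p⁻¹ = (M X z₂ p)⁻¹ := by
  unfold M
  rw [P.z₂_inv, P.S.muMap_inv (P.mz₂ p) (P.z₂_ne hp)]

theorem N_z₂ {t : F} (ht : t ≠ 0) (p : D.T) : N X x t * z₂ p * (N X x t)⁻¹ = z₁ (D.sc t p) := by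
  have h0 : -t ≠ 0 := neg_ne_zero.2 ht
  have h1 : (x (-t))⁻¹ * z₂ p * x (-t) * (z₂ p)⁻¹ = z₁ (D.sc t p) * y (-(D.ε * t * D.σ p.c)) := by
    rw [← P.x_z₂, commutatorElement_def, P.x_neg, inv_inv]
  have h2 := P.S.tw_left (i := 1) (P.mx (-t)) (P.x_ne h0) (P.mz₂ p) (P.mz₁ _)
    ((seg_one X 3).ge (P.my _)) h1
  have h3 := P.N_neg h0
  rw [neg_neg] at h3
  rw [h3, inv_inv]
  exact h2

theorem N_z₁ {t : F} (ht : t ≠ 0) (p : D.T) :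
    N X x t * z₁ p * (N X x t)⁻¹ = z₂ (D.sc (-t⁻¹) p) := by
  have h0 : -t ≠ 0 := neg_ne_zero.2 ht
  have h := P.N_z₂ h0 (D.sc (-t⁻¹) p)
  rw [P.N_neg ht, PQDatum.sc_sc, inv_inv] at h
  have e : -t * -t⁻¹ = 1 := by field_simp
  rw [e, PQDatum.sc_one] at h
  rw [← h]; group

theorem M_x {p : D.T} (hp : p.c ≠ 0) (a : F) :
    M X z₂ p * x a * (M X z₂ p)⁻¹ = y (D.ε * D.σ p.c * a) := by
  have h1 : (x a)⁻¹ * z₂ p * x a * (z₂ p)⁻¹ = z₁ (D.sc (-a) p) * y (D.ε * D.σ p.c * a) := by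
    have h := P.x_z₂ (-a) p
    rw [commutatorElement_def, P.x_neg, inv_inv] at h
    rw [h]
    congr 2; ring
  have h2 := P.S.tw_right (i := 1) (P.mx a) (P.mz₂ p) (P.z₂_ne hp) (P.my _)
    ((seg_one X 2).ge (P.mz₁ _)) h1
  exact h2

theorem M_y {p : D.T} (hp : p.c ≠ 0) (b : F) :
    M X z₂ p * y b * (M X z₂ p)⁻¹ = x (p.c⁻¹ * b) := by
  have h := P.M_x (p := p⁻¹) (D.inv_c_ne hp) (p.c⁻¹ * b)
  rw [P.M_inv hp] at h
  have e : D.ε * D.σ p⁻¹.c * (p.c⁻¹ * b) = b := by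
    rw [PQDatum.T.inv_c, map_mul, D.σσ, D.σε]
    have := D.ε_ne
    field_simp
  rw [e] at h
  rw [← h]; group

theorem M_x' {p : D.T} (hp : p.c ≠ 0) (a : F) :
    (M X z₂ p)⁻¹ * x a * M X z₂ p = y (p.c * a) := by
  have h := P.M_y hp (p.c * a)
  rw [inv_mul_cancel_left₀ hp] at h
  rw [← h]; group

theorem M_y' {p : D.T} (hp : p.c ≠ 0) (b : F) :
    (M X z₂ p)⁻¹ * y b * M X z₂ p = x (D.ε⁻¹ * (D.σ p.c)⁻¹ * b) := by
  have h := P.M_x hp (D.ε⁻¹ * (D.σ p.c)⁻¹ * b)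
  have e : D.ε * D.σ p.c * (D.ε⁻¹ * (D.σ p.c)⁻¹ * b) = b := by
    have := D.ε_ne
    have := D.σ_ne hp
    field_simp
  rw [e] at h
  rw [← h]; group

/-- `X 5` acts on `X 3`. -/
theorem X5_y {l : G} (hl : l ∈ X 5) (b : F) : ∃ s, l * y b * l⁻¹ = z₂ s * y b := by
  have h := P.S.comm 3 1 (by norm_num) (y b) (P.my b) l hl
  have h1 : ⁅l, y b⁆ ∈ X 4 := by
    rw [← commutatorElement_inv]
    exact inv_mem ((seg_one X 4).le h)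
  obtain ⟨s, hs⟩ := (P.z₂_mem _).1 h1
  exact ⟨s, by rw [hs, commutatorElement_def]; group⟩

theorem N_mem {t : F} (ht : t ≠ 0) {j : ZMod (2 * 4)} {g : G} (hg : g ∈ X j) :
    N X x t * g * (N X x t)⁻¹ ∈ X (2 * 1 + (4 : ℕ) - j) :=
  (P.S.refl (P.mx t) (P.x_ne ht)).mem hg

theorem M_mem {p : D.T} (hp : p.c ≠ 0) {j : ZMod (2 * 4)} {g : G} (hg : g ∈ X j) :
    M X z₂ p * g * (M X z₂ p)⁻¹ ∈ X (2 * 4 + (4 : ℕ) - j) :=
  (P.S.refl (P.mz₂ p) (P.z₂_ne hp)).mem hg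

omit [Field F] [AddCommGroup V] [Module F V] P in
theorem N_eq (t : F) : N X x t = kap X 1 (x t) * x t * lam X 1 (x t) := rfl

omit P in
theorem M_eq (p : D.T) : M X z₂ p = kap X 4 (z₂ p) * z₂ p * lam X 4 (z₂ p) := rfl

theorem N_y {t : F} (ht : t ≠ 0) (b : F) :
    N X x t * y b * (N X x t)⁻¹ = y (D.ε * t * (D.σ t)⁻¹ * D.σ b) := by
  obtain ⟨b', hb'⟩ := (P.y_mem _).1 (P.N_mem ht (P.my b) : _ ∈ X 3)
  obtain ⟨s, hs⟩ := P.X5_y (P.S.lam_mem (P.mx t) (P.x_ne ht)) b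
  have hk : (kap X 1 (x t))⁻¹ ∈ X 5 := inv_mem (P.S.kap_mem (P.mx t) (P.x_ne ht))
  obtain ⟨s', hs'⟩ := P.X5_y hk b'
  have h1 : z₂ s' * y b' = x t * (z₂ s * y b) * (x t)⁻¹ := by
    rw [← hs', ← hs, hb', N_eq]; group
  rw [mul_conj, P.cxz₂, P.cxy] at h1
  have h2 : x 0 * (z₁ 1 * (y b' * z₂ s')) =
      x 0 * (z₁ (D.sc t s * D.tr t b) * (y (-(D.ε * t * D.σ s.c) + b) * z₂ s)) := by
    rw [P.x_zero, P.z₁_one, one_mul, one_mul, one_mul, (P.y_z₂ b' s').eq, h1, P.z₁_mul, P.y_add]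
    have e1 : z₂ s * z₁ (D.tr t b) = z₁ (D.tr t b) * z₂ s := by
      have h3 := P.cz₂z₁ s (D.tr t b)
      rw [PQDatum.tr_w, D.zero_right, P.y_zero, mul_one] at h3
      exact mul_inv_eq_iff_eq_mul.1 h3
    have e2 := (P.y_z₁ (-(D.ε * t * D.σ s.c)) (D.tr t b)).eq
    have e3 := (P.y_z₂ b s).eq
    calc z₁ (D.sc t s) * (y (-(D.ε * t * D.σ s.c)) * z₂ s) * (z₁ (D.tr t b) * y b)
        = z₁ (D.sc t s) * (y (-(D.ε * t * D.σ s.c)) * (z₂ s * z₁ (D.tr t b)) * y b) := by group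
      _ = z₁ (D.sc t s) * ((y (-(D.ε * t * D.σ s.c)) * z₁ (D.tr t b)) * (z₂ s * y b)) := by
          rw [e1]; group
      _ = _ := by rw [e2, ← e3]; group
  obtain ⟨-, h3, h4, h5⟩ := P.comp h2
  rw [← hb', h4]
  have h6 := congrArg PQDatum.T.c h3
  rw [PQDatum.T.mul_c, PQDatum.tr_w, D.zero_left, PQDatum.tr_c, PQDatum.sc_c, PQDatum.T.one_c] at h6
  congr 1
  have h7 := congrArg D.σ h6
  have hσ := D.σ_ne ht
  have hε := D.ε_mul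
  simp only [map_zero, map_sub, map_add, map_mul, D.σσ] at h7
  have e8 : D.σ s.c * (D.σ t * t) = -(t * D.σ b) + D.σ D.ε * D.σ t * b := by
    linear_combination -h7
  have e9 : D.σ s.c = (-(t * D.σ b) + D.σ D.ε * D.σ t * b) / (D.σ t * t) := by
    rw [← e8]; field_simp
  rw [e9]
  field_simp
  linear_combination -(b * D.σ t) * hε

/-- `X 0` acts on `X 2`. -/
theorem X0_z₁ {l : G} (hl : l ∈ X 0) (p : D.T) : ∃ s, l * z₁ p * l⁻¹ = x s * z₁ p := by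
  have h := P.S.comm 0 1 (by norm_num) l hl (z₁ p) (P.mz₁ p)
  obtain ⟨s, hs⟩ := (P.x_mem _).1 ((seg_one X 1).le h)
  exact ⟨s, by rw [hs, commutatorElement_def]; group⟩

theorem M_z₁ {p : D.T} (hp : p.c ≠ 0) (q : D.T) :
    M X z₂ p * z₁ q * (M X z₂ p)⁻¹ = z₁ (D.refl p hp q) := by
  obtain ⟨q', hq'⟩ := (P.z₁_mem _).1 (P.M_mem hp (P.mz₁ q) : _ ∈ X 2)
  obtain ⟨s, hs⟩ := P.X0_z₁ (P.S.lam_mem (P.mz₂ p) (P.z₂_ne hp)) q
  have hk : (kap X 4 (z₂ p))⁻¹ ∈ X 0 := inv_mem (P.S.kap_mem (P.mz₂ p) (P.z₂_ne hp))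
  obtain ⟨s', hs'⟩ := P.X0_z₁ hk q'
  have h1 : x s' * z₁ q' = z₂ p * (x s * z₁ q) * (z₂ p)⁻¹ := by
    rw [← hs', ← hs, hq', M_eq]; group
  rw [mul_conj, P.cz₂x, P.cz₂z₁] at h1
  have h2 : x s' * (z₁ q' * (y 0 * z₂ 1)) =
      x s * (z₁ (D.sc (-s) p * q) * (y (D.ε * s * D.σ p.c + D.h p.w q.w) * z₂ 1)) := by
    rw [P.y_zero, P.z₂_one, one_mul, mul_one, mul_one, h1, P.z₁_mul, P.y_add]
    have e2 := (P.y_z₁ (D.ε * s * D.σ p.c) q).eq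
    calc x s * (z₁ (D.sc (-s) p) * y (D.ε * s * D.σ p.c)) * (z₁ q * y (D.h p.w q.w))
        = x s * (z₁ (D.sc (-s) p) * (y (D.ε * s * D.σ p.c) * z₁ q) * y (D.h p.w q.w)) := by group
      _ = _ := by rw [e2]; group
  obtain ⟨h3, h4, h5, -⟩ := P.comp h2
  rw [← hq', h4]
  have hσ := D.σ_ne hp
  have hε := D.ε_mul
  have hsw := D.swap q.w p.w
  -- `s = -σ(h(q,p)) σ(c)⁻¹`
  have h6 : D.σ s * p.c = -D.h q.w p.w := by
    have h7 : D.σ s * p.c * (D.ε * D.σ D.ε) + D.h q.w p.w = 0 := by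
      have h8 := congrArg D.σ h5
      have h9 := D.swap p.w q.w
      simp only [map_zero, map_add, map_mul, D.σσ] at h8
      rw [h9]
      linear_combination (-D.ε) * h8
    rw [hε, mul_one] at h7
    linear_combination h7
  congr 1
  ext
  · rw [PQDatum.T.mul_w, PQDatum.sc_w, PQDatum.refl_w, add_comm]
    congr 2
    rw [map_neg]
    field_simp
    linear_combination -h6
  · rw [PQDatum.T.mul_c, PQDatum.sc_c, PQDatum.refl_c, PQDatum.sc_w, D.smul_right, map_neg, map_neg, D.σσ]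
    linear_combination s * h6

/-! ### Automorphisms of the positive part -/

theorem conj_rel {g : G} {a a' : F} {p p' r : D.T} {b : F} (h1 : g * x a * g⁻¹ = x a')
    (h2 : g * z₂ p * g⁻¹ = z₂ p') (h3 : g * z₁ (D.sc a p) * g⁻¹ = z₁ r)
    (h4 : g * y (-(D.ε * a * D.σ p.c)) * g⁻¹ = y b) :
    D.sc a' p' = r ∧ -(D.ε * a' * D.σ p'.c) = b := by
  apply P.comp_zy
  rw [← P.x_z₂, ← h1, ← h2, br_conj, P.x_z₂, mul_conj, h3, h4]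

theorem N_mem' {t : F} (ht : t ≠ 0) {j : ZMod (2 * 4)} {g : G} (hg : g ∈ X j) :
    (N X x t)⁻¹ * g * N X x t ∈ X (2 * 1 + (4 : ℕ) - j) :=
  (P.S.refl (P.mx t) (P.x_ne ht)).mem' hg

theorem M_mem' {p : D.T} (hp : p.c ≠ 0) {j : ZMod (2 * 4)} {g : G} (hg : g ∈ X j) :
    (M X z₂ p)⁻¹ * g * M X z₂ p ∈ X (2 * 4 + (4 : ℕ) - j) :=
  (P.S.refl (P.mz₂ p) (P.z₂_ne hp)).mem' hg

theorem N1_z₂ (p : D.T) : N X x 1 * z₂ p * (N X x 1)⁻¹ = z₁ p := by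
  rw [P.N_z₂ one_ne_zero, PQDatum.sc_one]

theorem N1_z₁ (p : D.T) : N X x 1 * z₁ p * (N X x 1)⁻¹ = z₂ (D.sc (-1) p) := by
  rw [P.N_z₁ one_ne_zero, inv_one]

theorem N1_y (b : F) : N X x 1 * y b * (N X x 1)⁻¹ = y (D.ε * D.σ b) := by
  rw [P.N_y one_ne_zero, map_one, inv_one, mul_one, mul_one]

theorem N1_z₁' (p : D.T) : (N X x 1)⁻¹ * z₁ p * N X x 1 = z₂ p := by
  rw [← P.N1_z₂ p]; group

theorem N1_z₂' (p : D.T) : (N X x 1)⁻¹ * z₂ p * N X x 1 = z₁ (D.sc (-1) p) := by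
  have h := P.N1_z₁ (D.sc (-1) p)
  rw [PQDatum.sc_sc, neg_one_mul, neg_neg, PQDatum.sc_one] at h
  rw [← h]; group

theorem N1_y' (b : F) : (N X x 1)⁻¹ * y b * N X x 1 = y (D.ε * D.σ b) := by
  have h := P.N1_y (D.ε * D.σ b)
  have e : D.ε * D.σ (D.ε * D.σ b) = b := by
    rw [map_mul, D.σσ]
    linear_combination b * D.ε_mul
  rw [e] at h
  rw [← h]; group

omit P in
/-- the opposite root elements -/
noncomputable def x' (X : ZMod (2 * 4) → Subgroup G) (x : F → G) (a : F) : G :=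
  N X x 1 * x (-a) * (N X x 1)⁻¹

theorem exists_c_ne : ∃ p : D.T, p.c ≠ 0 := by
  obtain ⟨g, hg, h1⟩ := P.S.exists_ne_one 4
  obtain ⟨p, rfl⟩ := (P.z₂_mem _).1 hg
  refine ⟨p, fun h => h1 ?_⟩
  rw [PQDatum.T.c_eq_zero_iff.1 h, P.z₂_one]

theorem N_x {t : F} (ht : t ≠ 0) (a : F) :
    N X x t * x a * (N X x t)⁻¹ = x' X x (-(t⁻¹ * t⁻¹ * a)) := by
  obtain ⟨p, hp⟩ := P.exists_c_ne
  obtain ⟨a', ha'⟩ := (P.x_mem _).1 (P.N_mem' one_ne_zero (P.N_mem ht (P.mx a) : _ ∈ X 5) : _ ∈ X 1)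
  have key := P.conj_rel (g := (N X x 1)⁻¹ * N X x t) (a := a) (a' := a') (p := p) (p' := D.sc t p)
    (r := D.sc t⁻¹ (D.sc a p)) (b := D.σ t * t⁻¹ * -(D.ε * a * D.σ p.c))
    (by rw [ha']; group)
    (by rw [← P.N1_z₁' (D.sc t p), ← P.N_z₂ ht]; group)
    (by
      have e : D.sc t⁻¹ (D.sc a p) = D.sc (-1) (D.sc (-t⁻¹) (D.sc a p)) := by
        rw [D.sc_sc (-1)]; congr 1; ring
      rw [e, ← P.N1_z₂', ← P.N_z₁ ht]; group)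
    (by
      set b := -(D.ε * a * D.σ p.c)
      have e : D.σ t * t⁻¹ * b = D.ε * D.σ (D.ε * t * (D.σ t)⁻¹ * D.σ b) := by
        simp only [map_mul, map_inv₀, D.σσ]
        linear_combination (-(D.σ t * t⁻¹ * b)) * D.ε_mul
      rw [e, ← P.N1_y', ← P.N_y ht]; group)
  have h2 := key.2
  rw [PQDatum.sc_c, map_mul, map_mul, D.σσ] at h2
  have hσt := D.σ_ne ht
  have hσ := D.σ_ne hp
  have hε := D.ε_ne
  have h3 : a' = t⁻¹ * t⁻¹ * a := by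
    have h4 : (D.ε * D.σ p.c * D.σ t) * (a' * t * t) = (D.ε * D.σ p.c * D.σ t) * a := by
      field_simp at h2 ⊢
      linear_combination -h2
    have h5 := mul_left_cancel₀ (mul_ne_zero (mul_ne_zero hε hσ) hσt) h4
    rw [← h5]; field_simp
  unfold x'
  rw [neg_neg, ← h3, ha']; group

omit [AddCommGroup V] [Module F V] P in
theorem N1_x (a : F) : N X x 1 * x a * (N X x 1)⁻¹ = x' X x (-a) := by
  unfold x'; rw [neg_neg]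

theorem N1_x' (a : F) : N X x 1 * x' X x a * (N X x 1)⁻¹ = x (-a) := by
  obtain ⟨p, hp⟩ := P.exists_c_ne
  obtain ⟨a', ha'⟩ := (P.x_mem _).1 (P.N_mem one_ne_zero
    (P.N_mem one_ne_zero (P.mx (-a)) : _ ∈ X 5) : _ ∈ X 1)
  have key := P.conj_rel (g := N X x 1 * N X x 1) (a := -a) (a' := a') (p := p) (p' := D.sc (-1) p)
    (r := D.sc (-1) (D.sc (-a) p)) (b := -(D.ε * (-a) * D.σ p.c))
    (by rw [ha']; group)
    (by rw [← P.N1_z₁, ← P.N1_z₂ p]; group)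
    (by rw [← P.N1_z₂ (D.sc (-1) (D.sc (-a) p)), ← P.N1_z₁]; group)
    (by
      set b := -(D.ε * (-a) * D.σ p.c)
      have e : b = D.ε * D.σ (D.ε * D.σ b) := by
        rw [map_mul, D.σσ]
        linear_combination (-b) * D.ε_mul
      conv_rhs => rw [e, ← P.N1_y, ← P.N1_y]
      group)
  have h2 := key.2
  rw [PQDatum.sc_c, map_neg, map_one, neg_one_mul, neg_neg, one_mul] at h2
  have h3 : a' = -a := by
    have h4 : (D.ε * D.σ p.c) * a' = (D.ε * D.σ p.c) * (-a) := by linear_combination -h2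
    exact mul_left_cancel₀ (mul_ne_zero D.ε_ne (D.σ_ne hp)) h4
  rw [← h3, ha']
  unfold x'
  group

omit P in
/-- the opposite root elements -/
noncomputable def z₂' (X : ZMod (2 * 4) → Subgroup G) (z₂ : D.T → G) (r : D.T) (hr : r.c ≠ 0)
    (q : D.T) : G :=
  M X z₂ r * z₂ (D.unrefl r hr (D.sc (D.σ r.c) q)) * (M X z₂ r)⁻¹

theorem M_z₁' {p : D.T} (hp : p.c ≠ 0) (q : D.T) :
    (M X z₂ p)⁻¹ * z₁ q * M X z₂ p = z₁ (D.unrefl p hp q) := by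
  have h := P.M_z₁ hp (D.unrefl p hp q)
  rw [PQDatum.refl_unrefl] at h
  rw [← h]; group

theorem M_z₂ {r : D.T} (hr : r.c ≠ 0) {p : D.T} (hp : p.c ≠ 0) (q : D.T) :
    M X z₂ p * z₂ q * (M X z₂ p)⁻¹ = z₂' X z₂ r hr (D.sc (D.σ p.c)⁻¹ (D.refl p hp q)) := by
  obtain ⟨q', hq'⟩ := (P.z₂_mem _).1 (P.M_mem' hr (P.M_mem hp (P.mz₂ q) : _ ∈ X 0) : _ ∈ X 4)
  have key := P.conj_rel (g := (M X z₂ r)⁻¹ * M X z₂ p) (a := 1)
    (a' := D.ε⁻¹ * (D.σ r.c)⁻¹ * (D.ε * D.σ p.c * 1)) (p := q) (p' := q')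
    (r := D.unrefl r hr (D.refl p hp (D.sc 1 q))) (b := r.c * (p.c⁻¹ * (-(D.ε * 1 * D.σ q.c))))
    (by rw [← P.M_y' hr, ← P.M_x hp]; group)
    (by rw [hq']; group)
    (by rw [← P.M_z₁' hr, ← P.M_z₁ hp]; group)
    (by rw [← P.M_x' hr, ← P.M_y hp]; group)
  have h2 := key.1
  rw [PQDatum.sc_one] at h2
  have hσr := D.σ_ne hr
  have hσp := D.σ_ne hp
  have hε := D.ε_ne
  have h3 : q' = D.unrefl r hr (D.sc (D.σ r.c) (D.sc (D.σ p.c)⁻¹ (D.refl p hp q))) := by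
    rw [PQDatum.sc_sc, PQDatum.unrefl_sc, ← h2, PQDatum.sc_sc]
    have e : D.σ r.c * (D.σ p.c)⁻¹ * (D.ε⁻¹ * (D.σ r.c)⁻¹ * (D.ε * D.σ p.c * 1)) = 1 := by
      field_simp
    rw [e, PQDatum.sc_one]
  unfold z₂'
  rw [← h3, hq']; group

theorem z₂'_eq {r : D.T} (hr : r.c ≠ 0) {p : D.T} (hp : p.c ≠ 0) (q : D.T) :
    z₂' X z₂ r hr q = z₂' X z₂ p hp q := by
  have h := P.M_z₂ hr hp (D.unrefl p hp (D.sc (D.σ p.c) q))
  rw [PQDatum.refl_unrefl, PQDatum.sc_sc, inv_mul_cancel₀ (D.σ_ne hp), PQDatum.sc_one] at h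
  exact h.symm

omit [AddCommGroup V] [Module F V] P in
theorem exists_x' (S : Sys 4 X) (hx : ∀ g, g ∈ X 1 ↔ ∃ a, x a = g) (h1 : x 1 ≠ 1) {g : G} (hg : g ∈ X 5) :
    ∃ a, x' X x a = g := by
  have h2 : (N X x 1)⁻¹ * g * N X x 1 ∈ X 1 := (S.refl ((hx _).2 ⟨1, rfl⟩) h1).mem' hg
  obtain ⟨a, ha⟩ := (hx _).1 h2
  refine ⟨-a, ?_⟩
  unfold x'
  rw [neg_neg, ha]; group

theorem x'_mem (g : G) : g ∈ X 5 ↔ ∃ a, x' X x a = g := by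
  refine ⟨fun h => exists_x' P.S P.x_mem (P.x_ne one_ne_zero) h, ?_⟩
  rintro ⟨a, rfl⟩
  exact P.N_mem one_ne_zero (P.mx (-a))

theorem z₂'_mem {r : D.T} (hr : r.c ≠ 0) (g : G) : g ∈ X 0 ↔ ∃ a, z₂' X z₂ r hr a = g := by
  constructor
  · intro hg
    obtain ⟨q, hq⟩ := (P.z₂_mem _).1 (P.M_mem' hr hg : _ ∈ X 4)
    refine ⟨D.sc (D.σ r.c)⁻¹ (D.refl r hr q), ?_⟩
    unfold z₂'
    rw [PQDatum.sc_sc, mul_inv_cancel₀ (D.σ_ne hr), PQDatum.sc_one, PQDatum.unrefl_refl, hq]; group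
  · rintro ⟨a, rfl⟩
    exact P.M_mem hr (P.mz₂ _)

theorem x'_add (a b : F) : x' X x (a + b) = x' X x a * x' X x b := by
  unfold x'; rw [neg_add, P.x_add, mul_conj]

theorem x'_neg (a : F) : x' X x (-a) = (x' X x a)⁻¹ := add_neg' P.x'_add a

theorem z₂'_mul {r : D.T} (hr : r.c ≠ 0) (p q : D.T) :
    z₂' X z₂ r hr (p * q) = z₂' X z₂ r hr p * z₂' X z₂ r hr q := by
  unfold z₂'
  rw [PQDatum.sc_mul]
  have e : D.unrefl r hr (D.sc (D.σ r.c) p * D.sc (D.σ r.c) q) =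
      D.unrefl r hr (D.sc (D.σ r.c) p) * D.unrefl r hr (D.sc (D.σ r.c) q) :=
    D.refl_mul _ _ _ _
  rw [e, P.z₂_mul, mul_conj]

theorem z₂'_inv {r : D.T} (hr : r.c ≠ 0) (p : D.T) :
    z₂' X z₂ r hr p⁻¹ = (z₂' X z₂ r hr p)⁻¹ := mul_inv' (P.z₂'_mul hr) p

/-! ### The partners -/

theorem lam_x {t : F} (ht : t ≠ 0) : lam X 1 (x t) = x' X x (-t⁻¹) := by
  obtain ⟨p, hp⟩ := P.exists_c_ne
  obtain ⟨r, hr⟩ := (P.x'_mem _).1 (P.S.lam_mem (P.mx t) (P.x_ne ht))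
  have hk : kap X 1 (x t) ∈ X 5 := P.S.kap_mem (P.mx t) (P.x_ne ht)
  -- first computation
  have h1 : lam X 1 (x t) * z₁ p * (lam X 1 (x t))⁻¹ = z₁ p *
      (y (D.ε * t * D.σ (D.sc (-t⁻¹) p).c) * z₂ (D.sc (-t⁻¹) p)) := by
    have h2 := P.N_z₁ ht p
    set q := D.sc (-t⁻¹) p with hq
    have h3 : z₂ q * kap X 1 (x t) = kap X 1 (x t) * z₂ q := P.S.comm_one 4 (P.mz₂ q) hk
    have h4 := P.cxz₂ (-t) q
    have e1 : D.sc (-t) q = p := by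
      rw [hq, PQDatum.sc_sc]
      have : -t * -t⁻¹ = 1 := by field_simp
      rw [this, PQDatum.sc_one]
    rw [e1, P.x_neg, inv_inv] at h4
    have e2 : -(D.ε * -t * D.σ q.c) = D.ε * t * D.σ q.c := by ring
    rw [e2] at h4
    rw [← h4]
    have h5 : x t * (lam X 1 (x t) * z₁ p * (lam X 1 (x t))⁻¹) * (x t)⁻¹ = z₂ q := by
      have h6 : kap X 1 (x t) * (x t * (lam X 1 (x t) * z₁ p * (lam X 1 (x t))⁻¹) * (x t)⁻¹) *
          (kap X 1 (x t))⁻¹ = z₂ q := by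
        rw [← h2, N_eq]; group
      have h7 : z₂ q = (kap X 1 (x t))⁻¹ * z₂ q * kap X 1 (x t) := by
        rw [mul_assoc, h3]; group
      rw [h7, ← h6]; group
    rw [← h5]; group
  -- second computation
  have h2 : lam X 1 (x t) * z₁ p * (lam X 1 (x t))⁻¹ = z₁ p *
      (y (D.σ r * p.c + D.h (D.sc r p).w p.w) * z₂ (D.sc r p)) := by
    rw [← hr]
    unfold x'
    have e1 : N X x 1 * x (-r) * (N X x 1)⁻¹ * z₁ p * (N X x 1 * x (-r) * (N X x 1)⁻¹)⁻¹ =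
        N X x 1 * (x (-r) * ((N X x 1)⁻¹ * z₁ p * N X x 1) * (x (-r))⁻¹) * (N X x 1)⁻¹ := by group
    rw [e1, P.N1_z₁', P.cxz₂, mul_conj, mul_conj, P.N1_z₁, P.N1_y, P.N1_z₂, PQDatum.sc_sc]
    have e2 : (-1 : F) * -r = r := by ring
    have e3 : D.ε * D.σ (-(D.ε * -r * D.σ p.c)) = D.σ r * p.c := by
      simp only [map_neg, map_mul, D.σσ]
      linear_combination (D.σ r * p.c) * D.ε_mul
    rw [e2, e3]
    have h3 := mul_inv_eq_iff_eq_mul.1 (P.cz₂z₁ (D.sc r p) p)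
    have h4 := (P.y_z₂ (D.σ r * p.c) (D.sc r p)).eq
    have h5 := (P.y_z₁ (D.σ r * p.c) p).eq
    calc z₂ (D.sc r p) * (y (D.σ r * p.c) * z₁ p)
        = z₂ (D.sc r p) * (z₁ p * y (D.σ r * p.c)) := by rw [h5]
      _ = z₂ (D.sc r p) * z₁ p * y (D.σ r * p.c) := by group
      _ = z₁ p * y (D.h (D.sc r p).w p.w) * z₂ (D.sc r p) * y (D.σ r * p.c) := by rw [h3]
      _ = z₁ p * y (D.h (D.sc r p).w p.w) * (z₂ (D.sc r p) * y (D.σ r * p.c)) := by group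
      _ = z₁ p * y (D.h (D.sc r p).w p.w) * (y (D.σ r * p.c) * z₂ (D.sc r p)) := by rw [h4]
      _ = _ := by rw [add_comm, P.y_add]; group
  have h3 := (P.comp_yz (mul_left_cancel (h1.symm.trans h2))).1
  rw [PQDatum.sc_c, PQDatum.sc_w, D.smul_left, map_mul, map_mul, D.σσ, map_neg, map_inv₀] at h3
  have h4 := p.rel
  have hσt := D.σ_ne ht
  have hσp := D.σ_ne hp
  have hε := D.ε_ne
  -- `σ r = -σ(t)⁻¹`
  have h5 : D.σ r = D.σ (-t⁻¹) := by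
    rw [map_neg, map_inv₀]
    have h6 : (D.ε * D.σ p.c) * D.σ r = (D.ε * D.σ p.c) * -(D.σ t)⁻¹ := by
      have h7 : D.ε * t * (-(D.σ t)⁻¹ * -t⁻¹ * D.σ p.c) = D.ε * D.σ p.c * (D.σ t)⁻¹ := by
        field_simp
      rw [h7] at h3
      linear_combination D.σ r * h4 + h3
    exact mul_left_cancel₀ (mul_ne_zero hε hσp) h6
  rw [← hr, D.σ.injective h5]

theorem kap_x {t : F} (ht : t ≠ 0) : kap X 1 (x t) = x' X x (-t⁻¹) := by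
  have h0 : -t ≠ 0 := neg_ne_zero.2 ht
  have h := P.S.kap_inv (P.mx (-t)) (P.x_ne h0)
  rw [P.lam_x h0, P.x_neg, inv_inv] at h
  rw [h, ← P.x'_neg, inv_neg, neg_neg]

theorem N_form {t : F} (ht : t ≠ 0) : N X x t = x' X x (-t⁻¹) * x t * x' X x (-t⁻¹) := by
  rw [N_eq, P.kap_x ht, P.lam_x ht]

theorem N1_form : N X x 1 = x 1 * x' X x (-1) * x 1 := by
  have h := P.N_form one_ne_zero
  rw [inv_one] at h
  have h1 := P.N1_x' (-1)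
  have h2 := N1_x (X := X) (x := x) 1
  rw [neg_neg] at h1
  calc N X x 1 = N X x 1 * N X x 1 * (N X x 1)⁻¹ := by group
    _ = N X x 1 * (x' X x (-1) * x 1 * x' X x (-1)) * (N X x 1)⁻¹ := by rw [← h]
    _ = _ := by rw [mul_conj, mul_conj, h1, h2]

theorem lam_z₂ {p : D.T} (hp : p.c ≠ 0) :
    lam X 4 (z₂ p) = z₂' X z₂ p hp (D.sc (-(D.ε * p.c⁻¹)) p) := by
  have hl : lam X 4 (z₂ p) ∈ X 0 := P.S.lam_mem (P.mz₂ p) (P.z₂_ne hp)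
  have hk : kap X 4 (z₂ p) ∈ X 0 := P.S.kap_mem (P.mz₂ p) (P.z₂_ne hp)
  obtain ⟨q, hq⟩ := (P.z₂_mem _).1 (P.M_mem' hp hl : _ ∈ X 4)
  have hq' : lam X 4 (z₂ p) = M X z₂ p * z₂ q * (M X z₂ p)⁻¹ := by rw [hq]; group
  -- first computation
  have h1 : lam X 4 (z₂ p) * y 1 * (lam X 4 (z₂ p))⁻¹ = x p.c⁻¹ *
      (z₁ (D.sc (-p.c⁻¹) p⁻¹) * y (D.ε * p.c⁻¹ * D.σ p⁻¹.c)) := by
    have h2 := P.M_y hp 1
    rw [mul_one] at h2
    rw [← P.cz₂x, P.z₂_inv, inv_inv]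
    have h3 : kap X 4 (z₂ p) * x p.c⁻¹ = x p.c⁻¹ * kap X 4 (z₂ p) := P.S.comm_one 0 hk (P.mx _)
    have h6 : kap X 4 (z₂ p) * (z₂ p * (lam X 4 (z₂ p) * y 1 * (lam X 4 (z₂ p))⁻¹) * (z₂ p)⁻¹) *
        (kap X 4 (z₂ p))⁻¹ = x p.c⁻¹ := by
      rw [← h2, M_eq]; group
    have h7 : x p.c⁻¹ = (kap X 4 (z₂ p))⁻¹ * x p.c⁻¹ * kap X 4 (z₂ p) := by
      rw [mul_assoc, ← h3]; group
    have h8 : z₂ p * (lam X 4 (z₂ p) * y 1 * (lam X 4 (z₂ p))⁻¹) * (z₂ p)⁻¹ = x p.c⁻¹ := by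
      rw [h7, ← h6]; group
    rw [← h8]; group
  -- second computation
  have h2 : lam X 4 (z₂ p) * y 1 * (lam X 4 (z₂ p))⁻¹ =
      x (p.c⁻¹ * (D.ε * (D.ε⁻¹ * (D.σ p.c)⁻¹ * 1) * D.σ q.c)) *
      (z₁ (D.tr (-(p.c⁻¹ * (D.ε * (D.ε⁻¹ * (D.σ p.c)⁻¹ * 1) * D.σ q.c)))
        (D.ε * D.σ p.c * (D.ε⁻¹ * (D.σ p.c)⁻¹ * 1)) *
        D.refl p hp (D.sc (-(D.ε⁻¹ * (D.σ p.c)⁻¹ * 1)) q)) *
        y (D.ε * D.σ p.c * (D.ε⁻¹ * (D.σ p.c)⁻¹ * 1))) := by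
    rw [hq']
    have e1 : M X z₂ p * z₂ q * (M X z₂ p)⁻¹ * y 1 * (M X z₂ p * z₂ q * (M X z₂ p)⁻¹)⁻¹ =
        M X z₂ p * (z₂ q * ((M X z₂ p)⁻¹ * y 1 * M X z₂ p) * (z₂ q)⁻¹) * (M X z₂ p)⁻¹ := by group
    rw [e1, P.M_y' hp, P.cz₂x, mul_conj, mul_conj, P.M_x hp, P.M_z₁ hp, P.M_y hp]
    set s := D.ε⁻¹ * (D.σ p.c)⁻¹ * 1 with hs
    set v := p.c⁻¹ * (D.ε * s * D.σ q.c) with hv
    set b := D.ε * D.σ p.c * s with hb
    have h3 := mul_inv_eq_iff_eq_mul.1 (P.cxy (-v) b)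
    have h4 := (P.y_z₁ b (D.refl p hp (D.sc (-s) q))).eq
    have h5 := (P.x_z₁ v (D.refl p hp (D.sc (-s) q))).eq
    calc y b * (z₁ (D.refl p hp (D.sc (-s) q)) * x v)
        = y b * (x v * z₁ (D.refl p hp (D.sc (-s) q))) := by rw [h5]
      _ = x v * (x (-v) * y b) * x v * z₁ (D.refl p hp (D.sc (-s) q)) := by rw [P.x_neg]; group
      _ = x v * (z₁ (D.tr (-v) b) * y b * x (-v)) * x v * z₁ (D.refl p hp (D.sc (-s) q)) := by rw [h3]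
      _ = x v * (z₁ (D.tr (-v) b) * (y b * z₁ (D.refl p hp (D.sc (-s) q)))) := by rw [P.x_neg]; group
      _ = _ := by rw [h4, P.z₁_mul]; group
  have h3 := h1.symm.trans h2
  have h4 : x p.c⁻¹ * (z₁ (D.sc (-p.c⁻¹) p⁻¹) * (y (D.ε * p.c⁻¹ * D.σ p⁻¹.c) * z₂ 1)) =
      x (p.c⁻¹ * (D.ε * (D.ε⁻¹ * (D.σ p.c)⁻¹ * 1) * D.σ q.c)) *
      (z₁ (D.tr (-(p.c⁻¹ * (D.ε * (D.ε⁻¹ * (D.σ p.c)⁻¹ * 1) * D.σ q.c)))
        (D.ε * D.σ p.c * (D.ε⁻¹ * (D.σ p.c)⁻¹ * 1)) *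
        D.refl p hp (D.sc (-(D.ε⁻¹ * (D.σ p.c)⁻¹ * 1)) q)) *
        (y (D.ε * D.σ p.c * (D.ε⁻¹ * (D.σ p.c)⁻¹ * 1)) * z₂ 1)) := by
    simpa only [P.z₂_one, mul_one] using h3
  obtain ⟨h5, h6, -, -⟩ := P.comp h4
  have hσ := D.σ_ne hp
  have hε := D.ε_ne
  have h7 : D.σ q.c = D.σ p.c := by
    have h8 : p.c⁻¹ * (D.ε * (D.ε⁻¹ * (D.σ p.c)⁻¹ * 1) * D.σ q.c) = p.c⁻¹ * ((D.σ p.c)⁻¹ * D.σ q.c) := by
      field_simp
    rw [h8] at h5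
    have h9 := mul_left_cancel₀ (inv_ne_zero hp) ((mul_one _).trans h5)
    have h10 : D.σ p.c * ((D.σ p.c)⁻¹ * D.σ q.c) = D.σ q.c := by field_simp
    rw [← h10, ← h9, mul_one]
  have h8 : q.c = p.c := D.σ.injective h7
  have h9 := congrArg PQDatum.T.w h6
  rw [PQDatum.T.mul_w, PQDatum.tr_w, zero_add, PQDatum.refl_sc, PQDatum.sc_w, PQDatum.sc_w,
    PQDatum.T.inv_w] at h9
  rw [hq', P.M_z₂ hp hp]
  congr 1
  ext
  · rw [PQDatum.sc_w, PQDatum.sc_w]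
    have h10 : (D.refl p hp q).w = -((D.σ (D.ε⁻¹ * (D.σ p.c)⁻¹))⁻¹ * D.σ p.c⁻¹) • p.w := by
      have h11 : D.σ (-(D.ε⁻¹ * (D.σ p.c)⁻¹ * 1)) ≠ 0 := by
        apply D.σ_ne
        rw [mul_one, neg_ne_zero]
        exact mul_ne_zero (inv_ne_zero hε) (inv_ne_zero hσ)
      have h12 : (D.refl p hp q).w = (D.σ (-(D.ε⁻¹ * (D.σ p.c)⁻¹ * 1)))⁻¹ • (D.σ (-p.c⁻¹) • -p.w) := by
        rw [h9, smul_smul, inv_mul_cancel₀ h11, one_smul]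
      rw [h12, smul_neg, smul_neg, smul_smul, ← neg_smul]
      congr 1
      rw [mul_one, map_neg, map_neg, inv_neg]
      ring
    rw [h10, smul_smul]
    congr 1
    simp only [map_neg, map_mul, map_inv₀, D.σσ]
    have e : D.σ D.ε ≠ 0 := D.σ_ne hε
    field_simp
  · rw [PQDatum.sc_c, PQDatum.refl_c, PQDatum.sc_c, h8]
    simp only [map_neg, map_mul, map_inv₀, D.σσ]
    have h13 := D.ε_mul
    field_simp
    linear_combination -h13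

theorem kap_z₂ {p : D.T} (hp : p.c ≠ 0) :
    kap X 4 (z₂ p) = z₂' X z₂ p hp (D.sc (-(D.σ p.c)⁻¹) p) := by
  have h0 : p⁻¹.c ≠ 0 := D.inv_c_ne hp
  have h := P.S.kap_inv (P.mz₂ p⁻¹) (P.z₂_ne h0)
  rw [P.lam_z₂ h0, P.z₂_inv, inv_inv] at h
  rw [h, ← P.z₂'_inv, P.z₂'_eq h0 hp]
  congr 1
  rw [← PQDatum.sc_inv, inv_inv]
  congr 2
  rw [PQDatum.T.inv_c]
  have := D.ε_ne
  have := D.σ_ne hp
  field_simp

theorem lam_z₂' {r : D.T} (hr : r.c ≠ 0) {p : D.T} (hp : p.c ≠ 0) :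
    lam X 4 (z₂ p) = z₂' X z₂ r hr (D.sc (-(D.ε * p.c⁻¹)) p) := by
  rw [P.lam_z₂ hp, P.z₂'_eq hp hr]

theorem M_form {r : D.T} (hr : r.c ≠ 0) {p : D.T} (hp : p.c ≠ 0) :
    M X z₂ p = z₂' X z₂ r hr (D.sc (-(D.σ p.c)⁻¹) p) * z₂ p *
      z₂' X z₂ r hr (D.sc (-(D.ε * p.c⁻¹)) p) := by
  rw [M_eq, P.kap_z₂ hp, P.lam_z₂ hp, P.z₂'_eq hp hr, P.z₂'_eq hp hr]

omit P in
/-- the opposite root elements -/
noncomputable def y' (X : ZMod (2 * 4) → Subgroup G) (x : F → G) (z₂ : D.T → G) (r : D.T) (b : F) : G :=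
  M X z₂ r * x' X x (-(D.σ r.c * D.σ b)) * (M X z₂ r)⁻¹

omit P in
/-- the opposite root elements -/
noncomputable def z₁' (X : ZMod (2 * 4) → Subgroup G) (x : F → G) (z₂ : D.T → G) (r : D.T)
    (hr : r.c ≠ 0) (q : D.T) : G :=
  N X x 1 * z₂' X z₂ r hr q * (N X x 1)⁻¹

omit P in
/-- the package -/
noncomputable def maps (X : ZMod (2 * 4) → Subgroup G) (x y : F → G) (z₁ z₂ : D.T → G) (r : D.T)
    (hr : r.c ≠ 0) : B2Maps D G where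
  x := x
  x' := x' X x
  y := y
  y' := y' X x z₂ r
  z₁ := z₁
  z₂ := z₂
  z₁' := z₁' X x z₂ r hr
  z₂' := z₂' X z₂ r hr

theorem nI_eq (r : D.T) (hr : r.c ≠ 0) : (maps X x y z₁ z₂ r hr).nI = N X x 1 := P.N1_form.symm

theorem nII_eq (r : D.T) (hr : r.c ≠ 0) {p : D.T} (hp : p.c ≠ 0) :
    (maps X x y z₁ z₂ r hr).nII p = M X z₂ p := (P.M_form hr hp).symm

theorem M_mul_y {p : D.T} (hp : p.c ≠ 0) (b : F) : M X z₂ p * y b * (M X z₂ p)⁻¹ = x (p.c⁻¹ * b) :=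
  P.M_y hp b

theorem refl_N {t : F} (ht : t ≠ 0) : Refl X 1 (N X x t) := P.S.refl (P.mx t) (P.x_ne ht)

theorem refl_M {p : D.T} (hp : p.c ≠ 0) : Refl X 4 (M X z₂ p) := P.S.refl (P.mz₂ p) (P.z₂_ne hp)

theorem lam_N {t : F} (ht : t ≠ 0) {j : ZMod (2 * 4)} {g : G} (hg : g ∈ X j) (h1 : g ≠ 1) :
    lam X (2 * 1 + (4 : ℕ) - j) (N X x t * g * (N X x t)⁻¹) = N X x t * lam X j g * (N X x t)⁻¹ :=
  lam_conj P.S (P.refl_N ht) hg h1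

theorem lam_M {p : D.T} (hp : p.c ≠ 0) {j : ZMod (2 * 4)} {g : G} (hg : g ∈ X j) (h1 : g ≠ 1) :
    lam X (2 * 4 + (4 : ℕ) - j) (M X z₂ p * g * (M X z₂ p)⁻¹) =
      M X z₂ p * lam X j g * (M X z₂ p)⁻¹ :=
  lam_conj P.S (P.refl_M hp) hg h1

/-- (Λ2) -/
theorem lam_z₁ {r : D.T} (hr : r.c ≠ 0) {p : D.T} (hp : p.c ≠ 0) :
    lam X 2 (z₁ p) = z₁' X x z₂ r hr (D.sc (-(D.ε * p.c⁻¹)) p) := by
  have h : lam X 2 (N X x 1 * z₂ p * (N X x 1)⁻¹) = N X x 1 * lam X 4 (z₂ p) * (N X x 1)⁻¹ :=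
    P.lam_N one_ne_zero (P.mz₂ p) (P.z₂_ne hp)
  rw [P.N1_z₂, P.lam_z₂' hr hp] at h
  exact h

/-- (Λ3) -/
theorem lam_y {r : D.T} (hr : r.c ≠ 0) {b : F} (hb : b ≠ 0) :
    lam X 3 (y b) = y' X x z₂ r (D.ε⁻¹ * (D.σ b)⁻¹) := by
  have hε := D.ε_ne
  have hσ := D.σ_ne hr
  have hσb := D.σ_ne hb
  have ht : D.ε⁻¹ * (D.σ r.c)⁻¹ * b ≠ 0 :=
    mul_ne_zero (mul_ne_zero (inv_ne_zero hε) (inv_ne_zero hσ)) hb
  have h : lam X 3 (M X z₂ r * x (D.ε⁻¹ * (D.σ r.c)⁻¹ * b) * (M X z₂ r)⁻¹) =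
      M X z₂ r * lam X 1 (x (D.ε⁻¹ * (D.σ r.c)⁻¹ * b)) * (M X z₂ r)⁻¹ := by
    exact P.lam_M hr (P.mx _) (P.x_ne ht)
  rw [P.M_x hr, P.lam_x ht] at h
  have e : D.ε * D.σ r.c * (D.ε⁻¹ * (D.σ r.c)⁻¹ * b) = b := by field_simp
  rw [e] at h
  rw [h]
  unfold y'
  congr 3
  have h13 := D.ε_mul
  have e2 : D.σ D.ε ≠ 0 := D.σ_ne hε
  simp only [map_mul, map_inv₀, D.σσ, D.σε]
  field_simp

theorem nII_x' {r : D.T} (hr : r.c ≠ 0) {p : D.T} (hp : p.c ≠ 0) (a : F) :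
    M X z₂ p * x' X x a * (M X z₂ p)⁻¹ = y' X x z₂ r (-(p.c⁻¹ * D.σ a)) := by
  by_cases ha : a = 0
  · subst ha
    have h0 : x' X x 0 = 1 := by unfold x'; rw [neg_zero, P.x_zero]; group
    unfold y'
    rw [map_zero, mul_zero, neg_zero, map_zero, mul_zero, neg_zero, h0]; group
  have hε := D.ε_ne
  have hσ := D.σ_ne hp
  have hσa := D.σ_ne ha
  have ht : -a⁻¹ ≠ 0 := neg_ne_zero.2 (inv_ne_zero ha)
  have h : lam X 3 (M X z₂ p * x (-a⁻¹) * (M X z₂ p)⁻¹) =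
      M X z₂ p * lam X 1 (x (-a⁻¹)) * (M X z₂ p)⁻¹ := by
    exact P.lam_M hp (P.mx _) (P.x_ne ht)
  have e : -(-a⁻¹)⁻¹ = a := by rw [inv_neg, neg_neg, inv_inv]
  have hb : D.ε * D.σ p.c * -a⁻¹ ≠ 0 := mul_ne_zero (mul_ne_zero hε hσ) ht
  rw [P.M_x hp, P.lam_x ht, e, P.lam_y hr hb] at h
  rw [← h]
  congr 1
  simp only [map_mul, map_inv₀, map_neg, D.σσ, D.σε]
  field_simp

theorem nII_y' {r : D.T} (hr : r.c ≠ 0) {p : D.T} (hp : p.c ≠ 0) (b : F) :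
    M X z₂ p * y' X x z₂ r b * (M X z₂ p)⁻¹ = x' X x (-(D.ε⁻¹ * p.c * D.σ b)) := by
  have hε := D.ε_ne
  have hσ := D.σ_ne hp
  by_cases hb : b = 0
  · subst hb
    have h0 : x' X x 0 = 1 := by unfold x'; rw [neg_zero, P.x_zero]; group
    unfold y'
    rw [map_zero, mul_zero, mul_zero, neg_zero, h0]; group
  have hσb := D.σ_ne hb
  have hb1 : D.ε * (D.σ b)⁻¹ ≠ 0 := mul_ne_zero hε (inv_ne_zero hσb)
  have h : lam X 1 (M X z₂ p * y (D.ε * (D.σ b)⁻¹) * (M X z₂ p)⁻¹) =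
      M X z₂ p * lam X 3 (y (D.ε * (D.σ b)⁻¹)) * (M X z₂ p)⁻¹ := by
    exact P.lam_M hp (P.my _) (P.y_ne hb1)
  have ht : p.c⁻¹ * (D.ε * (D.σ b)⁻¹) ≠ 0 := mul_ne_zero (inv_ne_zero hp) hb1
  have e : D.ε⁻¹ * (D.σ (D.ε * (D.σ b)⁻¹))⁻¹ = b := by
    simp only [map_mul, map_inv₀, D.σσ, D.σε]
    field_simp
  rw [P.M_y hp, P.lam_x ht, P.lam_y hr hb1, e] at h
  rw [← h]
  congr 1
  field_simp

theorem nI_y' {r : D.T} (hr : r.c ≠ 0) (b : F) :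
    N X x 1 * y' X x z₂ r b * (N X x 1)⁻¹ = y' X x z₂ r (D.ε⁻¹ * D.σ b) := by
  have hε := D.ε_ne
  by_cases hb : b = 0
  · subst hb
    have h0 : x' X x 0 = 1 := by unfold x'; rw [neg_zero, P.x_zero]; group
    unfold y'
    rw [map_zero, mul_zero, mul_zero, neg_zero, map_zero, mul_zero, neg_zero, h0]; group
  have hσb := D.σ_ne hb
  have hb1 : D.ε * (D.σ b)⁻¹ ≠ 0 := mul_ne_zero hε (inv_ne_zero hσb)
  have h : lam X 3 (N X x 1 * y (D.ε * (D.σ b)⁻¹) * (N X x 1)⁻¹) =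
      N X x 1 * lam X 3 (y (D.ε * (D.σ b)⁻¹)) * (N X x 1)⁻¹ := by
    exact P.lam_N one_ne_zero (P.my _) (P.y_ne hb1)
  have e : D.ε⁻¹ * (D.σ (D.ε * (D.σ b)⁻¹))⁻¹ = b := by
    simp only [map_mul, map_inv₀, D.σσ, D.σε]
    field_simp
  have hb2 : D.ε * D.σ (D.ε * (D.σ b)⁻¹) ≠ 0 := mul_ne_zero hε (D.σ_ne hb1)
  rw [P.N1_y, P.lam_y hr hb2, P.lam_y hr hb1, e] at h
  rw [← h]
  congr 1
  simp only [map_mul, map_inv₀, D.σσ, D.σε]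
  field_simp

theorem z₂'_one {r : D.T} (hr : r.c ≠ 0) : z₂' X z₂ r hr 1 = 1 := mul_one' (P.z₂'_mul hr)

theorem z₁'_mul {r : D.T} (hr : r.c ≠ 0) (p q : D.T) :
    z₁' X x z₂ r hr (p * q) = z₁' X x z₂ r hr p * z₁' X x z₂ r hr q := by
  unfold z₁'; rw [P.z₂'_mul, mul_conj]

theorem z₁'_one {r : D.T} (hr : r.c ≠ 0) : z₁' X x z₂ r hr 1 = 1 := mul_one' (P.z₁'_mul hr)

theorem y'_add (r : D.T) (a b : F) : y' X x z₂ r (a + b) = y' X x z₂ r a * y' X x z₂ r b := by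
  unfold y'
  rw [map_add, mul_add, neg_add, P.x'_add, mul_conj]

omit P in
theorem exists_sc {q : D.T} (hq : q.c ≠ 0) : ∃ p : D.T, p.c ≠ 0 ∧ D.sc (-(D.ε * p.c⁻¹)) p = q := by
  have hε := D.ε_ne
  have hσ := D.σ_ne hq
  have hm := D.ε_mul
  have hε' : D.σ D.ε ≠ 0 := D.σ_ne hε
  have e : (D.sc (-(D.ε⁻¹ * (D.σ q.c)⁻¹)) q).c = (D.σ q.c)⁻¹ := by
    rw [PQDatum.sc_c]
    simp only [map_mul, map_inv₀, map_neg, D.σσ, D.σε]
    field_simp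
  refine ⟨D.sc (-(D.ε⁻¹ * (D.σ q.c)⁻¹)) q, ?_, ?_⟩
  · rw [e]; exact inv_ne_zero hσ
  · rw [e, PQDatum.sc_sc, inv_inv]
    have e2 : -(D.ε * D.σ q.c) * -(D.ε⁻¹ * (D.σ q.c)⁻¹) = 1 := by field_simp
    rw [e2, PQDatum.sc_one]

omit P in
theorem sc_c_ne {a : F} (ha : a ≠ 0) {p : D.T} (hp : p.c ≠ 0) : (D.sc a p).c ≠ 0 := by
  rw [PQDatum.sc_c]
  exact mul_ne_zero (mul_ne_zero ha (D.σ_ne ha)) hp

theorem nI_z₁' {r : D.T} (hr : r.c ≠ 0) (q : D.T) :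
    N X x 1 * z₁' X x z₂ r hr q * (N X x 1)⁻¹ = z₂' X z₂ r hr (D.sc (-1) q) := by
  by_cases hq : q.c = 0
  · rw [PQDatum.T.c_eq_zero_iff.1 hq, D.sc_T_one, P.z₂'_one, P.z₁'_one]; group
  obtain ⟨p, hp, rfl⟩ := exists_sc hq
  have h : lam X 4 (N X x 1 * z₁ p * (N X x 1)⁻¹) = N X x 1 * lam X 2 (z₁ p) * (N X x 1)⁻¹ := by
    exact P.lam_N one_ne_zero (P.mz₁ p) (P.z₁_ne hp)
  have h1 : (D.sc (-1) p).c ≠ 0 := sc_c_ne (neg_ne_zero.2 one_ne_zero) hp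
  rw [P.N1_z₁, P.lam_z₂' hr h1, P.lam_z₁ hr hp] at h
  rw [← h]
  congr 1
  rw [PQDatum.sc_sc, PQDatum.sc_sc, PQDatum.sc_c]
  congr 1
  rw [map_neg, map_one]
  ring

theorem nII_z₁' {r : D.T} (hr : r.c ≠ 0) {p : D.T} (hp : p.c ≠ 0) (q : D.T) :
    M X z₂ p * z₁' X x z₂ r hr q * (M X z₂ p)⁻¹ = z₁' X x z₂ r hr (D.refl p hp q) := by
  by_cases hq : q.c = 0
  · have h1 : (D.refl p hp q).c = 0 := hq
    rw [PQDatum.T.c_eq_zero_iff.1 h1, PQDatum.T.c_eq_zero_iff.1 hq, P.z₁'_one]; group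
  obtain ⟨s, hs, rfl⟩ := exists_sc hq
  have h : lam X 2 (M X z₂ p * z₁ s * (M X z₂ p)⁻¹) = M X z₂ p * lam X 2 (z₁ s) * (M X z₂ p)⁻¹ := by
    exact P.lam_M hp (P.mz₁ s) (P.z₁_ne hs)
  have h1 : (D.refl p hp s).c ≠ 0 := hs
  rw [P.M_z₁ hp, P.lam_z₁ hr h1, P.lam_z₁ hr hs] at h
  rw [← h, PQDatum.refl_sc, PQDatum.refl_c]

theorem nII_z₂' {r : D.T} (hr : r.c ≠ 0) {p : D.T} (hp : p.c ≠ 0) (q : D.T) :
    M X z₂ p * z₂' X z₂ r hr q * (M X z₂ p)⁻¹ = z₂ (D.sc (D.ε⁻¹ * p.c) (D.refl p hp q)) := by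
  have h0 : p⁻¹.c ≠ 0 := D.inv_c_ne hp
  have h := P.M_z₂ hr h0 (D.sc (D.ε⁻¹ * p.c) (D.refl p hp q))
  have e1 : D.refl p⁻¹ h0 (D.sc (D.ε⁻¹ * p.c) (D.refl p hp q)) = D.sc (D.ε⁻¹ * p.c) q := by
    rw [PQDatum.refl_sc]
    congr 1
    exact D.unrefl_refl p hp q
  rw [e1, PQDatum.sc_sc, PQDatum.T.inv_c, map_mul, D.σσ, D.σε] at h
  have e2 : (D.ε⁻¹ * p.c)⁻¹ * (D.ε⁻¹ * p.c) = 1 := inv_mul_cancel₀ (mul_ne_zero (inv_ne_zero D.ε_ne) hp)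
  rw [e2, PQDatum.sc_one, P.M_inv hp] at h
  rw [← h]; group

/-- **The package.** -/
theorem rel {r : D.T} (hr : r.c ≠ 0) : B2Rel (maps X x y z₁ z₂ r hr) where
  x_add := P.x_add
  x'_add := P.x'_add
  y_add := P.y_add
  y'_add := P.y'_add r
  z₁_mul := P.z₁_mul
  z₂_mul := P.z₂_mul
  z₁'_mul := P.z₁'_mul hr
  z₂'_mul := P.z₂'_mul hr
  x_z₂ := P.x_z₂
  z₁_z₂ := P.z₁_z₂
  x_y := P.x_y
  x_z₁ := P.x_z₁
  y_z₁ := P.y_z₁
  y_z₂ := P.y_z₂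
  nI_x a := by rw [P.nI_eq]; exact N1_x a
  nI_x' a := by rw [P.nI_eq]; exact P.N1_x' a
  nI_y b := by rw [P.nI_eq]; exact P.N1_y b
  nI_y' b := by rw [P.nI_eq]; exact P.nI_y' hr b
  nI_z₁ p := by rw [P.nI_eq]; exact P.N1_z₁ p
  nI_z₂ p := by rw [P.nI_eq]; exact P.N1_z₂ p
  nI_z₁' p := by rw [P.nI_eq]; exact P.nI_z₁' hr p
  nI_z₂' p := by rw [P.nI_eq]; rfl
  nII_x p hp a := by rw [P.nII_eq r hr hp]; exact P.M_x hp a
  nII_y p hp b := by rw [P.nII_eq r hr hp]; exact P.M_y hp b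
  nII_x' p hp a := by rw [P.nII_eq r hr hp]; exact P.nII_x' hr hp a
  nII_y' p hp b := by rw [P.nII_eq r hr hp]; exact P.nII_y' hr hp b
  nII_z₁ p hp q := by rw [P.nII_eq r hr hp]; exact P.M_z₁ hp q
  nII_z₁' p hp q := by rw [P.nII_eq r hr hp]; exact P.nII_z₁' hr hp q
  nII_z₂ p hp q := by rw [P.nII_eq r hr hp]; exact P.M_z₂ hr hp q
  nII_z₂' p hp q := by rw [P.nII_eq r hr hp]; exact P.nII_z₂' hr hp q

/-! ### Generation -/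

theorem top_of_gen (gen : (⨆ i, X i) = ⊤) {K : Subgroup G} (h1 : X 1 ≤ K) (h5 : X 5 ≤ K) (h4 : X 4 ≤ K)
    (h0 : X 0 ≤ K) : K = ⊤ := by
  obtain ⟨r, hr⟩ := P.exists_c_ne
  have hN : N X x 1 ∈ K := by
    rw [P.N1_form]
    exact mul_mem (mul_mem (h1 (P.mx _)) (h5 ((P.x'_mem _).2 ⟨_, rfl⟩))) (h1 (P.mx _))
  have hM : M X z₂ r ∈ K := by
    rw [P.M_form hr hr]
    exact mul_mem (mul_mem (h0 ((P.z₂'_mem hr _).2 ⟨_, rfl⟩)) (h4 (P.mz₂ _)))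
      (h0 ((P.z₂'_mem hr _).2 ⟨_, rfl⟩))
  have hc : ∀ {n g : G}, n ∈ K → n⁻¹ * g * n ∈ K → g ∈ K := by
    intro n g hn hg
    have e : g = n * (n⁻¹ * g * n) * n⁻¹ := by group
    rw [e]
    exact mul_mem (mul_mem hn hg) (inv_mem hn)
  have h2 : X 2 ≤ K := fun g hg => hc hN (h4 (P.N_mem' one_ne_zero hg : _ ∈ X 4))
  have h3 : X 3 ≤ K := fun g hg => hc hM (h1 (P.M_mem' hr hg : _ ∈ X 1))
  have h6 : X 6 ≤ K := fun g hg => hc hN (h0 (P.N_mem' one_ne_zero hg : _ ∈ X 0))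
  have h7 : X 7 ≤ K := fun g hg => hc hM (h5 (P.M_mem' hr hg : _ ∈ X 5))
  rw [eq_top_iff, ← gen]
  refine iSup_le fun i => ?_
  have hi : i = 0 ∨ i = 1 ∨ i = 2 ∨ i = 3 ∨ i = 4 ∨ i = 5 ∨ i = 6 ∨ i = 7 := by
    revert i; decide
  rcases hi with rfl | rfl | rfl | rfl | rfl | rfl | rfl | rfl <;> assumption

end PB

section borel

variable {G : Type u} [Group G] {X : ZMod (2 * 4) → Subgroup G} (S : Sys 4 X)

include S

theorem norm_right (i : ZMod (2 * 4)) {k : ℕ} (hk : k < 4) :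
    X (i + (k : ℕ)) ≤ Subgroup.normalizer ((seg X i k : Subgroup G) : Set G) := by
  intro b hb
  rw [Subgroup.mem_normalizer_iff]
  intro y
  refine ⟨fun hy => S.conj_right i hk hb hy, fun hy => ?_⟩
  have := S.conj_right i hk (inv_mem hb) hy
  have e : b⁻¹ * (b * y * b⁻¹) * b⁻¹⁻¹ = y := by group
  rwa [e] at this

theorem norm_left (i : ZMod (2 * 4)) {k : ℕ} (hk : k < 4) :
    X i ≤ Subgroup.normalizer ((seg X (i + 1) k : Subgroup G) : Set G) := by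
  intro b hb
  rw [Subgroup.mem_normalizer_iff]
  intro y
  refine ⟨fun hy => S.conj_left i hk hb hy, fun hy => ?_⟩
  have := S.conj_left i hk (inv_mem hb) hy
  have e : b⁻¹ * (b * y * b⁻¹) * b⁻¹⁻¹ = y := by group
  rwa [e] at this

/-- `X 5` meets `⟨X 1, …, X 4⟩` trivially. -/
theorem not_mem_five {g : G} (hg : g ∈ X 5) (h1 : g ≠ 1) : g ∉ seg X 1 4 := by
  intro hU
  have hN : seg X 1 4 ≤ Subgroup.normalizer ((seg X 1 3 : Subgroup G) : Set G) := by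
    rw [seg_succ X 1 3]
    exact sup_le Subgroup.le_normalizer (norm_right S 1 (k := 3) (by norm_num))
  obtain ⟨v, w, hv, hw, hr⟩ := S.exists_isMu hg h1
  have hv1 : v ∈ X 1 := hv
  have hw1 : w ∈ X 1 := hw
  have h14 : X 1 ≤ seg X 1 4 := le_seg X 1 (k := 4) (r := 0) (by norm_num)
  have hn : v * g * w ∈ Subgroup.normalizer ((seg X 1 3 : Subgroup G) : Set G) :=
    hN (mul_mem (mul_mem (h14 hv1) hU) (h14 hw1))
  obtain ⟨t, ht, ht1⟩ := S.exists_ne_one 4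
  have h2 : (v * g * w)⁻¹ * t * (v * g * w) ∈ X 2 := hr.mem' ht
  have h3 : (v * g * w)⁻¹ * t * (v * g * w) ∈ seg X 1 3 := le_seg X 1 (k := 3) (r := 1) (by norm_num) h2
  have h4 := (Subgroup.mem_normalizer_iff.1 hn _).1 h3
  have e : v * g * w * ((v * g * w)⁻¹ * t * (v * g * w)) * (v * g * w)⁻¹ = t := by group
  rw [e] at h4
  exact ht1 (S.inter_right (k := 3) 1 (by norm_num) t ht h4)

/-- `X 0` meets `⟨X 1, …, X 4⟩` trivially. -/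
theorem not_mem_zero {g : G} (hg : g ∈ X 0) (h1 : g ≠ 1) : g ∉ seg X 1 4 := by
  intro hU
  have hN : seg X 1 4 ≤ Subgroup.normalizer ((seg X 2 3 : Subgroup G) : Set G) := by
    rw [seg_succ_left X 1 3]
    exact sup_le (norm_left S 1 (k := 3) (by norm_num)) Subgroup.le_normalizer
  obtain ⟨v, w, hv, hw, hr⟩ := S.exists_isMu hg h1
  have hv1 : v ∈ X 4 := hv
  have hw1 : w ∈ X 4 := hw
  have h14 : X 4 ≤ seg X 1 4 := le_seg X 1 (k := 4) (r := 3) (by norm_num)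
  have hn : v * g * w ∈ Subgroup.normalizer ((seg X 2 3 : Subgroup G) : Set G) :=
    hN (mul_mem (mul_mem (h14 hv1) hU) (h14 hw1))
  obtain ⟨t, ht, ht1⟩ := S.exists_ne_one 1
  have h2 : (v * g * w)⁻¹ * t * (v * g * w) ∈ X 3 := hr.mem' ht
  have h3 : (v * g * w)⁻¹ * t * (v * g * w) ∈ seg X 2 3 := le_seg X 2 (k := 3) (r := 1) (by norm_num) h2
  have h4 := (Subgroup.mem_normalizer_iff.1 hn _).1 h3
  have e : v * g * w * ((v * g * w)⁻¹ * t * (v * g * w)) * (v * g * w)⁻¹ = t := by group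
  rw [e] at h4
  exact ht1 (S.inter_left 1 (k := 3) (by norm_num) ht h4)

end borel

namespace PB

variable {G : Type u} [Group G] {D : PQDatum F V} {X : ZMod (2 * 4) → Subgroup G} {x y : F → G}
  {z₁ z₂ : D.T → G} (P : PB D X x y z₁ z₂)

include P

theorem x'_ne {a : F} (ha : a ≠ 0) : x' X x a ≠ 1 := by
  intro h
  apply P.x_ne (neg_ne_zero.2 ha)
  unfold x' at h
  simpa using h

theorem z₂'_ne {r : D.T} (hr : r.c ≠ 0) {p : D.T} (hp : p.c ≠ 0) : z₂' X z₂ r hr p ≠ 1 := by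
  intro h
  have h1 : (D.sc (D.σ r.c) p).c ≠ 0 := sc_c_ne (D.σ_ne hr) hp
  have h2 : (D.unrefl r hr (D.sc (D.σ r.c) p)).c ≠ 0 := h1
  apply P.z₂_ne h2
  unfold z₂' at h
  simpa using h

/-- The package, with generation and the position of the opposite root elements. -/
theorem exists_pkg (gen : (⨆ i, X i) = ⊤) : ∃ m : B2Maps D G, B2Rel m ∧
    Subgroup.closure (Set.range m.x ∪ Set.range m.x' ∪ Set.range m.z₂ ∪ Set.range m.z₂') = ⊤ ∧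
    (∃ a, m.x' a ∉ Subgroup.closure (Set.range m.x ∪ Set.range m.y ∪ Set.range m.z₁ ∪ Set.range m.z₂)) ∧
    ∃ p, m.z₂' p ∉ Subgroup.closure (Set.range m.x ∪ Set.range m.y ∪ Set.range m.z₁ ∪ Set.range m.z₂) := by
  obtain ⟨r, hr⟩ := P.exists_c_ne
  have hle : Subgroup.closure (Set.range x ∪ Set.range y ∪ Set.range z₁ ∪ Set.range z₂) ≤ seg X 1 4 := by
    rw [Subgroup.closure_le]
    have h1 : X 1 ≤ seg X 1 4 := le_seg X 1 (k := 4) (r := 0) (by norm_num)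
    have h2 : X 2 ≤ seg X 1 4 := le_seg X 1 (k := 4) (r := 1) (by norm_num)
    have h3 : X 3 ≤ seg X 1 4 := le_seg X 1 (k := 4) (r := 2) (by norm_num)
    have h4 : X 4 ≤ seg X 1 4 := le_seg X 1 (k := 4) (r := 3) (by norm_num)
    rintro g (((⟨a, rfl⟩ | ⟨a, rfl⟩) | ⟨p, rfl⟩) | ⟨p, rfl⟩)
    · exact h1 (P.mx _)
    · exact h3 (P.my _)
    · exact h2 (P.mz₁ _)
    · exact h4 (P.mz₂ _)
  refine ⟨maps X x y z₁ z₂ r hr, P.rel hr, ?_, ⟨1, fun h => ?_⟩, ⟨r, fun h => ?_⟩⟩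
  · apply P.top_of_gen gen
    · intro g hg
      obtain ⟨a, rfl⟩ := (P.x_mem _).1 hg
      exact Subgroup.subset_closure (Or.inl (Or.inl (Or.inl ⟨a, rfl⟩)))
    · intro g hg
      obtain ⟨a, rfl⟩ := (P.x'_mem _).1 hg
      exact Subgroup.subset_closure (Or.inl (Or.inl (Or.inr ⟨a, rfl⟩)))
    · intro g hg
      obtain ⟨a, rfl⟩ := (P.z₂_mem _).1 hg
      exact Subgroup.subset_closure (Or.inl (Or.inr ⟨a, rfl⟩))
    · intro g hg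
      obtain ⟨a, rfl⟩ := (P.z₂'_mem hr _).1 hg
      exact Subgroup.subset_closure (Or.inr ⟨a, rfl⟩)
  · exact not_mem_five P.S ((P.x'_mem _).2 ⟨1, rfl⟩) (P.x'_ne one_ne_zero) (hle h)
  · exact not_mem_zero P.S ((P.z₂'_mem hr _).2 ⟨r, rfl⟩) (P.z₂'_ne hr hr) (hle h)

end PB

/-! ### From an abstract pseudo-quadratic system -/

/-- The positive relations over an abstract system give the positive relations over its datum. -/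
theorem PB.of_pos {G : Type u} [Group G] {T : Type*} [Group T] {Q : PQAbs.Sys F T}
    {X : ZMod (2 * 4) → Subgroup G} (S : Sys 4 X) {x y : F → G} {z₁ z₂ : T → G}
    (h : QuadPos.Pos Q (X 1) (X 2) (X 3) (X 4) x y z₁ z₂) :
    PB Q.datum X x y (fun p => z₁ (Q.equiv.symm p)) (fun p => z₂ (Q.equiv.symm p)) where
  S := S
  x_add := h.x_add
  y_add := h.y_add
  z₁_mul p q := by rw [map_mul, h.z₁_mul]
  z₂_mul p q := by rw [map_mul, h.z₂_mul]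
  x_inj := h.x_inj
  y_inj := h.y_inj
  z₁_inj := h.z₁_inj.comp Q.equiv.symm.injective
  z₂_inj := h.z₂_inj.comp Q.equiv.symm.injective
  x_mem := h.x_mem
  z₁_mem g := by
    rw [h.z₁_mem]
    exact ⟨fun ⟨p, hp⟩ => ⟨Q.equiv p, by rw [Q.equiv.symm_apply_apply, hp]⟩, fun ⟨p, hp⟩ => ⟨_, hp⟩⟩
  y_mem := h.y_mem
  z₂_mem g := by
    rw [h.z₂_mem]
    exact ⟨fun ⟨p, hp⟩ => ⟨Q.equiv p, by rw [Q.equiv.symm_apply_apply, hp]⟩, fun ⟨p, hp⟩ => ⟨_, hp⟩⟩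
  x_z₂ a p := by
    obtain ⟨q, rfl⟩ := Q.equiv.surjective p
    rw [← Q.equiv_smul, Q.equiv.symm_apply_apply, Q.equiv.symm_apply_apply, h.x_z₂]
    rfl
  z₁_z₂ p q := by
    obtain ⟨p, rfl⟩ := Q.equiv.surjective p
    obtain ⟨q, rfl⟩ := Q.equiv.surjective q
    rw [Q.equiv.symm_apply_apply, Q.equiv.symm_apply_apply, h.z₁_z₂, Q.datum_h]
  x_y a b := by rw [← Q.equiv_tr, Q.equiv.symm_apply_apply, h.x_y]
  x_z₁ a p := h.x_z₁ a _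
  y_z₁ b p := h.y_z₁ b _
  y_z₂ b p := h.y_z₂ b _

end Cfsg.Agent.SplitTwo.QuadB2
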