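import Cfsg.Agent.SplitTwo.QuadIdent
import Cfsg.Agent.TitsThree.CnModel
import Cfsg.Agent.TitsThree.PQClass
import Cfsg.Agent.S0247

/-!
# Finite simple groups with a `B₂` package are of Lie type (S1144, `m = 4`)

`lieConcl_of_pkg`: `G` simple, generated by a nondegenerate `B₂` package over an arbitrary finite datum.
-/

set_option autoImplicit false

namespace Cfsg.Agent.SplitTwo.QuadFinal

open Cfsg.Agent.TitsThree.B2Pkg Cfsg.Agent.TitsThree.RankTwoIdentB2 Cfsg.Agent.TitsThree.StdData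
  Cfsg.Agent.TitsThree Cfsg.Agent.TitsThree.CnModel Cfsg.Agent.TitsThree.Pack
  Cfsg.Agent.SplitTwo.QuadIdent Cfsg.Agent.TitsThree.Top

open scoped commutatorElement

universe u v

section Pkg

variable {F : Type*} [Field F] {V : Type*} [AddCommGroup V] [Module F V] {D : PQDatum F V}
variable {V' : Type*} [AddCommGroup V'] [Module F V'] {D' : PQDatum F V'}

/-- `G` is generated by a nondegenerate `B₂` package over `D`. -/
def Pkg (D : PQDatum F V) (G : Type*) [Group G] : Prop :=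
  ∃ m : B2Maps D G, B2Rel m ∧ Subgroup.closure (genSet m) = ⊤ ∧
    (∃ a, m.x' a ∉ Subgroup.closure (posSet m)) ∧ ∃ p, m.z₂' p ∉ Subgroup.closure (posSet m)

variable {G : Type*} [Group G]

theorem genSet_eq (m : B2Maps D G) :
    genSet m = Set.range m.x ∪ Set.range m.x' ∪ Set.range m.z₂ ∪ Set.range m.z₂' := by
  ext g
  constructor
  · rintro (⟨a, rfl | rfl⟩ | ⟨p, rfl | rfl⟩)
    · exact Or.inl (Or.inl (Or.inl ⟨a, rfl⟩))
    · exact Or.inl (Or.inl (Or.inr ⟨a, rfl⟩))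
    · exact Or.inl (Or.inr ⟨p, rfl⟩)
    · exact Or.inr ⟨p, rfl⟩
  · rintro (((⟨a, rfl⟩ | ⟨a, rfl⟩) | ⟨p, rfl⟩) | ⟨p, rfl⟩)
    · exact Or.inl ⟨a, Or.inl rfl⟩
    · exact Or.inl ⟨a, Or.inr rfl⟩
    · exact Or.inr ⟨p, Or.inl rfl⟩
    · exact Or.inr ⟨p, Or.inr rfl⟩

theorem posSet_eq (m : B2Maps D G) :
    posSet m = Set.range m.x ∪ Set.range m.y ∪ Set.range m.z₁ ∪ Set.range m.z₂ := by
  ext g
  constructor
  · rintro (⟨a, rfl | rfl⟩ | ⟨p, rfl | rfl⟩)
    · exact Or.inl (Or.inl (Or.inl ⟨a, rfl⟩))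
    · exact Or.inl (Or.inl (Or.inr ⟨a, rfl⟩))
    · exact Or.inl (Or.inr ⟨p, rfl⟩)
    · exact Or.inr ⟨p, rfl⟩
  · rintro (((⟨a, rfl⟩ | ⟨a, rfl⟩) | ⟨p, rfl⟩) | ⟨p, rfl⟩)
    · exact Or.inl ⟨a, Or.inl rfl⟩
    · exact Or.inl ⟨a, Or.inr rfl⟩
    · exact Or.inr ⟨p, Or.inl rfl⟩
    · exact Or.inr ⟨p, Or.inr rfl⟩

/-- Transport along a similarity. -/
theorem Pkg.sim (s : Sim D D') (h : Pkg D G) : Pkg D' G := by
  obtain ⟨m, hm, h1, ⟨a, h2⟩, ⟨p, h3⟩⟩ := h
  have e1 : genSet (B2Transport.maps s m) = genSet m := by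
    rw [genSet_eq, genSet_eq, B2Transport.range_z₂, B2Transport.range_z₂']
    rfl
  have e2 : posSet (B2Transport.maps s m) = posSet m := by
    rw [posSet_eq, posSet_eq, B2Transport.range_z₂, B2Transport.range_z₁, B2Transport.range_y]
    rfl
  refine ⟨B2Transport.maps s m, B2Transport.rel s hm, by rw [e1]; exact h1, ⟨a, by rw [e2]; exact h2⟩, ?_⟩
  have h4 : m.z₂' p ∈ Set.range (B2Transport.maps s m).z₂' := by
    rw [B2Transport.range_z₂']
    exact ⟨p, rfl⟩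
  obtain ⟨q, hq⟩ := h4
  exact ⟨q, by rw [e2, hq]; exact h3⟩

/-- Characteristic two. -/
theorem Pkg.even [Finite F] (h2 : (2 : F) = 0) (h : Pkg (stdO1 F) G) : Pkg (stdSp F) G := by
  obtain ⟨m, hm, h1, ⟨a, h3⟩, ⟨p, h4⟩⟩ := h
  have r1 : Set.range (EvenSp.spMaps h2 m).z₂ = Set.range m.z₂ :=
    (EvenSp.theta h2).surjective.range_comp m.z₂
  have r2 : Set.range (EvenSp.spMaps h2 m).z₁ = Set.range m.z₁ :=
    (EvenSp.theta h2).surjective.range_comp m.z₁
  have r3 : Set.range (EvenSp.spMaps h2 m).z₂' = Set.range m.z₂' :=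
    (EvenSp.theta h2).surjective.range_comp m.z₂'
  have e1 : genSet (EvenSp.spMaps h2 m) = genSet m := by
    rw [genSet_eq, genSet_eq, r1, r3]
    rfl
  have e2 : posSet (EvenSp.spMaps h2 m) = posSet m := by
    rw [posSet_eq, posSet_eq, r1, r2]
    rfl
  refine ⟨EvenSp.spMaps h2 m, EvenSp.spRel h2 hm, by rw [e1]; exact h1,
    ⟨a, by rw [e2]; exact h3⟩, ?_⟩
  obtain ⟨q, hq⟩ : m.z₂' p ∈ Set.range (EvenSp.spMaps h2 m).z₂' := by
    rw [r3]; exact ⟨p, rfl⟩
  exact ⟨q, by rw [e2, hq]; exact h4⟩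

/-- The generation of a rank two K side package. -/
theorem gen_of_kcn {K : Type*} [Group K] (k : KCN K D 1) : Subgroup.closure (genSet k.b2) = ⊤ := by
  rw [← k.gen]
  congr 1
  have h0 := k.last 0 rfl
  ext g
  constructor
  · rintro (⟨a, rfl | rfl⟩ | ⟨p, hp⟩)
    · exact Or.inl ⟨0, a, Or.inl (by rw [h0.1])⟩
    · exact Or.inl ⟨0, a, Or.inr (by rw [h0.2])⟩
    · exact Or.inr ⟨p, hp⟩
  · rintro (⟨i, a, rfl | rfl⟩ | ⟨p, hp⟩)
    · rw [Subsingleton.elim i 0, ← h0.1]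
      exact Or.inl ⟨a, Or.inl rfl⟩
    · rw [Subsingleton.elim i 0, ← h0.2]
      exact Or.inl ⟨a, Or.inr rfl⟩
    · exact Or.inr ⟨p, hp⟩

theorem pos_le_of_kcn {K : Type*} [Group K] (k : KCN K D 1) :
    Subgroup.closure (posSet k.b2) ≤ k.Bor := by
  have h0 := k.last 0 rfl
  rw [Subgroup.closure_le]
  rintro g (⟨a, rfl | rfl⟩ | ⟨p, rfl | rfl⟩)
  · rw [h0.1]; exact k.xp_mem 0 a
  · exact k.y_mem a
  · exact k.z₁_mem p
  · exact k.z₂_mem p

end Pkg

/-- Identification with a model. -/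
theorem lieConcl_of_model {G : Type u} [Group G] [IsSimpleGroup G] {F : Type*} [Field F] {V : Type*}
    [AddCommGroup V] [Module F V] {D : PQDatum F V} (ex : ∃ p : D.T, p.c ≠ 0) (h : Pkg D G)
    (hK : HasModel D 0) : LieConcl G := by
  obtain ⟨K, i1, i2, h1, ⟨k⟩⟩ := hK
  obtain ⟨m, hm, g1, g2, g3⟩ := h
  obtain ⟨e⟩ := ident_simple hm k.rel ex g1 (gen_of_kcn k) g2 g3
    (fun e => k.Bor_ne (top_le_iff.1 (e ▸ pos_le_of_kcn k)))
  exact h1.of_equiv e

/-! ### The field with two elements, symplectic case -/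

section Two

variable {K : Type*} [Group K]

theorem central_of_inf_eq_bot (A : Subgroup K) [hA : A.Normal] (h2 : ∀ k l : K, ⁅k, l⁆ ∈ A)
    (hZ : Subgroup.center K = ⊥) (L : Subgroup K) [hL : L.Normal] (h : L ⊓ A = ⊥) : L = ⊥ := by
  rw [eq_bot_iff, ← hZ]
  intro l hl
  rw [Subgroup.mem_center_iff]
  intro k
  have h1 : ⁅k, l⁆ ∈ L := by
    rw [commutatorElement_def]
    exact mul_mem (hL.conj_mem l hl k) (inv_mem hl)
  have h3 : ⁅k, l⁆ ∈ L ⊓ A := ⟨h1, h2 k l⟩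
  rw [h, Subgroup.mem_bot] at h3
  exact commutatorElement_eq_one_iff_mul_comm.1 h3

theorem top_of_normal {F : Type*} [Field F] {V : Type*} [AddCommGroup V] [Module F V]
    {D : PQDatum F V} {m : B2Maps D K} (h : B2Rel m) (ex : ∃ p : D.T, p.c ≠ 0)
    (gen : Subgroup.closure (genSet m) = ⊤) (N : Subgroup K) [hN : N.Normal]
    (hx : ∀ a, m.x a ∈ N) (hz : ∀ p, m.z₂ p ∈ N) : N = ⊤ := by
  obtain ⟨r, hr⟩ := ex
  have hx' : ∀ a, m.x' a ∈ N := by
    intro a
    have h3 := h.nI_x (-a)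
    rw [neg_neg] at h3
    rw [← h3]
    exact hN.conj_mem _ (hx _) _
  have hz' : ∀ p, m.z₂' p ∈ N := by
    intro p
    have h3 := h.nII_z₂' r hr p
    have h4 := hN.conj_mem _ (hz (D.sc (D.ε⁻¹ * r.c) (D.refl r hr p))) (m.nII r)⁻¹
    rw [← h3] at h4
    have e : (m.nII r)⁻¹ * (m.nII r * m.z₂' p * (m.nII r)⁻¹) * (m.nII r)⁻¹⁻¹ = m.z₂' p := by group
    rwa [e] at h4
  rw [eq_top_iff, ← gen, Subgroup.closure_le]
  rintro g (⟨a, rfl | rfl⟩ | ⟨p, rfl | rfl⟩)
  · exact hx a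
  · exact hx' a
  · exact hz p
  · exact hz' p

theorem coreFree {F : Type*} [Field F] {V : Type*} [AddCommGroup V] [Module F V]
    {D : PQDatum F V} {m : B2Maps D K} (h : B2Rel m) (ex : ∃ p : D.T, p.c ≠ 0)
    (gen : Subgroup.closure (genSet m) = ⊤) (hU : Subgroup.closure (posSet m) ≠ ⊤)
    (A : Subgroup K) [hA : A.Normal] [hs : IsSimpleGroup A] (h2 : A.index = 2)
    (hnc : Subgroup.centralizer (A : Set K) ⊓ A = ⊥)
    (hZ : Subgroup.center K = ⊥) (L : Subgroup K) (hL : L.Normal)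
    (hLU : L ≤ Subgroup.normalizer (Subgroup.closure (posSet m) : Set K)) : L = ⊥ := by
  have hcomm : ∀ k l : K, ⁅k, l⁆ ∈ A := by
    intro k l
    have hab : ∀ a b : K ⧸ A, a * b = b * a := by
      have hc : Nat.card (K ⧸ A) = 2 := by rw [← Subgroup.index_eq_card, h2]
      have : IsCyclic (K ⧸ A) := by
        have : Fact (Nat.Prime 2) := ⟨Nat.prime_two⟩
        exact isCyclic_of_prime_card hc
      intro a b
      exact IsCyclic.commGroup.mul_comm a b
    rw [← QuotientGroup.eq_one_iff]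
    have h3 : QuotientGroup.mk' A ⁅k, l⁆ = ⁅QuotientGroup.mk' A k, QuotientGroup.mk' A l⁆ :=
      map_commutatorElement _ _ _
    exact h3.trans (commutatorElement_eq_one_iff_mul_comm.2 (hab _ _))
  have hLA : (L ⊓ A).subgroupOf A = ⊥ ∨ (L ⊓ A).subgroupOf A = ⊤ := by
    apply Subgroup.Normal.eq_bot_or_eq_top
    exact (inferInstance : (L ⊓ A).Normal).subgroupOf A
  rcases hLA with h3 | h3
  · refine central_of_inf_eq_bot A hcomm hZ L ?_
    rw [Subgroup.subgroupOf_eq_bot, disjoint_iff, inf_assoc, inf_idem] at h3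
    exact h3
  exfalso
  have hAL : A ≤ L := by
    rw [Subgroup.subgroupOf_eq_top] at h3
    exact h3.trans inf_le_left
  set U := Subgroup.closure (posSet m) with hUdef
  have hAU : ∀ a ∈ A, ∀ u ∈ U, a * u * a⁻¹ ∈ U := by
    intro a ha u hu
    exact (Subgroup.mem_normalizer_iff.1 (hLU (hAL ha)) u).1 hu
  have hn : ((U ⊓ A).subgroupOf A).Normal := by
    constructor
    intro u hu a
    rw [Subgroup.mem_subgroupOf] at hu ⊢
    refine ⟨?_, hA.conj_mem _ hu.2 _⟩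
    exact hAU a a.2 u hu.1
  have hx0 : ∀ a, m.x a ∈ U := fun a => Subgroup.subset_closure (Or.inl ⟨a, Or.inl rfl⟩)
  have hz0 : ∀ p, m.z₂ p ∈ U := fun p => Subgroup.subset_closure (Or.inr ⟨p, Or.inr rfl⟩)
  rcases hn.eq_bot_or_eq_top with h4 | h4
  · rw [Subgroup.subgroupOf_eq_bot, disjoint_iff, inf_assoc, inf_idem] at h4
    have hUC : U ≤ Subgroup.centralizer (A : Set K) := by
      intro u hu
      rw [Subgroup.mem_centralizer_iff]
      intro a ha
      have h5 : ⁅a, u⁆ ∈ U ⊓ A := by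
        rw [commutatorElement_def]
        refine ⟨U.mul_mem (hAU a ha u hu) (U.inv_mem hu), ?_⟩
        have e : a * u * a⁻¹ * u⁻¹ = a * (u * a⁻¹ * u⁻¹) := by group
        rw [e]
        exact A.mul_mem ha (hA.conj_mem _ (A.inv_mem ha) u)
      rw [h4, Subgroup.mem_bot] at h5
      exact commutatorElement_eq_one_iff_mul_comm.1 h5
    have hC : Subgroup.centralizer (A : Set K) = ⊥ :=
      central_of_inf_eq_bot A hcomm hZ _ hnc
    rw [hC] at hUC
    have h6 := top_of_normal h ex gen ⊥ (fun a => hUC (hx0 a)) (fun p => hUC (hz0 p))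
    obtain ⟨a, ha⟩ := exists_ne (1 : A)
    apply ha
    have : (a : K) ∈ (⊥ : Subgroup K) := by rw [h6]; trivial
    exact Subtype.ext this
  · rw [Subgroup.subgroupOf_eq_top] at h4
    have hAU' : A ≤ U := h4.trans inf_le_left
    have hUA : U = A := by
      by_contra hne
      apply hU
      have h5 : A < U := lt_of_le_of_ne hAU' (Ne.symm hne)
      have h6 := Subgroup.relIndex_mul_index hAU'
      rw [h2] at h6
      have h7 : A.relIndex U ≠ 1 := fun h8 => hne (le_antisymm (Subgroup.relIndex_eq_one.1 h8) hAU')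
      have h8 : A.relIndex U ∣ 2 := ⟨_, h6.symm⟩
      rcases (Nat.dvd_prime Nat.prime_two).1 h8 with h9 | h9
      · exact absurd h9 h7
      · rw [h9] at h6
        exact Subgroup.index_eq_one.1 (by omega)
    apply hU
    have : U.Normal := hUA ▸ hA
    exact top_of_normal h ex gen U hx0 hz0

theorem center_perm_six : Subgroup.center (Equiv.Perm (Fin 6)) = ⊥ := by
  rw [eq_bot_iff]
  intro σ hσ
  rw [Subgroup.mem_center_iff] at hσ
  rw [Subgroup.mem_bot]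
  ext1 i
  by_contra hne
  have hk : ∀ i j : Fin 6, ∃ k, k ≠ i ∧ k ≠ j := by decide
  replace hne : σ i ≠ i := hne
  obtain ⟨k, hki, hkj⟩ := hk i (σ i)
  have h1 : Equiv.swap i k (σ i) = σ (Equiv.swap i k i) :=
    congrArg (fun τ : Equiv.Perm (Fin 6) => τ i) (hσ (Equiv.swap i k))
  rw [Equiv.swap_apply_left, Equiv.swap_apply_of_ne_of_ne hne (Ne.symm hkj)] at h1
  exact hki (σ.injective h1).symm

theorem centralizer_alt_inf :
    Subgroup.centralizer (alternatingGroup (Fin 6) : Set (Equiv.Perm (Fin 6))) ⊓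
      alternatingGroup (Fin 6) = ⊥ := by
  rw [eq_bot_iff]
  rintro g ⟨h1, h2⟩
  have hs : Subgroup.center (alternatingGroup (Fin 6)) = ⊥ := by
    apply alternatingGroup.center_eq_bot
    simp
  have h3 : (⟨g, h2⟩ : alternatingGroup (Fin 6)) ∈ Subgroup.center (alternatingGroup (Fin 6)) := by
    rw [Subgroup.mem_center_iff]
    intro a
    exact Subtype.ext (Subgroup.mem_centralizer_iff.1 h1 a a.2)
  rw [hs, Subgroup.mem_bot] at h3
  exact congrArg Subtype.val h3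

theorem exists_equiv_perm {F : Type*} [Field F] [Fintype F] (h2 : Fintype.card F = 2) :
    Nonempty (Cfsg.PSp 2 F ≃* Equiv.Perm (Fin 6)) := by
  obtain ⟨e⟩ := Cfsg.Agent.S0247.result (F := F) h2
  have hc : Subgroup.center (Matrix.symplecticGroup (Fin 2) F) = ⊥ := by
    rw [eq_bot_iff]
    intro x hx
    rw [Subgroup.mem_center_iff] at hx
    have h3 : e x ∈ Subgroup.center (Equiv.Perm (Fin 6)) := by
      rw [Subgroup.mem_center_iff]
      intro g
      obtain ⟨y, rfl⟩ := e.surjective g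
      rw [← map_mul, hx y, map_mul]
    rw [center_perm_six, Subgroup.mem_bot] at h3
    rw [Subgroup.mem_bot]
    exact e.injective (h3.trans (map_one e).symm)
  exact ⟨((QuotientGroup.quotientMulEquivOfEq hc).trans QuotientGroup.quotientBot).trans e⟩

theorem genSet_map {F : Type*} [Field F] {V : Type*} [AddCommGroup V] [Module F V]
    {D : PQDatum F V} {Y Z : Type*} [Group Y] [Group Z] (m : B2Maps D Y) (f : Y →* Z) :
    genSet (m.map f) = f '' genSet m := by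
  ext g
  constructor
  · rintro (⟨a, rfl | rfl⟩ | ⟨p, rfl | rfl⟩)
    · exact ⟨_, Or.inl ⟨a, Or.inl rfl⟩, rfl⟩
    · exact ⟨_, Or.inl ⟨a, Or.inr rfl⟩, rfl⟩
    · exact ⟨_, Or.inr ⟨p, Or.inl rfl⟩, rfl⟩
    · exact ⟨_, Or.inr ⟨p, Or.inr rfl⟩, rfl⟩
  · rintro ⟨_, (⟨a, rfl | rfl⟩ | ⟨p, rfl | rfl⟩), rfl⟩
    · exact Or.inl ⟨a, Or.inl rfl⟩
    · exact Or.inl ⟨a, Or.inr rfl⟩
    · exact Or.inr ⟨p, Or.inl rfl⟩
    · exact Or.inr ⟨p, Or.inr rfl⟩

theorem posSet_map {F : Type*} [Field F] {V : Type*} [AddCommGroup V] [Module F V]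
    {D : PQDatum F V} {Y Z : Type*} [Group Y] [Group Z] (m : B2Maps D Y) (f : Y →* Z) :
    posSet (m.map f) = f '' posSet m := by
  ext g
  constructor
  · rintro (⟨a, rfl | rfl⟩ | ⟨p, rfl | rfl⟩)
    · exact ⟨_, Or.inl ⟨a, Or.inl rfl⟩, rfl⟩
    · exact ⟨_, Or.inl ⟨a, Or.inr rfl⟩, rfl⟩
    · exact ⟨_, Or.inr ⟨p, Or.inl rfl⟩, rfl⟩
    · exact ⟨_, Or.inr ⟨p, Or.inr rfl⟩, rfl⟩
  · rintro ⟨_, (⟨a, rfl | rfl⟩ | ⟨p, rfl | rfl⟩), rfl⟩
    · exact Or.inl ⟨a, Or.inl rfl⟩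
    · exact Or.inl ⟨a, Or.inr rfl⟩
    · exact Or.inr ⟨p, Or.inl rfl⟩
    · exact Or.inr ⟨p, Or.inr rfl⟩

/-- `Sp₄(2)` is excluded. -/
theorem not_pkg_two {G : Type u} [Group G] [IsSimpleGroup G] {F : Type*} [Field F] [Fintype F]
    (h2 : Fintype.card F = 2) : ¬ Pkg (stdSp F) G := by
  intro h
  obtain ⟨e⟩ := exists_equiv_perm (F := F) h2
  set k := KInstSp.kcnSp F 0 with hk
  have ex : ∃ p : (stdSp F).T, p.c ≠ 0 := ⟨⟨(), 1, trivial⟩, one_ne_zero⟩
  obtain ⟨m, hm, g1, g2, g3⟩ := h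
  have hr := k.rel.map (e : Cfsg.PSp 2 F →* Equiv.Perm (Fin 6))
  have hgen : Subgroup.closure (genSet (k.b2.map (e : Cfsg.PSp 2 F →* Equiv.Perm (Fin 6)))) = ⊤ := by
    rw [genSet_map, ← MonoidHom.map_closure, gen_of_kcn, ← MonoidHom.range_eq_map]
    exact MonoidHom.range_eq_top.2 e.surjective
  have hpos : Subgroup.closure (posSet (k.b2.map (e : Cfsg.PSp 2 F →* Equiv.Perm (Fin 6)))) ≠ ⊤ := by
    rw [posSet_map, ← MonoidHom.map_closure]
    intro h3
    apply k.Bor_ne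
    rw [eq_top_iff]
    intro x _
    have h4 : e x ∈ (Subgroup.closure (posSet k.b2)).map (e : Cfsg.PSp 2 F →* Equiv.Perm (Fin 6)) := by
      rw [h3]; trivial
    obtain ⟨y, hy, hyx⟩ := h4
    have : y = x := e.injective hyx
    exact pos_le_of_kcn k (this ▸ hy)
  have hsimp : IsSimpleGroup (alternatingGroup (Fin 6)) := alternatingGroup.isSimpleGroup (by simp)
  obtain ⟨e'⟩ := ident hm hr ex g1 hgen g2 g3
    (coreFree hr ex hgen hpos (alternatingGroup (Fin 6)) (alternatingGroup.index_eq_two)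
      centralizer_alt_inf center_perm_six)
  have hsS : IsSimpleGroup (Equiv.Perm (Fin 6)) := e'.symm.isSimpleGroup
  have hn : (alternatingGroup (Fin 6)).Normal := inferInstance
  have hi : (alternatingGroup (Fin 6)).index = 2 := alternatingGroup.index_eq_two
  rcases hn.eq_bot_or_eq_top with h3 | h3
  · rw [h3, Subgroup.index_bot] at hi
    have : Nat.card (Equiv.Perm (Fin 6)) = 720 := by
      rw [Nat.card_eq_fintype_card, Fintype.card_perm, Fintype.card_fin]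
      rfl
    omega
  · rw [h3, Subgroup.index_top] at hi
    omega

end Two

/-- **Finite simple groups with a `B₂` package are of Lie type.** -/
theorem lieConcl_of_pkg {G : Type u} [Group G] [IsSimpleGroup G] {F : Type} [Field F] [Finite F]
    {V : Type v} [AddCommGroup V] [Module F V] [Finite V] {D : PQDatum F V}
    (h0 : ∀ c, D.ok 0 c → ∃ m, c = m - D.ε * D.σ m) (hs : ∀ w, ∃ c, D.ok w c)
    (hne : ∃ w c, D.ok w c ∧ c ≠ 0) (h : Pkg D G) : LieConcl G := by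
  let _ : Fintype F := Fintype.ofFinite F
  have ex : ∃ p : D.T, p.c ≠ 0 := by
    obtain ⟨w, c, h1, h2⟩ := hne
    exact ⟨⟨w, c, h1⟩, h2⟩
  have key : Pkg (stdSp F) G → (∃ p : (stdSp F).T, p.c ≠ 0) → LieConcl G := by
    intro h1 h2
    by_cases h3 : 3 ≤ Fintype.card F
    · exact lieConcl_of_model h2 h1 (hasModel_Sp 0 fun _ => h3)
    · exact absurd h1 (not_pkg_two (by have := Fintype.one_lt_card (α := F); omega))
  rcases PQClass.classify D h0 hs hne with ⟨-, ⟨s⟩⟩ | ⟨⟨s⟩⟩ | ⟨a, b, hab, ⟨s⟩⟩ | ⟨hσ, ⟨s⟩⟩ | ⟨hσ, ⟨s⟩⟩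
  · exact key (h.sim s) (B2Transport.exists_c_ne s ex)
  · by_cases h2 : (2 : F) = 0
    · exact key ((h.sim s).even h2) ⟨⟨(), 1, trivial⟩, one_ne_zero⟩
    · exact lieConcl_of_model (B2Transport.exists_c_ne s ex) (h.sim s) (hasModel_O1 h2 0)
  · exact lieConcl_of_model (B2Transport.exists_c_ne s ex) (h.sim s) (hasModel_O2 a b hab 0)
  · exact lieConcl_of_model (B2Transport.exists_c_ne s ex) (h.sim s) (hasModel_U0 D.σ D.σσ hσ 0)
  · exact lieConcl_of_model (B2Transport.exists_c_ne s ex) (h.sim s) (hasModel_U1 D.σ D.σσ hσ 0)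

end Cfsg.Agent.SplitTwo.QuadFinal
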