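import Cfsg.Agent.SplitTwo.QuadB2
import Cfsg.Agent.SplitTwo.QuadFinal
import Cfsg.Agent.SplitTwo.HexCentre

/-!
# Finite simple groups with a root group system of type `B₂` and positive relations are of Lie type (S1144)

`lieConcl_of_pos`, and the mirrored version `lieConcl_of_pos'`.
-/

set_option autoImplicit false

namespace Cfsg.Agent.SplitTwo.QuadB2Final

open Cfsg.Agent.TitsThree.B2Pkg Cfsg.Agent.TitsThree.PQAbs Cfsg.Agent.TitsThree
  Cfsg.Agent.SplitTwo.QuadFinal Cfsg.Agent.TitsThree.Top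

universe u v w

section congr

variable {F : Type*} [Field F] {F' : Type*} [Field F'] {T : Type*} [Group T]

/-- Change of the field. -/
def congr (Q : PQAbs.Sys F T) (e : F' ≃+* F) : PQAbs.Sys F' T where
  σ := (e.trans Q.σ).trans e.symm
  σσ x := by
    change e.symm (Q.σ (e (e.symm (Q.σ (e x))))) = x
    rw [e.apply_symm_apply, Q.σσ, e.symm_apply_apply]
  ε := e.symm Q.ε
  ε_mul := by
    change e.symm Q.ε * e.symm (Q.σ (e (e.symm Q.ε))) = 1
    rw [e.apply_symm_apply, ← map_mul, Q.ε_mul, map_one]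
  c p := e.symm (Q.c p)
  h p q := e.symm (Q.h p q)
  smul a p := Q.smul (e a) p
  tr a := Q.tr (e a)
  h_mul p q r := by rw [Q.h_mul, map_add]
  h_swap p q := by
    change e.symm (Q.h q p) = e.symm Q.ε * e.symm (Q.σ (e (e.symm (Q.h p q))))
    rw [e.apply_symm_apply, ← map_mul, ← Q.h_swap]
  c_mul p q := by rw [Q.c_mul, map_sub, map_add]
  c_herm p := by
    change e.symm (Q.c p) + e.symm Q.ε * e.symm (Q.σ (e (e.symm (Q.c p)))) = -e.symm (Q.h p p)
    rw [e.apply_symm_apply, ← map_mul, ← map_add, Q.c_herm, map_neg]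
  h_smul a p q := by rw [Q.h_smul, map_mul, e.symm_apply_apply]
  c_smul a p := by
    change e.symm (Q.c (Q.smul (e a) p)) = a * e.symm (Q.σ (e a)) * e.symm (Q.c p)
    rw [Q.c_smul, map_mul, map_mul, e.symm_apply_apply]
  h_tr a p := by rw [Q.h_tr, map_zero]
  c_tr a := by
    change e.symm (Q.c (Q.tr (e a))) = a - e.symm Q.ε * e.symm (Q.σ (e a))
    rw [Q.c_tr, map_sub, map_mul, e.symm_apply_apply]
  eq_one p h := Q.eq_one p ((map_eq_zero_iff _ e.symm.injective).1 h)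

theorem pos_congr {G : Type*} [Group G] {Q : PQAbs.Sys F T} (e : F' ≃+* F) {U1 U2 U3 U4 : Subgroup G}
    {x y : F → G} {z₁ z₂ : T → G} (h : QuadPos.Pos Q U1 U2 U3 U4 x y z₁ z₂) :
    QuadPos.Pos (congr Q e) U1 U2 U3 U4 (fun a => x (e a)) (fun a => y (e a)) z₁ z₂ where
  x_add a b := by rw [map_add, h.x_add]
  y_add a b := by rw [map_add, h.y_add]
  z₁_mul := h.z₁_mul
  z₂_mul := h.z₂_mul
  x_inj := h.x_inj.comp e.injective
  y_inj := h.y_inj.comp e.injective
  z₁_inj := h.z₁_inj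
  z₂_inj := h.z₂_inj
  x_mem g := by
    rw [h.x_mem]
    exact ⟨fun ⟨a, ha⟩ => ⟨e.symm a, by rw [e.apply_symm_apply, ha]⟩, fun ⟨a, ha⟩ => ⟨_, ha⟩⟩
  z₁_mem := h.z₁_mem
  y_mem g := by
    rw [h.y_mem]
    exact ⟨fun ⟨a, ha⟩ => ⟨e.symm a, by rw [e.apply_symm_apply, ha]⟩, fun ⟨a, ha⟩ => ⟨_, ha⟩⟩
  z₂_mem := h.z₂_mem
  x_z₂ a p := by
    change _ = z₁ (Q.smul (e (e.symm (Q.σ (e a)))) p) *
      y (e (-(e.symm Q.ε * a * e.symm (Q.σ (e (e.symm (Q.c p)))))))
    rw [h.x_z₂, e.apply_symm_apply, e.apply_symm_apply, map_neg, map_mul, map_mul, e.apply_symm_apply,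
      e.apply_symm_apply]
  z₁_z₂ p q := by
    change _ = y (e (-e.symm (Q.h q p)))
    rw [h.z₁_z₂, map_neg, e.apply_symm_apply]
  x_y a b := by
    change _ = z₁ (Q.tr (e (e.symm (Q.σ (e a)) * b)))
    rw [h.x_y, map_mul, e.apply_symm_apply]
  x_z₁ a p := h.x_z₁ _ p
  y_z₁ b p := h.y_z₁ _ p
  y_z₂ b p := h.y_z₂ _ p

end congr

/-- A finite field lives in `Type`. -/
theorem exists_field (F : Type u) [Field F] [Finite F] :
    ∃ (F' : Type) (_ : Field F'), Finite F' ∧ Nonempty (F' ≃+* F) := by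
  let e := (Finite.equivFin F).symm
  let i : Field (Fin (Nat.card F)) := e.field
  exact ⟨Fin (Nat.card F), i, inferInstance, ⟨e.ringEquiv⟩⟩

/-- Positive relations in a root group system of type `B₂`. -/
theorem lieConcl_of_pos_sys {G : Type u} [Group G] [Finite G] [IsSimpleGroup G]
    {X : ZMod (2 * 4) → Subgroup G} (S : Sys 4 X) (gen : (⨆ i, X i) = ⊤) {F : Type v} [Field F] [Finite F]
    {T : Type w} [Group T] {Q : PQAbs.Sys F T} {x y : F → G} {z₁ z₂ : T → G}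
    (h : QuadPos.Pos Q (X 1) (X 2) (X 3) (X 4) x y z₁ z₂) : LieConcl G := by
  obtain ⟨F', i1, i2, ⟨e⟩⟩ := exists_field F
  have h' := pos_congr e h
  set Q' := congr Q e
  have P := QuadB2.PB.of_pos S h'
  have hT : Finite T := Finite.of_injective _ h.z₂_inj
  have hV : Finite Q'.V := by
    have : Finite (T ⧸ Q'.trSub) := inferInstance
    exact this
  obtain ⟨p, hp⟩ := P.exists_c_ne
  obtain ⟨m, hm, h1, h2, h3⟩ := P.exists_pkg gen
  refine lieConcl_of_pkg (D := Q'.datum) (fun c hc => Q'.datum_ok_zero hc) Q'.datum_surj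
    ⟨p.w, p.c, p.ok, hp⟩ ⟨m, hm, ?_, ?_, ?_⟩
  · rw [genSet_eq]; exact h1
  · rw [posSet_eq]; exact h2
  · rw [posSet_eq]; exact h3

/-- **Root group systems of type `B₂`**, positive relations in the order `X 1, …, X 4`. -/
theorem lieConcl_of_pos {G : Type u} [Group G] [Finite G] [IsSimpleGroup G] (R : RootSys 4 G)
    {F : Type v} [Field F] [Finite F] {T : Type w} [Group T] {Q : PQAbs.Sys F T} {x y : F → G}
    {z₁ z₂ : T → G} (h : QuadPos.Pos Q (R.X 1) (R.X 2) (R.X 3) (R.X 4) x y z₁ z₂) : LieConcl G :=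
  lieConcl_of_pos_sys R.toSys R.gen h

/-- **Root group systems of type `B₂`**, positive relations in the order `X 4, …, X 1`. -/
theorem lieConcl_of_pos' {G : Type u} [Group G] [Finite G] [IsSimpleGroup G] (R : RootSys 4 G)
    {F : Type v} [Field F] [Finite F] {T : Type w} [Group T] {Q : PQAbs.Sys F T} {x y : F → G}
    {z₁ z₂ : T → G} (h : QuadPos.Pos Q (R.X 4) (R.X 3) (R.X 2) (R.X 1) x y z₁ z₂) : LieConcl G := by
  have S : Sys 4 (fun j => R.X (-(j + 3))) := R.toSys.neg.shift 3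
  refine lieConcl_of_pos_sys S ?_ h
  rw [eq_top_iff, ← R.gen]
  refine iSup_le fun i => ?_
  have e : i = -(-i - 3 + 3) := by ring
  conv_lhs => rw [e]
  exact le_iSup (fun j => R.X (-(j + 3))) (-i - 3)

end Cfsg.Agent.SplitTwo.QuadB2Final
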