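import Cfsg.Agent.SplitTwo.QuadEnd
import Cfsg.Agent.TitsThree.CharCN

/-!
# The case `m = 4` of S1144, with the characteristic

`isLieTypeChar`: a finite simple group with a root group system of type `B₂` whose root groups are `p`-groups is
of Lie type in characteristic `p`.
-/

set_option autoImplicit false

namespace Cfsg.Agent.SplitTwo.QuadChar

open Cfsg.Agent.TitsThree.B2Pkg Cfsg.Agent.TitsThree.RankTwoIdentB2 Cfsg.Agent.TitsThree.StdData
  Cfsg.Agent.TitsThree Cfsg.Agent.TitsThree.Pack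
  Cfsg.Agent.SplitTwo.QuadIdent Cfsg.Agent.TitsThree.CharCN
  Cfsg.Agent.TitsThree.CharBase Cfsg.Agent.SplitTwo.QuadFinal

universe u v w

/-- Identification with a model. -/
theorem char_of_model {G : Type u} [Group G] [IsSimpleGroup G] {F : Type*} [Field F] {V : Type*}
    [AddCommGroup V] [Module F V] {D : PQDatum F V} (ex : ∃ p : D.T, p.c ≠ 0) (h : Pkg D G)
    (hK : HasModelC D 0) {p : ℕ} (hp : CharP F p) : Cfsg.IsLieTypeChar p G := by
  obtain ⟨K, i1, i2, h1, ⟨k⟩⟩ := hK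
  obtain ⟨m, hm, g1, g2, g3⟩ := h
  obtain ⟨e⟩ := ident_simple hm k.rel ex g1 (gen_of_kcn k) g2 g3
    (fun e => k.Bor_ne (top_le_iff.1 (e ▸ pos_le_of_kcn k)))
  exact ofEquiv e (h1 p hp)

/-- **Finite simple groups with a `B₂` package are of Lie type**, with the characteristic. -/
theorem char_of_pkg {G : Type u} [Group G] [IsSimpleGroup G] {F : Type} [Field F] [Finite F]
    {V : Type v} [AddCommGroup V] [Module F V] [Finite V] {D : PQDatum F V}
    (h0 : ∀ c, D.ok 0 c → ∃ m, c = m - D.ε * D.σ m) (hs : ∀ w, ∃ c, D.ok w c)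
    (hne : ∃ w c, D.ok w c ∧ c ≠ 0) (h : Pkg D G) {p : ℕ} (hp : CharP F p) :
    Cfsg.IsLieTypeChar p G := by
  let _ : Fintype F := Fintype.ofFinite F
  have ex : ∃ p : D.T, p.c ≠ 0 := by
    obtain ⟨w, c, h1, h2⟩ := hne
    exact ⟨⟨w, c, h1⟩, h2⟩
  have key : Pkg (stdSp F) G → (∃ p : (stdSp F).T, p.c ≠ 0) → Cfsg.IsLieTypeChar p G := by
    intro h1 h2
    by_cases h3 : 3 ≤ Fintype.card F
    · exact char_of_model h2 h1 (hasModelC_Sp 0 fun _ => h3) hp
    · exact absurd h1 (not_pkg_two (by have := Fintype.one_lt_card (α := F); omega))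
  rcases PQClass.classify D h0 hs hne with ⟨-, ⟨s⟩⟩ | ⟨⟨s⟩⟩ | ⟨a, b, hab, ⟨s⟩⟩ | ⟨hσ, ⟨s⟩⟩ | ⟨hσ, ⟨s⟩⟩
  · exact key (h.sim s) (B2Transport.exists_c_ne s ex)
  · by_cases h2 : (2 : F) = 0
    · exact key ((h.sim s).even h2) ⟨⟨(), 1, trivial⟩, one_ne_zero⟩
    · exact char_of_model (B2Transport.exists_c_ne s ex) (h.sim s) (hasModelC_O1 h2 0) hp
  · exact char_of_model (B2Transport.exists_c_ne s ex) (h.sim s) (hasModelC_O2 a b hab 0) hp
  · exact char_of_model (B2Transport.exists_c_ne s ex) (h.sim s) (hasModelC_U0 D.σ D.σσ hσ 0) hp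
  · exact char_of_model (B2Transport.exists_c_ne s ex) (h.sim s) (hasModelC_U1 D.σ D.σσ hσ 0) hp

/-- Positive relations in a root group system of type `B₂`. -/
theorem char_of_pos_sys {G : Type u} [Group G] [Finite G] [IsSimpleGroup G]
    {X : ZMod (2 * 4) → Subgroup G} (S : Sys 4 X) (gen : (⨆ i, X i) = ⊤) {F : Type v} [Field F] [Finite F]
    {T : Type w} [Group T] {Q : PQAbs.Sys F T} {x y : F → G} {z₁ z₂ : T → G}
    (h : QuadPos.Pos Q (X 1) (X 2) (X 3) (X 4) x y z₁ z₂) {p : ℕ} (hp : CharP F p) :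
    Cfsg.IsLieTypeChar p G := by
  obtain ⟨F', i1, i2, ⟨e⟩⟩ := QuadB2Final.exists_field F
  have h' := QuadB2Final.pos_congr e h
  set Q' := QuadB2Final.congr Q e
  have P := QuadB2.PB.of_pos S h'
  have hT : Finite T := Finite.of_injective _ h.z₂_inj
  have hV : Finite Q'.V := by
    have : Finite (T ⧸ Q'.trSub) := inferInstance
    exact this
  have hp' : CharP F' p :=
    charP_of_injective_ringHom (f := (e.symm : F →+* F')) e.symm.injective p
  obtain ⟨r, hr⟩ := P.exists_c_ne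
  obtain ⟨m, hm, h1, h2, h3⟩ := P.exists_pkg gen
  refine char_of_pkg (D := Q'.datum) (fun c hc => Q'.datum_ok_zero hc) Q'.datum_surj
    ⟨r.w, r.c, r.ok, hr⟩ ⟨m, hm, ?_, ?_, ?_⟩ hp'
  · rw [genSet_eq]; exact h1
  · rw [posSet_eq]; exact h2
  · rw [posSet_eq]; exact h3

/-- The characteristic of the field of a root group. -/
theorem charP_of_isPGroup {G : Type u} [Group G] {F : Type v} [Field F] [Finite F] {x : F → G}
    (hadd : ∀ a b, x (a + b) = x a * x b) (hinj : Function.Injective x) {U : Subgroup G}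
    (hU : ∀ a, x a ∈ U) {p : ℕ} (hp : p.Prime) (hpU : IsPGroup p U) : CharP F p := by
  obtain ⟨r, hr⟩ := CharP.exists F
  have hrp : r.Prime := CharP.char_is_prime F r
  have h0 : x 0 = 1 := by
    have := hadd 0 0
    rw [add_zero] at this
    exact (mul_eq_left.1 this.symm)
  have hn : ∀ (n : ℕ), x (n : F) = x 1 ^ n := by
    intro n
    induction n with
    | zero => rw [Nat.cast_zero, h0, pow_zero]
    | succ n ih => rw [Nat.cast_succ, hadd, ih, pow_succ]
  have h1 : x 1 ^ r = 1 := by rw [← hn, CharP.cast_eq_zero, h0]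
  have h2 : x 1 ≠ 1 := fun h => one_ne_zero (hinj (h.trans h0.symm))
  obtain ⟨k, hk⟩ := hpU ⟨x 1, hU 1⟩
  have hk' : x 1 ^ p ^ k = 1 := congrArg Subtype.val hk
  have h3 : orderOf (x 1) ∣ r := orderOf_dvd_of_pow_eq_one h1
  have h4 : orderOf (x 1) ∣ p ^ k := orderOf_dvd_of_pow_eq_one hk'
  have h5 : orderOf (x 1) = r := by
    rcases (Nat.dvd_prime hrp).1 h3 with h | h
    · exact absurd (orderOf_eq_one_iff.1 h) h2
    · exact h
  rw [h5] at h4
  have h6 : r = p := (Nat.prime_dvd_prime_iff_eq hrp hp).1 (hrp.dvd_of_dvd_pow h4)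
  rw [← h6]; exact hr

/-- **Case `m = 4`, with the characteristic.** -/
theorem isLieTypeChar {G : Type u} [Group G] [Finite G] [IsSimpleGroup G] (R : RootSys 4 G) :
    Cfsg.IsLieTypeChar R.p G := by
  rcases QuadMain.of_rootSys R with ⟨K, i1, Q, x, y, z₁, z₂, i2, h⟩ | ⟨K, i1, Q, x, y, z₁, z₂, i2, h⟩
  · exact char_of_pos_sys R.toSys R.gen h (charP_of_isPGroup h.x_add h.x_inj
      (fun a => (h.x_mem _).2 ⟨a, rfl⟩) R.prime (R.isPGroup 1))
  · have S : Sys 4 (fun j => R.X (-(j + 3))) := R.toSys.neg.shift 3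
    refine char_of_pos_sys S ?_ h (charP_of_isPGroup h.x_add h.x_inj
      (fun a => (h.x_mem _).2 ⟨a, rfl⟩) R.prime (R.isPGroup 4))
    rw [eq_top_iff, ← R.gen]
    refine iSup_le fun i => ?_
    have e : i = -(-i - 3 + 3) := by ring
    conv_lhs => rw [e]
    exact le_iSup (fun j => R.X (-(j + 3))) (-i - 3)

end Cfsg.Agent.SplitTwo.QuadChar
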