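import Cfsg.Agent.SplitTwo.QuadField

/-!
# Coordinates for a Moufang quadrangle: the field `K = U1`

A layer `(Z2, Z4)` (either `(1, 1)` or the centralisers `(Y2, Y4)`) makes `U4 / Z4` a vector space
over a field `K` with `ι : U1 ≃ K`, and elements normalising `U1, …, U4` act semilinearly.
-/

set_option autoImplicit false

universe u

namespace Cfsg.Agent.SplitTwo.QuadCoord

open Cfsg.Agent.SplitTwo.QuadBase Cfsg.Agent.SplitTwo.QuadField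

variable {G : Type u} [Group G]

/-- A layer. -/
structure Lay (U1 U2 U3 U4 Z2 Z4 : Subgroup G) (m : G → G) : Prop where
  le2 : Z2 ≤ U2
  le4 : Z4 ≤ U4
  Φ_iff : ∀ a ∈ U1, a ≠ 1 → ∀ x ∈ U4, (Φ m a x ∈ Z2 ↔ x ∈ Z4)
  v2 : ∀ a ∈ U1, ∀ c ∈ U3, κ a c ∈ Z2
  c4 : ∀ x ∈ U4, ∀ y ∈ U4, x⁻¹ * y⁻¹ * x * y ∈ Z4
  ne : ∃ x ∈ U4, x ∉ Z4
  nrm4 : ∀ g, Nrm U1 U2 U3 U4 g → ∀ z ∈ Z4, g * z * g⁻¹ ∈ Z4
  nrm2 : ∀ g, Nrm U1 U2 U3 U4 g → ∀ z ∈ Z2, g * z * g⁻¹ ∈ Z2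

/-- `a * x = Φ_{e}⁻¹ (Φ_a x)` -/
noncomputable def st (m : G → G) (e a x : G) : G := (m e)⁻¹ * Φ m a x * m e

theorem Φ_st (m : G → G) {e : G} (he : e ≠ 1) (a x : G) : Φ m e (st m e a x) = Φ m a x := by
  rw [Φ_ne m he]; unfold st; group

@[simp] theorem st_one_left (m : G → G) (e x : G) : st m e 1 x = 1 := by
  unfold st; rw [Φ_one_left]; group

@[simp] theorem st_one_right (m : G → G) (e a : G) : st m e a 1 = 1 := by
  unfold st; rw [Φ_one_right]; group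

theorem st_mul (m : G → G) (e a x y : G) : st m e a (x * y) = st m e a x * st m e a y := by
  unfold st; rw [Φ_mul]; group

theorem st_inv (m : G → G) (e a x : G) : st m e a x⁻¹ = (st m e a x)⁻¹ := by
  unfold st; rw [Φ_inv]; group

theorem st_self (m : G → G) {e : G} (he : e ≠ 1) (x : G) : st m e e x = x := by
  unfold st; rw [Φ_ne m he]; group

theorem st_eq_nrm (m : G → G) {e a : G} (ha : a ≠ 1) (x : G) :
    st m e a x = ((m e)⁻¹ * m a) * x * ((m e)⁻¹ * m a)⁻¹ := by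
  unfold st; rw [Φ_ne m ha]; group

theorem st_inj (m : G → G) {e a : G} (ha : a ≠ 1) {x y : G} (h : st m e a x = st m e a y) :
    x = y := by
  unfold st at h
  exact Φ_inj m ha (mul_left_cancel (mul_right_cancel h))

variable {U1 U2 U3 U4 Z2 Z4 : Subgroup G} {m n : G → G}

theorem _root_.Cfsg.Agent.SplitTwo.QuadBase.Quad.st_mem (h : Quad U1 U2 U3 U4 m n) {e a x : G}
    (he : e ∈ U1) (he1 : e ≠ 1) (ha : a ∈ U1) (hx : x ∈ U4) : st m e a x ∈ U4 := by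
  have := h.m2 e⁻¹ (U1.inv_mem he) (inv_ne_one.2 he1) _ (h.Φ_mem ha hx)
  rwa [h.m_inv e he he1, inv_inv] at this

theorem coord [Finite G] (h : Quad U1 U2 U3 U4 m n) (L : Lay U1 U2 U3 U4 Z2 Z4 m) {e : G}
    (he : e ∈ U1) (he1 : e ≠ 1) :
    ∃ (K : Type u) (_ : Field K) (ι : G → K), Finite K ∧
      (∀ a ∈ U1, ∀ b ∈ U1, ι (a * b) = ι a + ι b) ∧
      (∀ a ∈ U1, ∀ b ∈ U1, ι a = ι b → a = b) ∧ (∀ k, ∃ a ∈ U1, ι a = k) ∧ ι e = 1 ∧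
      (∀ a ∈ U1, ∀ b ∈ U1, ∀ c ∈ U1, ι c = ι a * ι b → ∀ x ∈ U4,
        (st m e c x)⁻¹ * (st m e a (st m e b x)) ∈ Z4) ∧
      (∀ g, Nrm U1 U2 U3 U4 g → ∃ s : K →+* K, ∀ a ∈ U1,
        ι (g * a * g⁻¹) = ι (g * e * g⁻¹) * s (ι a)) ∧
      (∀ a ∈ U1, a ≠ 1 → ∀ b ∈ U1, b ≠ 1 → ∀ c ∈ U1,
        ι (((m b)⁻¹ * m a) * c * ((m b)⁻¹ * m a)⁻¹) * ι a ^ 2 = ι b ^ 2 * ι c) := by
  classical
  have c2 : ∀ b ∈ U2, ∀ b' ∈ U2, b⁻¹ * b'⁻¹ * b * b' ∈ Z2 := by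
    intro b hb b' hb'
    obtain ⟨x, hx, rfl⟩ := h.Φ_surj he he1 hb
    obtain ⟨y, hy, rfl⟩ := h.Φ_surj he he1 hb'
    rw [← Φ_inv, ← Φ_inv, ← Φ_mul, ← Φ_mul, ← Φ_mul]
    refine (L.Φ_iff e he he1 _ ?_).2 (L.c4 x hx y hy)
    exact U4.mul_mem (U4.mul_mem (U4.mul_mem (U4.inv_mem hx) (U4.inv_mem hy)) hx) hy
  obtain ⟨X, _, cl4, hXf, cl4_mul, cl4_zero, cl4_surj⟩ := exists_quot U4 Z4 L.le4 L.c4
  obtain ⟨W, _, cl2, hWf, cl2_mul, cl2_zero, cl2_surj⟩ := exists_quot U2 Z2 L.le2 c2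
  have cl4_one : cl4 1 = 0 := (cl4_zero 1 U4.one_mem).2 Z4.one_mem
  have cl2_one : cl2 1 = 0 := (cl2_zero 1 U2.one_mem).2 Z2.one_mem
  have cl4_inv : ∀ x ∈ U4, cl4 x⁻¹ = -cl4 x := by
    intro x hx
    have := cl4_mul x⁻¹ (U4.inv_mem hx) x hx
    rw [inv_mul_cancel, cl4_one] at this
    exact (neg_eq_of_add_eq_zero_left this.symm).symm
  have cl2_inv : ∀ x ∈ U2, cl2 x⁻¹ = -cl2 x := by
    intro x hx
    have := cl2_mul x⁻¹ (U2.inv_mem hx) x hx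
    rw [inv_mul_cancel, cl2_one] at this
    exact (neg_eq_of_add_eq_zero_left this.symm).symm
  have cl4_eq : ∀ x ∈ U4, ∀ y ∈ U4, cl4 x = cl4 y ↔ x⁻¹ * y ∈ Z4 := by
    intro x hx y hy
    rw [← cl4_zero _ (U4.mul_mem (U4.inv_mem hx) hy), cl4_mul _ (U4.inv_mem hx) _ hy,
      cl4_inv x hx, neg_add_eq_zero]
  have cl2_eq : ∀ x ∈ U2, ∀ y ∈ U2, cl2 x = cl2 y ↔ x⁻¹ * y ∈ Z2 := by
    intro x hx y hy
    rw [← cl2_zero _ (U2.mul_mem (U2.inv_mem hx) hy), cl2_mul _ (U2.inv_mem hx) _ hy,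
      cl2_inv x hx, neg_add_eq_zero]
  have Φ_Z : ∀ a ∈ U1, ∀ x ∈ Z4, Φ m a x ∈ Z2 := by
    intro a ha x hx
    by_cases ha1 : a = 1
    · rw [ha1, Φ_one_left]; exact Z2.one_mem
    · exact (L.Φ_iff a ha ha1 x (L.le4 hx)).2 hx
  choose pk pk_mem pk_cl using cl4_surj
  have key : ∀ a ∈ U1, ∀ x ∈ U4, ∀ y ∈ U4, cl4 x = cl4 y → cl2 (Φ m a x) = cl2 (Φ m a y) := by
    intro a ha x hx y hy hxy
    rw [cl2_eq _ (h.Φ_mem ha hx) _ (h.Φ_mem ha hy), ← Φ_inv, ← Φ_mul]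
    exact Φ_Z a ha _ ((cl4_eq x hx y hy).1 hxy)
  -- the maps `Θ`
  let Θ : U1 → (X →+ W) := fun a => AddMonoidHom.mk' (fun v => cl2 (Φ m a (pk v))) (by
    intro v w
    rw [← cl2_mul _ (h.Φ_mem a.2 (pk_mem v)) _ (h.Φ_mem a.2 (pk_mem w)), ← Φ_mul]
    refine key a a.2 _ (pk_mem _) _ (U4.mul_mem (pk_mem v) (pk_mem w)) ?_
    rw [cl4_mul _ (pk_mem v) _ (pk_mem w), pk_cl, pk_cl, pk_cl])
  have hΘ : ∀ (a : U1) (x : G), x ∈ U4 → Θ a (cl4 x) = cl2 (Φ m a x) := by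
    intro a x hx
    exact key a a.2 _ (pk_mem _) _ hx (pk_cl _)
  have hmul : ∀ a b : U1, Θ (a * b) = Θ a + Θ b := by
    intro a b
    ext v
    rw [AddMonoidHom.add_apply, ← pk_cl v, hΘ _ _ (pk_mem v), hΘ _ _ (pk_mem v),
      hΘ _ _ (pk_mem v), Subgroup.coe_mul, h.star a.2 b.2 (pk_mem v),
      cl2_mul _ (U2.mul_mem (h.Φ_mem a.2 (pk_mem v))
        (h.k13 b b.2 _ (h.Ψ_mem (pk_mem v) a.2))) _ (h.Φ_mem b.2 (pk_mem v)),
      cl2_mul _ (h.Φ_mem a.2 (pk_mem v)) _ (h.k13 b b.2 _ (h.Ψ_mem (pk_mem v) a.2)),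
      (cl2_zero _ (h.k13 b b.2 _ (h.Ψ_mem (pk_mem v) a.2))).2
        (L.v2 b b.2 _ (h.Ψ_mem (pk_mem v) a.2)), add_zero]
  have hbij : ∀ a : U1, a ≠ 1 → Function.Bijective (Θ a) := by
    intro a ha
    have ha' : (a : G) ≠ 1 := fun h1 => ha (Subtype.ext h1)
    constructor
    · rw [injective_iff_map_eq_zero]
      intro v hv
      rw [← pk_cl v, hΘ _ _ (pk_mem v), cl2_zero _ (h.Φ_mem a.2 (pk_mem v)),
        L.Φ_iff a a.2 ha' _ (pk_mem v)] at hv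
      rw [← pk_cl v, cl4_zero _ (pk_mem v)]
      exact hv
    · intro w
      obtain ⟨b, hb, rfl⟩ := cl2_surj w
      obtain ⟨x, hx, rfl⟩ := h.Φ_surj a.2 ha' hb
      exact ⟨cl4 x, hΘ a x hx⟩
  have hneg : ∀ a : U1, Θ a⁻¹ = -Θ a := by
    intro a
    have h1 : Θ 1 = 0 := by
      have := hmul 1 1
      rw [mul_one] at this
      simpa using this
    have := hmul a⁻¹ a
    rw [inv_mul_cancel, h1] at this
    exact (neg_eq_of_add_eq_zero_left this.symm).symm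
  -- transport by elements normalising everything
  let T4 : ∀ g, Nrm U1 U2 U3 U4 g → (X →+ X) := fun g hg =>
    AddMonoidHom.mk' (fun v => cl4 (g * pk v * g⁻¹)) (by
      intro v w
      rw [← cl4_mul _ (hg.u4 _ (pk_mem v)) _ (hg.u4 _ (pk_mem w)), cl4_eq _ (hg.u4 _ (pk_mem _))
        _ (U4.mul_mem (hg.u4 _ (pk_mem v)) (hg.u4 _ (pk_mem w)))]
      have h1 : (pk (v + w))⁻¹ * (pk v * pk w) ∈ Z4 := by
        rw [← cl4_eq _ (pk_mem _) _ (U4.mul_mem (pk_mem v) (pk_mem w)),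
          cl4_mul _ (pk_mem v) _ (pk_mem w), pk_cl, pk_cl, pk_cl]
      have h2 := L.nrm4 g hg _ h1
      convert h2 using 1
      group)
  have hT4 : ∀ g (hg : Nrm U1 U2 U3 U4 g) (x : G), x ∈ U4 → T4 g hg (cl4 x) =
      cl4 (g * x * g⁻¹) := by
    intro g hg x hx
    change cl4 (g * pk (cl4 x) * g⁻¹) = cl4 (g * x * g⁻¹)
    rw [cl4_eq _ (hg.u4 _ (pk_mem _)) _ (hg.u4 _ hx)]
    have h1 := L.nrm4 g hg _ ((cl4_eq _ (pk_mem _) x hx).1 (pk_cl (cl4 x)))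
    convert h1 using 1
    group
  choose pk2 pk2_mem pk2_cl using cl2_surj
  let T2 : ∀ g, Nrm U1 U2 U3 U4 g → (W →+ W) := fun g hg =>
    AddMonoidHom.mk' (fun v => cl2 (g * pk2 v * g⁻¹)) (by
      intro v w
      rw [← cl2_mul _ (hg.u2 _ (pk2_mem v)) _ (hg.u2 _ (pk2_mem w)),
        cl2_eq _ (hg.u2 _ (pk2_mem _)) _ (U2.mul_mem (hg.u2 _ (pk2_mem v)) (hg.u2 _ (pk2_mem w)))]
      have h1 : (pk2 (v + w))⁻¹ * (pk2 v * pk2 w) ∈ Z2 := by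
        rw [← cl2_eq _ (pk2_mem _) _ (U2.mul_mem (pk2_mem v) (pk2_mem w)),
          cl2_mul _ (pk2_mem v) _ (pk2_mem w), pk2_cl, pk2_cl, pk2_cl]
      have h2 := L.nrm2 g hg _ h1
      convert h2 using 1
      group)
  have hT2 : ∀ g (hg : Nrm U1 U2 U3 U4 g) (x : G), x ∈ U2 → T2 g hg (cl2 x) =
      cl2 (g * x * g⁻¹) := by
    intro g hg x hx
    change cl2 (g * pk2 (cl2 x) * g⁻¹) = cl2 (g * x * g⁻¹)
    rw [cl2_eq _ (hg.u2 _ (pk2_mem _)) _ (hg.u2 _ hx)]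
    have h1 := L.nrm2 g hg _ ((cl2_eq _ (pk2_mem _) x hx).1 (pk2_cl (cl2 x)))
    convert h1 using 1
    group
  have hTΘ : ∀ g (hg : Nrm U1 U2 U3 U4 g) (a : U1) (v : X),
      Θ ⟨g * a * g⁻¹, hg.u1 a a.2⟩ (T4 g hg v) = T2 g hg (Θ a v) := by
    intro g hg a v
    rw [← pk_cl v, hT4 g hg _ (pk_mem v), hΘ _ _ (hg.u4 _ (pk_mem v)), hΘ _ _ (pk_mem v),
      hT2 g hg _ (h.Φ_mem a.2 (pk_mem v)), (h.equiv hg a.2 (pk_mem v)).1]
  have hT4inj : ∀ g (hg : Nrm U1 U2 U3 U4 g) v, T4 g hg v = 0 → v = 0 := by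
    intro g hg v hv
    rw [← pk_cl v, hT4 g hg _ (pk_mem v), cl4_zero _ (hg.u4 _ (pk_mem v))] at hv
    rw [← pk_cl v, cl4_zero _ (pk_mem v)]
    let f : Z4 → Z4 := fun z => ⟨g * z * g⁻¹, L.nrm4 g hg z z.2⟩
    have hf : Function.Injective f := by
      intro z z' hz
      have := congrArg Subtype.val hz
      exact Subtype.ext (mul_left_cancel (mul_right_cancel this))
    obtain ⟨z, hz⟩ := (Finite.surjective_of_injective hf) ⟨_, hv⟩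
    have hz' : g * (z : G) * g⁻¹ = g * pk v * g⁻¹ := congrArg Subtype.val hz
    have : (z : G) = pk v := mul_left_cancel (mul_right_cancel hz')
    rw [← this]; exact z.2
  have hma : ∀ (a b : U1) (ha : (a : G) ≠ 1) (hb : (b : G) ≠ 1) (v : X),
      Θ b (T4 _ (h.nrm_m a.2 ha b.2 hb) v) = Θ a v ∧
      T2 _ (h.nrm_m a.2 ha b.2 hb) (Θ a v) = Θ b v := by
    intro a b ha hb v
    constructor
    · rw [← pk_cl v, hT4 _ (h.nrm_m a.2 ha b.2 hb) _ (pk_mem v),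
        hΘ _ _ ((h.nrm_m a.2 ha b.2 hb).u4 _ (pk_mem v)),
        Quad.Φ_nrm_m m ha hb, hΘ _ _ (pk_mem v)]
    · have e1 : T2 _ (h.nrm_m a.2 ha b.2 hb) (Θ a⁻¹ v) = Θ b⁻¹ v := by
        rw [← pk_cl v, hΘ _ _ (pk_mem v), hΘ _ _ (pk_mem v),
          hT2 _ (h.nrm_m a.2 ha b.2 hb) _ (h.Φ_mem (a⁻¹).2 (pk_mem v))]
        congr 1
        exact h.nrm_m_Φ a.2 ha b.2 hb _
      rw [hneg, hneg, AddMonoidHom.neg_apply, AddMonoidHom.neg_apply, map_neg, neg_inj] at e1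
      exact e1
  have hX : Nontrivial X := by
    obtain ⟨x, hx, hx0⟩ := L.ne
    exact ⟨⟨cl4 x, 0, fun h0 => hx0 ((cl4_zero x hx).1 h0)⟩⟩
  have he' : (⟨e, he⟩ : U1) ≠ 1 := fun h1 => he1 (congrArg Subtype.val h1)
  obtain ⟨K, _, _, ι, hKf, ι_bij, ι_mul, ι_e, hι⟩ := exists_field_of_maps Θ hmul hbij ⟨e, he⟩ he'
    (by
      intro a ha
      have ha' : (a : G) ≠ 1 := fun h1 => ha (Subtype.ext h1)
      refine ⟨⟨_, (h.nrm_m a.2 ha' he he1).u1 a a.2⟩, ?_⟩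
      intro v w hvw
      have h1 := (hma a ⟨e, he⟩ ha' he1 v)
      have h2 : T4 _ (h.nrm_m a.2 ha' he he1) v = w := (hbij _ he').1 (h1.1.trans hvw)
      rw [← h2]
      exact (hTΘ _ (h.nrm_m a.2 ha' he he1) a v).trans h1.2)
  have hcan : ∀ (k l : K) (v : X), v ≠ 0 → k • v = l • v → k = l := fun k l v hv hkl =>
    smul_left_injective K hv hkl
  let ι' : G → K := fun g => if hg : g ∈ U1 then ι ⟨g, hg⟩ else 0
  have hι' : ∀ (a : G) (ha : a ∈ U1), ι' a = ι ⟨a, ha⟩ := fun a ha => dif_pos ha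
  have hι0 : ∀ a : U1, a ≠ 1 → ι a ≠ 0 := by
    intro a ha h0
    have h1 : ι 1 = 0 := by
      have := ι_mul 1 1
      rw [mul_one] at this
      simpa using this
    exact ha (ι_bij.1 (h0.trans h1.symm))
  have hcl_st : ∀ (a : U1) (x : G), x ∈ U4 → cl4 (st m e a x) = ι a • cl4 x := by
    intro a x hx
    apply (hbij _ he').1
    rw [hΘ _ _ (h.st_mem he he1 a.2 hx), Φ_st m he1, ← hι, hΘ _ _ hx]
  obtain ⟨v0, hv0⟩ := exists_ne (0 : X)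
  refine ⟨K, inferInstance, ι', hKf, ?_, ?_, ?_, ?_, ?_, ?_, ?_⟩
  · intro a ha b hb
    rw [hι' _ (U1.mul_mem ha hb), hι' a ha, hι' b hb]
    exact ι_mul ⟨a, ha⟩ ⟨b, hb⟩
  · intro a ha b hb hab
    rw [hι' a ha, hι' b hb] at hab
    exact congrArg Subtype.val (ι_bij.1 hab)
  · intro k
    obtain ⟨a, ha⟩ := ι_bij.2 k
    exact ⟨a, a.2, by rw [hι' _ a.2]; exact ha⟩
  · rw [hι' e he]; exact ι_e
  · intro a ha b hb c hc habc x hx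
    rw [hι' a ha, hι' b hb, hι' c hc] at habc
    rw [← cl4_eq _ (h.st_mem he he1 hc hx) _ (h.st_mem he he1 ha (h.st_mem he he1 hb hx)),
      hcl_st ⟨c, hc⟩ x hx, hcl_st ⟨a, ha⟩ _ (h.st_mem he he1 hb hx), hcl_st ⟨b, hb⟩ x hx, habc,
      mul_smul]
  · intro g hg
    have hge : (⟨g * e * g⁻¹, hg.u1 e he⟩ : U1) ≠ 1 := by
      intro h1
      have h2 : g * e * g⁻¹ = 1 := congrArg Subtype.val h1
      exact he1 (by simpa using h2)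
    obtain ⟨r, hr⟩ : ∃ r, r = ι ⟨g * e * g⁻¹, hg.u1 e he⟩ := ⟨_, rfl⟩
    have hr0 : r ≠ 0 := hr ▸ hι0 _ hge
    have hsem : ∀ (a : U1) (v : X), ι ⟨g * a * g⁻¹, hg.u1 a a.2⟩ • T4 g hg v =
        r • T4 g hg (ι a • v) := by
      intro a v
      apply (hbij _ he').1
      rw [← hι, hTΘ g hg a v, hι a v]
      have e2 := hTΘ g hg ⟨e, he⟩ (ι a • v)
      rw [← e2, hι, hr]
    choose jot jot_eq using ι_bij.2
    let s : K → K := fun k => r⁻¹ * ι ⟨g * jot k * g⁻¹, hg.u1 _ (jot k).2⟩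
    have hs : ∀ (k : K) (v : X), s k • T4 g hg v = T4 g hg (k • v) := by
      intro k v
      have e1 := hsem (jot k) v
      rw [jot_eq] at e1
      change (r⁻¹ * _) • _ = _
      rw [mul_smul, e1, ← mul_smul, inv_mul_cancel₀ hr0, one_smul]
    have hTv0 : T4 g hg v0 ≠ 0 := fun h0 => hv0 (hT4inj g hg _ h0)
    refine ⟨{ toFun := s, map_one' := ?_, map_mul' := ?_, map_zero' := ?_, map_add' := ?_ }, ?_⟩
    · apply hcan _ _ _ hTv0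
      rw [hs, one_smul, one_smul]
    · intro k l
      apply hcan _ _ _ hTv0
      rw [hs, mul_smul, ← hs, ← hs, ← mul_smul]
    · apply hcan _ _ _ hTv0
      rw [hs, zero_smul, zero_smul, map_zero]
    · intro k l
      apply hcan _ _ _ hTv0
      rw [hs, add_smul, add_smul, map_add, hs, hs]
    · intro a ha
      rw [hι' _ (hg.u1 a ha), hι' _ (hg.u1 e he), hι' a ha, ← hr]
      change _ = r * s (ι ⟨a, ha⟩)
      apply hcan _ _ _ hTv0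
      rw [mul_smul, hs]
      exact hsem ⟨a, ha⟩ v0
  · intro a ha ha1 b hb hb1 c hc
    have hg := h.nrm_m ha ha1 hb hb1
    rw [hι' _ (hg.u1 c hc), hι' a ha, hι' b hb, hι' c hc]
    have h1 : ∀ v : X, ι ⟨b, hb⟩ • T4 _ hg v = ι ⟨a, ha⟩ • v := by
      intro v
      apply (hbij _ he').1
      rw [← hι, ← hι]
      exact (hma ⟨a, ha⟩ ⟨b, hb⟩ ha1 hb1 v).1
    have h2 : ∀ v : X, T2 _ hg (Θ ⟨e, he⟩ (ι ⟨a, ha⟩ • v)) = Θ ⟨e, he⟩ (ι ⟨b, hb⟩ • v) := by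
      intro v
      rw [← hι, ← hι]
      exact (hma ⟨a, ha⟩ ⟨b, hb⟩ ha1 hb1 v).2
    have h3 : ∀ v : X, ι ⟨_, hg.u1 c hc⟩ • T4 _ hg (ι ⟨a, ha⟩ • v) =
        ι ⟨b, hb⟩ • (ι ⟨c, hc⟩ • v) := by
      intro v
      apply (hbij _ he').1
      rw [← hι]
      have e1 := hTΘ _ hg ⟨c, hc⟩ (ι ⟨a, ha⟩ • v)
      rw [e1, hι, smul_smul, mul_comm, ← smul_smul, h2]
    have h4 : ι ⟨b, hb⟩ • (ι ⟨_, hg.u1 c hc⟩ • T4 _ hg (ι ⟨a, ha⟩ • v0)) =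
        ι ⟨b, hb⟩ • (ι ⟨b, hb⟩ • (ι ⟨c, hc⟩ • v0)) := by rw [h3 v0]
    have h5 : ι ⟨b, hb⟩ • (ι ⟨_, hg.u1 c hc⟩ • T4 _ hg (ι ⟨a, ha⟩ • v0)) =
        ι ⟨_, hg.u1 c hc⟩ • (ι ⟨a, ha⟩ • (ι ⟨a, ha⟩ • v0)) := by
      rw [smul_comm, h1]
    rw [h5] at h4
    simp only [smul_smul] at h4
    have h6 := hcan _ _ _ hv0 h4
    rw [sq, sq]
    linear_combination h6
end Cfsg.Agent.SplitTwo.QuadCoord
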