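import Cfsg.Agent.TitsThree.RankTwoIdentB2
import Cfsg.Agent.TitsThree.B2NI
import Cfsg.Agent.TitsThree.B2Transport
import Cfsg.Agent.TitsThree.EvenSp

/-!
# Identification of simple groups with a `B₂` package (S1144, `m = 4`)

`ident`: `G` simple, `K` a nontrivial group, both generated by `B₂` packages over the same datum, and no nontrivial
normal subgroup of `K` normalises the positive part of `K`; then `G ≃* K`.
-/

set_option autoImplicit false

namespace Cfsg.Agent.SplitTwo.QuadIdent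

open Cfsg.Agent.TitsThree.B2Pkg Cfsg.Agent.TitsThree.RankTwoRGD Cfsg.Agent.TitsThree.RankTwoIdx
  Cfsg.Agent.TitsThree.RankTwoIdent Cfsg.Agent.TitsThree.CoreB2 Cfsg.Agent.TitsThree.RankTwoIdentB2
  Cfsg.Agent.TitsThree.B2NI Cfsg.Agent.TitsThree.StdData Cfsg.Agent.TitsThree

universe u v

/-- Graph argument. -/
theorem equiv_of_graph' {G : Type u} {K : Type v} [Group G] [Group K] [IsSimpleGroup G] [Nontrivial K]
    (Γ : Subgroup (G × K)) (hG : Γ.map (MonoidHom.fst G K) = ⊤) (hK : Γ.map (MonoidHom.snd G K) = ⊤)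
    (h : ∀ L : Subgroup K, L.Normal → (∀ k ∈ L, ((1 : G), k) ∈ Γ) → L = ⊥) : Nonempty (G ≃* K) := by
  have hG' : ∀ g : G, ∃ k : K, (g, k) ∈ Γ := by
    intro g
    have : g ∈ Γ.map (MonoidHom.fst G K) := by rw [hG]; trivial
    obtain ⟨⟨g', k⟩, h1, h2⟩ := this
    exact ⟨k, by rw [← h2]; exact h1⟩
  have hK' : ∀ k : K, ∃ g : G, (g, k) ∈ Γ := by
    intro k
    have : k ∈ Γ.map (MonoidHom.snd G K) := by rw [hK]; trivial
    obtain ⟨⟨g, k'⟩, h1, h2⟩ := this
    exact ⟨g, by rw [← h2]; exact h1⟩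
  let L : Subgroup K := Γ.comap (MonoidHom.inr G K)
  have hL : L.Normal := by
    constructor
    intro k hk k'
    obtain ⟨g', h'⟩ := hK' k'
    have h1 := mul_mem (mul_mem h' hk) (inv_mem h')
    change ((1 : G), k' * k * k'⁻¹) ∈ Γ
    convert h1 using 1
    simp [MonoidHom.inr]
  have hL1 : L = ⊥ := h L hL fun k hk => hk
  have hL2 : ∀ k : K, ((1 : G), k) ∈ Γ → k = 1 := by
    intro k hk
    have : k ∈ L := hk
    rw [hL1] at this
    exact this
  let L' : Subgroup G := Γ.comap (MonoidHom.inl G K)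
  have hL' : L'.Normal := by
    constructor
    intro g hg g'
    obtain ⟨k', h'⟩ := hG' g'
    have h1 := mul_mem (mul_mem h' hg) (inv_mem h')
    change (g' * g * g'⁻¹, (1 : K)) ∈ Γ
    convert h1 using 1
    simp [MonoidHom.inl]
  have hL'1 : ∀ g : G, (g, (1 : K)) ∈ Γ → g = 1 := by
    intro g hg
    rcases hL'.eq_bot_or_eq_top with h1 | h1
    · have : g ∈ L' := hg
      rw [h1] at this
      exact this
    · exfalso
      obtain ⟨k, hk⟩ := exists_ne (1 : K)
      obtain ⟨g', h'⟩ := hK' k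
      have h2 : g' ∈ L' := by rw [h1]; trivial
      have h3 := mul_mem h' (inv_mem h2)
      apply hk
      apply hL2
      convert h3 using 1
      simp [MonoidHom.inl]
  have e1 : Function.Bijective ((MonoidHom.fst G K).comp Γ.subtype) := by
    constructor
    · rw [injective_iff_map_eq_one]
      rintro ⟨⟨g, k⟩, hγ⟩ h1
      have h2 : g = 1 := h1
      subst h2
      have h3 := hL2 k hγ
      subst h3
      rfl
    · intro g
      obtain ⟨k, hk⟩ := hG' g
      exact ⟨⟨(g, k), hk⟩, rfl⟩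
  have e2 : Function.Bijective ((MonoidHom.snd G K).comp Γ.subtype) := by
    constructor
    · rw [injective_iff_map_eq_one]
      rintro ⟨⟨g, k⟩, hγ⟩ h1
      have h2 : k = 1 := h1
      subst h2
      have h3 := hL'1 g hγ
      subst h3
      rfl
    · intro k
      obtain ⟨g, hg⟩ := hK' k
      exact ⟨⟨(g, k), hg⟩, rfl⟩
  exact ⟨(MulEquiv.ofBijective _ e1).symm.trans (MulEquiv.ofBijective _ e2)⟩

variable {F : Type*} [Field F] {V : Type*} [AddCommGroup V] [Module F V] {D : PQDatum F V}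

/-- **[ID] for `m = 4`**. -/
theorem ident {G : Type u} {K : Type v} [Group G] [Group K] [IsSimpleGroup G] [Nontrivial K]
    {mG : B2Maps D G} {mK : B2Maps D K} (hG : B2Rel mG) (hK : B2Rel mK)
    (ex : ∃ p : D.T, p.c ≠ 0)
    (gG : Subgroup.closure (genSet mG) = ⊤) (gK : Subgroup.closure (genSet mK) = ⊤)
    (hGI : ∃ a, mG.x' a ∉ Subgroup.closure (posSet mG))
    (hGJ : ∃ p, mG.z₂' p ∉ Subgroup.closure (posSet mG))
    (hKL : ∀ L : Subgroup K, L.Normal →
      L ≤ Subgroup.normalizer (Subgroup.closure (posSet mK) : Set K) → L = ⊥) :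
    Nonempty (G ≃* K) := by
  obtain ⟨r, hr⟩ := ex
  have h := hG.prod hK
  have hn : NIRel (mG.prod mK) := nirel h hr
  have hU := RankTwoIdentB2.U_le h hn r hr
  have hGen := RankTwoIdentB2.gen_le h hn r hr
  set c := (r2 h hn r hr).core with hc
  have hUG : (c.U).map (MonoidHom.fst G K) ≤ Subgroup.closure (posSet mG) := by
    refine (Subgroup.map_mono hU).trans ?_
    rw [MonoidHom.map_closure, Subgroup.closure_le]
    rintro _ ⟨g, (⟨a, rfl | rfl⟩ | ⟨p, rfl | rfl⟩), rfl⟩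
    · exact Subgroup.subset_closure (Or.inl ⟨a, Or.inl rfl⟩)
    · exact Subgroup.subset_closure (Or.inl ⟨a, Or.inr rfl⟩)
    · exact Subgroup.subset_closure (Or.inr ⟨p, Or.inl rfl⟩)
    · exact Subgroup.subset_closure (Or.inr ⟨p, Or.inr rfl⟩)
  have hXU : ∀ k, 1 ≤ k → k ≤ 4 → (r2 h hn r hr).X k ≤ c.U := fun k h1 h2 =>
    le_iSup₂_of_le k ⟨h1, h2⟩ le_rfl
  have hUK : (c.U).map (MonoidHom.snd G K) = Subgroup.closure (posSet mK) := by
    apply le_antisymm
    · refine (Subgroup.map_mono hU).trans ?_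
      rw [MonoidHom.map_closure, Subgroup.closure_le]
      rintro _ ⟨g, (⟨a, rfl | rfl⟩ | ⟨p, rfl | rfl⟩), rfl⟩
      · exact Subgroup.subset_closure (Or.inl ⟨a, Or.inl rfl⟩)
      · exact Subgroup.subset_closure (Or.inl ⟨a, Or.inr rfl⟩)
      · exact Subgroup.subset_closure (Or.inr ⟨p, Or.inl rfl⟩)
      · exact Subgroup.subset_closure (Or.inr ⟨p, Or.inr rfl⟩)
    · rw [Subgroup.closure_le]
      rintro g (⟨a, rfl | rfl⟩ | ⟨p, rfl | rfl⟩)
      · exact ⟨(mG.x a, mK.x a), hXU 1 (by norm_num) (by norm_num) ⟨a, rfl⟩, rfl⟩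
      · exact ⟨(mG.y a, mK.y a), hXU 3 (by norm_num) (by norm_num) ⟨a, rfl⟩, rfl⟩
      · exact ⟨(mG.z₁ p, mK.z₁ p), hXU 2 (by norm_num) (by norm_num) ⟨p, rfl⟩, rfl⟩
      · exact ⟨(mG.z₂ p, mK.z₂ p), hXU 4 (by norm_num) (by norm_num) ⟨p, rfl⟩, rfl⟩
  have hI : ∃ a ∈ c.AI', a.1 ∉ c.U.map (MonoidHom.fst G K) := by
    obtain ⟨a, ha⟩ := hGI
    exact ⟨(mG.x' a, mK.x' a), ⟨a, rfl⟩, fun h' => ha (hUG h')⟩
  have hJ : ∃ a ∈ c.AJ', a.1 ∉ c.U.map (MonoidHom.fst G K) := by
    obtain ⟨p, hp⟩ := hGJ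
    exact ⟨(mG.z₂' p, mK.z₂' p), ⟨p, rfl⟩, fun h' => hp (hUG h')⟩
  refine equiv_of_graph' c.G ?_ ?_ ?_
  · rw [eq_top_iff, ← gG, Subgroup.closure_le]
    rintro g (⟨a, rfl | rfl⟩ | ⟨p, rfl | rfl⟩)
    · exact ⟨(mG.x a, mK.x a), hGen (Subgroup.subset_closure (Or.inl ⟨a, Or.inl rfl⟩)), rfl⟩
    · exact ⟨(mG.x' a, mK.x' a), hGen (Subgroup.subset_closure (Or.inl ⟨a, Or.inr rfl⟩)), rfl⟩
    · exact ⟨(mG.z₂ p, mK.z₂ p), hGen (Subgroup.subset_closure (Or.inr ⟨p, Or.inl rfl⟩)), rfl⟩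
    · exact ⟨(mG.z₂' p, mK.z₂' p), hGen (Subgroup.subset_closure (Or.inr ⟨p, Or.inr rfl⟩)), rfl⟩
  · rw [eq_top_iff, ← gK, Subgroup.closure_le]
    rintro g (⟨a, rfl | rfl⟩ | ⟨p, rfl | rfl⟩)
    · exact ⟨(mG.x a, mK.x a), hGen (Subgroup.subset_closure (Or.inl ⟨a, Or.inl rfl⟩)), rfl⟩
    · exact ⟨(mG.x' a, mK.x' a), hGen (Subgroup.subset_closure (Or.inl ⟨a, Or.inr rfl⟩)), rfl⟩
    · exact ⟨(mG.z₂ p, mK.z₂ p), hGen (Subgroup.subset_closure (Or.inr ⟨p, Or.inl rfl⟩)), rfl⟩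
    · exact ⟨(mG.z₂' p, mK.z₂' p), hGen (Subgroup.subset_closure (Or.inr ⟨p, Or.inr rfl⟩)), rfl⟩
  · intro L hL hLΓ
    refine hKL L hL fun k hk => ?_
    have h1 := nI_not_mem c (MonoidHom.fst G K) hI
    have h2 := nI_not_mem c.symm (MonoidHom.fst G K) hJ
    have e := c.eq_D (by norm_num)
      (S := c.G ⊓ (Subgroup.normalizer (c.U.map (MonoidHom.fst G K) : Set G)).comap
        (MonoidHom.fst G K)) inf_le_left
      (fun d hd => ⟨c.D_le hd, map_normalizer c (MonoidHom.fst G K) hd⟩)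
      (fun h => h1 h.2) (fun h => h2 h.2)
    have h3 : ((1 : G), k) ∈ c.G ⊓
        (Subgroup.normalizer (c.U.map (MonoidHom.fst G K) : Set G)).comap (MonoidHom.fst G K) :=
      ⟨hLΓ k hk, one_mem (Subgroup.normalizer (c.U.map (MonoidHom.fst G K) : Set G))⟩
    rw [e] at h3
    have h4 := map_normalizer c (MonoidHom.snd G K) h3
    rw [hUK] at h4
    exact h4

/-- The simple case. -/
theorem ident_simple {G : Type u} {K : Type v} [Group G] [Group K] [IsSimpleGroup G]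
    [IsSimpleGroup K]
    {mG : B2Maps D G} {mK : B2Maps D K} (hG : B2Rel mG) (hK : B2Rel mK)
    (ex : ∃ p : D.T, p.c ≠ 0)
    (gG : Subgroup.closure (genSet mG) = ⊤) (gK : Subgroup.closure (genSet mK) = ⊤)
    (hGI : ∃ a, mG.x' a ∉ Subgroup.closure (posSet mG))
    (hGJ : ∃ p, mG.z₂' p ∉ Subgroup.closure (posSet mG))
    (hKU : Subgroup.closure (posSet mK) ≠ ⊤) : Nonempty (G ≃* K) := by
  refine ident hG hK ex gG gK hGI hGJ fun L hL hLn => ?_
  rcases hL.eq_bot_or_eq_top with h1 | h1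
  · exact h1
  · exfalso
    rw [h1, top_le_iff] at hLn
    have hn : (Subgroup.closure (posSet mK)).Normal := Subgroup.normalizer_eq_top_iff.1 hLn
    rcases hn.eq_bot_or_eq_top with h2 | h2
    · have hx : ∀ a, mK.x a = 1 := fun a => by
        have : mK.x a ∈ Subgroup.closure (posSet mK) := Subgroup.subset_closure (Or.inl ⟨a, Or.inl rfl⟩)
        rw [h2] at this; exact this
      have hz : ∀ p, mK.z₂ p = 1 := fun p => by
        have : mK.z₂ p ∈ Subgroup.closure (posSet mK) := Subgroup.subset_closure (Or.inr ⟨p, Or.inr rfl⟩)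
        rw [h2] at this; exact this
      have hx' : ∀ a, mK.x' a = 1 := by
        intro a
        have h3 := hK.nI_x (-a)
        rw [hx] at h3
        have h4 : mK.x' (- -a) = 1 := by
          rw [mul_one, mul_inv_cancel] at h3
          exact h3.symm
        rwa [neg_neg] at h4
      have hz' : ∀ p, mK.z₂' p = 1 := by
        obtain ⟨r, hr⟩ := ex
        intro p
        have h3 := hK.nII_z₂' r hr p
        rw [hz] at h3
        have h4 := mul_inv_eq_one.1 h3
        have h5 : mK.nII r * mK.z₂' p = mK.nII r * 1 := by rw [h4, mul_one]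
        exact mul_left_cancel h5
      have h5 : Subgroup.closure (genSet mK) = ⊥ := by
        rw [Subgroup.closure_eq_bot_iff]
        rintro g (⟨a, rfl | rfl⟩ | ⟨p, rfl | rfl⟩)
        · exact hx a
        · exact hx' a
        · exact hz p
        · exact hz' p
      rw [gK] at h5
      exact absurd h5 top_ne_bot
    · exact hKU h2

end Cfsg.Agent.SplitTwo.QuadIdent
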