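import Cfsg.Agent.SplitTwo.QuadPos

/-!
# Nonreduced Moufang quadrangles (unitary groups in dimension five)

`1 ≠ Y4 ≠ U4`, where `Y4` is the centraliser of `U2` in `U4`.
-/

set_option autoImplicit false

universe u

namespace Cfsg.Agent.SplitTwo.QuadNonred

open Cfsg.Agent.SplitTwo.QuadBase Cfsg.Agent.SplitTwo.QuadField Cfsg.Agent.SplitTwo.QuadCoord
open Cfsg.Agent.SplitTwo.QuadPos Cfsg.Agent.TitsThree.PQAbs
open scoped commutatorElement

variable {G : Type u} [Group G]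

theorem Nrm.surj [Finite G] {U : Subgroup G} {g : G} (hg : ∀ b ∈ U, g * b * g⁻¹ ∈ U) :
    ∀ b ∈ U, ∃ b' ∈ U, g * b' * g⁻¹ = b := by
  intro b hb
  let f : U → U := fun z => ⟨g * z * g⁻¹, hg z z.2⟩
  have hf : Function.Injective f := by
    intro z z' hz
    have := congrArg Subtype.val hz
    exact Subtype.ext (mul_left_cancel (mul_right_cancel this))
  obtain ⟨z, hz⟩ := (Finite.surjective_of_injective hf) ⟨b, hb⟩
  exact ⟨z, z.2, congrArg Subtype.val hz⟩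

/-- The part of `U` centralising `V`. -/
def Y (U V : Subgroup G) : Subgroup G := U ⊓ Subgroup.centralizer (V : Set G)

theorem mem_Y {U V : Subgroup G} {x : G} : x ∈ Y U V ↔ x ∈ U ∧ ∀ b ∈ V, Commute x b := by
  unfold Y
  rw [Subgroup.mem_inf, Subgroup.mem_centralizer_iff]
  exact ⟨fun h => ⟨h.1, fun b hb => (h.2 b hb).symm⟩, fun h => ⟨h.1, fun b hb => (h.2 b hb).symm⟩⟩

variable {U1 U2 U3 U4 : Subgroup G} {m n : G → G}

/-- The centraliser layer, if `U3` is abelian. -/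
theorem lay [Finite G] (h : Quad U1 U2 U3 U4 m n) (hc3 : ∀ c ∈ U3, ∀ c' ∈ U3, Commute c c')
    (hne : ∃ x ∈ U4, x ∉ Y U4 U2) : Lay U1 U2 U3 U4 (Y U2 U4) (Y U4 U2) m where
  le2 := inf_le_left
  le4 := inf_le_left
  Φ_iff a ha ha1 x hx := by
    rw [mem_Y, mem_Y, Φ_ne m ha1]
    constructor
    · rintro ⟨_, h2⟩
      refine ⟨hx, fun b hb => ?_⟩
      have h3 := h2 _ (h.m2 a ha ha1 b hb)
      have h4 : m a * (x * b) * (m a)⁻¹ = m a * (b * x) * (m a)⁻¹ := by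
        calc m a * (x * b) * (m a)⁻¹ = (m a * x * (m a)⁻¹) * (m a * b * (m a)⁻¹) := by group
          _ = (m a * b * (m a)⁻¹) * (m a * x * (m a)⁻¹) := h3
          _ = m a * (b * x) * (m a)⁻¹ := by group
      exact mul_left_cancel (mul_right_cancel h4)
    · rintro ⟨_, h2⟩
      refine ⟨h.m4 a ha ha1 x hx, fun z hz => ?_⟩
      have h3 := h.m4 a⁻¹ (U1.inv_mem ha) (inv_ne_one.2 ha1) z hz
      rw [h.m_inv a ha ha1, inv_inv] at h3
      have h4 := h2 _ h3
      have h5 : (m a * x * (m a)⁻¹) * z = z * (m a * x * (m a)⁻¹) := by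
        calc (m a * x * (m a)⁻¹) * z = m a * (x * ((m a)⁻¹ * z * m a)) * (m a)⁻¹ := by group
          _ = m a * (((m a)⁻¹ * z * m a) * x) * (m a)⁻¹ := by rw [h4.eq]
          _ = z * (m a * x * (m a)⁻¹) := by group
      exact h5
  v2 a ha c hc := by
    rw [mem_Y]
    exact ⟨h.k13 a ha c hc, fun x hx => h.hall_witt hc3 ha hc hx⟩
  c4 x hx y hy := by
    rw [mem_Y]
    refine ⟨U4.mul_mem (U4.mul_mem (U4.mul_mem (U4.inv_mem hx) (U4.inv_mem hy)) hx) hy,
      fun b hb => ?_⟩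
    exact h.rev.comm1_mem_Y1 hx hy hb
  ne := hne
  nrm4 g hg z hz := by
    rw [mem_Y] at hz ⊢
    refine ⟨hg.u4 z hz.1, fun b hb => ?_⟩
    obtain ⟨b', hb', rfl⟩ := Nrm.surj hg.u2 b hb
    have := (hz.2 b' hb').eq
    change _ = _
    calc g * z * g⁻¹ * (g * b' * g⁻¹) = g * (z * b') * g⁻¹ := by group
      _ = g * (b' * z) * g⁻¹ := by rw [this]
      _ = g * b' * g⁻¹ * (g * z * g⁻¹) := by group
  nrm2 g hg z hz := by
    rw [mem_Y] at hz ⊢
    refine ⟨hg.u2 z hz.1, fun b hb => ?_⟩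
    obtain ⟨b', hb', rfl⟩ := Nrm.surj hg.u4 b hb
    have := (hz.2 b' hb').eq
    change _ = _
    calc g * z * g⁻¹ * (g * b' * g⁻¹) = g * (z * b') * g⁻¹ := by group
      _ = g * (b' * z) * g⁻¹ := by rw [this]
      _ = g * b' * g⁻¹ * (g * z * g⁻¹) := by group

/-- `q' s'(k) = q s(k) + k` for two field endomorphisms forces `s = id`. -/
theorem end_eq_id {K : Type*} [Field K] (s s' : K →+* K) (q q' : K) (hq : q ≠ 0)
    (hs : ∀ k, q' * s' k = q * s k + k) (k : K) : s k = k := by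
  have h1 := hs 1
  rw [map_one, map_one, mul_one, mul_one] at h1
  have h2 := hs k
  have h3 := hs (k ^ 2)
  rw [map_pow, map_pow] at h3
  have h4 : q * (s k - k) ^ 2 = 0 := by
    have h5 : (q' * s' k) ^ 2 = q' * (q' * s' k ^ 2) := by ring
    rw [h2, h3, h1] at h5
    linear_combination -h5
  have h5 : (s k - k) ^ 2 = 0 := by
    rcases mul_eq_zero.1 h4 with h | h
    · exact absurd h hq
    · exact h
  exact sub_eq_zero.1 (pow_eq_zero_iff (two_ne_zero) |>.1 h5)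

/-- In a finite field, an additive subgroup `F0` of the fixed field `{σ k = k}` containing all
squares of the fixed field is everything. -/
theorem fix_sub {K : Type*} [Field K] [Finite K] (σ : K →+* K) (F0 : AddSubgroup K)
    (h0 : ∀ k ∈ F0, σ k = k) (h1 : (1 : K) ∈ F0) (hsq : ∀ k, σ k = k → k ^ 2 ∈ F0) :
    ∀ k, σ k = k → k ∈ F0 := by
  classical
  intro k hk
  by_cases h2 : (2 : K) = 0
  · have hF : Function.Injective (fun f : F0 => (⟨(f : K) ^ 2, hsq f (h0 f f.2)⟩ : F0)) := by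
      intro f g hfg
      have h3 : (f : K) ^ 2 = (g : K) ^ 2 := congrArg Subtype.val hfg
      have h4 : ((f : K) - g) ^ 2 = 0 := by
        linear_combination h3 + ((g : K) ^ 2 - f * g) * h2
      exact Subtype.ext (sub_eq_zero.1 (pow_eq_zero_iff (two_ne_zero) |>.1 h4))
    obtain ⟨f, hf⟩ := (Finite.surjective_of_injective hF) ⟨k ^ 2, hsq k hk⟩
    have h3 : (f : K) ^ 2 = k ^ 2 := congrArg Subtype.val hf
    have h4 : ((f : K) - k) ^ 2 = 0 := by
      linear_combination h3 + (k ^ 2 - f * k) * h2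
    have h5 := sub_eq_zero.1 (pow_eq_zero_iff (two_ne_zero) |>.1 h4)
    rw [← h5]; exact f.2
  · have h3 : (2 : K) * k ∈ F0 := by
      have e : (2 : K) * k = (k + 1) ^ 2 - k ^ 2 - 1 := by ring
      rw [e]
      exact F0.sub_mem (F0.sub_mem (hsq _ (by rw [map_add, map_one, hk])) (hsq k hk)) h1
    obtain ⟨N, hN⟩ : ∃ N : ℕ, (N : K) * 2 = 1 := by
      haveI := Fintype.ofFinite K
      refine ⟨2 ^ (Fintype.card K - 2), ?_⟩
      have h4 := FiniteField.pow_card_sub_one_eq_one (2 : K) h2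
      have h5 : 1 < Fintype.card K := Fintype.one_lt_card
      push_cast
      rw [← pow_succ, show Fintype.card K - 2 + 1 = Fintype.card K - 1 by omega]
      exact h4
    have e : k = N • ((2 : K) * k) := by
      rw [nsmul_eq_mul, ← mul_assoc, hN, one_mul]
    rw [e]; exact F0.nsmul_mem h3 N

/-- The nonreduced case. -/
theorem exists_pos [Finite G] (h : Quad U1 U2 U3 U4 m n) {e : G} (he : e ∈ U1) (he1 : e ≠ 1)
    (hY : ∃ s ∈ Y U4 U2, s ≠ 1) (hne : ∃ x ∈ U4, x ∉ Y U4 U2) :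
    ∃ (K : Type u) (_ : Field K) (S : Sys K U4) (x y : K → G) (z₁ z₂ : U4 → G), Finite K ∧
      Pos S U1 U2 U3 U4 x y z₁ z₂ := by
  classical
  obtain ⟨f, hfY, hf1⟩ := hY
  have hf : f ∈ U4 := (mem_Y.1 hfY).1
  have hc3 : ∀ c ∈ U3, ∀ c' ∈ U3, Commute c c' :=
    h.rev.comm2_of_Y1 hf hf1 (fun b hb => (mem_Y.1 hfY).2 b hb)
  have L := lay h hc3 hne
  obtain ⟨K, _, ι, hKf, ι_mul, ι_inj, ι_surj, ι_e, ι_K1, ι_E, ι_T⟩ := coord h L he he1
  choose jot jot_mem jot_ι using ι_surj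
  have ι_jot : ∀ a ∈ U1, jot (ι a) = a := fun a ha => ι_inj _ (jot_mem _) _ ha (jot_ι _)
  have ι_one : ι 1 = 0 := by
    have := ι_mul 1 U1.one_mem 1 U1.one_mem
    rw [mul_one] at this
    simpa using this
  have ι_inv : ∀ a ∈ U1, ι a⁻¹ = -ι a := by
    intro a ha
    have := ι_mul a⁻¹ (U1.inv_mem ha) a ha
    rw [inv_mul_cancel, ι_one] at this
    exact (neg_eq_of_add_eq_zero_left this.symm).symm
  have ι_ne : ∀ a ∈ U1, a ≠ 1 → ι a ≠ 0 := fun a ha ha1 h0 =>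
    ha1 (ι_inj a ha 1 U1.one_mem (h0.trans ι_one.symm))
  have jot_mul : ∀ k l, jot (k + l) = jot k * jot l := by
    intro k l
    apply ι_inj _ (jot_mem _) _ (U1.mul_mem (jot_mem _) (jot_mem _))
    rw [jot_ι, ι_mul _ (jot_mem _) _ (jot_mem _), jot_ι, jot_ι]
  -- coordinates on `U3`
  obtain ⟨P, hP⟩ : ∃ P : G → K, P = fun c => ι ((n f)⁻¹ * c * n f) := ⟨_, rfl⟩
  have hPc : ∀ c, P c = ι ((n f)⁻¹ * c * n f) := fun c => by rw [hP]
  have hP1 : ∀ c ∈ U3, (n f)⁻¹ * c * n f ∈ U1 := by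
    intro c hc
    have := h.n3 f⁻¹ (U4.inv_mem hf) (inv_ne_one.2 hf1) c hc
    rwa [h.n_inv f hf hf1, inv_inv] at this
  have P_f : ∀ a ∈ U1, P (Φ n f a) = ι a := by
    intro a ha
    rw [hPc, Φ_ne n hf1]
    congr 1; group
  have P_mul : ∀ c ∈ U3, ∀ d ∈ U3, P (c * d) = P c + P d := by
    intro c hc d hd
    rw [hPc, hPc, hPc, ← ι_mul _ (hP1 c hc) _ (hP1 d hd)]
    congr 1; group
  have P_one : P 1 = 0 := by
    rw [hPc, mul_one, inv_mul_cancel, ι_one]
  have P_inv : ∀ c ∈ U3, P c⁻¹ = -P c := by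
    intro c hc
    have := P_mul c⁻¹ (U3.inv_mem hc) c hc
    rw [inv_mul_cancel, P_one] at this
    exact (neg_eq_of_add_eq_zero_left this.symm).symm
  have P_inj : ∀ c ∈ U3, ∀ d ∈ U3, P c = P d → c = d := by
    intro c hc d hd hcd
    rw [hPc, hPc] at hcd
    have := ι_inj _ (hP1 c hc) _ (hP1 d hd) hcd
    exact mul_left_cancel (mul_right_cancel this)
  have P_gen : ∀ x, x ≠ 1 → ∀ a, P (Φ n x a) = ι (((n f)⁻¹ * n x) * a * ((n f)⁻¹ * n x)⁻¹) := by
    intro x hx1 a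
    rw [hPc, Φ_ne n hx1]
    congr 1; group
  -- the function `q`
  obtain ⟨q, hq⟩ : ∃ q : G → K, q = fun x => P (Φ n x e) := ⟨_, rfl⟩
  have hqx : ∀ x, q x = P (Φ n x e) := fun x => by rw [hq]
  have q_f : q f = 1 := by rw [hqx, P_f e he, ι_e]
  have q_one : q 1 = 0 := by rw [hqx, Φ_one_left, P_one]
  have q_ne : ∀ x ∈ U4, x ≠ 1 → q x ≠ 0 := by
    intro x hx hx1
    rw [hqx, P_gen x hx1]
    have hg := h.nrm_n hx hx1 hf hf1
    apply ι_ne _ (hg.u1 e he)
    intro h1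
    exact he1 (conj_eq_one_iff.1 h1)
  -- `(C1)`
  have ΦY : ∀ a ∈ U1, ∀ s ∈ Y U4 U2, Φ m a s ∈ Y U2 U4 := by
    intro a ha s hs
    by_cases ha1 : a = 1
    · rw [ha1, Φ_one_left]; exact (Y U2 U4).one_mem
    · exact (L.Φ_iff a ha ha1 s (L.le4 hs)).2 hs
  have C1 : ∀ x ∈ U4, ∀ s ∈ Y U4 U2, ∀ a ∈ U1, Φ n (x * s) a = Φ n x a * Φ n s a := by
    intro x hx s hs a ha
    rw [h.star' ha hx (L.le4 hs), κ_eq_one_iff.2 ((mem_Y.1 (ΦY a ha s hs)).2 x hx), mul_one]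
  have q_add : ∀ x ∈ U4, ∀ s ∈ Y U4 U2, q (x * s) = q x + q s := by
    intro x hx s hs
    rw [hqx, C1 x hx s hs e he, P_mul _ (h.Ψ_mem hx he) _ (h.Ψ_mem (L.le4 hs) he), ← hqx, ← hqx]
  have q_invY : ∀ s ∈ Y U4 U2, q s⁻¹ = -q s := by
    intro s hs
    have := q_add s⁻¹ (U4.inv_mem (L.le4 hs)) s hs
    rw [inv_mul_cancel, q_one] at this
    exact (neg_eq_of_add_eq_zero_left this.symm).symm
  -- `(C2)`
  have C2 : ∀ x ∈ U4, ∀ a ∈ U1, P (Φ n x a) = q x * ι a := by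
    intro x hx a ha
    by_cases hx1 : x = 1
    · rw [hx1, Φ_one_left, P_one, q_one, zero_mul]
    have hPadd : ∀ b ∈ U1, P (Φ n (x * f) b) = P (Φ n x b) + ι b := by
      intro b hb
      rw [C1 x hx f hfY b hb, P_mul _ (h.Ψ_mem hx hb) _ (h.Ψ_mem hf hb), P_f b hb]
    by_cases hxf : x * f = 1
    · have h1 := hPadd a ha
      have h2 := hPadd e he
      rw [hxf, Φ_one_left, P_one] at h1 h2
      rw [ι_e] at h2
      rw [hqx]
      linear_combination h1 * (-1 : K) + h2 * ι a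
    · have hg := h.nrm_n hx hx1 hf hf1
      have hg' := h.nrm_n (U4.mul_mem hx hf) hxf hf hf1
      obtain ⟨s, hs⟩ := ι_E _ hg
      obtain ⟨s', hs'⟩ := ι_E _ hg'
      have e1 : ∀ b ∈ U1, P (Φ n x b) = q x * s (ι b) := by
        intro b hb
        rw [P_gen x hx1, hs b hb, hqx, P_gen x hx1]
      have e2 : ∀ b ∈ U1, P (Φ n (x * f) b) = q (x * f) * s' (ι b) := by
        intro b hb
        rw [P_gen _ hxf, hs' b hb, hqx, P_gen _ hxf]
      have e3 := end_eq_id s s' (q x) (q (x * f)) (q_ne x hx hx1) (by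
        intro k
        have := hPadd _ (jot_mem k)
        rwa [e1 _ (jot_mem k), e2 _ (jot_mem k), jot_ι] at this)
      rw [e1 a ha, e3]
  -- scaling
  have st_mem : ∀ a ∈ U1, ∀ x ∈ U4, st m e a x ∈ U4 := fun a ha x hx => h.st_mem he he1 ha hx
  have st_Y : ∀ a ∈ U1, ∀ s ∈ Y U4 U2, st m e a s ∈ Y U4 U2 := by
    intro a ha s hs
    rw [← L.Φ_iff e he he1 _ (st_mem a ha s (L.le4 hs)), Φ_st m he1]
    exact ΦY a ha s hs
  obtain ⟨nu, hnu⟩ : ∃ nu : G → K, nu = fun a => q (st m e a f) := ⟨_, rfl⟩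
  have hnua : ∀ a, nu a = q (st m e a f) := fun a => by rw [hnu]
  have nu_one : nu 1 = 0 := by rw [hnua, st_one_left, q_one]
  -- action of the torus on `U3`
  have ι_tor : ∀ a ∈ U1, a ≠ 1 → ∀ c ∈ U1,
      ι (((m e)⁻¹ * m a) * c * ((m e)⁻¹ * m a)⁻¹) = ι c / ι a ^ 2 := by
    intro a ha ha1 c hc
    have := ι_T a ha ha1 e he he1 c hc
    rw [ι_e, one_pow, one_mul] at this
    rw [← this]
    have := ι_ne a ha ha1
    field_simp
  have P_tor : ∀ a ∈ U1, a ≠ 1 → ∀ x ∈ U4, ∀ c ∈ U1,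
      P (((m e)⁻¹ * m a) * Φ n x c * ((m e)⁻¹ * m a)⁻¹) = q (st m e a x) * ι c / ι a ^ 2 := by
    intro a ha ha1 x hx c hc
    have hg := h.nrm_m ha ha1 he he1
    rw [← (h.equiv hg hc hx).2, C2 _ (hg.u4 x hx) _ (hg.u1 c hc), ι_tor a ha ha1 c hc,
      ← st_eq_nrm m ha1]
    ring
  have P_H3 : ∀ a ∈ U1, a ≠ 1 → ∀ d ∈ U3,
      P (((m e)⁻¹ * m a) * d * ((m e)⁻¹ * m a)⁻¹) = nu a * P d / ι a ^ 2 := by
    intro a ha ha1 d hd
    obtain ⟨c, hc, rfl⟩ := h.Ψ_surj hf hf1 hd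
    rw [P_tor a ha ha1 f hf c hc, P_f c hc, hnua]
  have q_st : ∀ a ∈ U1, ∀ x ∈ U4, q (st m e a x) = nu a * q x := by
    intro a ha x hx
    by_cases ha1 : a = 1
    · rw [ha1, st_one_left, q_one, nu_one, zero_mul]
    have h1 := P_tor a ha ha1 x hx e he
    rw [P_H3 a ha ha1 _ (h.Ψ_mem hx he), C2 x hx e he, ι_e, mul_one, mul_one] at h1
    have h2 := ι_ne a ha ha1
    field_simp at h1
    exact h1.symm
  -- the form `g`
  obtain ⟨gg, hgg⟩ : ∃ gg : G → G → K, gg = fun y x => P (κ (Φ m e y) x) := ⟨_, rfl⟩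
  have hgg' : ∀ y x, gg y x = P (κ (Φ m e y) x) := fun y x => by rw [hgg]
  have C4 : ∀ x ∈ U4, ∀ y ∈ U4, ∀ c ∈ U1,
      P (κ (Φ m c y) x) = (q (x * y) - q x - q y) * ι c := by
    intro x hx y hy c hc
    have h1 := C2 (x * y) (U4.mul_mem hx hy) c hc
    rw [h.star' hc hx hy, P_mul _ (U3.mul_mem (h.Ψ_mem hx hc) (h.k24 _ (h.Φ_mem hc hy) x hx))
      _ (h.Ψ_mem hy hc), P_mul _ (h.Ψ_mem hx hc) _ (h.k24 _ (h.Φ_mem hc hy) x hx),
      C2 x hx c hc, C2 y hy c hc] at h1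
    linear_combination h1
  have q_mul : ∀ x ∈ U4, ∀ y ∈ U4, q (x * y) = q x + q y + gg y x := by
    intro x hx y hy
    have h1 := C4 x hx y hy e he
    rw [← hgg', ι_e] at h1
    linear_combination -h1
  have P_κ : ∀ x ∈ U4, ∀ y ∈ U4, ∀ c ∈ U1, P (κ (Φ m c y) x) = ι c * gg y x := by
    intro x hx y hy c hc
    rw [C4 x hx y hy c hc, q_mul x hx y hy]; ring
  have gg_st : ∀ x ∈ U4, ∀ y ∈ U4, ∀ c ∈ U1, gg (st m e c y) x = ι c * gg y x := by
    intro x hx y hy c hc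
    rw [hgg', Φ_st m he1, P_κ x hx y hy c hc]
  have gg_mul : ∀ x ∈ U4, ∀ y ∈ U4, ∀ y' ∈ U4, gg (y * y') x = gg y x + gg y' x := by
    intro x hx y hy y' hy'
    rw [hgg', hgg', hgg', Φ_mul, h.κ24_mul_left (h.Φ_mem he hy) (h.Φ_mem he hy') hx,
      P_mul _ (h.k24 _ (h.Φ_mem he hy) x hx) _ (h.k24 _ (h.Φ_mem he hy') x hx)]
  have gg_mul' : ∀ y ∈ U4, ∀ x ∈ U4, ∀ x' ∈ U4, gg y (x * x') = gg y x + gg y x' := by
    intro y hy x hx x' hx'
    rw [hgg', hgg', hgg', h.κ24_mul_right (h.Φ_mem he hy) hx hx',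
      P_mul _ (h.k24 _ (h.Φ_mem he hy) x hx) _ (h.k24 _ (h.Φ_mem he hy) x' hx')]
  have gg_Y : ∀ y ∈ U4, ∀ s ∈ Y U4 U2, gg y s = 0 := by
    intro y hy s hs
    rw [hgg', κ_eq_one_iff.2 ((mem_Y.1 hs).2 _ (h.Φ_mem he hy)).symm, P_one]
  have gg_Y' : ∀ s ∈ Y U4 U2, ∀ x ∈ U4, gg s x = 0 := by
    intro s hs x hx
    rw [hgg', κ_eq_one_iff.2 ((mem_Y.1 (ΦY e he s hs)).2 x hx), P_one]
  -- `(C5)`
  have C5 : ∀ a ∈ U1, a ≠ 1 → ∀ y ∈ U4, ∀ x ∈ U4, gg y (st m e a x) = nu a / ι a * gg y x := by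
    intro a ha ha1 y hy x hx
    have hg := h.nrm_m ha ha1 he he1
    have e1 := κ_conj ((m e)⁻¹ * m a) (Φ m a⁻¹ y) x
    rw [h.nrm_m_Φ ha ha1 he he1, ← st_eq_nrm m ha1 x] at e1
    have e2 := congrArg P e1
    rw [P_H3 a ha ha1 _ (h.k24 _ (h.Φ_mem (U1.inv_mem ha) hy) x hx),
      P_κ x hx y hy _ (U1.inv_mem ha), P_κ _ (st_mem a ha x hx) y hy _ (U1.inv_mem he),
      ι_inv a ha, ι_inv e he, ι_e] at e2
    have h2 := ι_ne a ha ha1
    field_simp at e2 ⊢
    linear_combination e2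
  obtain ⟨sg, hsg⟩ : ∃ sg : K → K, sg = fun k => nu (jot k) / k := ⟨_, rfl⟩
  have sg_ι : ∀ a ∈ U1, sg (ι a) = nu a / ι a := fun a ha => by rw [hsg]; simp only [ι_jot a ha]
  have sg_zero : sg 0 = 0 := by rw [hsg]; simp
  have nu_sg : ∀ a ∈ U1, nu a = sg (ι a) * ι a := by
    intro a ha
    by_cases ha1 : a = 1
    · rw [ha1, nu_one, ι_one, mul_zero]
    · rw [sg_ι a ha, div_mul_cancel₀ _ (ι_ne a ha ha1)]
  have C5' : ∀ a ∈ U1, ∀ y ∈ U4, ∀ x ∈ U4, gg y (st m e a x) = sg (ι a) * gg y x := by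
    intro a ha y hy x hx
    by_cases ha1 : a = 1
    · rw [ha1, st_one_left, ι_one, sg_zero, zero_mul, hgg', κ_one_right, P_one]
    · rw [C5 a ha ha1 y hy x hx, sg_ι a ha]
  -- `st (a * b) x = st a x * z * st b x`
  have st_add : ∀ a ∈ U1, ∀ b ∈ U1, ∀ x ∈ U4, ∃ z ∈ Y U4 U2,
      st m e (a * b) x = st m e a x * z * st m e b x ∧ Φ m e z = κ b (Φ n x a) := by
    intro a ha b hb x hx
    have hk2 := h.k13 b hb _ (h.Ψ_mem hx ha)
    obtain ⟨z, hz, hz'⟩ := h.Φ_surj he he1 hk2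
    refine ⟨z, ?_, ?_, hz'⟩
    · rw [← L.Φ_iff e he he1 z hz, hz']
      exact L.v2 b hb _ (h.Ψ_mem hx ha)
    · have e1 := h.star ha hb hx
      rw [← hz', ← Φ_st m he1 a x, ← Φ_st m he1 b x, ← Φ_st m he1 (a * b) x, ← Φ_mul,
        ← Φ_mul] at e1
      exact Φ_inj m he1 e1
  -- a pair with `g ≠ 0`
  obtain ⟨y0, hy0, x0, hx0, hg0, hx0Y⟩ : ∃ y0 ∈ U4, ∃ x0 ∈ U4, gg y0 x0 ≠ 0 ∧ x0 ∉ Y U4 U2 := by
    obtain ⟨x0, hx0, hx0Y⟩ := hne
    rw [mem_Y] at hx0Y
    push Not at hx0Y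
    obtain ⟨b, hb, hb0⟩ := hx0Y hx0
    obtain ⟨y0, hy0, rfl⟩ := h.Φ_surj he he1 hb
    refine ⟨y0, hy0, x0, hx0, ?_, ?_⟩
    · intro h0
      rw [hgg'] at h0
      have h1 := P_inj _ (h.k24 _ (h.Φ_mem he hy0) x0 hx0) 1 U3.one_mem (h0.trans P_one.symm)
      exact hb0 (κ_eq_one_iff.1 h1).symm
    · intro hY0
      exact hb0 ((mem_Y.1 hY0).2 _ hb)
  have sg_add : ∀ k l, sg (k + l) = sg k + sg l := by
    intro k l
    obtain ⟨z, hz, hz1, _⟩ := st_add _ (jot_mem k) _ (jot_mem l) x0 hx0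
    have e1 := C5' _ (U1.mul_mem (jot_mem k) (jot_mem l)) y0 hy0 x0 hx0
    rw [hz1, gg_mul' y0 hy0 _ (U4.mul_mem (st_mem _ (jot_mem k) x0 hx0) (L.le4 hz)) _
      (st_mem _ (jot_mem l) x0 hx0), gg_mul' y0 hy0 _ (st_mem _ (jot_mem k) x0 hx0) _ (L.le4 hz),
      gg_Y y0 hy0 z hz, C5' _ (jot_mem k) y0 hy0 x0 hx0, C5' _ (jot_mem l) y0 hy0 x0 hx0,
      ← jot_mul, jot_ι, jot_ι, jot_ι] at e1
    apply mul_right_cancel₀ hg0
    linear_combination -e1
  have sg_mul : ∀ k l, sg (k * l) = sg k * sg l := by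
    intro k l
    have h1 := ι_K1 _ (jot_mem k) _ (jot_mem l) _ (jot_mem (k * l)) (by rw [jot_ι, jot_ι, jot_ι])
      x0 hx0
    have hl := st_mem _ (jot_mem l) x0 hx0
    have hkl := st_mem _ (jot_mem k) _ hl
    have h0 := st_mem _ (jot_mem (k * l)) x0 hx0
    have e1 : gg y0 (st m e (jot k) (st m e (jot l) x0)) = gg y0 (st m e (jot (k * l)) x0) := by
      have e2 : st m e (jot k) (st m e (jot l) x0) = st m e (jot (k * l)) x0 *
          ((st m e (jot (k * l)) x0)⁻¹ * st m e (jot k) (st m e (jot l) x0)) := by group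
      rw [e2, gg_mul' y0 hy0 _ h0 _ (L.le4 h1), gg_Y y0 hy0 _ h1, add_zero]
    rw [C5' _ (jot_mem k) y0 hy0 _ hl, C5' _ (jot_mem l) y0 hy0 x0 hx0,
      C5' _ (jot_mem (k * l)) y0 hy0 x0 hx0, jot_ι, jot_ι, jot_ι] at e1
    apply mul_right_cancel₀ hg0
    linear_combination -e1
  have sg_one : sg 1 = 1 := by
    rw [← ι_e, sg_ι e he, hnua, st_self m he1, q_f, ι_e, div_one]
  let sgh : K →+* K :=
    { toFun := sg, map_one' := sg_one, map_mul' := sg_mul, map_zero' := sg_zero,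
      map_add' := sg_add }
  have hsgh : ∀ k, sgh k = sg k := fun _ => rfl
  have sg_neg : ∀ k, sg (-k) = -sg k := fun k => map_neg sgh k
  have sg_sub : ∀ k l, sg (k - l) = sg k - sg l := fun k l => map_sub sgh k l
  -- `(C8)`
  have C8 : ∀ t ∈ Y U4 U2, sg (q t) = q t := by
    intro t ht
    by_cases ht1 : t = 1
    · rw [ht1, q_one, sg_zero]
    have htU := L.le4 ht
    have hg := h.nrm_n htU ht1 hf hf1
    obtain ⟨g, hgdef⟩ : ∃ g, g = (n f)⁻¹ * n t := ⟨_, rfl⟩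
    rw [← hgdef] at hg
    have ha : g * e * g⁻¹ ∈ U1 := hg.u1 e he
    have hιa : ι (g * e * g⁻¹) = q t := by rw [hqx, P_gen t ht1, hgdef]
    have fixg : ∀ b ∈ Y U2 U4, g * b * g⁻¹ = b := by
      intro b hb
      obtain ⟨hb2, hb4⟩ := mem_Y.1 hb
      have e1 := h.fix2 t htU ht1 b hb2 (fun x' hx' => (hb4 x' hx').symm)
      have e2 := h.fix2 f hf hf1 b hb2 (fun x' hx' => (hb4 x' hx').symm)
      rw [hgdef]
      calc (n f)⁻¹ * n t * b * ((n f)⁻¹ * n t)⁻¹ = (n f)⁻¹ * (n t * b * (n t)⁻¹) * n f := by group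
        _ = (n f)⁻¹ * (n f * b * (n f)⁻¹) * n f := by rw [e1, e2]
        _ = b := by group
    have e1 := (h.equiv hg he hf).1
    rw [fixg _ (ΦY e he f hfY)] at e1
    have e2 : st m e (g * e * g⁻¹) (g * f * g⁻¹) = f := by
      apply Φ_inj m he1
      rw [Φ_st m he1, e1]
    have e3 := q_st _ ha _ (hg.u4 f hf)
    rw [e2, q_f] at e3
    -- action on `U3`
    have e4 : ∀ c ∈ U1, P (g * Φ n f c * g⁻¹) = q (g * f * g⁻¹) * (q t * ι c) := by
      intro c hc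
      rw [← (h.equiv hg hc hf).2, C2 _ (hg.u4 f hf) _ (hg.u1 c hc)]
      congr 1
      rw [← C2 t htU c hc, P_gen t ht1, hgdef]
    have e5 : ∀ d ∈ U3, P (g * d * g⁻¹) = q (g * f * g⁻¹) * (q t * P d) := by
      intro d hd
      obtain ⟨c, hc, rfl⟩ := h.Ψ_surj hf hf1 hd
      rw [e4 c hc, P_f c hc]
    have e6 := h.nrm_n_Ψ htU ht1 hf hf1 e
    rw [← hgdef] at e6
    have e7 := e5 _ (h.Ψ_mem (U4.inv_mem htU) he)
    rw [e6, C2 _ (U4.inv_mem hf) e he, C2 _ (U4.inv_mem htU) e he, q_invY f hfY, q_invY t ht, q_f,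
      ι_e] at e7
    -- `1 = nu * q z'`, `-1 = q z' * (q t * (- q t))`
    have hz : q (g * f * g⁻¹) ≠ 0 := by
      intro h0; rw [h0, mul_zero] at e3; exact one_ne_zero e3
    have e8 : nu (g * e * g⁻¹) = q t ^ 2 := by
      apply mul_right_cancel₀ hz
      linear_combination -e3 - e7
    have e9 := nu_sg _ ha
    rw [hιa, e8] at e9
    apply mul_right_cancel₀ (q_ne t htU ht1)
    linear_combination -e9
  have nu_Y : ∀ a ∈ U1, st m e a f ∈ Y U4 U2 := fun a ha => st_Y a ha f hfY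
  have sg_nu : ∀ a ∈ U1, sg (nu a) = nu a := by
    intro a ha
    rw [hnua]
    exact C8 _ (nu_Y a ha)
  have sg_sg : ∀ k, sg (sg k) = k := by
    intro k
    by_cases hk : k = 0
    · rw [hk, sg_zero, sg_zero]
    have h1 := sg_nu _ (jot_mem k)
    rw [nu_sg _ (jot_mem k), jot_ι, sg_mul] at h1
    have h2 : sg k ≠ 0 := fun h0 => hk (sgh.injective (by rw [map_zero]; exact h0))
    apply mul_right_cancel₀ h2
    linear_combination h1
  -- the fixed field
  let F0 : AddSubgroup K :=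
    { carrier := {k | ∃ t ∈ Y U4 U2, q t = k}
      zero_mem' := ⟨1, (Y U4 U2).one_mem, q_one⟩
      add_mem' := by
        rintro _ _ ⟨s, hs, rfl⟩ ⟨t, ht, rfl⟩
        exact ⟨s * t, (Y U4 U2).mul_mem hs ht, q_add s (L.le4 hs) t ht⟩
      neg_mem' := by
        rintro _ ⟨s, hs, rfl⟩
        exact ⟨s⁻¹, (Y U4 U2).inv_mem hs, q_invY s hs⟩ }
  have F0_mem : ∀ k, k ∈ F0 ↔ ∃ t ∈ Y U4 U2, q t = k := fun k => Iff.rfl
  have F0_fix : ∀ k, sg k = k → k ∈ F0 := by
    refine fix_sub sgh F0 ?_ ((F0_mem 1).2 ⟨f, hfY, q_f⟩) ?_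
    · rintro _ ⟨t, ht, rfl⟩
      exact C8 t ht
    · intro k hk
      refine (F0_mem _).2 ⟨st m e (jot k) f, nu_Y _ (jot_mem k), ?_⟩
      rw [← hnua, nu_sg _ (jot_mem k), jot_ι, ← hsgh, hk, sq]
  obtain ⟨k0, hk0⟩ : ∃ k, sg k ≠ k := by
    by_contra hcon
    push Not at hcon
    obtain ⟨t, ht, ht'⟩ := (F0_mem _).1 (F0_fix (q x0) (hcon _))
    have h1 := q_add x0 hx0 t⁻¹ ((Y U4 U2).inv_mem ht)
    rw [q_invY t ht, ht', add_neg_cancel] at h1
    by_cases h2 : x0 * t⁻¹ = 1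
    · have h3 : x0 = t := mul_inv_eq_one.1 h2
      exact hx0Y (h3 ▸ ht)
    · exact q_ne _ (U4.mul_mem hx0 (U4.inv_mem (L.le4 ht))) h2 h1
  -- skew-hermitian
  have F0_diff : ∀ x ∈ U4, ∀ y ∈ U4, sg (gg y x - gg x y) = gg y x - gg x y := by
    intro x hx y hy
    obtain ⟨s, hs⟩ : ∃ s, s = x⁻¹ * y⁻¹ * x * y := ⟨_, rfl⟩
    have hsY : s⁻¹ ∈ Y U4 U2 := by
      rw [hs]; exact (Y U4 U2).inv_mem (L.c4 x hx y hy)
    have hsY' : s ∈ Y U4 U2 := by rw [hs]; exact L.c4 x hx y hy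
    have e1 : x * y = (y * x) * s := by rw [hs]; group
    have e2 := q_add (y * x) (U4.mul_mem hy hx) s hsY'
    rw [← e1, q_mul x hx y hy, q_mul y hy x hx] at e2
    have e3 : gg y x - gg x y = q s := by linear_combination e2
    rw [e3]; exact C8 s hsY'
  have skew : ∀ x ∈ U4, ∀ y ∈ U4, gg x y = -sg (gg y x) := by
    intro x hx y hy
    have key : ∀ k, k * (gg y x + sg (gg x y)) = sg k * (gg x y + sg (gg y x)) := by
      intro k
      have h1 := F0_diff x hx (st m e (jot k) y) (st_mem _ (jot_mem k) y hy)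
      rw [gg_st x hx y hy _ (jot_mem k), C5' _ (jot_mem k) x hx y hy, jot_ι, sg_sub, sg_mul,
        sg_mul, sg_sg] at h1
      linear_combination -h1
    have k1 := key 1
    rw [sg_one, one_mul, one_mul] at k1
    have k2 := key k0
    rw [k1] at k2
    have k3 : (k0 - sg k0) * (gg x y + sg (gg y x)) = 0 := by linear_combination k2
    rcases mul_eq_zero.1 k3 with h0 | h0
    · exact absurd (sub_eq_zero.1 h0).symm hk0
    · linear_combination h0
  -- `q x - σ (q x) = g x x`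
  have nu_add : ∀ a ∈ U1, ∀ b ∈ U1, nu (a * b) = (sg (ι a) + sg (ι b)) * (ι a + ι b) := by
    intro a ha b hb
    rw [nu_sg _ (U1.mul_mem ha hb), ι_mul a ha b hb, sg_add]
  have herm : ∀ x ∈ U4, q x - sg (q x) - gg x x = 0 := by
    obtain ⟨D, hD⟩ : ∃ D : G → K, D = fun x => q x - sg (q x) - gg x x := ⟨_, rfl⟩
    have hDx : ∀ x, D x = q x - sg (q x) - gg x x := fun x => by rw [hD]
    have D_mul : ∀ x ∈ U4, ∀ y ∈ U4, D (x * y) = D x + D y := by
      intro x hx y hy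
      have hxy := U4.mul_mem hx hy
      rw [hDx, hDx, hDx, q_mul x hx y hy, gg_mul _ hxy x hx y hy, gg_mul' x hx x hx y hy,
        gg_mul' y hy x hx y hy, sg_add, sg_add]
      have := skew x hx y hy
      linear_combination -this
    have D_st : ∀ a ∈ U1, ∀ x ∈ U4, D (st m e a x) = nu a * D x := by
      intro a ha x hx
      have hax := st_mem a ha x hx
      rw [hDx, hDx, q_st a ha x hx, sg_mul, sg_nu a ha, gg_st _ hax x hx a ha,
        C5' a ha x hx x hx]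
      have := nu_sg a ha
      linear_combination (gg x x) * this
    have D_Y : ∀ s ∈ Y U4 U2, D s = 0 := by
      intro s hs
      rw [hDx, C8 s hs, gg_Y s (L.le4 hs) s hs]; ring
    intro x hx
    rw [← hDx]
    by_contra hDne
    have hadd : ∀ a ∈ U1, ∀ b ∈ U1, nu (a * b) = nu a + nu b := by
      intro a ha b hb
      obtain ⟨z, hz, hz1, _⟩ := st_add a ha b hb x hx
      have e1 := D_st _ (U1.mul_mem ha hb) x hx
      have hax := st_mem a ha x hx
      rw [hz1, D_mul _ (U4.mul_mem hax (L.le4 hz)) _ (st_mem b hb x hx), D_mul _ hax _ (L.le4 hz),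
        D_Y z hz, D_st a ha x hx, D_st b hb x hx] at e1
      apply mul_right_cancel₀ hDne
      linear_combination -e1
    have hkl : ∀ k l, k * sg l + l * sg k = 0 := by
      intro k l
      have e1 := hadd _ (jot_mem k) _ (jot_mem l)
      rw [nu_add _ (jot_mem k) _ (jot_mem l), nu_sg _ (jot_mem k), nu_sg _ (jot_mem l), jot_ι,
        jot_ι] at e1
      linear_combination e1
    have h2 := hkl 1 1
    have h3 := hkl k0 1
    rw [sg_one] at h2 h3
    apply hk0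
    linear_combination h3 - k0 * h2
  -- `[U1, U3]`
  have Y_inj : ∀ s ∈ Y U4 U2, ∀ t ∈ Y U4 U2, q s = q t → s = t := by
    intro s hs t ht hst
    by_contra hne'
    have h1 := q_add s (L.le4 hs) t⁻¹ ((Y U4 U2).inv_mem ht)
    rw [q_invY t ht, hst, add_neg_cancel] at h1
    exact q_ne _ (U4.mul_mem (L.le4 hs) (U4.inv_mem (L.le4 ht)))
      (fun h2 => hne' (mul_inv_eq_one.1 h2)) h1
  have V2 : ∀ b ∈ U1, ∀ d ∈ U3, ∀ z ∈ U4, Φ m e z = κ b d →
      z ∈ Y U4 U2 ∧ q z = ι b * sg (P d) + sg (ι b) * P d := by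
    intro b hb d hd z hz hzd
    obtain ⟨a, ha, rfl⟩ := h.Ψ_surj hf hf1 hd
    obtain ⟨z', hz', hz1, hz2⟩ := st_add a ha b hb f hf
    have hzz : z = z' := Φ_inj m he1 (hzd.trans hz2.symm)
    subst hzz
    refine ⟨hz', ?_⟩
    have e1 : q (st m e (a * b) f) = nu a + q z + nu b := by
      rw [hz1, q_add _ (U4.mul_mem (st_mem a ha f hf) hz) _ (nu_Y b hb),
        q_add _ (st_mem a ha f hf) z hz', ← hnua, ← hnua]
    rw [← hnua, nu_add a ha b hb, nu_sg a ha, nu_sg b hb] at e1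
    rw [P_f a ha]
    linear_combination -e1
  -- the system
  have trm : ∀ k, ∃ t ∈ Y U4 U2, q t = k + sg k := fun k =>
    (F0_mem _).1 (F0_fix _ (by rw [sg_add, sg_sg, add_comm]))
  choose tr tr_Y q_tr using trm
  have bij : Function.Bijective sg :=
    ⟨fun a b hab => by rw [← sg_sg a, hab, sg_sg], fun a => ⟨sg a, sg_sg a⟩⟩
  let σ : K ≃+* K := RingEquiv.ofBijective sgh bij
  have hσ : ∀ k, σ k = sg k := fun _ => rfl
  let S : Sys K U4 :=
    { σ := σ
      σσ := fun k => sg_sg k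
      ε := -1
      ε_mul := by rw [map_neg, map_one]; ring
      c := fun p => sg (q p)
      h := fun p r => -sg (gg p r)
      smul := fun k p => ⟨st m e (jot (sg k)) p, st_mem _ (jot_mem _) _ p.2⟩
      tr := fun k => ⟨tr k, L.le4 (tr_Y k)⟩
      h_mul := by
        intro p r s
        rw [Subgroup.coe_mul, gg_mul s s.2 p p.2 r r.2, sg_add]; ring
      h_swap := by
        intro p r
        rw [map_neg, hσ, sg_sg, ← skew p p.2 r r.2]; ring
      c_mul := by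
        intro p r
        rw [Subgroup.coe_mul, q_mul p p.2 r r.2, sg_add, sg_add]; ring
      c_herm := by
        intro p
        rw [hσ, sg_sg]
        have h1 := herm p p.2
        have h2 := skew p p.2 p p.2
        linear_combination -h1 - h2
      h_smul := by
        intro a p r
        change -sg (gg (st m e (jot (sg a)) p) r) = a * (-sg (gg p r))
        rw [gg_st r r.2 p p.2 _ (jot_mem _), sg_mul, jot_ι, sg_sg]; ring
      c_smul := by
        intro a p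
        change sg (q (st m e (jot (sg a)) p)) = a * σ a * sg (q p)
        rw [q_st _ (jot_mem _) p p.2, sg_mul, sg_nu _ (jot_mem _), nu_sg _ (jot_mem _), jot_ι,
          sg_sg]
        rfl
      h_tr := by
        intro k p
        change -sg (gg (tr k) p) = 0
        rw [gg_Y' _ (tr_Y k) p p.2, sg_zero, neg_zero]
      c_tr := by
        intro k
        change sg (q (tr k)) = k - (-1) * σ k
        rw [q_tr, sg_add, sg_sg, hσ]; ring
      eq_one := by
        intro p hp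
        by_contra hp1
        have h1 : (p : G) ≠ 1 := fun h2 => hp1 (Subtype.ext h2)
        have h2 : sgh (q p) = 0 := hp
        exact q_ne p p.2 h1 ((map_eq_zero sgh).1 h2) }
  have y_ex : ∀ k : K, ∃ c ∈ U3, P c = k := fun k =>
    ⟨Φ n f (jot k), h.Ψ_mem hf (jot_mem k), by rw [P_f _ (jot_mem k), jot_ι]⟩
  choose yy yy_mem P_yy using y_ex
  have κ_x : ∀ a (v : G), ⁅(jot (-a) : G), v⁆ = κ (jot a) v := by
    intro a v
    have : jot (-a) = (jot a)⁻¹ := by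
      apply ι_inj _ (jot_mem _) _ (U1.inv_mem (jot_mem _))
      rw [jot_ι, ι_inv _ (jot_mem _), jot_ι]
    rw [this, brk_inv_eq]
  refine ⟨K, inferInstance, S, fun a => jot (-a), yy, fun p => Φ m e p, fun p => (p : G), hKf, ?_⟩
  exact
    { x_add := fun a b => by
        change jot (-(a + b)) = jot (-a) * jot (-b)
        rw [neg_add, jot_mul]
      y_add := fun a b => by
        apply P_inj _ (yy_mem _) _ (U3.mul_mem (yy_mem _) (yy_mem _))
        rw [P_mul _ (yy_mem _) _ (yy_mem _), P_yy, P_yy, P_yy]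
      z₁_mul := fun p r => by
        change Φ m e ((p * r : U4) : G) = _
        rw [Subgroup.coe_mul, Φ_mul]
      z₂_mul := fun p r => Subgroup.coe_mul U4 p r
      x_inj := fun a b hab => by
        have h1 : jot (-a) = jot (-b) := hab
        have h2 := congrArg ι h1
        rw [jot_ι, jot_ι] at h2
        exact neg_injective h2
      y_inj := fun a b hab => by rw [← P_yy a, hab, P_yy]
      z₁_inj := fun p r hpr => Subtype.ext (Φ_inj m he1 hpr)
      z₂_inj := Subtype.val_injective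
      x_mem := fun g => by
        constructor
        · intro hg
          refine ⟨-ι g, ?_⟩
          change jot (- -ι g) = g
          rw [neg_neg, ι_jot g hg]
        · rintro ⟨a, rfl⟩
          exact jot_mem _
      z₁_mem := fun g => by
        constructor
        · intro hg
          obtain ⟨x, hx, hx'⟩ := h.Φ_surj he he1 hg
          exact ⟨⟨x, hx⟩, hx'⟩
        · rintro ⟨p, rfl⟩
          exact h.Φ_mem he p.2
      y_mem := fun g => by
        constructor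
        · intro hg
          exact ⟨P g, P_inj _ (yy_mem _) _ hg (P_yy _)⟩
        · rintro ⟨a, rfl⟩
          exact yy_mem _
      z₂_mem := fun g => by
        constructor
        · intro hg
          exact ⟨⟨g, hg⟩, rfl⟩
        · rintro ⟨p, rfl⟩
          exact p.2
      x_z₂ := fun a p => by
        change ⁅jot (-a), (p : G)⁆ = Φ m e (st m e (jot (sg (sg a))) p) * yy (-(-1 * a * σ (sg (q p))))
        rw [κ_x, h.k (jot_mem a) p.2, sg_sg, Φ_st m he1]
        congr 1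
        apply P_inj _ (h.Ψ_mem p.2 (jot_mem a)) _ (yy_mem _)
        rw [P_yy, C2 p p.2 _ (jot_mem a), jot_ι, hσ, sg_sg]; ring
      z₁_z₂ := fun p r => by
        change ⁅Φ m e p, (r : G)⁆ = yy (- -sg (gg r p))
        have h1 : ⁅Φ m e p, (r : G)⁆ = κ (Φ m e (p : G)⁻¹) r := by rw [brk_eq, Φ_inv]
        rw [h1]
        have hpi := U4.inv_mem p.2
        apply P_inj _ (h.k24 _ (h.Φ_mem he hpi) r r.2) _ (yy_mem _)
        rw [P_yy, ← hgg', neg_neg]
        have h2 : gg (p : G)⁻¹ r = -gg p r := by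
          have := gg_mul r r.2 (p : G)⁻¹ hpi p p.2
          rw [inv_mul_cancel, gg_Y' 1 (Y U4 U2).one_mem r r.2] at this
          exact (neg_eq_of_add_eq_zero_left this.symm).symm
        rw [h2, skew p p.2 r r.2, neg_neg]
      x_y := fun a b => by
        change ⁅jot (-a), yy b⁆ = Φ m e (tr (σ a * b))
        rw [κ_x]
        obtain ⟨z, hz, hz'⟩ := h.Φ_surj he he1 (h.k13 _ (jot_mem a) _ (yy_mem b))
        obtain ⟨h1, h2⟩ := V2 _ (jot_mem a) _ (yy_mem b) z hz hz'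
        rw [← hz']
        congr 1
        apply Y_inj z h1 _ (tr_Y _)
        rw [h2, q_tr, jot_ι, P_yy, hσ, sg_mul, sg_sg]; ring
      x_z₁ := fun a p => h.c12 _ (jot_mem _) _ (h.Φ_mem he p.2)
      y_z₁ := fun b p => (h.c23 _ (h.Φ_mem he p.2) _ (yy_mem b)).symm
      y_z₂ := fun b p => h.c34 _ (yy_mem b) _ p.2 }

end Cfsg.Agent.SplitTwo.QuadNonred
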