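import Mathlib
import Cfsg.Agent.TitsThree.FieldSet
import Cfsg.Agent.TitsThree.OpField

/-!
# Root group systems of type `B₂` (abstract Moufang quadrangles): the two parity version

`QSys X`, `X : ZMod 8 → Subgroup G`: the root groups of a Moufang quadrangle.  `RQ X`: moreover `X i`, `X (i+2)` commute
for odd `i` (the reduced case).
-/

set_option autoImplicit false
set_option linter.style.haveILetI false

namespace Cfsg.Agent.SplitTwo.QuadRedSys

open scoped commutatorElement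

universe u

variable {G : Type u} [Group G]

/-- `n` reflects the family `X` -/
def Refl (X : ZMod 8 → Subgroup G) (c : ZMod 8) (n : G) : Prop := ∀ j x, n * x * n⁻¹ ∈ X (c - j) ↔ x ∈ X j

/-- Root groups of a Moufang quadrangle. -/
structure QSys (X : ZMod 8 → Subgroup G) : Prop where
  c1 : ∀ i, ∀ a ∈ X i, ∀ b ∈ X (i + 1), a * b = b * a
  c2 : ∀ i, ∀ a ∈ X i, ∀ b ∈ X (i + 2), ⁅a, b⁆ ∈ X (i + 1)
  c3 : ∀ i, ∀ a ∈ X i, ∀ b ∈ X (i + 3), ∃ c ∈ X (i + 1), ∃ d ∈ X (i + 2), ⁅a, b⁆ = c * d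
  uniq : ∀ i, ∀ a ∈ X i, ∀ b ∈ X (i + 1), ∀ c ∈ X (i + 2), ∀ d ∈ X (i + 3),
    ∀ a' ∈ X i, ∀ b' ∈ X (i + 1), ∀ c' ∈ X (i + 2), ∀ d' ∈ X (i + 3),
    a * b * c * d = a' * b' * c' * d' → a = a' ∧ b = b' ∧ c = c' ∧ d = d'
  refl : ∀ i, ∀ a ∈ X i, a ≠ 1 → ∃ v ∈ X (i + 4), ∃ v' ∈ X (i + 4), Refl X (2 * i + 4) (v * a * v')
  nt : ∀ i, ∃ a ∈ X i, a ≠ 1

/-- odd residues -/
def Odd8 (i : ZMod 8) : Prop := i = 1 ∨ i = 3 ∨ i = 5 ∨ i = 7

/-- even residues -/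
def Even8 (i : ZMod 8) : Prop := i = 0 ∨ i = 2 ∨ i = 4 ∨ i = 6

instance : DecidablePred Odd8 := fun i => by unfold Odd8; infer_instance
instance : DecidablePred Even8 := fun i => by unfold Even8; infer_instance

/-- The reduced case. -/
structure RQ (X : ZMod 8 → Subgroup G) : Prop extends QSys X where
  red : ∀ i, Odd8 i → ∀ a ∈ X i, ∀ b ∈ X (i + 2), a * b = b * a

theorem mem_of_eq {X : ZMod 8 → Subgroup G} {i j : ZMod 8} {x : G} (h : i = j) (hx : x ∈ X i) : x ∈ X j := h ▸ hx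

theorem Refl.rev {X : ZMod 8 → Subgroup G} {c n} (h : Refl X c n) (k : ZMod 8) :
    Refl (fun j => X (k - j)) (2 * k - c) n := by
  intro j x
  have := h (k - j) x
  have e : k - (2 * k - c - j) = c - (k - j) := by ring
  simp only [e]
  exact this

theorem Refl.mem {X : ZMod 8 → Subgroup G} {c n} (h : Refl X c n) {i j : ZMod 8} (hij : i + j = c) {x : G} (hx : x ∈ X i) :
    n * x * n⁻¹ ∈ X j := by
  have e : c - i = j := by rw [← hij]; ring
  have := (h i x).2 hx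
  rwa [e] at this

theorem Refl.inv {X : ZMod 8 → Subgroup G} {c n} (h : Refl X c n) : Refl X c n⁻¹ := by
  intro j x
  have := h (c - j) (n⁻¹ * x * n⁻¹⁻¹)
  have e : c - (c - j) = j := by ring
  rw [e] at this
  rw [← this]
  have e2 : n * (n⁻¹ * x * n⁻¹⁻¹) * n⁻¹ = x := by group
  rw [e2]

theorem Refl.mem' {X : ZMod 8 → Subgroup G} {c n} (h : Refl X c n) {i j : ZMod 8} (hij : i + j = c) {x : G} (hx : x ∈ X i) :
    n⁻¹ * x * n ∈ X j := by
  have := h.inv.mem hij hx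
  rwa [inv_inv] at this

theorem QSys.rev {X : ZMod 8 → Subgroup G} (h : QSys X) (k : ZMod 8) : QSys (fun j => X (k - j)) where
  c1 i a ha b hb := (h.c1 (k - (i + 1)) b hb a (mem_of_eq (by ring) ha)).symm
  c2 i a ha b hb := by
    have := h.c2 (k - (i + 2)) b hb a (mem_of_eq (by ring) ha)
    rw [← commutatorElement_inv, inv_mem_iff] at this
    exact mem_of_eq (by ring) this
  c3 i a ha b hb := by
    obtain ⟨c, hc, d, hd, hcd⟩ := h.c3 (k - (i + 3)) b hb a (mem_of_eq (by ring) ha)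
    refine ⟨d⁻¹, inv_mem (mem_of_eq (by ring) hd), c⁻¹, inv_mem (mem_of_eq (by ring) hc), ?_⟩
    rw [← commutatorElement_inv, hcd, mul_inv_rev]
  uniq i a ha b hb c hc d hd a' ha' b' hb' c' hc' d' hd' he := by
    have := h.uniq (k - (i + 3)) d⁻¹ (inv_mem hd) c⁻¹ (inv_mem (mem_of_eq (by ring) hc))
      b⁻¹ (inv_mem (mem_of_eq (by ring) hb)) a⁻¹ (inv_mem (mem_of_eq (by ring) ha))
      d'⁻¹ (inv_mem hd') c'⁻¹ (inv_mem (mem_of_eq (by ring) hc'))
      b'⁻¹ (inv_mem (mem_of_eq (by ring) hb')) a'⁻¹ (inv_mem (mem_of_eq (by ring) ha')) (by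
        have := congrArg (fun g => g⁻¹) he
        simpa [mul_assoc] using this)
    simp only [inv_inj] at this
    exact ⟨this.2.2.2, this.2.2.1, this.2.1, this.1⟩
  refl i a ha ha1 := by
    obtain ⟨v, hv, v', hv', hn⟩ := h.refl (k - i) a ha ha1
    have h8 : (4 : ZMod 8) = -4 := by decide
    have e : k - i + 4 = k - (i + 4) := by
      conv_lhs => rw [h8]
      ring
    rw [e] at hv hv'
    refine ⟨v, hv, v', hv', ?_⟩
    have := hn.rev k
    have e2 : 2 * k - (2 * (k - i) + 4) = 2 * i + 4 := by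
      have : 2 * k - (2 * (k - i) + 4) = 2 * i + (-4) := by ring
      rw [this, ← h8]
    rw [e2] at this
    exact this
  nt i := h.nt (k - i)

theorem odd_rev : ∀ k i : ZMod 8, Even8 k → Odd8 i → Odd8 (k - (i + 2)) := by decide

theorem RQ.rev {X : ZMod 8 → Subgroup G} (h : RQ X) {k : ZMod 8} (hk : Even8 k) : RQ (fun j => X (k - j)) where
  toQSys := h.toQSys.rev k
  red i hi a ha b hb :=
    (h.red (k - (i + 2)) (odd_rev k i hk hi) b hb a (mem_of_eq (by ring) ha)).symm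

section one

variable {X : ZMod 8 → Subgroup G}

/-- the components of `⁅a, x⁆` -/
noncomputable def pp (X : ZMod 8 → Subgroup G) (a x : G) : G × G :=
  open Classical in
  if h : ∃ p : G × G, p.1 ∈ X 2 ∧ p.2 ∈ X 3 ∧ ⁅a, x⁆ = p.1 * p.2 then h.choose else (1, 1)

/-- the `X 2` component of `⁅a, x⁆`, `a ∈ X 1`, `x ∈ X 4` -/
noncomputable def p2 (X : ZMod 8 → Subgroup G) (a x : G) : G := (pp X a x).1

/-- the `X 3` component of `⁅a, x⁆`, `a ∈ X 1`, `x ∈ X 4` -/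
noncomputable def p3 (X : ZMod 8 → Subgroup G) (a x : G) : G := (pp X a x).2

theorem QSys.pp_spec (h : QSys X) {a x : G} (ha : a ∈ X 1) (hx : x ∈ X 4) :
    p2 X a x ∈ X 2 ∧ p3 X a x ∈ X 3 ∧ ⁅a, x⁆ = p2 X a x * p3 X a x := by
  have hex : ∃ p : G × G, p.1 ∈ X 2 ∧ p.2 ∈ X 3 ∧ ⁅a, x⁆ = p.1 * p.2 := by
    obtain ⟨c, hc, d, hd, hcd⟩ := h.c3 1 a ha x (mem_of_eq (by decide) hx)
    exact ⟨(c, d), mem_of_eq (by decide) hc, mem_of_eq (by decide) hd, hcd⟩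
  have : pp X a x = hex.choose := by
    unfold pp
    rw [dif_pos hex]
  unfold p2 p3
  rw [this]
  exact hex.choose_spec

theorem QSys.p2_mem (h : QSys X) {a x : G} (ha : a ∈ X 1) (hx : x ∈ X 4) : p2 X a x ∈ X 2 := (h.pp_spec ha hx).1
theorem QSys.p3_mem (h : QSys X) {a x : G} (ha : a ∈ X 1) (hx : x ∈ X 4) : p3 X a x ∈ X 3 := (h.pp_spec ha hx).2.1
theorem QSys.pp_eq (h : QSys X) {a x : G} (ha : a ∈ X 1) (hx : x ∈ X 4) : ⁅a, x⁆ = p2 X a x * p3 X a x :=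
  (h.pp_spec ha hx).2.2

theorem QSys.uniq4 (h : QSys X) {i j k l : ZMod 8} (hj : i + 1 = j) (hk : i + 2 = k) (hl : i + 3 = l)
    {a b c d a' b' c' d' : G} (ha : a ∈ X i) (hb : b ∈ X j) (hc : c ∈ X k) (hd : d ∈ X l)
    (ha' : a' ∈ X i) (hb' : b' ∈ X j) (hc' : c' ∈ X k) (hd' : d' ∈ X l)
    (he : a * b * c * d = a' * b' * c' * d') : a = a' ∧ b = b' ∧ c = c' ∧ d = d' := by
  subst hj hk hl
  exact h.uniq i a ha b hb c hc d hd a' ha' b' hb' c' hc' d' hd' he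

theorem QSys.uniq2 (h : QSys X) {i j : ZMod 8} (hj : i + 1 = j) {c d c' d' : G} (hc : c ∈ X i) (hd : d ∈ X j)
    (hc' : c' ∈ X i) (hd' : d' ∈ X j) (he : c * d = c' * d') : c = c' ∧ d = d' := by
  obtain ⟨h1, h2, -, -⟩ := h.uniq4 hj rfl rfl hc hd (one_mem _) (one_mem _) hc' hd' (one_mem _) (one_mem _)
    (by simpa using he)
  exact ⟨h1, h2⟩

theorem QSys.disj (h : QSys X) {i j : ZMod 8} (hij : i + 1 = j ∨ i + 2 = j ∨ i + 3 = j) {c : G} (hc : c ∈ X i)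
    (hc' : c ∈ X j) : c = 1 := by
  rcases hij with hij | hij | hij
  · exact (h.uniq4 hij rfl rfl hc (one_mem _) (one_mem _) (one_mem _) (one_mem _) hc' (one_mem _) (one_mem _)
      (by simp)).1
  · exact (h.uniq4 rfl hij rfl hc (one_mem _) (one_mem _) (one_mem _) (one_mem _) (one_mem _) hc' (one_mem _)
      (by simp)).1
  · exact (h.uniq4 rfl rfl hij hc (one_mem _) (one_mem _) (one_mem _) (one_mem _) (one_mem _) (one_mem _) hc'
      (by simp)).1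

theorem QSys.pp_uniq (h : QSys X) {a x c d : G} (ha : a ∈ X 1) (hx : x ∈ X 4) (hc : c ∈ X 2) (hd : d ∈ X 3)
    (he : ⁅a, x⁆ = c * d) : p2 X a x = c ∧ p3 X a x = d := by
  apply h.uniq2 (by decide) (h.p2_mem ha hx) (h.p3_mem ha hx) hc hd
  rw [← h.pp_eq ha hx, he]

theorem QSys.c1' (h : QSys X) {i j : ZMod 8} (hij : i + 1 = j ∨ j + 1 = i) {a b : G} (ha : a ∈ X i) (hb : b ∈ X j) :
    a * b = b * a := by
  rcases hij with rfl | rfl
  · exact h.c1 i a ha b hb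
  · exact (h.c1 j b hb a ha).symm

theorem QSys.c2' (h : QSys X) {i j k : ZMod 8} (hij : (i + 2 = j ∧ i + 1 = k) ∨ (j + 2 = i ∧ j + 1 = k)) {a b : G}
    (ha : a ∈ X i) (hb : b ∈ X j) : ⁅a, b⁆ ∈ X k := by
  rcases hij with ⟨rfl, rfl⟩ | ⟨rfl, rfl⟩
  · exact h.c2 i a ha b hb
  · have := h.c2 j b hb a ha
    rwa [← commutatorElement_inv, inv_mem_iff] at this

theorem RQ.red' (h : RQ X) {i j : ZMod 8} (hij : (i + 2 = j ∧ Odd8 i) ∨ (j + 2 = i ∧ Odd8 j)) {a b : G} (ha : a ∈ X i)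
    (hb : b ∈ X j) : a * b = b * a := by
  rcases hij with ⟨rfl, hi⟩ | ⟨rfl, hj⟩
  · exact h.red i hi a ha b hb
  · exact (h.red j hj b hb a ha).symm

end one

end Cfsg.Agent.SplitTwo.QuadRedSys
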