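import Mathlib
import Cfsg.Agent.SplitTwo.QuadRedSys

/-!
# Actions of the root groups in the reduced case
-/

set_option autoImplicit false
set_option linter.style.haveILetI false

namespace Cfsg.Agent.SplitTwo.QuadRedSys

open scoped commutatorElement

universe u

variable {G : Type u} [Group G] {X : ZMod 8 → Subgroup G}

theorem RQ.p_mul_left (h : RQ X) {a a' x : G} (ha : a ∈ X 1) (ha' : a' ∈ X 1) (hx : x ∈ X 4) :
    p2 X (a * a') x = p2 X a' x * p2 X a x ∧ p3 X (a * a') x = p3 X a' x * p3 X a x := by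
  have m1 := h.p2_mem ha hx
  have m2 := h.p3_mem ha hx
  have m1' := h.p2_mem ha' hx
  have m2' := h.p3_mem ha' hx
  apply h.pp_uniq (mul_mem ha ha') hx (mul_mem m1' m1) (mul_mem m2' m2)
  have e : ⁅a * a', x⁆ = a * ⁅a', x⁆ * a⁻¹ * ⁅a, x⁆ := by
    simp only [commutatorElement_def]; group
  have k1 : a * p2 X a' x = p2 X a' x * a := h.c1' (by decide) ha m1'
  have k2 : a * p3 X a' x = p3 X a' x * a := h.red' (by decide) ha m2'
  have k3 : p3 X a' x * p2 X a x = p2 X a x * p3 X a' x := h.c1' (by decide) m2' m1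
  rw [e, h.pp_eq ha' hx, h.pp_eq ha hx]
  have e1 : a * (p2 X a' x * p3 X a' x) * a⁻¹ = p2 X a' x * p3 X a' x := by
    rw [← mul_assoc, k1, mul_assoc (p2 X a' x), k2, ← mul_assoc, mul_inv_cancel_right]
  rw [e1, mul_assoc, ← mul_assoc (p3 X a' x), k3]
  simp only [mul_assoc]

theorem RQ.p_mul_right (h : RQ X) {a x x' : G} (ha : a ∈ X 1) (hx : x ∈ X 4) (hx' : x' ∈ X 4) :
    p2 X a (x * x') = p2 X a x * p2 X a x' ∧
      p3 X a (x * x') = p3 X a x * ⁅x, p2 X a x'⁆ * p3 X a x' := by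
  have m1 := h.p2_mem ha hx
  have m2 := h.p3_mem ha hx
  have m1' := h.p2_mem ha hx'
  have m2' := h.p3_mem ha hx'
  have m3 : ⁅x, p2 X a x'⁆ ∈ X 3 := h.c2' (by decide) hx m1'
  apply h.pp_uniq ha (mul_mem hx hx') (mul_mem m1 m1') (mul_mem (mul_mem m2 m3) m2')
  have e : ⁅a, x * x'⁆ = ⁅a, x⁆ * (x * ⁅a, x'⁆ * x⁻¹) := by
    simp only [commutatorElement_def]; group
  have k2 : x * p3 X a x' = p3 X a x' * x := h.c1' (by decide) hx m2'
  have k3 : p3 X a x * p2 X a x' = p2 X a x' * p3 X a x := h.c1' (by decide) m2 m1'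
  have k4 : ⁅x, p2 X a x'⁆ * p2 X a x' = p2 X a x' * ⁅x, p2 X a x'⁆ := h.c1' (by decide) m3 m1'
  rw [e, h.pp_eq ha hx, h.pp_eq ha hx']
  have e1 : x * (p2 X a x' * p3 X a x') * x⁻¹ = ⁅x, p2 X a x'⁆ * p2 X a x' * p3 X a x' := by
    calc x * (p2 X a x' * p3 X a x') * x⁻¹ = x * p2 X a x' * x⁻¹ * (x * p3 X a x' * x⁻¹) := by group
      _ = x * p2 X a x' * x⁻¹ * p3 X a x' := by rw [k2, mul_inv_cancel_right]
      _ = _ := by rw [commutatorElement_def]; group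
  rw [e1, k4]
  calc p2 X a x * p3 X a x * (p2 X a x' * ⁅x, p2 X a x'⁆ * p3 X a x')
      = p2 X a x * (p3 X a x * p2 X a x') * (⁅x, p2 X a x'⁆ * p3 X a x') := by simp only [mul_assoc]
    _ = _ := by rw [k3]; simp only [mul_assoc]

theorem RQ.p_one_left (h : RQ X) {x : G} (hx : x ∈ X 4) : p2 X 1 x = 1 ∧ p3 X 1 x = 1 :=
  h.pp_uniq (one_mem _) hx (one_mem _) (one_mem _) (by simp)

theorem RQ.p_one_right (h : RQ X) {a : G} (ha : a ∈ X 1) : p2 X a 1 = 1 ∧ p3 X a 1 = 1 :=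
  h.pp_uniq ha (one_mem _) (one_mem _) (one_mem _) (by simp)

theorem RQ.p2_inv_left (h : RQ X) {a x : G} (ha : a ∈ X 1) (hx : x ∈ X 4) : p2 X a⁻¹ x = (p2 X a x)⁻¹ := by
  have := (h.p_mul_left ha (inv_mem ha) hx).1
  rw [mul_inv_cancel, (h.p_one_left hx).1] at this
  exact eq_inv_of_mul_eq_one_left this.symm

theorem RQ.p2_inv_right (h : RQ X) {a x : G} (ha : a ∈ X 1) (hx : x ∈ X 4) : p2 X a x⁻¹ = (p2 X a x)⁻¹ := by
  have := (h.p_mul_right ha (inv_mem hx) hx).1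
  rw [inv_mul_cancel, (h.p_one_right ha).1] at this
  exact eq_inv_of_mul_eq_one_left this.symm

/-- conjugation by `v a v'` on `X 4` -/
theorem RQ.conj4 (h : RQ X) {a v v' x : G} (ha : a ∈ X 1) (hv : v ∈ X 5) (hv' : v' ∈ X 5)
    (hn : Refl X 6 (v * a * v')) (hx : x ∈ X 4) : (v * a * v') * x * (v * a * v')⁻¹ = p2 X a x := by
  have m1 := h.p2_mem ha hx
  have m2 := h.p3_mem ha hx
  have m := hn.mem (i := 4) (j := 2) (by decide) hx
  obtain ⟨c, hc, d, hd, hcd⟩ := h.c3 2 (p2 X a x)⁻¹ (inv_mem m1) v (mem_of_eq (by decide) hv)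
  have hc : c ∈ X 3 := mem_of_eq (by decide) hc
  have hd : d ∈ X 4 := mem_of_eq (by decide) hd
  have k0 : v' * x = x * v' := h.c1' (by decide) hv' hx
  have k1 : v * p3 X a x = p3 X a x * v := h.red' (by decide) hv m2
  have k2 : v * x = x * v := h.c1' (by decide) hv hx
  have k3 : d * p3 X a x = p3 X a x * d := h.c1' (by decide) hd m2
  have k4 : v * p2 X a x * v⁻¹ = p2 X a x * c * d := by
    rw [mul_assoc (p2 X a x), ← hcd, commutatorElement_def]; group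
  have e : (v * a * v') * x * (v * a * v')⁻¹ = p2 X a x * (c * p3 X a x) * (d * x) * 1 := by
    calc (v * a * v') * x * (v * a * v')⁻¹ = v * a * (v' * x * v'⁻¹) * a⁻¹ * v⁻¹ := by group
      _ = v * a * x * a⁻¹ * v⁻¹ := by rw [k0, mul_inv_cancel_right]
      _ = v * (⁅a, x⁆ * x) * v⁻¹ := by rw [commutatorElement_def]; group
      _ = v * (p2 X a x * p3 X a x * x) * v⁻¹ := by rw [h.pp_eq ha hx]
      _ = v * p2 X a x * v⁻¹ * (v * p3 X a x * v⁻¹) * (v * x * v⁻¹) := by group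
      _ = p2 X a x * c * d * p3 X a x * x := by rw [k4, k1, k2, mul_inv_cancel_right, mul_inv_cancel_right]
      _ = p2 X a x * c * (d * p3 X a x) * x := by simp only [mul_assoc]
      _ = _ := by rw [k3]; simp only [mul_assoc, mul_one]
  exact (h.uniq4 (i := 2) (j := 3) (k := 4) (l := 5) (by decide) (by decide) (by decide) m (one_mem _) (one_mem _)
    (one_mem _) m1 (mul_mem hc m2) (mul_mem hd hx) (one_mem _) (by rw [mul_one, mul_one, mul_one, e])).1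

/-- a reflection through `a ∈ X 1` -/
theorem QSys.refl1 (h : QSys X) {a : G} (ha : a ∈ X 1) (ha1 : a ≠ 1) :
    ∃ v ∈ X 5, ∃ v' ∈ X 5, Refl X 6 (v * a * v') := by
  obtain ⟨v, hv, v', hv', hn⟩ := h.refl 1 a ha ha1
  have e : (2 * 1 + 4 : ZMod 8) = 6 := by decide
  rw [e] at hn
  exact ⟨v, mem_of_eq (by decide) hv, v', mem_of_eq (by decide) hv', hn⟩

theorem RQ.p2_surj (h : RQ X) {a : G} (ha : a ∈ X 1) (ha1 : a ≠ 1) {s : G} (hs : s ∈ X 2) :
    ∃ x ∈ X 4, p2 X a x = s := by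
  obtain ⟨v, hv, v', hv', hn⟩ := h.refl1 ha ha1
  refine ⟨(v * a * v')⁻¹ * s * (v * a * v'), hn.mem' (i := 2) (by decide) hs, ?_⟩
  rw [← h.conj4 ha hv hv' hn (hn.mem' (i := 2) (by decide) hs)]
  group

theorem RQ.p2_inj (h : RQ X) {a : G} (ha : a ∈ X 1) (ha1 : a ≠ 1) {x x' : G} (hx : x ∈ X 4) (hx' : x' ∈ X 4)
    (he : p2 X a x = p2 X a x') : x = x' := by
  obtain ⟨v, hv, v', hv', hn⟩ := h.refl1 ha ha1
  rw [← h.conj4 ha hv hv' hn hx, ← h.conj4 ha hv hv' hn hx'] at he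
  simpa using he

theorem RQ.p2_eq_one (h : RQ X) {a x : G} (ha : a ∈ X 1) (hx : x ∈ X 4) (he : p2 X a x = 1) : a = 1 ∨ x = 1 := by
  by_contra hcon
  push Not at hcon
  exact hcon.2 (h.p2_inj ha hcon.1 hx (one_mem _) (by rw [he, (h.p_one_right ha).1]))

theorem RQ.comm2 (h : RQ X) {s t : G} (hs : s ∈ X 2) (ht : t ∈ X 2) : s * t = t * s := by
  obtain ⟨a, ha, ha1⟩ := h.nt 1
  obtain ⟨x, hx, rfl⟩ := h.p2_surj ha ha1 hs
  obtain ⟨y, hy, rfl⟩ := h.p2_surj ha ha1 ht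
  have e1 := (h.p_mul_left ha ha (mul_mem hx hy)).1
  have e2 := (h.p_mul_right (mul_mem ha ha) hx hy).1
  rw [e1, (h.p_mul_right ha hx hy).1, (h.p_mul_left ha ha hx).1, (h.p_mul_left ha ha hy).1] at e2
  -- (s t)(s t) = s s t t
  have e3 : p2 X a x * (p2 X a y * p2 X a x) * p2 X a y = p2 X a x * (p2 X a x * p2 X a y) * p2 X a y := by
    simpa only [mul_assoc] using e2
  exact (mul_left_cancel (mul_right_cancel e3)).symm

theorem RQ.p2_left_inj (h : RQ X) {a b x : G} (ha : a ∈ X 1) (hb : b ∈ X 1) (hx : x ∈ X 4) (hx1 : x ≠ 1)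
    (he : p2 X a x = p2 X b x) : a = b := by
  have e := (h.p_mul_left (inv_mem hb) ha hx).1
  rw [h.p2_inv_left hb hx, he, mul_inv_cancel] at e
  rcases h.p2_eq_one (mul_mem (inv_mem hb) ha) hx e with h1 | h1
  · exact (inv_mul_eq_one.1 h1).symm
  · exact absurd h1 hx1

theorem RQ.comm1 (h : RQ X) {a b : G} (ha : a ∈ X 1) (hb : b ∈ X 1) : a * b = b * a := by
  obtain ⟨x, hx, hx1⟩ := h.nt 4
  apply h.p2_left_inj (mul_mem ha hb) (mul_mem hb ha) hx hx1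
  rw [(h.p_mul_left ha hb hx).1, (h.p_mul_left hb ha hx).1]
  exact h.comm2 (h.p2_mem hb hx) (h.p2_mem ha hx)

theorem idx_all : ∀ i : ZMod 8, (∃ k : ZMod 8, Even8 k ∧ i = k - 2) ∨ (∃ k : ZMod 8, Even8 k ∧ i = k - 1) := by decide

theorem RQ.comm_all (h : RQ X) (i : ZMod 8) {a b : G} (ha : a ∈ X i) (hb : b ∈ X i) : a * b = b * a := by
  rcases idx_all i with ⟨k, hk, rfl⟩ | ⟨k, hk, rfl⟩
  · exact (h.rev hk).comm2 ha hb
  · exact (h.rev hk).comm1 ha hb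

/-- the reflections through `X 1` centralise `X 3` and `X 7` -/
theorem RQ.conj_odd (h : RQ X) {a v v' u : G} {i : ZMod 8} (hi : i = 3 ∨ i = 7) (ha : a ∈ X 1) (hv : v ∈ X 5)
    (hv' : v' ∈ X 5) (hu : u ∈ X i) : (v * a * v') * u * (v * a * v')⁻¹ = u := by
  have k1 : v' * u = u * v' := by
    rcases hi with rfl | rfl
    · exact h.red' (by decide) hv' hu
    · exact h.red' (by decide) hv' hu
  have k2 : a * u = u * a := by
    rcases hi with rfl | rfl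
    · exact h.red' (by decide) ha hu
    · exact h.red' (by decide) ha hu
  have k3 : v * u = u * v := by
    rcases hi with rfl | rfl
    · exact h.red' (by decide) hv hu
    · exact h.red' (by decide) hv hu
  rw [mul_inv_eq_iff_eq_mul]
  calc v * a * v' * u = v * a * (v' * u) := by simp only [mul_assoc]
    _ = v * (a * u) * v' := by rw [k1]; simp only [mul_assoc]
    _ = (v * u) * a * v' := by rw [k2]; simp only [mul_assoc]
    _ = _ := by rw [k3]; simp only [mul_assoc]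

/-- a reflection through `x ∈ X 4` -/
theorem QSys.refl4 (h : QSys X) {x : G} (hx : x ∈ X 4) (hx1 : x ≠ 1) :
    ∃ w ∈ X 0, ∃ w' ∈ X 0, Refl X 4 (w * x * w') := by
  obtain ⟨v, hv, v', hv', hn⟩ := h.refl 4 x hx hx1
  have e : (2 * 4 + 4 : ZMod 8) = 4 := by decide
  rw [e] at hn
  exact ⟨v, mem_of_eq (by decide) hv, v', mem_of_eq (by decide) hv', hn⟩

/-- **conjugation by `w x w'` on `X 1`**, and the key relation. -/
theorem RQ.conj1 (h : RQ X) {a w w' x : G} (ha : a ∈ X 1) (hw : w ∈ X 0) (hw' : w' ∈ X 0)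
    (hn : Refl X 4 (w * x * w')) (hx : x ∈ X 4) :
    (w * x * w') * a * (w * x * w')⁻¹ = (p3 X a x)⁻¹ ∧ p2 X a x = p2 (fun j => X (4 - j)) (p3 X a x) w := by
  have m2 := h.p2_mem ha hx
  have m3 := h.p3_mem ha hx
  have h' := h.rev (k := 4) (by decide)
  have m3' : p3 X a x ∈ (fun j => X (4 - j)) 1 := mem_of_eq (X := X) (by decide) m3
  have hw0 : w ∈ (fun j => X (4 - j)) 4 := mem_of_eq (X := X) (by decide) hw
  have m4 : p2 (fun j => X (4 - j)) (p3 X a x) w ∈ X 2 := mem_of_eq (X := X) (by decide) (h'.p2_mem m3' hw0)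
  have m5 : p3 (fun j => X (4 - j)) (p3 X a x) w ∈ X 1 := mem_of_eq (X := X) (by decide) (h'.p3_mem m3' hw0)
  have e5 := h'.pp_eq m3' hw0
  have m := hn.mem (i := 1) (j := 3) (by decide) ha
  have md : ⁅w, (p2 X a x)⁻¹⁆ ∈ X 1 := h.c2' (by decide) hw (inv_mem m2)
  set P2 := p2 (fun j => X (4 - j)) (p3 X a x) w with hP2
  set P3 := p3 (fun j => X (4 - j)) (p3 X a x) w with hP3
  set d := ⁅w, (p2 X a x)⁻¹⁆ with hd
  have k0 : w' * a = a * w' := h.c1' (by decide) hw' ha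
  have k1 : w * a = a * w := h.c1' (by decide) hw ha
  have e1 : x * a * x⁻¹ = (p3 X a x)⁻¹ * (p2 X a x)⁻¹ * a := by
    rw [← mul_inv_rev, ← h.pp_eq ha hx, commutatorElement_def]; group
  have e2 : w * (p3 X a x)⁻¹ * w⁻¹ = (p3 X a x)⁻¹ * (P2 * P3) := by
    rw [← e5, commutatorElement_def]; group
  have e3 : w * (p2 X a x)⁻¹ * w⁻¹ = d * (p2 X a x)⁻¹ := by
    rw [hd, commutatorElement_def]; group
  have e4 : (w * x * w') * a * (w * x * w')⁻¹ = (P3 * d * a) * (P2 * (p2 X a x)⁻¹) * (p3 X a x)⁻¹ * 1 := by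
    have k2 : (p3 X a x)⁻¹ * (P2 * P3) = P3 * P2 * (p3 X a x)⁻¹ := by
      have t1 : (p3 X a x)⁻¹ * P2 = P2 * (p3 X a x)⁻¹ := h.c1' (by decide) (inv_mem m3) m4
      have t2 : (p3 X a x)⁻¹ * P3 = P3 * (p3 X a x)⁻¹ := h.red' (by decide) (inv_mem m3) m5
      have t3 : P2 * P3 = P3 * P2 := h.c1' (by decide) m4 m5
      rw [t3, ← mul_assoc, t2, mul_assoc, t1, ← mul_assoc]
    have k3 : (p3 X a x)⁻¹ * (d * (p2 X a x)⁻¹ * a) = d * (p2 X a x)⁻¹ * a * (p3 X a x)⁻¹ := by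
      have t1 : (p3 X a x)⁻¹ * d = d * (p3 X a x)⁻¹ := h.red' (by decide) (inv_mem m3) md
      have t2 : (p3 X a x)⁻¹ * (p2 X a x)⁻¹ = (p2 X a x)⁻¹ * (p3 X a x)⁻¹ :=
        h.c1' (by decide) (inv_mem m3) (inv_mem m2)
      have t3 : (p3 X a x)⁻¹ * a = a * (p3 X a x)⁻¹ := h.red' (by decide) (inv_mem m3) ha
      calc (p3 X a x)⁻¹ * (d * (p2 X a x)⁻¹ * a) = (p3 X a x)⁻¹ * d * (p2 X a x)⁻¹ * a := by
            simp only [mul_assoc]
        _ = d * ((p3 X a x)⁻¹ * (p2 X a x)⁻¹) * a := by rw [t1]; simp only [mul_assoc]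
        _ = d * (p2 X a x)⁻¹ * ((p3 X a x)⁻¹ * a) := by rw [t2]; simp only [mul_assoc]
        _ = _ := by rw [t3]; simp only [mul_assoc]
    have k4 : P2 * d = d * P2 := h.c1' (by decide) m4 md
    have k5 : P2 * (p2 X a x)⁻¹ * a = a * (P2 * (p2 X a x)⁻¹) :=
      h.c1' (by decide) (mul_mem m4 (inv_mem m2)) ha
    calc (w * x * w') * a * (w * x * w')⁻¹ = w * x * (w' * a * w'⁻¹) * x⁻¹ * w⁻¹ := by group
      _ = w * (x * a * x⁻¹) * w⁻¹ := by rw [k0, mul_inv_cancel_right]; simp only [mul_assoc]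
      _ = (w * (p3 X a x)⁻¹ * w⁻¹) * (w * (p2 X a x)⁻¹ * w⁻¹) * (w * a * w⁻¹) := by rw [e1]; group
      _ = (p3 X a x)⁻¹ * (P2 * P3) * (d * (p2 X a x)⁻¹) * a := by rw [e2, e3, k1, mul_inv_cancel_right]
      _ = P3 * P2 * ((p3 X a x)⁻¹ * (d * (p2 X a x)⁻¹ * a)) := by rw [k2]; simp only [mul_assoc]
      _ = P3 * (P2 * d) * (p2 X a x)⁻¹ * a * (p3 X a x)⁻¹ := by rw [k3]; simp only [mul_assoc]
      _ = P3 * d * (P2 * (p2 X a x)⁻¹ * a) * (p3 X a x)⁻¹ := by rw [k4]; simp only [mul_assoc]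
      _ = _ := by rw [k5]; simp only [mul_assoc, mul_one]
  obtain ⟨-, q2, q3, -⟩ := h.uniq4 (i := 1) (j := 2) (k := 3) (l := 4) (by decide) (by decide) (by decide) (one_mem _)
    (one_mem _) m (one_mem _) (mul_mem (mul_mem m5 md) ha) (mul_mem m4 (inv_mem m2)) (inv_mem m3) (one_mem _)
    (by rw [mul_one, one_mul, one_mul, e4])
  exact ⟨q3, (mul_inv_eq_one.1 q2.symm).symm⟩

theorem RQ.p3_eq_one (h : RQ X) {a x : G} (ha : a ∈ X 1) (hx : x ∈ X 4) (hx1 : x ≠ 1) (he : p3 X a x = 1) : a = 1 := by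
  obtain ⟨w, hw, w', hw', hn⟩ := h.refl4 hx hx1
  have := (h.conj1 ha hw hw' hn hx).1
  rw [he, inv_one, mul_inv_eq_one] at this
  simpa using this

theorem RQ.p3_surj (h : RQ X) {u x : G} (hx : x ∈ X 4) (hx1 : x ≠ 1) (hu : u ∈ X 3) : ∃ a ∈ X 1, p3 X a x = u := by
  obtain ⟨w, hw, w', hw', hn⟩ := h.refl4 hx hx1
  have m : (w * x * w')⁻¹ * u⁻¹ * (w * x * w') ∈ X 1 := hn.mem' (i := 3) (by decide) (inv_mem hu)
  refine ⟨_, m, ?_⟩
  have := (h.conj1 m hw hw' hn hx).1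
  rw [← inv_inj, ← this]
  group

/-- **the inverse relation** -/
theorem RQ.inv_rel (h : RQ X) {n a v v1 v2 a1 a2 x : G} (ha : a ∈ X 1) (hv : v ∈ X 5) (hv1 : v1 ∈ X 5) (hv2 : v2 ∈ X 5)
    (ha1 : a1 ∈ X 1) (ha2 : a2 ∈ X 1) (hn : Refl X 6 n) (h1 : n = v1 * a * v2) (h2 : n = a1 * v * a2) (hx : x ∈ X 4) :
    p2 (fun j => X (6 - j)) v (p2 X a x) = x⁻¹ := by
  have h' := h.rev (k := 6) (by decide)
  have hv' : v ∈ (fun j => X (6 - j)) 1 := mem_of_eq (X := X) (by decide) hv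
  have ha1' : a1 ∈ (fun j => X (6 - j)) 5 := mem_of_eq (X := X) (by decide) ha1
  have ha2' : a2 ∈ (fun j => X (6 - j)) 5 := mem_of_eq (X := X) (by decide) ha2
  have hn' : Refl (fun j => X (6 - j)) 6 (a1 * v * a2) := by
    have := hn.rev 6
    rw [h2] at this
    exact this
  have ms : (p2 X a x)⁻¹ ∈ (fun j => X (6 - j)) 4 := mem_of_eq (X := X) (by decide) (inv_mem (h.p2_mem ha hx))
  have e1 : n⁻¹ * x * n = (p2 X a x)⁻¹ := by
    have hni : Refl X 6 (v2⁻¹ * a⁻¹ * v1⁻¹) := by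
      have := hn.inv
      rw [h1] at this
      have e : (v1 * a * v2)⁻¹ = v2⁻¹ * a⁻¹ * v1⁻¹ := by group
      rwa [e] at this
    have := h.conj4 (inv_mem ha) (inv_mem hv2) (inv_mem hv1) hni hx
    rw [h.p2_inv_left ha hx] at this
    rw [← this, h1]
    group
  have e2 := h'.conj4 hv' ha1' ha2' hn' ms
  rw [← h2, h'.p2_inv_right hv' (by rw [← inv_mem_iff]; exact ms), ← e1] at e2
  rw [← inv_inj, inv_inv, ← e2]
  group

theorem RQ.exists_inv1 (h : RQ X) {a : G} (ha : a ∈ X 1) (ha1 : a ≠ 1) :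
    ∃ v ∈ X 5, ∀ x ∈ X 4, p2 (fun j => X (6 - j)) v (p2 X a x) = x⁻¹ := by
  obtain ⟨v, hv, v', hv', hn⟩ := h.refl1 ha ha1
  refine ⟨v, hv, fun x hx => ?_⟩
  exact h.inv_rel ha hv hv hv' (hn.mem (i := 5) (j := 1) (by decide) hv') ha hn rfl (by group) hx

theorem RQ.exists_inv5 (h : RQ X) {v : G} (hv : v ∈ X 5) (hv1 : v ≠ 1) :
    ∃ a ∈ X 1, ∀ x ∈ X 4, p2 (fun j => X (6 - j)) v (p2 X a x) = x⁻¹ := by
  obtain ⟨a, ha, a', ha', hn⟩ := h.refl 5 v hv hv1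
  have e : (2 * 5 + 4 : ZMod 8) = 6 := by decide
  rw [e] at hn
  have ha : a ∈ X 1 := mem_of_eq (by decide) ha
  have ha' : a' ∈ X 1 := mem_of_eq (by decide) ha'
  refine ⟨a, ha, fun x hx => ?_⟩
  exact h.inv_rel ha hv (hn.mem (i := 1) (j := 5) (by decide) ha') hv ha ha' hn (by group) rfl hx

end Cfsg.Agent.SplitTwo.QuadRedSys
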