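import Mathlib
import Cfsg.Agent.SplitTwo.QuadRedAct

/-!
# The field of a reduced quadrangle
-/

set_option autoImplicit false
set_option linter.style.haveILetI false

namespace Cfsg.Agent.SplitTwo.QuadRedSys

open scoped commutatorElement
open Cfsg.Agent Cfsg.Agent.TitsThree

universe u v

/-- Lemma Z: an additive set of operators closed under inverses is a field. -/
theorem exists_field_of {W : Type v} [AddCommGroup W] [Finite W] (A A' : AddSubgroup (AddMonoid.End W))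
    (h1 : (1 : AddMonoid.End W) ∈ A) (hW : ∃ w : W, w ≠ 0)
    (hinv : ∀ a ∈ A, a ≠ 0 → ∃ b ∈ A', a * b = 1 ∧ b * a = 1)
    (hinv' : ∀ b ∈ A', b ≠ 0 → ∃ a ∈ A, a * b = 1 ∧ b * a = 1) :
    ∃ (F : Type) (_ : Field F) (_ : Fintype F) (ρ : F →+* AddMonoid.End W), ∀ a, a ∈ A ↔ ∃ s, ρ s = a := by
  classical
  have hfin : Finite (AddMonoid.End W) := DFunLike.finite (W →+ W)
  have hA := OpField.exists_inv A A' h1 hinv hinv'
  have hD : FieldSet.DivSet A := ⟨h1, hA⟩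
  have hmul : ∀ a ∈ A, ∀ b ∈ A, a * b ∈ A := fun a ha b hb => hD.mul_mem ha hb
  have hcomm : ∀ a ∈ A, ∀ b ∈ A, a * b = b * a := fun a ha b hb => hD.comm ha hb
  obtain ⟨w0, hw0⟩ := hW
  have h10 : (1 : AddMonoid.End W) ≠ 0 := by
    intro h
    apply hw0
    have : (1 : AddMonoid.End W) w0 = (0 : AddMonoid.End W) w0 := by rw [h]
    exact this
  haveI : Nontrivial (AddMonoid.End W) := ⟨⟨1, 0, h10⟩⟩
  let S : Subring (AddMonoid.End W) :=
    { A with
      mul_mem' := fun {a b} ha hb => hmul a ha b hb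
      one_mem' := h1 }
  letI : CommRing S := { (inferInstance : Ring S) with
    mul_comm := fun a b => Subtype.ext (hcomm a.1 a.2 b.1 b.2) }
  have hfield : IsField S :=
    { exists_pair_ne := ⟨0, 1, fun h => h10 (congrArg Subtype.val h).symm⟩
      mul_comm := mul_comm
      mul_inv_cancel := fun {a} ha => by
        obtain ⟨b, hb, hb1, -⟩ := hA a.1 a.2 (fun h => ha (Subtype.ext h))
        exact ⟨⟨b, hb⟩, Subtype.ext hb1⟩ }
  letI : Field S := hfield.toField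
  have hfS : Finite S := Subtype.finite
  obtain ⟨F, _, _, ⟨E⟩⟩ := AGraded.exists_type_field S
  let ρ : F →+* AddMonoid.End W := S.subtype.comp E.toRingHom
  refine ⟨F, inferInstance, inferInstance, ρ, fun a => ⟨fun ha => ⟨E.symm ⟨a, ha⟩, by simp [ρ]⟩, ?_⟩⟩
  rintro ⟨s, rfl⟩
  exact (E s).2

variable {G : Type u} [Group G] {X : ZMod 8 → Subgroup G}

/-- `j` is an isomorphism of the additive group `V` onto the subgroup `H`. -/
structure Coord {V : Type v} [AddCommGroup V] (j : V → G) (H : Subgroup G) : Prop where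
  add : ∀ v w, j (v + w) = j v * j w
  mem : ∀ v, j v ∈ H
  surj : ∀ g ∈ H, ∃ v, j v = g
  ker : ∀ v, j v = 1 → v = 0

namespace Coord

variable {V : Type v} [AddCommGroup V] {j : V → G} {H : Subgroup G}

theorem zero (h : Coord j H) : j 0 = 1 := by
  have := h.add 0 0
  rw [add_zero] at this
  exact left_eq_mul.1 this

theorem neg (h : Coord j H) (v : V) : j (-v) = (j v)⁻¹ := by
  have := h.add (-v) v
  rw [neg_add_cancel, h.zero] at this
  exact eq_inv_of_mul_eq_one_left this.symm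

theorem inj (h : Coord j H) {v w : V} (hvw : j v = j w) : v = w := by
  have := h.add v (-w)
  rw [h.neg, hvw, mul_inv_cancel] at this
  have h2 := h.ker _ this
  rwa [← sub_eq_add_neg, sub_eq_zero] at h2

theorem finite [Finite G] (h : Coord j H) : Finite V := Finite.of_injective j fun _ _ => h.inj

/-- operators from homomorphic maps -/
theorem lift (h : Coord j H) (φ : V → G) (hφ : ∀ v, φ v ∈ H) (hadd : ∀ v w, φ (v + w) = φ v * φ w) :
    ∃ T : AddMonoid.End V, ∀ v, j (T v) = φ v := by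
  choose T hT using fun v => h.surj (φ v) (hφ v)
  have h0 : φ 0 = 1 := by
    have := hadd 0 0
    rw [add_zero] at this
    exact left_eq_mul.1 this
  refine ⟨{ toFun := T, map_zero' := ?_, map_add' := ?_ }, hT⟩
  · apply h.ker
    rw [hT, h0]
  · intro v w
    apply h.inj
    rw [hT, hadd, h.add, hT, hT]

end Coord

variable {V : Type v} [AddCommGroup V] {j : V → G}

theorem RQ.exists_field (h : RQ X) [Finite G] (hj : Coord j (X 2)) {e : G} (he : e ∈ X 1) (he1 : e ≠ 1) :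
    ∃ (F : Type) (_ : Field F) (_ : Fintype F) (ρ : F →+* AddMonoid.End V) (x1 : F → G) (x4 : V → G),
      Coord x1 (X 1) ∧ x1 1 = e ∧ Coord x4 (X 4) ∧ ∀ s v, p2 X (x1 s) (x4 v) = j (ρ s v) := by
  classical
  haveI : Finite V := hj.finite
  have h' := h.rev (k := 6) (by decide)
  choose x4 hx4m hx4 using fun v => h.p2_surj he he1 (hj.mem v)
  have c4 : Coord x4 (X 4) := by
    refine ⟨fun v w => ?_, hx4m, fun g hg => ?_, fun v hv => ?_⟩
    · apply h.p2_inj he he1 (hx4m _) (mul_mem (hx4m _) (hx4m _))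
      rw [hx4, hj.add, (h.p_mul_right he (hx4m _) (hx4m _)).1, hx4, hx4]
    · obtain ⟨v, hv⟩ := hj.surj _ (h.p2_mem he hg)
      exact ⟨v, h.p2_inj he he1 (hx4m _) hg (by rw [hx4, hv])⟩
    · apply hj.ker
      rw [← hx4, hv, (h.p_one_right he).1]
  have mem6 : ∀ {s : G}, s ∈ X 2 → s ∈ (fun j => X (6 - j)) 4 := fun hs => mem_of_eq (X := X) (by decide) hs
  have mem61 : ∀ {s : G}, s ∈ X 5 → s ∈ (fun j => X (6 - j)) 1 := fun hs => mem_of_eq (X := X) (by decide) hs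
  have mem62 : ∀ {b s : G}, b ∈ X 5 → s ∈ X 2 → p2 (fun j => X (6 - j)) b s ∈ X 4 := fun hb hs =>
    mem_of_eq (X := X) (by decide) (h'.p2_mem (mem61 hb) (mem6 hs))
  have hfin : Finite (AddMonoid.End V) := DFunLike.finite (V →+ V)
  let A : AddSubgroup (AddMonoid.End V) :=
    { carrier := {T | ∃ a ∈ X 1, ∀ v, p2 X a (x4 v) = j (T v)}
      zero_mem' := ⟨1, one_mem _, fun v => by rw [(h.p_one_left (hx4m v)).1]; exact hj.zero.symm⟩
      add_mem' := by
        rintro S T ⟨a, ha, hS⟩ ⟨a', ha', hT⟩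
        refine ⟨a' * a, mul_mem ha' ha, fun v => ?_⟩
        rw [(h.p_mul_left ha' ha (hx4m v)).1, hS, hT, ← hj.add]
        rfl
      neg_mem' := by
        rintro S ⟨a, ha, hS⟩
        refine ⟨a⁻¹, inv_mem ha, fun v => ?_⟩
        rw [h.p2_inv_left ha (hx4m v), hS, ← hj.neg]
        rfl }
  let A' : AddSubgroup (AddMonoid.End V) :=
    { carrier := {T | ∃ b ∈ X 5, ∀ v, j (T v) = (p2 X e (p2 (fun j => X (6 - j)) b (j v)))⁻¹}
      zero_mem' := ⟨1, one_mem _, fun v => by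
        rw [(h'.p_one_left (mem6 (hj.mem v))).1, (h.p_one_right he).1, inv_one]
        exact hj.zero⟩
      add_mem' := by
        rintro S T ⟨a, ha, hS⟩ ⟨a', ha', hT⟩
        refine ⟨a * a', mul_mem ha ha', fun v => ?_⟩
        rw [(h'.p_mul_left (mem61 ha) (mem61 ha') (mem6 (hj.mem v))).1,
          (h.p_mul_right he (mem62 ha' (hj.mem v)) (mem62 ha (hj.mem v))).1, mul_inv_rev, ← hS, ← hT, ← hj.add]
        rfl
      neg_mem' := by
        rintro S ⟨a, ha, hS⟩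
        refine ⟨a⁻¹, inv_mem ha, fun v => ?_⟩
        rw [h'.p2_inv_left (mem61 ha) (mem6 (hj.mem v)), h.p2_inv_right he (mem62 ha (hj.mem v)), ← hS, ← hj.neg]
        rfl }
  have hA1 : (1 : AddMonoid.End V) ∈ A := ⟨e, he, fun v => hx4 v⟩
  obtain ⟨w0, hw0⟩ : ∃ w : V, w ≠ 0 := by
    obtain ⟨s, hs, hs1⟩ := h.nt 2
    obtain ⟨w, rfl⟩ := hj.surj s hs
    exact ⟨w, fun hw => hs1 (by rw [hw, hj.zero])⟩
  have key : ∀ (S T : AddMonoid.End V) (a b : G), a ∈ X 1 → b ∈ X 5 → (∀ v, p2 X a (x4 v) = j (S v)) →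
      (∀ v, j (T v) = (p2 X e (p2 (fun j => X (6 - j)) b (j v)))⁻¹) →
      (∀ x ∈ X 4, p2 (fun j => X (6 - j)) b (p2 X a x) = x⁻¹) → S * T = 1 ∧ T * S = 1 := by
    intro S T a b ha hb hS hT hab
    have h1 : T * S = 1 := by
      ext v
      apply hj.inj
      show j (T (S v)) = j v
      rw [hT, ← hS, hab _ (hx4m v), h.p2_inv_right he (hx4m v), hx4, inv_inv]
    exact ⟨mul_eq_one_comm.1 h1, h1⟩
  have hinv : ∀ a ∈ A, a ≠ 0 → ∃ b ∈ A', a * b = 1 ∧ b * a = 1 := by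
    rintro S ⟨a, ha, hS⟩ hS0
    have ha1 : a ≠ 1 := by
      rintro rfl
      apply hS0
      ext v
      apply hj.inj
      rw [← hS, (h.p_one_left (hx4m v)).1]
      exact hj.zero.symm
    obtain ⟨b, hb, hab⟩ := h.exists_inv1 ha ha1
    obtain ⟨T, hT⟩ := hj.lift (fun v => (p2 X e (p2 (fun j => X (6 - j)) b (j v)))⁻¹)
      (fun v => inv_mem (h.p2_mem he (mem62 hb (hj.mem v)))) (fun v w => by
        rw [hj.add, (h'.p_mul_right (mem61 hb) (mem6 (hj.mem v)) (mem6 (hj.mem w))).1,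
          (h.p_mul_right he (mem62 hb (hj.mem v)) (mem62 hb (hj.mem w))).1, mul_inv_rev]
        exact h.comm2 (inv_mem (h.p2_mem he (mem62 hb (hj.mem w)))) (inv_mem (h.p2_mem he (mem62 hb (hj.mem v)))))
    exact ⟨T, ⟨b, hb, hT⟩, key S T a b ha hb hS hT hab⟩
  have hinv' : ∀ b ∈ A', b ≠ 0 → ∃ a ∈ A, a * b = 1 ∧ b * a = 1 := by
    rintro T ⟨b, hb, hT⟩ hT0
    have hb1 : b ≠ 1 := by
      rintro rfl
      apply hT0
      ext v
      apply hj.inj
      rw [hT, (h'.p_one_left (mem6 (hj.mem v))).1, (h.p_one_right he).1, inv_one]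
      exact hj.zero.symm
    obtain ⟨a, ha, hab⟩ := h.exists_inv5 hb hb1
    obtain ⟨S, hS⟩ := hj.lift (fun v => p2 X a (x4 v)) (fun v => h.p2_mem ha (hx4m v)) (fun v w => by
      rw [c4.add, (h.p_mul_right ha (hx4m v) (hx4m w)).1])
    exact ⟨S, ⟨a, ha, fun v => (hS v).symm⟩, key S T a b ha hb (fun v => (hS v).symm) hT hab⟩
  obtain ⟨F, iF, iF', ρ, hρ⟩ := exists_field_of A A' hA1 ⟨w0, hw0⟩ hinv hinv'
  have hρA : ∀ s, ∃ a ∈ X 1, ∀ v, p2 X a (x4 v) = j (ρ s v) := fun s => (hρ (ρ s)).2 ⟨s, rfl⟩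
  choose x1 hx1m hx1 using hρA
  have hx0 : x4 w0 ≠ 1 := fun hh => hw0 (c4.ker _ hh)
  have hρ0 : ∀ s, ρ s w0 = 0 → s = 0 := by
    intro s hs
    by_contra hs0
    apply hw0
    have h1 : ρ (s⁻¹ * s) w0 = 0 := by
      rw [map_mul]
      show ρ s⁻¹ (ρ s w0) = 0
      rw [hs, map_zero]
    rw [inv_mul_cancel₀ hs0, map_one] at h1
    exact h1
  refine ⟨F, iF, iF', ρ, x1, x4, ⟨fun s t => ?_, hx1m, fun g hg => ?_, fun s hs => ?_⟩, ?_, c4, hx1⟩
  · apply h.p2_left_inj (hx1m _) (mul_mem (hx1m _) (hx1m _)) (hx4m w0) hx0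
    rw [hx1, (h.p_mul_left (hx1m s) (hx1m t) (hx4m w0)).1, hx1, hx1, ← hj.add, map_add, add_comm (ρ s)]
    rfl
  · obtain ⟨S, hS⟩ := hj.lift (fun v => p2 X g (x4 v)) (fun v => h.p2_mem hg (hx4m v)) (fun v w => by
      rw [c4.add, (h.p_mul_right hg (hx4m v) (hx4m w)).1])
    obtain ⟨s, hs⟩ := (hρ S).1 ⟨g, hg, fun v => (hS v).symm⟩
    refine ⟨s, h.p2_left_inj (hx1m _) hg (hx4m w0) hx0 ?_⟩
    rw [hx1, hs, hS]
  · apply hρ0
    apply hj.ker
    rw [← hx1, hs, (h.p_one_left (hx4m w0)).1]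
  · apply h.p2_left_inj (hx1m _) he (hx4m w0) hx0
    rw [hx1, map_one, hx4]
    rfl

/-- two commuting fields of operators which agree locally agree -/
theorem same_field {F F' : Type*} [Field F] [Field F'] (ρ : F →+* AddMonoid.End V) (ρ' : F' →+* AddMonoid.End V)
    (hc : ∀ a b v, ρ a (ρ' b v) = ρ' b (ρ a v)) (hl : ∀ v, v ≠ 0 → ∀ a, ∃ b, ρ a v = ρ' b v) (hV : ∃ v : V, v ≠ 0) (a : F) :
    ∃ b, ρ a = ρ' b := by
  obtain ⟨v0, hv0⟩ := hV
  obtain ⟨b, hb⟩ := hl v0 hv0 a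
  refine ⟨b, DFunLike.ext _ _ fun w => ?_⟩
  have hρ0 : ∀ s (v : V), v ≠ 0 → ρ' s v = 0 → s = 0 := by
    intro s v hv hs
    by_contra hs0
    apply hv
    have h1 : ρ' (s⁻¹ * s) v = 0 := by
      rw [map_mul]
      show ρ' s⁻¹ (ρ' s v) = 0
      rw [hs, map_zero]
    rw [inv_mul_cancel₀ hs0, map_one] at h1
    exact h1
  by_cases hw : w = 0
  · rw [hw, map_zero, map_zero]
  by_cases hd : ∃ d, w = ρ' d v0
  · obtain ⟨d, rfl⟩ := hd
    rw [hc, hb]
    have e1 : ∀ s t, ρ' s (ρ' t v0) = ρ' (s * t) v0 := fun s t => by rw [map_mul]; rfl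
    rw [e1, e1, mul_comm]
  · obtain ⟨c, hcw⟩ := hl w hw a
    have hvw : v0 + w ≠ 0 := by
      intro hh
      apply hd
      refine ⟨-1, ?_⟩
      rw [map_neg, map_one]
      show w = -v0
      rw [eq_neg_iff_add_eq_zero, add_comm]
      exact hh
    obtain ⟨f, hf⟩ := hl _ hvw a
    have e1 : ρ' (b - f) v0 = ρ' (f - c) w := by
      rw [map_add, map_add, hb, hcw] at hf
      rw [map_sub, map_sub]
      show ρ' b v0 - ρ' f v0 = ρ' f w - ρ' c w
      rw [sub_eq_sub_iff_add_eq_add, hf, add_comm]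
    by_cases hfc : f - c = 0
    · rw [hfc, map_zero] at e1
      have hbf := hρ0 _ v0 hv0 e1
      rw [sub_eq_zero] at hbf hfc
      rw [hcw, hbf, hfc]
    · exfalso
      apply hd
      refine ⟨(f - c)⁻¹ * (b - f), ?_⟩
      rw [map_mul]
      show w = ρ' (f - c)⁻¹ (ρ' (b - f) v0)
      rw [e1]
      have : ρ' ((f - c)⁻¹ * (f - c)) w = w := by
        rw [inv_mul_cancel₀ hfc, map_one]
        rfl
      rw [map_mul] at this
      exact this.symm

end Cfsg.Agent.SplitTwo.QuadRedSys
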