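import Mathlib
import Cfsg.Agent.SplitTwo.QuadRedField

/-!
# The quadratic form of a reduced quadrangle
-/

set_option autoImplicit false
set_option linter.style.haveILetI false

namespace Cfsg.Agent.SplitTwo.QuadRedSys

open scoped commutatorElement
open Cfsg.Agent Cfsg.Agent.TitsThree

universe u v

variable {G : Type u} [Group G] {X : ZMod 8 → Subgroup G}

/-- equivariance of the components -/
theorem QSys.pp_conj (h : QSys X) {g a x : G} (ha : a ∈ X 1) (hx : x ∈ X 4) (h1 : g * a * g⁻¹ ∈ X 1)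
    (h2 : ∀ y ∈ X 2, g * y * g⁻¹ ∈ X 2) (h3 : ∀ y ∈ X 3, g * y * g⁻¹ ∈ X 3) (h4 : g * x * g⁻¹ ∈ X 4) :
    p2 X (g * a * g⁻¹) (g * x * g⁻¹) = g * p2 X a x * g⁻¹ ∧ p3 X (g * a * g⁻¹) (g * x * g⁻¹) = g * p3 X a x * g⁻¹ := by
  apply h.pp_uniq h1 h4 (h2 _ (h.p2_mem ha hx)) (h3 _ (h.p3_mem ha hx))
  have e1 : ⁅g * a * g⁻¹, g * x * g⁻¹⁆ = g * ⁅a, x⁆ * g⁻¹ := by
    simp only [commutatorElement_def]; group
  rw [e1, h.pp_eq ha hx]
  group

theorem Refl.comp {X : ZMod 8 → Subgroup G} {c n m} (hn : Refl X c n) (hm : Refl X c m) {i : ZMod 8} {x : G}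
    (hx : x ∈ X i) : (n * m⁻¹) * x * (n * m⁻¹)⁻¹ ∈ X i := by
  have h1 := hm.inv.mem (i := i) (j := c - i) (by ring) hx
  have h2 := hn.mem (i := c - i) (j := i) (by ring) h1
  have e : n * (m⁻¹ * x * m⁻¹⁻¹) * n⁻¹ = (n * m⁻¹) * x * (n * m⁻¹)⁻¹ := by group
  rwa [e] at h2

variable {V : Type v} [AddCommGroup V] {j : V → G}

/-- first coordinates: `X 1`, `X 2`, `X 4` and the field of operators -/
structure Co (X : ZMod 8 → Subgroup G) (F : Type) [Field F] (ρ : F →+* AddMonoid.End V) (x1 : F → G) (j x4 : V → G) :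
    Prop where
  k1 : Coord x1 (X 1)
  k2 : Coord j (X 2)
  k4 : Coord x4 (X 4)
  eq : ∀ s v, p2 X (x1 s) (x4 v) = j (ρ s v)

namespace Co

variable {F : Type} [Field F] {ρ : F →+* AddMonoid.End V} {x1 : F → G} {x4 : V → G}

theorem ρinj (v : V) (hv : v ≠ 0) {s : F} (hs : ρ s v = 0) : s = 0 := by
  by_contra hs0
  apply hv
  have h1 : ρ (s⁻¹ * s) v = 0 := by
    rw [map_mul]
    show ρ s⁻¹ (ρ s v) = 0
    rw [hs, map_zero]
  rw [inv_mul_cancel₀ hs0, map_one] at h1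
  exact h1

theorem ρone (v : V) : ρ 1 v = v := by rw [map_one]; rfl

theorem ρmul (a b : F) (v : V) : ρ (a * b) v = ρ a (ρ b v) := by rw [map_mul]; rfl

/-- the torus elements `h_a = n_a n_1⁻¹`: action on `X 2` -/
theorem torus2 (h : RQ X) (c : Co X F ρ x1 j x4) {a b : F} {v1 v2 w1 w2 : G} (hv1 : v1 ∈ X 5)
    (hv2 : v2 ∈ X 5) (hw1 : w1 ∈ X 5) (hw2 : w2 ∈ X 5) (hn : Refl X 6 (v1 * x1 a * v2)) (hm : Refl X 6 (w1 * x1 b * w2))
    (v : V) : ((v1 * x1 a * v2) * (w1 * x1 b * w2)⁻¹) * j (ρ b v) * ((v1 * x1 a * v2) * (w1 * x1 b * w2)⁻¹)⁻¹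
      = j (ρ a v) := by
  have e1 := h.conj4 (c.k1.mem a) hv1 hv2 hn (c.k4.mem v)
  have e2 := h.conj4 (c.k1.mem b) hw1 hw2 hm (c.k4.mem v)
  rw [c.eq] at e1 e2
  rw [← e1, ← e2]
  group

/-- action on `X 4` -/
theorem torus4 (h : RQ X) (c : Co X F ρ x1 j x4) {a b : F} {v1 v2 w1 w2 : G} (hv1 : v1 ∈ X 5)
    (hv2 : v2 ∈ X 5) (hw1 : w1 ∈ X 5) (hw2 : w2 ∈ X 5) (hn : Refl X 6 (v1 * x1 a * v2)) (hm : Refl X 6 (w1 * x1 b * w2))
    (v w : V) (hvw : ρ b v = ρ a w) :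
    ((v1 * x1 a * v2) * (w1 * x1 b * w2)⁻¹) * x4 v * ((v1 * x1 a * v2) * (w1 * x1 b * w2)⁻¹)⁻¹ = x4 w := by
  have key : ∀ (a : F) (v1 v2 : G), v1 ∈ X 5 → v2 ∈ X 5 → Refl X 6 (v1 * x1 a * v2) → ∀ v,
      (v1 * x1 a * v2)⁻¹ * x4 v * (v1 * x1 a * v2) = (j (ρ a v))⁻¹ := by
    intro a v1 v2 hv1 hv2 hn v
    have hni : Refl X 6 (v2⁻¹ * (x1 a)⁻¹ * v1⁻¹) := by
      have := hn.inv
      have e : (v1 * x1 a * v2)⁻¹ = v2⁻¹ * (x1 a)⁻¹ * v1⁻¹ := by group
      rwa [e] at this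
    have := h.conj4 (inv_mem (c.k1.mem a)) (inv_mem hv2) (inv_mem hv1) hni (c.k4.mem v)
    rw [h.p2_inv_left (c.k1.mem a) (c.k4.mem v), c.eq] at this
    rw [← this]
    group
  have e1 := key a v1 v2 hv1 hv2 hn w
  have e2 := key b w1 w2 hw1 hw2 hm v
  rw [hvw, ← e1] at e2
  generalize v1 * x1 a * v2 = n at *
  generalize w1 * x1 b * w2 = m at *
  calc n * m⁻¹ * x4 v * (n * m⁻¹)⁻¹ = n * (m⁻¹ * x4 v * m) * n⁻¹ := by group
    _ = x4 w := by rw [e2]; group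

/-- the torus elements on `X 1` -/
theorem torus1 (h : RQ X) (c : Co X F ρ x1 j x4) (hV : ∃ v : V, v ≠ 0) {a : F} {v1 v2 w1 w2 : G}
    (hv1 : v1 ∈ X 5) (hv2 : v2 ∈ X 5) (hw1 : w1 ∈ X 5) (hw2 : w2 ∈ X 5) (hn : Refl X 6 (v1 * x1 a * v2))
    (hm : Refl X 6 (w1 * x1 1 * w2)) (b : F) :
    ((v1 * x1 a * v2) * (w1 * x1 1 * w2)⁻¹) * x1 b * ((v1 * x1 a * v2) * (w1 * x1 1 * w2)⁻¹)⁻¹ = x1 (a * a * b) := by
  obtain ⟨v0, hv0⟩ := hV
  have m1 := hn.comp hm (c.k1.mem b)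
  have m2 : ∀ y ∈ X 2, _ := fun y hy => hn.comp hm (i := 2) (x := y) hy
  have m3 : ∀ y ∈ X 3, _ := fun y hy => hn.comp hm (i := 3) (x := y) hy
  have m4 := hn.comp hm (c.k4.mem (ρ a v0))
  have t4 := torus4 h c hv1 hv2 hw1 hw2 hn hm (ρ a v0) v0 (by rw [ρone])
  have t2 := torus2 h c hv1 hv2 hw1 hw2 hn hm (ρ b (ρ a v0))
  rw [ρone] at t2
  have e := (h.pp_conj (c.k1.mem b) (c.k4.mem (ρ a v0)) m1 m2 m3 m4).1
  rw [c.eq, t2, t4] at e
  obtain ⟨b', hb'⟩ := c.k1.surj _ m1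
  rw [← hb', c.eq] at e
  rw [← hb']
  congr 1
  have e' := c.k2.inj e
  have : ρ (b' - a * a * b) v0 = 0 := by
    rw [map_sub]
    show ρ b' v0 - ρ (a * a * b) v0 = 0
    rw [e', sub_eq_zero, ← ρmul, ← ρmul]
    congr 2
    ring
  have := ρinj v0 hv0 this
  rwa [sub_eq_zero] at this

end Co

/-- Coordinates of a reduced quadrangle: field `F`, `F`-space `V`, quadratic form `q`. -/
structure RedCo (X : ZMod 8 → Subgroup G) (F : Type) [Field F] (V : Type v) [AddCommGroup V] [Module F V] (x1 : F → G)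
    (x2 : V → G) (x3 : F → G) (x4 : V → G) (q : V → F) : Prop where
  k1 : Coord x1 (X 1)
  k2 : Coord x2 (X 2)
  k3 : Coord x3 (X 3)
  k4 : Coord x4 (X 4)
  c14 : ∀ a v, ⁅x1 a, x4 v⁆ = x2 (a • v) * x3 (a * q v)
  c42 : ∀ v u, ⁅x4 v, x2 u⁆ = x3 (q (v + u) - q v - q u)
  q_smul : ∀ (a : F) v, q (a • v) = a ^ 2 * q v
  q_aniso : ∀ v, q v = 0 → v = 0
  b_smul : ∀ (a : F) v u, q (v + a • u) - q v - q (a • u) = a * (q (v + u) - q v - q u)
  b_add : ∀ v u u', q (v + (u + u')) - q v - q (u + u') = (q (v + u) - q v - q u) + (q (v + u') - q v - q u')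

theorem RQ.exists_coord (h : RQ X) [Finite G] :
    ∃ (F : Type) (_ : Field F) (_ : Fintype F) (V : Type u) (_ : AddCommGroup V) (_ : Module F V) (x1 : F → G)
      (x2 : V → G) (x3 : F → G) (x4 : V → G) (q : V → F), RedCo X F V x1 x2 x3 x4 q := by
  classical
  letI : CommGroup (X 2) := { (inferInstance : Group (X 2)) with
    mul_comm := fun a b => Subtype.ext (h.comm2 a.2 b.2) }
  let V := Additive (X 2)
  let j : V → G := fun v => ((Additive.toMul v : X 2) : G)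
  have hj : Coord j (X 2) :=
    ⟨fun v w => rfl, fun v => (Additive.toMul v).2, fun g hg => ⟨Additive.ofMul ⟨g, hg⟩, rfl⟩,
      fun v hv => Additive.toMul.injective (Subtype.ext hv)⟩
  clear_value j
  obtain ⟨v0, hv0⟩ : ∃ w : V, w ≠ 0 := by
    obtain ⟨s, hs, hs1⟩ := h.nt 2
    obtain ⟨w, rfl⟩ := hj.surj s hs
    exact ⟨w, fun hw => hs1 (by rw [hw, hj.zero])⟩
  obtain ⟨e, he, he1⟩ := h.nt 1
  obtain ⟨e3, he3, he31⟩ := h.nt 3
  have h' := h.rev (k := 4) (by decide)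
  have hj' : Coord j ((fun j => X (4 - j)) 2) :=
    ⟨hj.add, fun v => mem_of_eq (X := X) (by decide) (hj.mem v), fun g hg => hj.surj g (mem_of_eq (X := X) (by decide) hg),
      hj.ker⟩
  obtain ⟨F, iF, iF', ρ, x1, x4, k1, h1e, k4, heq⟩ := h.exists_field hj he he1
  obtain ⟨F', iFF, iFF', ρ', y1, y4, l1, -, l4, heq'⟩ :=
    h'.exists_field hj' (mem_of_eq (X := X) (by decide) he3 : e3 ∈ (fun j => X (4 - j)) 1) he31
  have co : Co X F ρ x1 j x4 := ⟨k1, hj, k4, heq⟩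
  have co' : Co (fun j => X (4 - j)) F' ρ' y1 j y4 := ⟨l1, hj', l4, heq'⟩
  have l1m : ∀ b, y1 b ∈ X 3 := fun b => mem_of_eq (X := X) (by decide) (l1.mem b)
  have l4m : ∀ v, y4 v ∈ X 0 := fun v => mem_of_eq (X := X) (by decide) (l4.mem v)
  -- the components in `X 3`
  choose Q hQ using fun (a : F) (v : V) => l1.surj (p3 X (x1 a) (x4 v))
    (mem_of_eq (X := X) (by decide) (h.p3_mem (k1.mem a) (k4.mem v)))
  -- the key relation
  have key : ∀ v : V, v ≠ 0 → ∃ v' : V, ∀ a, ρ a v = ρ' (Q a v) v' := by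
    intro v hv
    obtain ⟨w, hw, w', hw', hn⟩ := h.refl4 (k4.mem v) (fun hh => hv (k4.ker _ hh))
    obtain ⟨v', rfl⟩ := l4.surj w (mem_of_eq (X := X) (by decide) hw)
    refine ⟨v', fun a => hj.inj ?_⟩
    rw [← heq, (h.conj1 (k1.mem a) hw hw' hn (k4.mem v)).2, ← hQ, heq']
  have hQ1 : ∀ v : V, v ≠ 0 → Q 1 v ≠ 0 := by
    intro v hv hq
    have e1 := hQ 1 v
    rw [hq, l1.zero, h1e] at e1
    exact he1 (h.p3_eq_one he (k4.mem v) (fun hh => hv (k4.ker _ hh)) e1.symm)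
  have key2 : ∀ v : V, v ≠ 0 → ∀ a, ρ a v = ρ' (Q a v * (Q 1 v)⁻¹) v := by
    intro v hv a
    obtain ⟨v', hv'⟩ := key v hv
    have e1 := hv' 1
    rw [Co.ρone] at e1
    have e2 : v' = ρ' (Q 1 v)⁻¹ v := by
      have e3 : ρ' (Q 1 v)⁻¹ (ρ' (Q 1 v) v') = v' := by
        rw [← Co.ρmul, inv_mul_cancel₀ (hQ1 v hv), Co.ρone]
      rw [← e1] at e3
      exact e3.symm
    rw [hv' a, Co.ρmul, ← e2]
  -- the two fields commute
  have hcomm : ∀ a b v, ρ a (ρ' b v) = ρ' b (ρ a v) := by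
    intro a b v
    by_cases hb : b = 0
    · subst hb
      have e0 : ∀ v, ρ' 0 v = 0 := fun v => by rw [map_zero]; rfl
      rw [e0, e0, map_zero]
    obtain ⟨s1, hs1, s2, hs2, hn⟩ := h'.refl1 (l1.mem b) (fun hh => hb (l1.ker _ hh))
    obtain ⟨t1, ht1, t2, ht2, hm⟩ := h'.refl1 (l1.mem 1) (fun hh => one_ne_zero (l1.ker _ hh))
    have n2 := co'.torus2 h' hs1 hs2 ht1 ht2 hn hm
    have mm : ∀ {i : ZMod 8} {x : G}, x ∈ X i → _ ∈ X i := fun {i x} hx =>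
      mem_of_eq (X := X) (by ring) (hn.comp hm (i := 4 - i) (x := x) (mem_of_eq (X := X) (by ring) hx))
    have cen : ∀ {x : G}, x ∈ X 1 → (s1 * y1 b * s2 * (t1 * y1 1 * t2)⁻¹) * x *
        (s1 * y1 b * s2 * (t1 * y1 1 * t2)⁻¹)⁻¹ = x := by
      intro x hx
      have q1 := h'.conj_odd (i := 3) (Or.inl rfl) (l1.mem b) hs1 hs2 (u := x) (mem_of_eq (X := X) (by decide) hx)
      have q2 := h'.conj_odd (i := 3) (Or.inl rfl) (l1.mem 1) ht1 ht2 (u := x) (mem_of_eq (X := X) (by decide) hx)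
      generalize s1 * y1 b * s2 = n at *
      generalize t1 * y1 1 * t2 = m at *
      have q3 : m⁻¹ * x * m = x := by
        conv_lhs => rw [← q2]
        group
      calc n * m⁻¹ * x * (n * m⁻¹)⁻¹ = n * (m⁻¹ * x * m) * n⁻¹ := by group
        _ = x := by rw [q3, q1]
    have P : ∀ a, p2 X (x1 a) ((s1 * y1 b * s2 * (t1 * y1 1 * t2)⁻¹) * x4 v *
        (s1 * y1 b * s2 * (t1 * y1 1 * t2)⁻¹)⁻¹) = j (ρ' b (ρ a v)) := by
      intro a
      have e := (h.pp_conj (g := s1 * y1 b * s2 * (t1 * y1 1 * t2)⁻¹) (k1.mem a) (k4.mem v) (mm (k1.mem a))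
        (fun y hy => mm hy) (fun y hy => mm hy) (mm (k4.mem v))).1
      rw [cen (k1.mem a)] at e
      rw [e, heq]
      have := n2 (ρ a v)
      rw [Co.ρone] at this
      exact this
    obtain ⟨w, hw⟩ := k4.surj _ (mm (k4.mem v))
    have P1 := P 1
    have P2 := P a
    rw [← hw, heq] at P1 P2
    have r1 := hj.inj P1
    have r2 := hj.inj P2
    rw [Co.ρone, Co.ρone] at r1
    rw [r1] at r2
    exact r2
  -- hence they coincide
  have hsame := same_field ρ ρ' hcomm (fun v hv a => ⟨_, key2 v hv a⟩) ⟨v0, hv0⟩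
  choose τ hτ using hsame
  have hρ'inj : ∀ s t : F', ρ' s = ρ' t → s = t := by
    intro s t hst
    have : ρ' (s - t) v0 = 0 := by
      rw [map_sub, hst, sub_self]
      rfl
    have := Co.ρinj v0 hv0 this
    rwa [sub_eq_zero] at this
  have τadd : ∀ s t, τ (s + t) = τ s + τ t := fun s t => hρ'inj _ _ (by
    rw [← hτ, map_add, map_add, hτ, hτ])
  have τmul : ∀ s t, τ (s * t) = τ s * τ t := fun s t => hρ'inj _ _ (by
    rw [← hτ, map_mul, map_mul, hτ, hτ])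
  have τQ : ∀ a v, Q a v = τ a * Q 1 v := by
    intro a v
    by_cases hv : v = 0
    · subst hv
      have e0 : ∀ a, Q a 0 = 0 := by
        intro a
        apply l1.ker
        rw [hQ, k4.zero, (h.p_one_right (k1.mem a)).2]
      rw [e0, e0, mul_zero]
    have e1 := key2 v hv a
    have e2 : ρ a v = ρ' (τ a) v := by rw [hτ a]
    rw [e2] at e1
    have e3 : ρ' (τ a - Q a v * (Q 1 v)⁻¹) v = 0 := by
      rw [map_sub]
      show ρ' (τ a) v - ρ' _ v = 0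
      rw [e1, sub_self]
    have e4 := Co.ρinj v hv e3
    rw [sub_eq_zero] at e4
    rw [e4, inv_mul_cancel_right₀ (hQ1 v hv)]
  have τsurj : ∀ c, ∃ a, τ a = c := by
    intro c
    have hx1 : x4 v0 ≠ 1 := fun hh => hv0 (k4.ker _ hh)
    obtain ⟨g, hg, hgc⟩ := h.p3_surj (k4.mem v0) hx1 (l1m (c * Q 1 v0))
    obtain ⟨a, rfl⟩ := k1.surj g hg
    refine ⟨a, ?_⟩
    rw [← hQ] at hgc
    have := l1.inj hgc
    rw [τQ] at this
    exact mul_right_cancel₀ (hQ1 v0 hv0) this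
  have τker : ∀ a, τ a = 0 → a = 0 := by
    intro a ha
    have : ρ a v0 = 0 := by
      rw [hτ a, ha, map_zero]
      rfl
    exact Co.ρinj v0 hv0 this
  have τinj : ∀ s t, τ s = τ t → s = t := by
    intro s t hst
    have e1 : τ (s - t) + τ t = τ s := by rw [← τadd, sub_add_cancel]
    rw [hst] at e1
    exact sub_eq_zero.1 (τker _ (left_eq_add.1 (by rw [add_comm]; exact e1.symm)))
  let x3 : F → G := fun a => y1 (τ a)
  have k3 : Coord x3 (X 3) := by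
    refine ⟨fun s t => ?_, fun s => l1m _, fun g hg => ?_, fun s hs => τker s (l1.ker _ hs)⟩
    · show y1 _ = y1 _ * y1 _
      rw [τadd, l1.add]
    · obtain ⟨c, hc⟩ := l1.surj g (mem_of_eq (X := X) (by decide) hg)
      obtain ⟨a, rfl⟩ := τsurj c
      exact ⟨a, hc⟩
  choose q hq using fun v => τsurj (Q 1 v)
  have hp3 : ∀ a v, p3 X (x1 a) (x4 v) = x3 (a * q v) := by
    intro a v
    show _ = y1 _
    rw [τmul, hq, ← τQ, hQ]
  -- torus: `q (a v) = a² q v`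
  have q_smul : ∀ a v, q (ρ a v) = a ^ 2 * q v := by
    intro a v
    by_cases ha : a = 0
    · subst ha
      have e0 : ρ 0 v = 0 := by rw [map_zero]; rfl
      rw [e0]
      have : q 0 = 0 := by
        apply k3.ker
        have := hp3 1 0
        rw [k4.zero, (h.p_one_right (k1.mem 1)).2, one_mul] at this
        exact this.symm
      rw [this]
      ring
    obtain ⟨s1, hs1, s2, hs2, hn⟩ := h.refl1 (k1.mem a) (fun hh => ha (k1.ker _ hh))
    obtain ⟨t1, ht1, t2, ht2, hm⟩ := h.refl1 (k1.mem 1) (fun hh => one_ne_zero (k1.ker _ hh))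
    have r1 := co.torus1 h ⟨v0, hv0⟩ hs1 hs2 ht1 ht2 hn hm 1
    have r4 := co.torus4 h hs1 hs2 ht1 ht2 hn hm (ρ a v) v (by rw [Co.ρone])
    have cen : (s1 * x1 a * s2 * (t1 * x1 1 * t2)⁻¹) * p3 X (x1 1) (x4 (ρ a v)) *
        (s1 * x1 a * s2 * (t1 * x1 1 * t2)⁻¹)⁻¹ = p3 X (x1 1) (x4 (ρ a v)) := by
      have m3 := h.p3_mem (k1.mem 1) (k4.mem (ρ a v))
      have q1 := h.conj_odd (i := 3) (Or.inl rfl) (k1.mem a) hs1 hs2 m3
      have q2 := h.conj_odd (i := 3) (Or.inl rfl) (k1.mem 1) ht1 ht2 m3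
      generalize s1 * x1 a * s2 = n at *
      generalize t1 * x1 1 * t2 = m at *
      generalize p3 X (x1 1) (x4 (ρ a v)) = x at *
      have q3 : m⁻¹ * x * m = x := by
        conv_lhs => rw [← q2]
        group
      calc n * m⁻¹ * x * (n * m⁻¹)⁻¹ = n * (m⁻¹ * x * m) * n⁻¹ := by group
        _ = x := by rw [q3, q1]
    have e := (h.pp_conj (g := s1 * x1 a * s2 * (t1 * x1 1 * t2)⁻¹) (k1.mem 1) (k4.mem (ρ a v))
      (hn.comp hm (k1.mem 1)) (fun y hy => hn.comp hm hy) (fun y hy => hn.comp hm hy) (hn.comp hm (k4.mem _))).2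
    rw [cen, r1, r4, hp3, hp3] at e
    have := k3.inj e
    rw [one_mul, mul_one] at this
    rw [← this]
    ring
  have q_zero : q 0 = 0 := by
    have := q_smul 0 0
    rw [map_zero] at this
    rw [show ((0 : F) ^ 2) = 0 by ring, zero_mul] at this
    exact this
  have q_aniso : ∀ v, q v = 0 → v = 0 := by
    intro v hv
    by_contra hv0
    apply hQ1 v hv0
    rw [← hq, hv]
    have := τadd 0 0
    rw [add_zero] at this
    exact left_eq_add.1 this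
  -- polarisation
  have hpol : ∀ a v w, ⁅x4 v, j (ρ a w)⁆ = x3 (a * (q (v + w) - q v - q w)) := by
    intro a v w
    have e := (h.p_mul_right (k1.mem a) (k4.mem v) (k4.mem w)).2
    rw [← k4.add, hp3, hp3, hp3, heq] at e
    have m3 : ⁅x4 v, j (ρ a w)⁆ ∈ X 3 := h.c2' (by decide) (k4.mem v) (hj.mem _)
    obtain ⟨c, hc⟩ := k3.surj _ m3
    rw [← hc, ← k3.add, ← k3.add] at e
    have e' := k3.inj e
    rw [← hc]
    congr 1
    rw [mul_sub, mul_sub, e']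
    ring
  have hpol1 : ∀ v w, ⁅x4 v, j w⁆ = x3 (q (v + w) - q v - q w) := by
    intro v w
    have := hpol 1 v w
    rwa [Co.ρone, one_mul] at this
  letI : Module F V := Module.compHom V ρ
  have smul_def : ∀ (a : F) (v : V), a • v = ρ a v := fun a v => rfl
  refine ⟨F, iF, iF', V, inferInstance, inferInstance, x1, j, x3, x4, q, ⟨k1, hj, k3, k4, ?_, hpol1, ?_, q_aniso, ?_, ?_⟩⟩
  · intro a v
    rw [h.pp_eq (k1.mem a) (k4.mem v), heq, hp3, smul_def]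
  · intro a v
    rw [smul_def, q_smul]
  · intro a v u
    rw [smul_def]
    apply k3.inj
    rw [← hpol1, hpol]
  · intro v u u'
    apply k3.inj
    rw [← hpol1, k3.add, ← hpol1, ← hpol1, hj.add]
    have m3 : ⁅x4 v, j u⁆ ∈ X 3 := h.c2' (by decide) (k4.mem v) (hj.mem _)
    have m3' : ⁅x4 v, j u'⁆ ∈ X 3 := h.c2' (by decide) (k4.mem v) (hj.mem _)
    have t1 : ⁅x4 v, j u'⁆ * j u = j u * ⁅x4 v, j u'⁆ := h.c1' (by decide) m3' (hj.mem _)
    have e : ⁅x4 v, j u * j u'⁆ = ⁅x4 v, j u⁆ * (j u * ⁅x4 v, j u'⁆ * (j u)⁻¹) := by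
      simp only [commutatorElement_def]; group
    rw [e, ← t1, mul_inv_cancel_right]

end Cfsg.Agent.SplitTwo.QuadRedSys
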