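import Mathlib
import Cfsg.Agent.SplitTwo.QuadRedForm
import Cfsg.Agent.SplitTwo.QuadPos
import Cfsg.Agent.SplitTwo.QuadOfRoot788

/-!
# The reduced case: positive relations over a pseudo-quadratic system
-/

set_option autoImplicit false
set_option linter.style.haveILetI false

namespace Cfsg.Agent.SplitTwo.QuadRedPos

open scoped commutatorElement
open Cfsg.Agent Cfsg.Agent.TitsThree Cfsg.Agent.SplitTwo Cfsg.Agent.SplitTwo.QuadRedSys Cfsg.Agent.SplitTwo.QuadPos

universe u v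

variable {G : Type u} [Group G]

section qsys

variable {X : ZMod (2 * 4) → Subgroup G}

theorem qsys (S : Sys 4 X) : QSys (X : ZMod 8 → Subgroup G) where
  c1 i a ha b hb := S.comm_one i ha hb
  c2 i a ha b hb := by
    have h := S.comm i 1 (by norm_num) a ha b (by
      have e : (((1 + 1 : ℕ)) : ZMod (2 * 4)) = 2 := by decide
      rw [e]; exact hb)
    rw [seg_one] at h
    exact h
  c3 i a ha b hb := by
    have h := S.comm i 2 (by norm_num) a ha b (by
      have e : (((2 + 1 : ℕ)) : ZMod (2 * 4)) = 3 := by decide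
      rw [e]; exact hb)
    obtain ⟨c, hc, d, hd, hcd⟩ := QuadOfRoot788.seg_two S h
    refine ⟨c, hc, d, ?_, hcd.symm⟩
    have e : i + 1 + 1 = i + 2 := by
      rw [add_assoc]; congr 1
    have hd' : d ∈ X (i + 1 + 1) := hd
    rwa [e] at hd'
  uniq i a ha b hb c hc d hd a' ha' b' hb' c' hc' d' hd' he := by
    have l0 : ∀ (i : ZMod (2 * 4)) (k : ℕ), 0 < k → X i ≤ seg X i k := by
      intro i k hk
      have := le_seg X i (k := k) (r := 0) hk
      rwa [Nat.cast_zero, add_zero] at this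
    have l1 : ∀ (i : ZMod (2 * 4)) (k : ℕ), 1 < k → X (i + 1) ≤ seg X i k := by
      intro i k hk
      have := le_seg X i (k := k) (r := 1) hk
      rwa [Nat.cast_one] at this
    have l2 : ∀ (i : ZMod (2 * 4)) (k : ℕ), 2 < k → X (i + 2) ≤ seg X i k := by
      intro i k hk
      have := le_seg X i (k := k) (r := 2) hk
      have e : (((2 : ℕ)) : ZMod (2 * 4)) = 2 := by decide
      rwa [e] at this
    have e2 : i + 2 = (i + 1 : ZMod (2 * 4)) + 1 := by
      rw [add_assoc]; congr 1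
    have e3 : i + 3 = (i + 1 : ZMod (2 * 4)) + 2 := by
      rw [add_assoc]; congr 1
    have e4 : i + 3 = (i + 2 : ZMod (2 * 4)) + 1 := by
      rw [add_assoc]; congr 1
    have hc3 : c ∈ X ((i + 1 : ZMod (2 * 4)) + 1) := e2 ▸ hc
    have hc3' : c' ∈ X ((i + 1 : ZMod (2 * 4)) + 1) := e2 ▸ hc'
    have hd3 : d ∈ X ((i + 1 : ZMod (2 * 4)) + 2) := e3 ▸ hd
    have hd3' : d' ∈ X ((i + 1 : ZMod (2 * 4)) + 2) := e3 ▸ hd'
    have hd4 : d ∈ X ((i + 2 : ZMod (2 * 4)) + 1) := e4 ▸ hd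
    have hd4' : d' ∈ X ((i + 2 : ZMod (2 * 4)) + 1) := e4 ▸ hd'
    have h1 : a'⁻¹ * a = 1 := by
      apply S.inter_left i (k := 3) (by norm_num) (mul_mem (inv_mem ha') ha)
      have e : a'⁻¹ * a = b' * c' * d' * (b * c * d)⁻¹ := by
        rw [eq_mul_inv_iff_mul_eq]
        have : a'⁻¹ * (a * b * c * d) = b' * c' * d' := by rw [he]; group
        rw [← this]; group
      rw [e]
      refine mul_mem (mul_mem (mul_mem ?_ ?_) ?_) (inv_mem (mul_mem (mul_mem ?_ ?_) ?_))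
      · exact l0 _ _ (by norm_num) hb'
      · exact l1 _ _ (by norm_num) hc3'
      · exact l2 _ _ (by norm_num) hd3'
      · exact l0 _ _ (by norm_num) hb
      · exact l1 _ _ (by norm_num) hc3
      · exact l2 _ _ (by norm_num) hd3
    have h1' : a = a' := (inv_mul_eq_one.1 h1).symm
    subst h1'
    have he2 : b * c * d = b' * c' * d' := by
      have : a⁻¹ * (a * b * c * d) = a⁻¹ * (a * b' * c' * d') := by rw [he]
      simpa [mul_assoc] using this
    have h2 : b'⁻¹ * b = 1 := by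
      apply S.inter_left (i + 1 : ZMod (2 * 4)) (k := 2) (by norm_num) (mul_mem (inv_mem hb') hb)
      have e : b'⁻¹ * b = c' * d' * (c * d)⁻¹ := by
        rw [eq_mul_inv_iff_mul_eq]
        have : b'⁻¹ * (b * c * d) = c' * d' := by rw [he2]; group
        rw [← this]; group
      rw [e, ← e2]
      refine mul_mem (mul_mem ?_ ?_) (inv_mem (mul_mem ?_ ?_))
      · exact l0 _ _ (by norm_num) hc'
      · exact l1 _ _ (by norm_num) hd4'
      · exact l0 _ _ (by norm_num) hc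
      · exact l1 _ _ (by norm_num) hd4
    have h2' : b = b' := (inv_mul_eq_one.1 h2).symm
    subst h2'
    have he3 : c * d = c' * d' := by
      have : b⁻¹ * (b * c * d) = b⁻¹ * (b * c' * d') := by rw [he2]
      simpa [mul_assoc] using this
    have h3 : c'⁻¹ * c = 1 := by
      apply S.inter_left (i + 2 : ZMod (2 * 4)) (k := 1) (by norm_num) (mul_mem (inv_mem hc') hc)
      have e : c'⁻¹ * c = d' * d⁻¹ := by
        rw [eq_mul_inv_iff_mul_eq]
        have : c'⁻¹ * (c * d) = d' := by rw [he3]; group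
        rw [← this]; group
      rw [e]
      exact mul_mem (l0 _ _ (by norm_num) hd4') (inv_mem (l0 _ _ (by norm_num) hd4))
    have h3' : c = c' := (inv_mul_eq_one.1 h3).symm
    subst h3'
    exact ⟨rfl, rfl, rfl, mul_left_cancel he3⟩
  refl i a ha ha1 := S.mu i a ha ha1
  nt i := S.exists_ne_one i

end qsys

theorem comm_refl {X : ZMod 8 → Subgroup G} {c i j i' j' : ZMod 8} {n : G} (hn : QuadRedSys.Refl X c n)
    (hi : i + i' = c) (hj : j + j' = c)
    (h : ∀ a ∈ X i, ∀ b ∈ X j, a * b = b * a) : ∀ a ∈ X i', ∀ b ∈ X j', a * b = b * a := by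
  intro a ha b hb
  have h1 := hn.mem' (i := i') (j := i) (by rw [add_comm]; exact hi) ha
  have h2 := hn.mem' (i := j') (j := j) (by rw [add_comm]; exact hj) hb
  have h3 := h _ h1 _ h2
  have e1 : n⁻¹ * a * n * (n⁻¹ * b * n) = n⁻¹ * (a * b) * n := by group
  have e2 : n⁻¹ * b * n * (n⁻¹ * a * n) = n⁻¹ * (b * a) * n := by group
  rw [e1, e2] at h3
  exact mul_left_cancel (mul_right_cancel h3)

theorem rq_of_13 {X : ZMod 8 → Subgroup G} (h : QSys X) (h13 : ∀ a ∈ X 1, ∀ c ∈ X 3, a * c = c * a) : RQ X := by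
  obtain ⟨a, ha, ha1⟩ := h.nt 1
  obtain ⟨v, -, v', -, hn⟩ := h.refl 1 a ha ha1
  have e : (2 * 1 + 4 : ZMod 8) = 6 := by decide
  rw [e] at hn
  obtain ⟨c, hc, hc1⟩ := h.nt 3
  obtain ⟨w, -, w', -, hm⟩ := h.refl 3 c hc hc1
  have e : (2 * 3 + 4 : ZMod 8) = 2 := by decide
  rw [e] at hm
  have h53 := comm_refl (i := 1) (j := 3) (i' := 5) (j' := 3) hn (by decide) (by decide) h13
  have h17 := comm_refl (i := 1) (j := 3) (i' := 1) (j' := 7) hm (by decide) (by decide) h13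
  have h57 := comm_refl (i := 5) (j := 3) (i' := 5) (j' := 7) hm (by decide) (by decide) h53
  refine { toQSys := h, red := ?_ }
  rintro i (rfl | rfl | rfl | rfl) a ha b hb
  · exact h13 a ha b hb
  · exact (h53 b hb a ha).symm
  · exact h57 a ha b hb
  · exact (h17 b hb a ha).symm

section sys

variable {X : ZMod 8 → Subgroup G} {F : Type} [Field F] {V : Type v} [AddCommGroup V] [Module F V] {x1 : F → G}
  {x2 : V → G} {x3 : F → G} {x4 : V → G} {q : V → F}

/-- the inverse of a coordinate map -/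
noncomputable def cinv {V : Type v} [AddCommGroup V] {j : V → G} {H : Subgroup G} (h : Coord j H) (p : H) : V :=
  (h.surj p.1 p.2).choose

theorem cinv_spec {V : Type v} [AddCommGroup V] {j : V → G} {H : Subgroup G} (h : Coord j H) (p : H) : j (cinv h p) = p :=
  (h.surj p.1 p.2).choose_spec

theorem cinv_mul {V : Type v} [AddCommGroup V] {j : V → G} {H : Subgroup G} (h : Coord j H) (p r : H) :
    cinv h (p * r) = cinv h p + cinv h r := by
  apply h.inj
  rw [h.add, cinv_spec h, cinv_spec h, cinv_spec h]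
  rfl

theorem cinv_one {V : Type v} [AddCommGroup V] {j : V → G} {H : Subgroup G} (h : Coord j H) : cinv h 1 = 0 := by
  apply h.inj
  rw [h.zero, cinv_spec h]
  rfl

theorem cinv_mk {V : Type v} [AddCommGroup V] {j : V → G} {H : Subgroup G} (h : Coord j H) (v : V) :
    cinv h ⟨j v, h.mem v⟩ = v := by
  apply h.inj
  rw [cinv_spec h]

theorem RedCo.q_zero (h : RedCo X F V x1 x2 x3 x4 q) : q 0 = 0 := by
  have := h.q_smul 0 0
  rw [smul_zero] at this
  rw [this]; ring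

theorem RedCo.q_neg (h : RedCo X F V x1 x2 x3 x4 q) (v : V) : q (-v) = q v := by
  have := h.q_smul (-1) v
  rw [neg_one_smul] at this
  rw [this]; ring

/-- the pseudo-quadratic system of a reduced quadrangle -/
noncomputable def sysOf (h : RedCo X F V x1 x2 x3 x4 q) : PQAbs.Sys F (X 4) where
  σ := RingEquiv.refl F
  σσ _ := rfl
  ε := 1
  ε_mul := by simp
  c p := -q (cinv h.k4 p)
  h p r := q (cinv h.k4 p + cinv h.k4 r) - q (cinv h.k4 p) - q (cinv h.k4 r)
  smul a p := ⟨x4 (a • cinv h.k4 p), h.k4.mem _⟩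
  tr _ := 1
  h_mul p r s := by
    rw [cinv_mul]
    have := h.b_add (cinv h.k4 s) (cinv h.k4 p) (cinv h.k4 r)
    rw [add_comm (cinv h.k4 p + cinv h.k4 r), add_comm (cinv h.k4 p) (cinv h.k4 s),
      add_comm (cinv h.k4 r) (cinv h.k4 s)]
    linear_combination this
  h_swap p r := by
    simp only [RingEquiv.refl_apply, one_mul]
    rw [add_comm (cinv h.k4 r)]
    ring
  c_mul p r := by
    rw [cinv_mul, add_comm (cinv h.k4 r)]
    ring
  c_herm p := by
    simp only [RingEquiv.refl_apply, one_mul]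
    have := h.q_smul 2 (cinv h.k4 p)
    rw [two_smul] at this
    rw [this]
    ring
  h_smul a p r := by
    rw [cinv_mk]
    have := h.b_smul a (cinv h.k4 r) (cinv h.k4 p)
    rw [add_comm (a • cinv h.k4 p), add_comm (cinv h.k4 p)]
    linear_combination this
  c_smul a p := by
    rw [cinv_mk, h.q_smul]
    simp only [RingEquiv.refl_apply]
    ring
  h_tr m p := by
    rw [cinv_one, zero_add, RedCo.q_zero h]
    ring
  c_tr m := by
    rw [cinv_one, RedCo.q_zero h]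
    simp
  eq_one p hp := by
    have := h.q_aniso _ (neg_eq_zero.1 hp)
    have e := cinv_spec h.k4 p
    rw [this, h.k4.zero] at e
    exact Subtype.ext e.symm

theorem pos_of (hX : RQ X) (h : RedCo X F V x1 x2 x3 x4 q) :
    Pos (sysOf h) (X 1) (X 2) (X 3) (X 4) x1 x3 (fun p => x2 (cinv h.k4 p)) (fun p => (p : G)) where
  x_add := h.k1.add
  y_add := h.k3.add
  z₁_mul p r := by rw [cinv_mul, h.k2.add]
  z₂_mul _ _ := rfl
  x_inj _ _ e := h.k1.inj e
  y_inj _ _ e := h.k3.inj e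
  z₁_inj p r e := by
    have := h.k2.inj e
    apply Subtype.ext
    rw [← cinv_spec h.k4 p, ← cinv_spec h.k4 r, this]
  z₂_inj _ _ e := Subtype.ext e
  x_mem g := ⟨fun hg => h.k1.surj g hg, fun ⟨a, ha⟩ => ha ▸ h.k1.mem a⟩
  z₁_mem g := ⟨fun hg => by
      obtain ⟨v, hv⟩ := h.k2.surj g hg
      exact ⟨⟨x4 v, h.k4.mem v⟩, by rw [cinv_mk, hv]⟩, fun ⟨a, ha⟩ => ha ▸ h.k2.mem _⟩
  y_mem g := ⟨fun hg => h.k3.surj g hg, fun ⟨a, ha⟩ => ha ▸ h.k3.mem a⟩
  z₂_mem g := ⟨fun hg => ⟨⟨g, hg⟩, rfl⟩, fun ⟨a, ha⟩ => ha ▸ a.2⟩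
  x_z₂ a p := by
    change ⁅x1 a, (p : G)⁆ = x2 (cinv h.k4 ⟨x4 (a • cinv h.k4 p), h.k4.mem _⟩) * x3 (-(1 * a * -q (cinv h.k4 p)))
    have e : ⁅x1 a, (p : G)⁆ = ⁅x1 a, x4 (cinv h.k4 p)⁆ := by rw [cinv_spec h.k4 p]
    rw [cinv_mk, e, h.c14]
    congr 2
    ring
  z₁_z₂ p r := by
    change ⁅x2 (cinv h.k4 p), (r : G)⁆ = x3 (-(q (cinv h.k4 r + cinv h.k4 p) - q (cinv h.k4 r) - q (cinv h.k4 p)))
    rw [h.k3.neg, ← h.c42, commutatorElement_inv, cinv_spec h.k4 r]
  x_y a b := by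
    change ⁅x1 a, x3 b⁆ = x2 (cinv h.k4 1)
    rw [cinv_one, h.k2.zero, commutatorElement_eq_one_iff_mul_comm]
    exact hX.red' (by decide) (h.k1.mem a) (h.k3.mem b)
  x_z₁ a p := hX.c1' (by decide) (h.k1.mem a) (h.k2.mem _)
  y_z₁ b p := hX.c1' (by decide) (h.k3.mem b) (h.k2.mem _)
  y_z₂ b p := hX.c1' (by decide) (h.k3.mem b) p.2

end sys

/-- **Reduced quadrangles**, `[X 1, X 3] = 1`. -/
theorem exists_pos [Finite G] {X : ZMod (2 * 4) → Subgroup G} (S : Sys 4 X) (h13 : ∀ a ∈ X 1, ∀ c ∈ X 3, a * c = c * a) :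
    ∃ (K : Type) (_ : Field K) (T : PQAbs.Sys K (X 4)) (x y : K → G) (z₁ z₂ : X 4 → G),
      Finite K ∧ Pos T (X 1) (X 2) (X 3) (X 4) x y z₁ z₂ := by
  have hX := rq_of_13 (qsys S) h13
  obtain ⟨F, iF, iF', V, _, _, x1, x2, x3, x4, q, h⟩ := hX.exists_coord
  exact ⟨F, iF, sysOf h, x1, x3, _, _, inferInstance, pos_of hX h⟩

/-- **Reduced quadrangles**, `[X 2, X 4] = 1` (reversed). -/
theorem exists_pos_rev [Finite G] {X : ZMod (2 * 4) → Subgroup G} (S : Sys 4 X)
    (h24 : ∀ b ∈ X 2, ∀ x ∈ X 4, b * x = x * b) :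
    ∃ (K : Type) (_ : Field K) (T : PQAbs.Sys K (X 1)) (x y : K → G) (z₁ z₂ : X 1 → G),
      Finite K ∧ Pos T (X 4) (X 3) (X 2) (X 1) x y z₁ z₂ := by
  have h' : QSys (fun j : ZMod 8 => X (5 - j)) := QSys.rev (qsys S) 5
  have hX : RQ (fun j : ZMod 8 => X (5 - j)) := rq_of_13 h' (fun a ha c hc => (h24 c (mem_of_eq (X := X) (by decide) hc) a
    (mem_of_eq (X := X) (by decide) ha)).symm)
  obtain ⟨F, iF, iF', V, _, _, x1, x2, x3, x4, q, h⟩ := hX.exists_coord
  exact ⟨F, iF, sysOf h, x1, x3, _, _, inferInstance, pos_of hX h⟩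

end Cfsg.Agent.SplitTwo.QuadRedPos
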