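import Cfsg.Agent.SplitTwo.QuadMain

/-!
# Moving the coordinate field of a Moufang quadrangle to `Type`
-/

set_option autoImplicit false

universe u

namespace Cfsg.Agent.SplitTwo.QuadType

open Cfsg.Agent.SplitTwo.QuadPos Cfsg.Agent.SplitTwo.QuadMain
open scoped commutatorElement

/-- Transport of a pseudo-quadratic system along a field isomorphism. -/
def mapRing {K K₀ T : Type*} [Field K] [Field K₀] [Group T] (φ : K ≃+* K₀)
    (S : Cfsg.Agent.TitsThree.PQAbs.Sys K T) : Cfsg.Agent.TitsThree.PQAbs.Sys K₀ T where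
  σ := (φ.symm.trans S.σ).trans φ
  σσ k := by simp [S.σσ]
  ε := φ S.ε
  ε_mul := by
    have := congrArg φ S.ε_mul
    simpa using this
  c p := φ (S.c p)
  h p q := φ (S.h p q)
  smul k p := S.smul (φ.symm k) p
  tr k := S.tr (φ.symm k)
  h_mul p q r := by rw [S.h_mul, map_add]
  h_swap p q := by
    rw [S.h_swap p q, map_mul]; simp
  c_mul p q := by rw [S.c_mul, map_sub, map_add]
  c_herm p := by
    have := congrArg φ (S.c_herm p)
    simpa using this
  h_smul a p q := by rw [S.h_smul, map_mul]; simp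
  c_smul a p := by rw [S.c_smul, map_mul, map_mul]; simp
  h_tr m p := by rw [S.h_tr, map_zero]
  c_tr m := by rw [S.c_tr, map_sub, map_mul]; simp
  eq_one p hp := S.eq_one p ((map_eq_zero φ).1 hp)

theorem mapRing_pos {G K K₀ T : Type*} [Group G] [Field K] [Field K₀] [Group T] (φ : K ≃+* K₀)
    {S : Cfsg.Agent.TitsThree.PQAbs.Sys K T} {U1 U2 U3 U4 : Subgroup G} {x y : K → G}
    {z₁ z₂ : T → G} (h : Pos S U1 U2 U3 U4 x y z₁ z₂) :
    Pos (mapRing φ S) U1 U2 U3 U4 (fun k => x (φ.symm k)) (fun k => y (φ.symm k)) z₁ z₂ where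
  x_add a b := by simp only [map_add, h.x_add]
  y_add a b := by simp only [map_add, h.y_add]
  z₁_mul := h.z₁_mul
  z₂_mul := h.z₂_mul
  x_inj := h.x_inj.comp φ.symm.injective
  y_inj := h.y_inj.comp φ.symm.injective
  z₁_inj := h.z₁_inj
  z₂_inj := h.z₂_inj
  x_mem g := by
    rw [h.x_mem]
    constructor
    · rintro ⟨a, ha⟩
      exact ⟨φ a, by simpa using ha⟩
    · rintro ⟨a, ha⟩
      exact ⟨_, ha⟩
  z₁_mem := h.z₁_mem
  y_mem g := by
    rw [h.y_mem]
    constructor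
    · rintro ⟨a, ha⟩
      exact ⟨φ a, by simpa using ha⟩
    · rintro ⟨a, ha⟩
      exact ⟨_, ha⟩
  z₂_mem := h.z₂_mem
  x_z₂ a p := by
    rw [h.x_z₂]
    simp [mapRing]
  z₁_z₂ p q := by
    rw [h.z₁_z₂]
    simp [mapRing]
  x_y a b := by
    rw [h.x_y]
    simp [mapRing]
  x_z₁ a p := h.x_z₁ _ p
  y_z₁ b p := h.y_z₁ _ p
  y_z₂ b p := h.y_z₂ _ p

/-- Coordinates with the field in `Type`. -/
def HasPos' {G : Type u} [Group G] (U1 U2 U3 U4 : Subgroup G) : Prop :=
  ∃ (K : Type) (_ : Field K) (S : Cfsg.Agent.TitsThree.PQAbs.Sys K U4) (x y : K → G)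
    (z₁ z₂ : U4 → G), Finite K ∧ Pos S U1 U2 U3 U4 x y z₁ z₂

theorem hasPos'_of {G : Type u} [Group G] {U1 U2 U3 U4 : Subgroup G} (h : HasPos U1 U2 U3 U4) :
    HasPos' U1 U2 U3 U4 := by
  obtain ⟨K, _, S, x, y, z₁, z₂, hK, hp⟩ := h
  have hs : Small.{0} K := inferInstance
  have hf : Finite (Shrink.{0} K) := Finite.of_equiv K (equivShrink K)
  exact ⟨Shrink.{0} K, inferInstance, mapRing (Shrink.ringEquiv K).symm S, _, _, _, _, hf,
    mapRing_pos _ hp⟩

/-- Finite Moufang quadrangles, field in `Type`. -/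
theorem of_rootSys' {G : Type u} [Group G] [Finite G] (R : RootSys 4 G) :
    HasPos' (R.X 1) (R.X 2) (R.X 3) (R.X 4) ∨ HasPos' (R.X 4) (R.X 3) (R.X 2) (R.X 1) :=
  (of_rootSys R).imp hasPos'_of hasPos'_of

end Cfsg.Agent.SplitTwo.QuadType
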