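import Cfsg.Agent.SplitTwo.RankOneEnd

/-!
# Rank one groups of odd degree: there are no line involutions, the end

`X` would be a Zassenhaus group of order `q³ (q³ + 1) (q - 1)`.
-/

set_option autoImplicit false

namespace Cfsg.Agent.SplitTwo.RankOneFrame

open MulAction Cfsg.Agent.HKS Cfsg

variable {G Ω : Type*} [Group G] [MulAction G Ω] {X : Subgroup G} {U : Ω → Subgroup G}

namespace Frame

variable [Finite G] [Finite Ω]

/-- `|D| = q - 1` if `D` is inverted by `w`. -/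
theorem card_D (h : Frame X U) {a b : Ω} (hab : b ≠ a)
    (hfree : ∀ d : X, d ∈ stabilizer X a ⊓ stabilizer X b → d ≠ 1 →
      (U a).subgroupOf X ⊓ Subgroup.centralizer {d} = ⊥) :
    Nat.card ↥(stabilizer X a ⊓ stabilizer X b) + 1 = Nat.card (tor h a) := by
  classical
  have := Fintype.ofFinite G
  obtain ⟨s, hs, hs1, hss, hsa⟩ := h.inv_ex a
  have h1 : Nat.card ↥(stabilizer X a ⊓ stabilizer X b) = Nat.card {x : tor h a // x ≠ 1} := by
    refine Nat.card_congr (Equiv.ofBijective (fun d => ⟨⟨d.1.1 * s * d.1.1⁻¹, ?_, ?_, ?_⟩, ?_⟩) ⟨?_, ?_⟩)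
    · exact h.normal _ _ hs
    · calc d.1.1 * s * d.1.1⁻¹ * (d.1.1 * s * d.1.1⁻¹) = d.1.1 * (s * s) * d.1.1⁻¹ := by group
        _ = 1 := by rw [hss]; group
    · have h3 : d.1.1 • a = a := d.2.1
      rw [mul_smul, mul_smul, inv_smul_eq_iff.2 h3.symm, hsa, h3]
    · intro e
      have h3 : d.1.1 * s * d.1.1⁻¹ = 1 := congrArg Subtype.val e
      apply hs1
      rw [mul_inv_eq_one] at h3
      exact mul_left_cancel (h3.trans (mul_one _).symm)
    · rintro ⟨d, hd⟩ ⟨e, he⟩ hde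
      have h3 : d.1 * s * d.1⁻¹ = e.1 * s * e.1⁻¹ := congrArg Subtype.val (congrArg Subtype.val hde)
      have h4 : e⁻¹ * d ∈ stabilizer X a ⊓ stabilizer X b := Subgroup.mul_mem _ (Subgroup.inv_mem _ he) hd
      by_contra hne
      have h5 : e⁻¹ * d ≠ 1 := fun h6 => hne (Subtype.ext (inv_mul_eq_one.1 h6).symm)
      have h6 := hfree _ h4 h5
      have h7 : (⟨s, hs⟩ : X) ∈ (U a).subgroupOf X ⊓ Subgroup.centralizer {e⁻¹ * d} := by
        refine ⟨Subgroup.mem_subgroupOf.2 (h.inv_mem hs hss hsa).1,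
          Subgroup.mem_centralizer_singleton_iff.2 ?_⟩
        apply Subtype.ext
        change s * (e.1⁻¹ * d.1) = e.1⁻¹ * d.1 * s
        calc s * (e.1⁻¹ * d.1) = e.1⁻¹ * (e.1 * s * e.1⁻¹) * d.1 := by group
          _ = e.1⁻¹ * (d.1 * s * d.1⁻¹) * d.1 := by rw [h3]
          _ = _ := by group
      rw [h6, Subgroup.mem_bot] at h7
      exact hs1 (congrArg Subtype.val h7)
    · rintro ⟨⟨t, ht, htt, hta⟩, ht1⟩
      obtain ⟨d, hd, hda, hdb, hdt⟩ := h.inv_conj hab.symm hs hss hs1 hsa ht htt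
        (fun e => ht1 (Subtype.ext e)) hta
      exact ⟨⟨⟨d, hd⟩, hda, hdb⟩, Subtype.ext (Subtype.ext hdt)⟩
  rw [h1, Nat.card_eq_fintype_card, Nat.card_eq_fintype_card, Fintype.card_subtype_compl,
    Fintype.card_subtype_eq]
  have : 0 < Fintype.card (tor h a) := Fintype.card_pos
  omega

/-- `X` is a Zassenhaus group. -/
theorem zassenhaus [IsSimpleGroup X] (h : Frame X U) {a b : Ω} (hab : b ≠ a)
    (hfree : ∀ d : X, d ∈ stabilizer X a ⊓ stabilizer X b → d ≠ 1 →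
      (U a).subgroupOf X ⊓ Subgroup.centralizer {d} = ⊥)
    (hD : ∃ d : X, d ∈ stabilizer X a ⊓ stabilizer X b ∧ d ≠ 1) : IsZassenhausGroup X Ω := by
  have hf : FaithfulSMul X Ω := by
    refine ⟨fun {x y} hxy => ?_⟩
    have h1 : x.1⁻¹ * y.1 = 1 := by
      refine h.faithful _ (fun c => ?_)
      rw [mul_smul, inv_smul_eq_iff]
      exact (hxy c).symm
    exact Subtype.ext (inv_mul_eq_one.1 h1)
  refine ⟨hf, h.two_pretransitive, ?_, ?_, ?_⟩
  · intro g p q r hpq hqr hpr hgp hgq hgr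
    obtain ⟨x, hx, hxp, hxq⟩ := h.two hpq hab.symm
    let g' : X := ⟨x, hx⟩ * g * ⟨x, hx⟩⁻¹
    have hpt : ∀ {c d : Ω}, x • c = d → g • c = c → g' • d = d := by
      intro c d hcd hc
      change (x * g.1 * x⁻¹) • d = d
      rw [mul_smul, mul_smul, inv_smul_eq_iff.2 hcd.symm]
      have : g.1 • c = c := hc
      rw [this, hcd]
    have hg'a := hpt hxp hgp
    have hg'b := hpt hxq hgq
    have hg'r := hpt (rfl : x • r = x • r) hgr
    have hra : x • r ≠ a := fun e => hpr (MulAction.injective x (hxp.trans e.symm))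
    have hrb : x • r ≠ b := fun e => hqr (MulAction.injective x (hxq.trans e.symm))
    obtain ⟨u, hu, huX, hub⟩ := h.reg hab hra
    by_contra hg
    have hg1 : g' ≠ 1 := by
      intro e
      apply hg
      have : g = ⟨x, hx⟩⁻¹ * g' * ⟨x, hx⟩ := by
        change g = ⟨x, hx⟩⁻¹ * (⟨x, hx⟩ * g * ⟨x, hx⟩⁻¹) * ⟨x, hx⟩
        group
      rw [this, e]
      group
    have h3 := hfree g' ⟨hg'a, hg'b⟩ hg1
    have h4 : (⟨u, huX⟩ : X) ∈ (U a).subgroupOf X ⊓ Subgroup.centralizer {g'} := by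
      refine ⟨Subgroup.mem_subgroupOf.2 hu, Subgroup.mem_centralizer_singleton_iff.2 ?_⟩
      apply Subtype.ext
      change u * g'.1 = g'.1 * u
      have h5 : u⁻¹ * (g'.1 * u * g'.1⁻¹) = 1 := by
        have ha1 : g'.1 • a = a := hg'a
        have hb1 : g'.1 • b = b := hg'b
        have hr1 : g'.1 • (x • r) = x • r := hg'r
        have h6 := h.conj g'.1 hu
        rw [ha1] at h6
        refine h.semireg ((U a).mul_mem ((U a).inv_mem hu) h6)
          (X.mul_mem (X.inv_mem huX) (h.normal _ _ huX)) hab ?_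
        rw [mul_smul, mul_smul, mul_smul, inv_smul_eq_iff.2 hb1.symm, hub, hr1, ← hub, inv_smul_smul]
      have h7 := inv_mul_eq_one.1 h5
      calc u * g'.1 = (g'.1 * u * g'.1⁻¹) * g'.1 := by rw [← h7]
        _ = _ := by group
    rw [h3, Subgroup.mem_bot] at h4
    have h8 : u = 1 := congrArg Subtype.val h4
    rw [h8, one_smul] at hub
    exact hrb hub.symm
  · obtain ⟨d, hd, hd1⟩ := hD
    exact ⟨d, hd1, a, b, hab.symm, hd.1, hd.2⟩
  · intro N hN htr
    rcases hN.eq_bot_or_eq_top with hN' | hN'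
    · exfalso
      obtain ⟨n, hn⟩ := htr.exists_smul_eq a b
      have h1 : n = 1 := by
        have h2 : n.1 ∈ (⊥ : Subgroup X) := hN' ▸ n.2
        exact Subtype.ext (Subgroup.mem_bot.1 h2)
      rw [h1, one_smul] at hn
      exact hab hn.symm
    · obtain ⟨d, hd, hd1⟩ := hD
      refine ⟨a, fun hbot => hd1 ?_⟩
      have h1 : (⟨d, by rw [hN']; trivial⟩ : N) ∈ stabilizer N a := hd.1
      rw [hbot, Subgroup.mem_bot] at h1
      exact congrArg Subtype.val h1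

/-- **There are no line involutions.** -/
theorem not_isLine [IsSimpleGroup X] (h : Frame X U) (hnc : ∃ x y : X, x * y ≠ y * x)
    (h2 : ∀ c, IsPGroup 2 (U c)) {j : G} (hj : IsLine X U j) : False := by
  classical
  have := Fintype.ofFinite Ω
  obtain ⟨-, -, c₀, -, -, hjc₀, -⟩ := id hj
  have hjc : j • c₀ = c₀ := h.fix hjc₀
  obtain ⟨t, ht, ht1, htt, htc⟩ := h.inv_ex c₀
  obtain ⟨a, hac, hja⟩ := h.line_other hj c₀
  have hjt : t * j = j * t := (h.inv_mem ht htt htc).2 j hjc₀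
  have hab : t • a ≠ a := fun e => hac (h.inv_le ht htt ht1 e htc)
  have hjb : j • (t • a) = t • a := by rw [← mul_smul, ← hjt, mul_smul, hja]
  set b := t • a with hb
  let w : X := ⟨t, ht⟩
  have hwa : w.1 • a = b := rfl
  have hwb : w.1 • b = a := by
    change t • t • a = a
    rw [← mul_smul, htt, one_smul]
  have hww : w * w = 1 := Subtype.ext htt
  have hS := h.setup hab hwa hwb hww
  have hTwo := h.two_of_simple hnc a
  have hf : FaithfulSMul X Ω := by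
    refine ⟨fun {x y} hxy => ?_⟩
    have h1 : x.1⁻¹ * y.1 = 1 := by
      refine h.faithful _ (fun c => ?_)
      rw [mul_smul, inv_smul_eq_iff]
      exact (hxy c).symm
    exact Subtype.ext (inv_mul_eq_one.1 h1)
  obtain ⟨C, hC, -, -⟩ := Cfsg.Agent.S1131.result hS hTwo
  have hDC := h.D_le h2 hj hab hja hjb hwa hwb hww hjt C hC
  have hwa' : w • a = b := hwa
  have hfree : ∀ d : X, d ∈ stabilizer X a ⊓ stabilizer X b → d ≠ 1 →
      (U a).subgroupOf X ⊓ Subgroup.centralizer {d} = ⊥ := by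
    intro d hd hd1
    refine Cfsg.Agent.S1128.result hS hTwo d ?_ hd1
    rw [← hC]
    exact hDC hd
  have hcD := h.card_D hab hfree
  obtain ⟨hQ3, -, g, hg1, hg⟩ := h.count h2 hj hja
  -- `D ≠ 1`
  have hDex : ∃ d : X, d ∈ stabilizer X a ⊓ stabilizer X b ∧ d ≠ 1 := by
    obtain ⟨s, ⟨hs, hss, hsa⟩, s', ⟨hs', hss', hsa'⟩, h1, h3, h4⟩ := h.two_involutions hnc a
    obtain ⟨d, hd, hda, hdb, hds⟩ := h.inv_conj hab.symm hs hss h1 hsa hs' hss' h3 hsa'
    refine ⟨⟨d, hd⟩, ⟨hda, hdb⟩, fun e => h4 ?_⟩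
    have : d = 1 := congrArg Subtype.val e
    rw [← hds, this]
    group
  have hZ := h.zassenhaus hab hfree hDex
  -- orders
  have hQc : Nat.card ((U a).subgroupOf X) = Nat.card (U a ⊓ X : Subgroup G) := by
    refine Nat.card_congr ⟨fun x => ⟨x.1.1, Subgroup.mem_subgroupOf.1 x.2, x.1.2⟩,
      fun x => ⟨⟨x.1, x.2.2⟩, Subgroup.mem_subgroupOf.2 x.2.1⟩, fun x => rfl, fun x => rfl⟩
  have hQ1 := h.card_Q a hab
  have hR := h.rankOne hab hwa hwb
  have hcX := hR.card_eq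
  have hcB := hR.card_B
  rw [hcB, hQc, hQ3, hg] at hcX
  rw [hg] at hcD
  have hDodd := h.odd_D hab
  have hDcard : Nat.card ↥(stabilizer X a ⊓ stabilizer X b) = 2 ^ g - 1 := by omega
  have hfixQ : ∀ u ∈ (U a).subgroupOf X, u ≠ 1 → ∀ c : Ω, u • c = c → c = a := by
    intro u hu hu1 c huc
    by_contra hca
    exact hu1 (Subtype.ext (h.semireg (Subgroup.mem_subgroupOf.1 hu) u.2 hca huc))
  have hQle : (U a).subgroupOf X ≤ stabilizer X a := fun u hu => h.fix (Subgroup.mem_subgroupOf.1 hu)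
  have hcardΩ : Fintype.card Ω = (2 ^ g) ^ 3 + 1 := by
    rw [← Nat.card_eq_fintype_card, ← hQ1, hQ3, hg]
  have hgpos : 2 ≤ 2 ^ g := by
    calc 2 = 2 ^ 1 := by norm_num
      _ ≤ 2 ^ g := Nat.pow_le_pow_right (by norm_num) hg1
  have hfeit := Cfsg.Agent.S0885.result hZ (a := a) (b := b) hab.symm ((2 ^ g) ^ 3) (2 ^ g - 1) hcardΩ hDcard
    (by rw [← hDcard]; exact hDodd) ((U a).subgroupOf X) hQle
    (by rw [hQc, hQ1, Nat.card_eq_fintype_card]) hfixQ
  have hna : ∃ u v : (U a).subgroupOf X, u * v ≠ v * u := by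
    rcases hfeit with h1 | ⟨-, h1, -⟩
    · exfalso
      have h3 : 4 * 2 ^ g ≤ (2 ^ g) ^ 3 := by
        have h4 : 4 ≤ (2 ^ g) * (2 ^ g) := Nat.mul_le_mul hgpos hgpos
        calc 4 * 2 ^ g ≤ (2 ^ g * 2 ^ g) * 2 ^ g := Nat.mul_le_mul_right _ h4
          _ = _ := by ring
      omega
    · exact h1
  have hP2 : IsPGroup 2 ((U a).subgroupOf X) := by
    rintro ⟨⟨x, hx⟩, hx'⟩
    obtain ⟨k, hk⟩ := h2 a ⟨x, Subgroup.mem_subgroupOf.1 hx'⟩
    refine ⟨k, Subtype.ext (Subtype.ext ?_)⟩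
    have := congrArg Subtype.val hk
    exact this
  have hSz := Cfsg.Agent.S0347.result hZ a ((U a).subgroupOf X) hQle
    (by
      refine ⟨fun u hu g => ?_⟩
      rw [Subgroup.mem_subgroupOf] at hu ⊢
      exact hR.Qn g.1 g.2 u.1 hu) hP2 hna
    (by
      intro y z hy hz
      obtain ⟨u, hu, huX, huy⟩ := h.reg hy hz
      refine ⟨⟨⟨u, huX⟩, Subgroup.mem_subgroupOf.2 hu⟩, huy, ?_⟩
      rintro ⟨⟨v, hvX⟩, hv⟩ hvy
      have hv' : v ∈ U a := Subgroup.mem_subgroupOf.1 hv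
      have hvy' : v • y = z := hvy
      refine Subtype.ext (Subtype.ext ?_)
      change v = u
      have h3 : u⁻¹ * v = 1 := by
        refine h.semireg ((U a).mul_mem ((U a).inv_mem hu) hv') (X.mul_mem (X.inv_mem huX) hvX) hy ?_
        rw [mul_smul, hvy', ← huy, inv_smul_smul]
      exact (inv_mul_eq_one.1 h3).symm)
  obtain ⟨-, m, -, hm⟩ := hSz
  refine order_arith (m := m) hg1 (fun _ => ?_)
  rw [hcX, hDcard] at hm
  calc (2 ^ g) ^ 3 * (((2 ^ g) ^ 3 + 1) * (2 ^ g - 1)) =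
      ((2 ^ g) ^ 3 + 1) * ((2 ^ g) ^ 3 * (2 ^ g - 1)) := by ring
    _ = (2 ^ (2 * m + 1)) ^ 2 * ((2 ^ (2 * m + 1)) ^ 2 + 1) * (2 ^ (2 * m + 1) - 1) := hm
    _ = _ := by ring

/-- **Main theorem.** -/
theorem eq_one [IsSimpleGroup X] (h : Frame X U) (hnc : ∃ x y : X, x * y ≠ y * x)
    (h2 : ∀ c, IsPGroup 2 (U c)) {a b : Ω} (hab : b ≠ a) {y : G} (hy : y ∈ U a) (hyb : y • b = b) :
    y = 1 := by
  classical
  by_contra hy1
  have : Fact (Nat.Prime 2) := ⟨Nat.prime_two⟩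
  obtain ⟨k, hk⟩ := h2 a ⟨y, hy⟩
  have hk' : y ^ 2 ^ k = 1 := congrArg Subtype.val hk
  obtain ⟨n, -, hn⟩ := (Nat.dvd_prime_pow Nat.prime_two).1 (orderOf_dvd_of_pow_eq_one hk')
  have hn0 : n ≠ 0 := by
    rintro rfl
    rw [pow_zero, orderOf_eq_one_iff] at hn
    exact hy1 hn
  obtain ⟨m, rfl⟩ := Nat.exists_eq_succ_of_ne_zero hn0
  set j := y ^ 2 ^ m with hj
  have hjj : j * j = 1 := by
    rw [hj, ← pow_add, ← two_mul, ← pow_succ', ← hn, pow_orderOf_eq_one]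
  have hj1 : j ≠ 1 := by
    refine pow_ne_one_of_lt_orderOf (pow_ne_zero _ (by norm_num)) ?_
    rw [hn]
    exact Nat.pow_lt_pow_right (by norm_num) (Nat.lt_succ_self m)
  have hjU : j ∈ U a := (U a).pow_mem hy _
  have hjb : j • b = b := by
    have : y ∈ stabilizer G b := hyb
    exact (stabilizer G b).pow_mem this _
  refine h.not_isLine hnc h2 (j := j) ⟨hjj, fun hjX => ?_, a, b, hab.symm, hjU, hjb⟩
  exact hab (h.inv_le hjX hjj hj1 hjb (h.fix hjU))

end Frame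

end Cfsg.Agent.SplitTwo.RankOneFrame
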