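import Mathlib

/-!
# A transfer argument for doubly transitive groups

`X` is a doubly transitive simple group, `U` a nilpotent group which fixes `a`, is transitive on the other
points, and is normalised by the stabiliser of `a`. Then `U ⊓ X` is transitive on the points different
from `a` (part of S1144 and S1145, proof of helper493).
-/

set_option autoImplicit false
set_option linter.unusedSectionVars false

namespace Cfsg.Agent.SplitTwo.RankTransfer

open MulAction

/-- The transfer into a quotient of a point stabiliser in whose kernel all elements with a second fixed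
point are. -/
theorem transfer_eq {X Ω A : Type*} [Group X] [Finite X] [MulAction X Ω] [CommGroup A] (a : Ω)
    (φ : stabilizer X a →* A) (h1 : ∀ (x : stabilizer X a) (c : Ω), c ≠ a → x • c = c → φ x = 1)
    (x : stabilizer X a) : MonoidHom.transfer φ (x : X) = φ x := by
  classical
  have : Fintype (Quotient (orbitRel (Subgroup.zpowers (x : X)) (X ⧸ stabilizer X a))) :=
    Fintype.ofFinite _
  rw [MonoidHom.transfer_eq_prod_quotient_orbitRel_zpowers_quot]
  let q0 : Quotient (orbitRel (Subgroup.zpowers (x : X)) (X ⧸ stabilizer X a)) :=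
    Quotient.mk _ (((1 : X) : X ⧸ stabilizer X a))
  rw [Finset.prod_eq_single q0]
  · -- the fixed point `a`
    have hfix : ∀ z : X, z ∈ stabilizer X a → z • ((1 : X) : X ⧸ stabilizer X a) = ((1 : X) : X ⧸ stabilizer X a) := by
      intro z hz
      change ((z * 1 : X) : X ⧸ stabilizer X a) = ((1 : X) : X ⧸ stabilizer X a)
      rw [QuotientGroup.eq]
      simpa using hz
    have hout : q0.out = ((1 : X) : X ⧸ stabilizer X a) := by
      have h2 : (orbitRel (Subgroup.zpowers (x : X)) (X ⧸ stabilizer X a)) q0.out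
          ((1 : X) : X ⧸ stabilizer X a) := Quotient.exact (Quotient.out_eq q0)
      obtain ⟨⟨z, hz⟩, hz'⟩ := h2
      rw [← hz']
      exact hfix z ((Subgroup.zpowers_le.2 x.2) hz)
    have hmin : Function.minimalPeriod ((x : X) • ·) q0.out = 1 := by
      rw [Function.minimalPeriod_eq_one_iff_isFixedPt, hout]
      exact hfix x x.2
    have hmem : q0.out.out ∈ stabilizer X a := by
      have h3 : ((q0.out.out : X) : X ⧸ stabilizer X a) = ((1 : X) : X ⧸ stabilizer X a) := by
        rw [QuotientGroup.out_eq', hout]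
      rw [eq_comm, QuotientGroup.eq] at h3
      simpa using h3
    have h4 : (⟨q0.out.out⁻¹ * (x : X) ^ Function.minimalPeriod ((x : X) • ·) q0.out * q0.out.out,
        QuotientGroup.out_conj_pow_minimalPeriod_mem (stabilizer X a) (x : X) q0.out⟩ : stabilizer X a) =
        (⟨q0.out.out, hmem⟩ : stabilizer X a)⁻¹ * x * ⟨q0.out.out, hmem⟩ := by
      apply Subtype.ext
      change q0.out.out⁻¹ * (x : X) ^ Function.minimalPeriod ((x : X) • ·) q0.out * q0.out.out =
        q0.out.out⁻¹ * (x : X) * q0.out.out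
      rw [hmin, pow_one]
    rw [h4, map_mul, map_mul, map_inv, mul_comm, mul_inv_cancel_left]
  · intro q _ hq
    apply h1 _ (q.out.out⁻¹ • a)
    · intro e
      rw [inv_smul_eq_iff] at e
      apply hq
      have h3 : ((q.out.out : X) : X ⧸ stabilizer X a) = ((1 : X) : X ⧸ stabilizer X a) := by
        rw [eq_comm, QuotientGroup.eq]
        simpa using e.symm
      rw [QuotientGroup.out_eq'] at h3
      rw [← Quotient.out_eq q, h3]
    · have h5 : q.out.out⁻¹ * (x : X) ^ Function.minimalPeriod ((x : X) • ·) q.out * q.out.out ∈ stabilizer X a :=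
        QuotientGroup.out_conj_pow_minimalPeriod_mem (stabilizer X a) (x : X) q.out
      change (q.out.out⁻¹ * (x : X) ^ Function.minimalPeriod ((x : X) • ·) q.out * q.out.out) • (q.out.out⁻¹ • a) =
        q.out.out⁻¹ • a
      have h6 : (x : X) ^ Function.minimalPeriod ((x : X) • ·) q.out • a = a :=
        (stabilizer X a).pow_mem x.2 _
      rw [mul_smul, smul_inv_smul, mul_smul, h6]
  · intro h
    exact absurd (Finset.mem_univ _) h

/-- A normal maximal subgroup of a nilpotent group has commutative quotient. -/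
theorem quot_comm {U : Type*} [Group U] [Finite U] (hU : Group.IsNilpotent U) {K : Subgroup U}
    (hK : IsCoatom K) (hn : K.Normal) : ∀ x y : U ⧸ K, x * y = y * x := by
  have := hU
  have hnt : Nontrivial (U ⧸ K) := QuotientGroup.nontrivial_iff.2 hK.1
  have hc : Subgroup.center (U ⧸ K) ≠ ⊥ := Group.IsNilpotent.center_ne_bot _
  have h1 : (Subgroup.center (U ⧸ K)).comap (QuotientGroup.mk' K) = ⊤ := by
    apply hK.2
    refine lt_of_le_of_ne ?_ ?_
    · intro k hk
      rw [Subgroup.mem_comap]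
      have : QuotientGroup.mk' K k = 1 := (QuotientGroup.eq_one_iff k).2 hk
      rw [this]
      exact one_mem _
    · intro e
      apply hc
      rw [eq_bot_iff]
      intro z hz
      obtain ⟨k, rfl⟩ := QuotientGroup.mk'_surjective K z
      have h2 : k ∈ (Subgroup.center (U ⧸ K)).comap (QuotientGroup.mk' K) := hz
      rw [← e] at h2
      exact (QuotientGroup.eq_one_iff k).2 h2
  intro x y
  obtain ⟨k, rfl⟩ := QuotientGroup.mk'_surjective K y
  have h2 : k ∈ (Subgroup.center (U ⧸ K)).comap (QuotientGroup.mk' K) := by rw [h1]; trivial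
  exact Subgroup.mem_center_iff.1 h2 x

theorem inf_transitive {G Ω : Type*} [Group G] [Finite G] [MulAction G Ω] [Finite Ω] (X U : Subgroup G)
    (hXn : ∀ g, ∀ x ∈ X, g * x * g⁻¹ ∈ X) [IsSimpleGroup X] (hnc : ∃ x y : X, x * y ≠ y * x) (a : Ω)
    (hX2 : ∀ b c, b ≠ a → c ≠ a → ∃ x ∈ X, x • a = a ∧ x • b = c)
    (hU : ∀ u ∈ U, u • a = a) (hUn : ∀ g, g • a = a → ∀ u ∈ U, g * u * g⁻¹ ∈ U)
    (hnil : Group.IsNilpotent U) (hUt : ∀ b c, b ≠ a → c ≠ a → ∃ u ∈ U, u • b = c) :
    ∀ b c, b ≠ a → c ≠ a → ∃ u ∈ U, u ∈ X ∧ u • b = c := by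
  classical
  by_contra hno
  push Not at hno
  obtain ⟨b, c₀, hb, hc₀, hbc₀⟩ := hno
  have hN : (X.subgroupOf U).Normal := by
    refine ⟨?_⟩
    rintro ⟨n, hn⟩ hn' ⟨g, hg⟩
    exact hXn g n hn'
  let M : Subgroup U := X.subgroupOf U ⊔ stabilizer U b
  have hM : M ≠ ⊤ := by
    intro htop
    obtain ⟨u, hu, hub⟩ := hUt b c₀ hb hc₀
    have h1 : (⟨u, hu⟩ : U) ∈ M := by rw [htop]; trivial
    obtain ⟨n, hn, v, hv, hnv⟩ := Subgroup.mem_sup_of_normal_left.1 h1
    have h2 : n.1 * v.1 = u := congrArg Subtype.val hnv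
    have h3 : v.1 • b = b := hv
    apply hbc₀ n.1 n.2 hn
    rw [← hub, ← h2, mul_smul, h3]
  obtain ⟨K, hK, hMK⟩ := (eq_top_or_exists_le_coatom M).resolve_left hM
  have hKn : K.Normal := by
    have := hnil
    exact Subgroup.NormalizerCondition.normal_of_coatom K Group.normalizerCondition_of_isNilpotent hK
  have hcomm := quot_comm hnil hK hKn
  let _ : CommGroup (U ⧸ K) := { QuotientGroup.Quotient.group K with mul_comm := hcomm }
  have hNK : ∀ n : U, n.1 ∈ X → (n : U ⧸ K) = 1 := fun n hn =>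
    (QuotientGroup.eq_one_iff n).2 (hMK (Subgroup.mem_sup_left hn))
  have hSK : ∀ n : U, n.1 • b = b → (n : U ⧸ K) = 1 := fun n hn =>
    (QuotientGroup.eq_one_iff n).2 (hMK (Subgroup.mem_sup_right (show n ∈ stabilizer U b from hn)))
  have heq : ∀ u v : U, u.1 • b = v.1 • b → (u : U ⧸ K) = (v : U ⧸ K) := by
    intro u v huv
    rw [QuotientGroup.eq]
    rw [← QuotientGroup.eq_one_iff (N := K)]
    apply hSK
    change (u.1⁻¹ * v.1) • b = b
    rw [mul_smul, ← huv, inv_smul_smul]
  -- conjugation by elements of `X`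
  have hconj : ∀ x : G, x ∈ X → x • a = a → ∀ u : U, ∃ u' : U, u'.1 = x * u.1 * x⁻¹ ∧
      (u' : U ⧸ K) = (u : U ⧸ K) := by
    intro x hx hxa u
    refine ⟨⟨x * u.1 * x⁻¹, hUn x hxa u.1 u.2⟩, rfl, ?_⟩
    rw [QuotientGroup.eq, ← QuotientGroup.eq_one_iff (N := K)]
    apply hNK
    change (x * u.1 * x⁻¹)⁻¹ * u.1 ∈ X
    have h1 : (x * u.1 * x⁻¹)⁻¹ * u.1 = x * (u.1⁻¹ * x⁻¹ * u.1) := by group
    rw [h1]
    refine X.mul_mem hx ?_
    have := hXn u.1⁻¹ x⁻¹ (X.inv_mem hx)
    rwa [inv_inv] at this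
  have hne : ∀ x : G, x • a = a → x • b ≠ a := by
    intro x hx e
    exact hb (MulAction.injective x (e.trans hx.symm))
  have hex : ∀ x : stabilizer X a, ∃ u : U, u.1 • b = x.1.1 • b := by
    intro x
    obtain ⟨u, hu, hub⟩ := hUt b (x.1.1 • b) hb (hne _ x.2)
    exact ⟨⟨u, hu⟩, hub⟩
  choose f hf using hex
  let φ : stabilizer X a →* U ⧸ K :=
    { toFun := fun x => ((f x : U) : U ⧸ K)
      map_one' := by
        apply hSK
        rw [hf]
        change (1 : G) • b = b
        rw [one_smul]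
      map_mul' := by
        intro x y
        obtain ⟨u', hu', hu''⟩ := hconj x.1.1 x.1.2 x.2 (f y)
        have h1 : ((f (x * y) : U) : U ⧸ K) = ((u' * f x : U) : U ⧸ K) := by
          apply heq
          rw [hf]
          change (x.1.1 * y.1.1) • b = (u'.1 * (f x).1) • b
          rw [mul_smul, ← hf y, mul_smul, hf x, hu', ← mul_smul, ← mul_smul]
          congr 1
          group
        rw [h1, QuotientGroup.mk_mul, hu'', hcomm] }
  have hφ : ∀ x : stabilizer X a, φ x = ((f x : U) : U ⧸ K) := fun _ => rfl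
  have hkill : ∀ (x : stabilizer X a) (c : Ω), c ≠ a → x • c = c → φ x = 1 := by
    intro x c hc hxc
    obtain ⟨v, hv, rfl⟩ := hUt b c hb hc
    obtain ⟨v', hv', hv''⟩ := hconj x.1.1 x.1.2 x.2 ⟨v, hv⟩
    have hxc' : x.1.1 • v • b = v • b := hxc
    have h1 : ((v' * f x : U) : U ⧸ K) = ((⟨v, hv⟩ : U) : U ⧸ K) := by
      apply heq
      change (v'.1 * (f x).1) • b = v • b
      rw [mul_smul, hf x, hv', ← mul_smul]
      change (x.1.1 * v * x.1.1⁻¹ * x.1.1) • b = v • b
      rw [inv_mul_cancel_right, mul_smul, hxc']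
    rw [QuotientGroup.mk_mul, hv''] at h1
    rw [hφ]
    exact mul_left_cancel (h1.trans (mul_one _).symm)
  -- the transfer is trivial
  have htriv : ∀ x : X, MonoidHom.transfer φ x = 1 := by
    intro x
    rcases (MonoidHom.normal_ker (MonoidHom.transfer φ)).eq_bot_or_eq_top with h1 | h1
    · exfalso
      obtain ⟨x, y, hxy⟩ := hnc
      apply hxy
      apply (MonoidHom.ker_eq_bot_iff _).1 h1
      rw [map_mul, map_mul, mul_comm]
    · rw [← MonoidHom.mem_ker, h1]
      trivial
  have hφ1 : ∀ x : stabilizer X a, φ x = 1 := by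
    intro x
    rw [← transfer_eq a φ hkill x]
    exact htriv x
  apply hK.1
  rw [eq_top_iff]
  intro u _
  obtain ⟨x, hx, hxa, hxb⟩ := hX2 b (u.1 • b) hb (hne _ (hU _ u.2))
  rw [← QuotientGroup.eq_one_iff, heq u (f ⟨⟨x, hx⟩, hxa⟩) (by rw [hf]; exact hxb.symm), ← hφ, hφ1]

end Cfsg.Agent.SplitTwo.RankTransfer
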