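import Cfsg.Agent.Tits.Labels
import Cfsg.Agent.Tits.Rigid
import Cfsg.Agent.Tits.Gate
import Cfsg.Prelude.Def_LieRecognition

/-!
A finite simple group with a split (B,N)-pair of rank at least one has an irreducible (B,N)-pair
(part [RED] of S1144, proof of helper493), modulo the rank one fact `RankOneR` on doubly transitive
groups whose point stabiliser has a nilpotent normal subgroup transitive on the other points.
-/

set_option autoImplicit false
set_option linter.unusedSectionVars false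

namespace Cfsg.Agent.SplitTwo.Reducible

universe u v

/-- The rank one fact: `R` is doubly transitive on `Ω`, `M` is a nilpotent normal subgroup of the
stabiliser of `a` which is transitive on the other points. Then the stabiliser `M_b` of another point
has order at most two, and if it is not trivial, then `R` has a regular normal abelian subgroup. -/
def RankOneR : Prop :=
  ∀ (Ω : Type u) [Finite Ω] (R M : Subgroup (Equiv.Perm Ω)) (a b : Ω), b ≠ a →
    (∀ x y x' y' : Ω, x ≠ y → x' ≠ y' → ∃ g ∈ R, g x = x' ∧ g y = y') →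
    M ≤ R → (∀ m ∈ M, m a = a) → (∀ r ∈ R, r a = a → ∀ m ∈ M, r * m * r⁻¹ ∈ M) →
    Group.IsNilpotent M → (∀ x y : Ω, x ≠ a → y ≠ a → ∃ m ∈ M, m x = y) →
    (∀ m ∈ M, ∀ m' ∈ M, m b = b → m' b = b → m ≠ 1 → m' ≠ 1 → m = m') ∧
    ((∃ m ∈ M, m b = b ∧ m ≠ 1) → ∃ A : Subgroup (Equiv.Perm Ω), A ≤ R ∧
      (∀ r ∈ R, ∀ x ∈ A, r * x * r⁻¹ ∈ A) ∧ (∀ x ∈ A, ∀ y ∈ A, x * y = y * x) ∧
      ∀ x y : Ω, ∃ g ∈ A, g x = y)

/-- If `A` is a transitive abelian normal subgroup of a permutation group and `E` is a subgroup of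
exponent two fixing `a` and transitive on the other points, then there are at most three points. -/
theorem perm_contra {Ω : Type*} {R A E : Subgroup (Equiv.Perm Ω)} {a b : Ω}
    (hAn : ∀ r ∈ R, ∀ x ∈ A, r * x * r⁻¹ ∈ A) (hAc : ∀ x ∈ A, ∀ y ∈ A, x * y = y * x)
    (hAt : ∀ x y : Ω, ∃ g ∈ A, g x = y) (hER : E ≤ R) (hEa : ∀ e ∈ E, e a = a)
    (hE2 : ∀ e ∈ E, e * e = 1) (hEt : ∀ x y, x ≠ a → y ≠ a → ∃ e ∈ E, e x = y)
    {m : Equiv.Perm Ω} (hba : b ≠ a) (hma : m a = a) (hmb : m b = b) : m = 1 := by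
  have hinvE : ∀ e ∈ E, e⁻¹ = e := fun e he => inv_eq_of_mul_eq_one_left (hE2 e he)
  have hEc : ∀ e ∈ E, ∀ e' ∈ E, e * e' = e' * e := by
    intro e he e' he'
    rw [← hinvE _ (mul_mem he he'), mul_inv_rev, hinvE e he, hinvE e' he']
  have hAreg : ∀ x ∈ A, x a = a → x = 1 := by
    intro x hx hxa
    ext y
    obtain ⟨g, hg, rfl⟩ := hAt a y
    rw [Equiv.Perm.one_apply, ← Equiv.Perm.mul_apply, hAc x hx g hg, Equiv.Perm.mul_apply, hxa]
  have hfree : ∀ e ∈ E, ∀ y, y ≠ a → e y = y → e = 1 := by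
    intro e he y hy hey
    ext z
    rw [Equiv.Perm.one_apply]
    by_cases hz : z = a
    · rw [hz, hEa e he]
    · obtain ⟨e', he', rfl⟩ := hEt y z hy hz
      rw [← Equiv.Perm.mul_apply, hEc e he e' he', Equiv.Perm.mul_apply, hey]
  have hinv : ∀ e ∈ E, e ≠ 1 → ∀ x ∈ A, e * x * e⁻¹ = x⁻¹ := by
    intro e he he1 x hx
    have hx' := hAn e (hER he) x hx
    have hw : x * (e * x * e⁻¹) ∈ A := mul_mem hx hx'
    have h1 : e * (x * (e * x * e⁻¹)) * e⁻¹ = x * (e * x * e⁻¹) := by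
      have h2 : e * (x * (e * x * e⁻¹)) * e⁻¹ = (e * x * e⁻¹) * ((e * e) * x * (e * e)⁻¹) := by
        group
      rw [h2, hE2 e he, one_mul, inv_one, mul_one, hAc _ hx' _ hx]
    have h3 : e ((x * (e * x * e⁻¹)) a) = (x * (e * x * e⁻¹)) a := by
      have h4 : e * (x * (e * x * e⁻¹)) = (x * (e * x * e⁻¹)) * e := by
        rw [mul_inv_eq_iff_eq_mul] at h1
        exact h1
      rw [← Equiv.Perm.mul_apply, h4, Equiv.Perm.mul_apply, hEa e he]
    have h5 : (x * (e * x * e⁻¹)) a = a := by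
      by_contra hne
      exact he1 (hfree e he _ hne h3)
    have h6 := hAreg _ hw h5
    exact eq_inv_of_mul_eq_one_right h6
  have htwo : ∀ e ∈ E, ∀ e' ∈ E, e ≠ 1 → e' ≠ 1 → e = e' := by
    intro e he e' he' h1 h2
    have h3 : e * e' = 1 := by
      ext y
      obtain ⟨x, hx, rfl⟩ := hAt a y
      have h4 : e * e' * x = x * (e * e') := by
        have h5 : (e * e') * x * (e * e')⁻¹ = e * (e' * x * e'⁻¹) * e⁻¹ := by group
        rw [hinv e' he' h2 x hx, hinv e he h1 _ (inv_mem hx), inv_inv,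
          mul_inv_eq_iff_eq_mul] at h5
        exact h5
      rw [← Equiv.Perm.mul_apply, h4, Equiv.Perm.mul_apply, Equiv.Perm.mul_apply, hEa e' he',
        hEa e he]
      rfl
    rw [← hinvE e' he']
    exact eq_inv_of_mul_eq_one_left h3
  ext z
  rw [Equiv.Perm.one_apply]
  by_cases hza : z = a
  · rw [hza, hma]
  by_cases hzb : z = b
  · rw [hzb, hmb]
  have hmza : m z ≠ a := fun h => hza (m.injective (h.trans hma.symm))
  have hmzb : m z ≠ b := fun h => hzb (m.injective (h.trans hmb.symm))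
  obtain ⟨e, he, h1⟩ := hEt b z hba hza
  obtain ⟨e', he', h2⟩ := hEt b (m z) hba hmza
  have h3 : e ≠ 1 := by
    rintro rfl
    exact hzb h1.symm
  have h4 : e' ≠ 1 := by
    rintro rfl
    exact hmzb h2.symm
  rw [← h2, ← htwo e he e' he' h3 h4, h1]

open Cfsg.Agent.Tits.Core Cfsg.Agent.Tits.OppRes Cfsg.Agent.Tits.Rigid

section Building

variable {I : Type*} {M : CoxeterMatrix I} {W : Type*} [Group W] {cs : CoxeterSystem M W}
variable {C : Type u} (Δ : Bldg cs C) [F : Cox cs]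
variable {G : Type v} [Group G] [MulAction G C]

/-- A group of isometries with a nilpotent normal subgroup `U` of the stabiliser of `c`, transitive
on the chambers at each distance from `c`. -/
structure Split (c : C) (U : Subgroup G) : Prop where
  iso : ∀ (g : G) x y, Δ.δ (g • x) (g • y) = Δ.δ x y
  trans : ∀ x y x' y', Δ.δ x y = Δ.δ x' y' → ∃ g : G, g • x = x' ∧ g • y = y'
  thick : Δ.Thick
  fix : ∀ u ∈ U, u • c = c
  normal : ∀ b : G, b • c = c → ∀ u ∈ U, b * u * b⁻¹ ∈ U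
  nilp : Group.IsNilpotent U
  sphere : ∀ x y, Δ.δ c x = Δ.δ c y → ∃ u ∈ U, u • x = y

variable {Δ} {c : C} {U : Subgroup G} (H : Split Δ c U)

include H

theorem Split.smul_Pan {s : I} {x : C} {g : G} (hg : g • c ∈ Δ.Pan s c) (hx : x ∈ Δ.Pan s c) :
    g • x ∈ Δ.Pan s c := by
  rw [Pan_eq_Res] at hg hx ⊢
  refine delta_mem_of_mem (y := g • c) hg ?_
  rw [H.iso]
  exact hx

/-- The stabiliser of the panel of type `s` of `c`. -/
def Split.panStab (s : I) : Subgroup G where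
  carrier := {g | g • c ∈ Δ.Pan s c}
  mul_mem' := by
    intro g h hg hh
    rw [Set.mem_ofPred_eq, mul_smul]
    exact H.smul_Pan hg hh
  one_mem' := by
    rw [Set.mem_ofPred_eq, one_smul]
    exact Or.inl rfl
  inv_mem' := by
    intro g hg
    rw [Set.mem_ofPred_eq, Pan_eq_Res] at hg ⊢
    change Δ.δ c (g⁻¹ • c) ∈ WJ cs {s}
    rw [← H.iso g, smul_inv_smul, Δ.symm c (g • c)]
    exact inv_mem hg

theorem Split.mem_panStab {s : I} {g : G} : g ∈ H.panStab s ↔ g • c ∈ Δ.Pan s c := Iff.rfl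

theorem Split.le_panStab (s : I) : U ≤ H.panStab s := fun u hu => by
  rw [H.mem_panStab, H.fix u hu]
  exact Or.inl rfl

/-- The action of the stabiliser of a panel on the panel. -/
def Split.perm (s : I) : H.panStab s →* Equiv.Perm (Δ.Pan s c) where
  toFun g :=
    { toFun := fun x => ⟨(g : G) • (x : C), H.smul_Pan g.2 x.2⟩
      invFun := fun x => ⟨(g : G)⁻¹ • (x : C), H.smul_Pan (inv_mem g.2) x.2⟩
      left_inv := fun x => Subtype.ext (inv_smul_smul _ _)
      right_inv := fun x => Subtype.ext (smul_inv_smul _ _) }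
  map_one' := by
    ext x
    exact one_smul G (x : C)
  map_mul' g h := by
    ext x
    exact mul_smul (g : G) (h : G) (x : C)

theorem Split.perm_apply {s : I} (g : H.panStab s) (x : Δ.Pan s c) :
    ((H.perm s g x : Δ.Pan s c) : C) = (g : G) • (x : C) := rfl

theorem Split.perm_eq_one {s : I} (g : H.panStab s) :
    H.perm s g = 1 ↔ ∀ x ∈ Δ.Pan s c, (g : G) • x = x := by
  constructor
  · intro h x hx
    have := congrArg (fun σ : Equiv.Perm (Δ.Pan s c) => ((σ ⟨x, hx⟩ : Δ.Pan s c) : C)) h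
    exact this
  · intro h
    ext x
    exact h x x.2

theorem Split.delta_Pan {s : I} {x y : C} (hx : x ∈ Δ.Pan s c) (hy : y ∈ Δ.Pan s c) (hxy : x ≠ y) :
    Δ.δ x y = cs.simple s := by
  rw [Pan_eq_Res] at hx hy
  rcases WJ_singleton (delta_mem_of_Res hx hy) with h | h
  · exact absurd ((Δ.eq_one x y).1 h) hxy
  · exact h

/-- The rank one fact for a panel of `c`. -/
theorem Split.rankOne (hR : RankOneR.{u}) [Finite C] {s : I} {b : C} (hb : b ∈ Δ.Pan s c)
    (hbc : b ≠ c) :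
    (∀ v ∈ U, v • b = b → ∀ x ∈ Δ.Pan s c, (v * v) • x = x) ∧
    ((∃ v ∈ U, v • b = b ∧ ∃ x ∈ Δ.Pan s c, v • x ≠ x) → ∀ E : Subgroup G, E ≤ U →
      (∀ e ∈ E, e * e = 1) → ¬ ∀ x ∈ Δ.Pan s c, ∀ y ∈ Δ.Pan s c, x ≠ c → y ≠ c →
        ∃ e ∈ E, e • x = y) := by
  have hc : c ∈ Δ.Pan s c := Or.inl rfl
  set f := H.perm s with hf
  set MM : Subgroup (Equiv.Perm (Δ.Pan s c)) := (U.subgroupOf (H.panStab s)).map f with hMM
  have hmemM : ∀ v (hv : v ∈ U), f ⟨v, H.le_panStab s hv⟩ ∈ MM := fun v hv => ⟨_, hv, rfl⟩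
  have hMex : ∀ m ∈ MM, ∃ v, ∃ hv : v ∈ U, m = f ⟨v, H.le_panStab s hv⟩ := by
    rintro _ ⟨v, hv, rfl⟩
    exact ⟨(v : G), hv, rfl⟩
  have key := hR (Δ.Pan s c) f.range MM ⟨c, hc⟩ ⟨b, hb⟩
    (fun h => hbc (congrArg Subtype.val h)) ?_ ?_ ?_ ?_ ?_ ?_
  · obtain ⟨k1, k2⟩ := key
    constructor
    · intro v hv hvb x hx
      have h1 : f ⟨v, H.le_panStab s hv⟩ * f ⟨v, H.le_panStab s hv⟩ = 1 := by
        by_cases h : f ⟨v, H.le_panStab s hv⟩ = 1
        · rw [h, one_mul]
        · have hfb : f ⟨v, H.le_panStab s hv⟩ ⟨b, hb⟩ = ⟨b, hb⟩ := Subtype.ext hvb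
          have hfb' : (f ⟨v, H.le_panStab s hv⟩)⁻¹ ⟨b, hb⟩ = ⟨b, hb⟩ := by
            rw [Equiv.Perm.inv_eq_iff_eq, hfb]
          have := k1 _ (hmemM v hv) _ (inv_mem (hmemM v hv)) hfb hfb' h (inv_ne_one.2 h)
          rw [eq_inv_iff_mul_eq_one] at this
          exact this
      rw [← map_mul, H.perm_eq_one] at h1
      exact h1 x hx
    · rintro ⟨v, hv, hvb, y, hy, hvy⟩ E hEU hE2 hEt
      have hne : f ⟨v, H.le_panStab s hv⟩ ≠ 1 := by
        intro h
        rw [H.perm_eq_one] at h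
        exact hvy (h y hy)
      obtain ⟨A, hAR, hAn, hAc, hAt⟩ := k2 ⟨_, hmemM v hv, Subtype.ext hvb, hne⟩
      apply hne
      refine perm_contra (R := f.range) (A := A) (E := (E.subgroupOf (H.panStab s)).map f)
        (a := ⟨c, hc⟩) (b := ⟨b, hb⟩) hAn hAc hAt ?_ ?_ ?_ ?_ (fun h => hbc (congrArg Subtype.val h))
        (Subtype.ext (H.fix v hv)) (Subtype.ext hvb)
      · rintro _ ⟨e, _, rfl⟩
        exact ⟨e, rfl⟩
      · rintro _ ⟨e, he, rfl⟩
        exact Subtype.ext (H.fix _ (hEU he))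
      · rintro _ ⟨e, he, rfl⟩
        rw [← map_mul]
        have : e * e = 1 := Subtype.ext (hE2 _ he)
        rw [this, map_one]
      · rintro ⟨x, hx⟩ ⟨y, hy⟩ hxc hyc
        obtain ⟨e, he, hexy⟩ := hEt x hx y hy (fun h => hxc (Subtype.ext h))
          (fun h => hyc (Subtype.ext h))
        exact ⟨f ⟨e, H.le_panStab s (hEU he)⟩, ⟨_, he, rfl⟩, Subtype.ext hexy⟩
  · rintro ⟨x, hx⟩ ⟨y, hy⟩ ⟨x', hx'⟩ ⟨y', hy'⟩ hxy hxy'
    have h1 := H.delta_Pan hx hy (fun h => hxy (Subtype.ext h))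
    have h2 := H.delta_Pan hx' hy' (fun h => hxy' (Subtype.ext h))
    obtain ⟨g, hg1, hg2⟩ := H.trans x y x' y' (h1.trans h2.symm)
    have hg : g ∈ H.panStab s := by
      rw [H.mem_panStab, Pan_eq_Res]
      rw [Pan_eq_Res] at hx hx'
      refine delta_mem_of_mem (y := x') hx' ?_
      rw [← hg1, H.iso, Δ.symm c x]
      exact inv_mem hx
    exact ⟨f ⟨g, hg⟩, ⟨_, rfl⟩, Subtype.ext hg1, Subtype.ext hg2⟩
  · rintro _ ⟨v, _, rfl⟩
    exact ⟨v, rfl⟩
  · rintro _ ⟨v, hv, rfl⟩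
    exact Subtype.ext (H.fix _ hv)
  · rintro _ ⟨r, rfl⟩ hr _ ⟨v, hv, rfl⟩
    refine ⟨r * v * r⁻¹, ?_, by rw [map_mul, map_mul, map_inv]⟩
    exact H.normal (r : G) (congrArg Subtype.val hr) _ hv
  · have h1 := H.nilp
    have h2 : Group.IsNilpotent (U.subgroupOf (H.panStab s)) :=
      Group.nilpotent_of_mulEquiv (Subgroup.subgroupOfEquivOfLe (H.le_panStab s)).symm
    exact Group.nilpotent_of_surjective (f.subgroupMap (U.subgroupOf (H.panStab s)))
      (f.subgroupMap_surjective _)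
  · rintro ⟨x, hx⟩ ⟨y, hy⟩ hxc hyc
    have h1 := H.delta_Pan hc hx (fun h => hxc (Subtype.ext h.symm))
    have h2 := H.delta_Pan hc hy (fun h => hyc (Subtype.ext h.symm))
    obtain ⟨v, hv, hvxy⟩ := H.sphere x y (h1.trans h2.symm)
    exact ⟨f ⟨v, H.le_panStab s hv⟩, hmemM v hv, Subtype.ext hvxy⟩

/-! ### The reducible case -/

variable {J : Set I} (hcomm : ∀ i ∈ J, ∀ k ∉ J, cs.simple i * cs.simple k = cs.simple k * cs.simple i)

omit H F in
include hcomm in
theorem comm_WJ {a b : W} (ha : a ∈ WJ cs J) (hb : b ∈ WJ cs Jᶜ) : a * b = b * a := by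
  unfold WJ at ha hb
  induction ha using Subgroup.closure_induction with
  | mem x hx =>
    obtain ⟨i, hi, rfl⟩ := hx
    induction hb using Subgroup.closure_induction with
    | mem y hy =>
      obtain ⟨k, hk, rfl⟩ := hy
      exact hcomm i hi k hk
    | one => rw [mul_one, one_mul]
    | mul y z _ _ h1 h2 => rw [← mul_assoc, h1, mul_assoc, h2, mul_assoc]
    | inv y _ h => exact (Commute.inv_right (show Commute _ _ from h)).eq
  | one => rw [mul_one, one_mul]
  | mul y z _ _ h1 h2 => rw [mul_assoc, h2, ← mul_assoc, h1, mul_assoc]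
  | inv y _ h => exact (Commute.inv_left (show Commute _ _ from h)).eq

omit H F in
include hcomm in
theorem exists_mul (w : W) : ∃ a ∈ WJ cs J, ∃ b ∈ WJ cs Jᶜ, w = a * b := by
  induction w using cs.simple_induction_right with
  | one => exact ⟨1, one_mem _, 1, one_mem _, (one_mul 1).symm⟩
  | mul_simple_right w i ih =>
    obtain ⟨a, ha, b, hb, rfl⟩ := ih
    by_cases hi : i ∈ J
    · have h1 := simple_mem_WJ (cs := cs) hi
      refine ⟨a * cs.simple i, mul_mem ha h1, b, hb, ?_⟩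
      rw [mul_assoc, mul_assoc, comm_WJ hcomm h1 hb]
    · exact ⟨a, ha, b * cs.simple i, mul_mem hb (simple_mem_WJ (J := Jᶜ) hi), by rw [mul_assoc]⟩

omit H in
include hcomm in
/-- Every residue of type `Jᶜ` meets the residue of type `J` of `c`. -/
theorem exists_meet (x : C) : ∃ y ∈ Δ.Res J c, x ∈ Δ.Res Jᶜ y := by
  have hp := isProj_proj (Δ := Δ) Jᶜ x c
  obtain ⟨a, ha, b, hb, h1⟩ := exists_mul hcomm (Δ.δ c (Δ.proj Jᶜ x c))
  have h2 : ∃ z, Δ.δ (Δ.proj Jᶜ x c) z = b⁻¹ := exists_delta Δ _ _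
  obtain ⟨z, hz⟩ := h2
  have hz1 : z ∈ Δ.Res Jᶜ (Δ.proj Jᶜ x c) := by
    change Δ.δ _ z ∈ WJ cs Jᶜ
    rw [hz]
    exact inv_mem hb
  have hz2 : z ∈ Δ.Res Jᶜ x := by
    rw [← Res_eq hp.1]
    exact hz1
  refine ⟨z, ?_, ?_⟩
  · change Δ.δ c z ∈ WJ cs J
    rw [(hp.2 z hz2).1, hz, h1, mul_inv_cancel_right]
    exact ha
  · rw [Res_eq hz2]
    exact mem_Res_self _ _

omit H in
variable (Δ G) in
/-- The elements fixing all residues of type `K`. -/
def resKer (K : Set I) : Subgroup G where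
  carrier := {g | ∀ x, g • x ∈ Δ.Res K x}
  mul_mem' := by
    intro g h hg hh x
    rw [mul_smul]
    exact delta_mem_of_mem (hh x) (hg _)
  one_mem' := by
    intro x
    rw [one_smul]
    exact mem_Res_self _ _
  inv_mem' := by
    intro g hg x
    have h1 := hg (g⁻¹ • x)
    rw [smul_inv_smul] at h1
    change Δ.δ x (g⁻¹ • x) ∈ WJ cs K
    rw [Δ.symm (g⁻¹ • x) x]
    exact inv_mem h1

theorem Split.resKer_normal (K : Set I) : (resKer Δ G K).Normal := by
  constructor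
  intro n hn g x
  have h1 := hn (g⁻¹ • x)
  change Δ.δ x ((g * n * g⁻¹) • x) ∈ WJ cs K
  have h2 : Δ.δ x ((g * n * g⁻¹) • x) = Δ.δ (g⁻¹ • x) (n • g⁻¹ • x) := by
    rw [← H.iso g (g⁻¹ • x), smul_inv_smul, mul_smul, mul_smul]
  rw [h2]
  exact h1

theorem Split.resKer_eq_bot [IsSimpleGroup G] {K : Set I} {j : I} (hj : j ∉ K) :
    resKer Δ G K = ⊥ := by
  rcases (H.resKer_normal K).eq_bot_or_eq_top with h | h
  · exact h
  · exfalso
    obtain ⟨y, hy⟩ := exists_delta Δ c (cs.simple j)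
    obtain ⟨g, hg, _⟩ := H.trans c c y y (by rw [delta_self, delta_self])
    have h1 : g ∈ resKer Δ G K := by rw [h]; trivial
    have h2 := h1 c
    rw [hg] at h2
    change Δ.δ c y ∈ WJ cs K at h2
    rw [hy] at h2
    have h3 : cs.length (cs.simple j * cs.simple j) < cs.length (cs.simple j) := by
      rw [cs.simple_mul_simple_self, cs.length_one, cs.length_simple]
      exact Nat.one_pos
    exact hj (F.descent_mem K _ h2 j h3)

include hcomm in
/-- An element fixing the `J`-panels of `c` and a chamber opposite in the `J`-residue is trivial. -/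
theorem Split.eq_one_of_fix [IsSimpleGroup G] (hJ : J.Nonempty) {d : C} (hd : Δ.δ c d = wJ cs J)
    {v : G} (hvd : v • d = d) (hv : ∀ s ∈ J, ∀ x ∈ Δ.Pan s c, v • x = x) : v = 1 := by
  obtain ⟨j, hj⟩ := hJ
  have h1 := rigid (Δ' := Δ) H.thick (J := J) (c := c) (d := d) (φ := fun x => v • x)
    (ψ := fun x => x) (fun a _ b _ => H.iso v a b) (fun a _ b _ => rfl)
    (fun s hs y hy => hv s hs y hy) hd hvd
  have h2 : v ∈ resKer Δ G Jᶜ := by
    intro x
    obtain ⟨y, hy, hxy⟩ := exists_meet (Δ := Δ) (c := c) hcomm x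
    have h3 : v • y = y := h1 y hy
    refine delta_mem_of_mem (y := y) ?_ ?_
    · rw [Δ.symm y x]
      exact inv_mem hxy
    · have h4 : Δ.δ y (v • x) = Δ.δ y x := by
        conv_lhs => rw [← h3]
        rw [H.iso]
      rw [h4]
      exact hxy
  rw [H.resKer_eq_bot (K := Jᶜ) (j := j) (fun h => h hj), Subgroup.mem_bot] at h2
  exact h2

/-- The stabiliser of `d` (opposite `c` in its `J`-residue) fixes a second chamber of each `J`-panel
of `c`. -/
theorem Split.exists_fix {d : C} (hd : Δ.δ c d = wJ cs J) {s : I} (hs : s ∈ J) :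
    ∃ b ∈ Δ.Pan s c, b ≠ c ∧ ∀ v ∈ U, v • d = d → v • b = b := by
  obtain ⟨b, hb1, hb2⟩ := Δ.exists_step d c s
  have hdc : Δ.δ d c = wJ cs J := by rw [Δ.symm c d, hd, F.wJ_inv]
  rw [hdc] at hb2
  refine ⟨b, Or.inr hb1, ?_, ?_⟩
  · rintro rfl
    rw [delta_self] at hb1
    have := congrArg cs.length hb1
    rw [cs.length_one, cs.length_simple] at this
    omega
  · intro v hv hvd
    symm
    refine eq_of_short (Δ := Δ) (x := d) (j := s) hb2 ?_ ?_ ?_
    · conv_lhs => rw [← hvd]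
      rw [H.iso, hb2]
    · rw [mul_assoc, cs.simple_mul_simple_self, mul_one]
      have h1 := F.len_wJ_mul (simple_mem_WJ (cs := cs) hs)
      rw [cs.length_simple] at h1
      omega
    · refine delta_mem_of_mem (y := c) ?_ ?_
      · rw [Δ.symm c b, hb1]
        exact inv_mem (simple_mem_WJ (Set.mem_singleton s))
      · have h2 : Δ.δ c (v • b) = cs.simple s := by
          conv_lhs => rw [← H.fix v hv]
          rw [H.iso, hb1]
        rw [h2]
        exact simple_mem_WJ (Set.mem_singleton s)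

include hcomm in
theorem Split.sq_eq_one (hR : RankOneR.{u}) [Finite C] [IsSimpleGroup G] (hJ : J.Nonempty) {d : C}
    (hd : Δ.δ c d = wJ cs J) {v : G} (hv : v ∈ U) (hvd : v • d = d) : v * v = 1 := by
  apply H.eq_one_of_fix hcomm hJ hd (by rw [mul_smul, hvd, hvd])
  intro s hs x hx
  obtain ⟨b, hb, hbc, hb'⟩ := H.exists_fix hd hs
  exact (H.rankOne hR hb hbc).1 v hv (hb' v hv hvd) x hx

/-- The stabiliser in `U` of a chamber `d` at distance `w` such that `w < w s_k` is not trivial. -/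
theorem Split.exists_ne_one {d : C} {k : I}
    (hk : cs.length (Δ.δ c d) < cs.length (Δ.δ c d * cs.simple k)) :
    ∃ v ∈ U, v • d = d ∧ v ≠ 1 := by
  obtain ⟨y, z, hyz, hy, hz⟩ := H.thick d k
  have h1 := Δ.step_lt c d y k hy hk
  have h2 := Δ.step_lt c d z k hz hk
  obtain ⟨v, hv, hvyz⟩ := H.sphere y z (h1.trans h2.symm)
  refine ⟨v, hv, ?_, ?_⟩
  · refine (eq_of_short (Δ := Δ) (x := c) (w := Δ.δ c d) (j := k) rfl ?_ hk ?_).symm
    · conv_lhs => rw [← H.fix v hv]
      rw [H.iso]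
    · refine delta_mem_of_mem (y := z) ?_ ?_
      · rw [hz]
        exact simple_mem_WJ (Set.mem_singleton k)
      · have h3 : Δ.δ z (v • d) = cs.simple k := by
          rw [← hvyz, H.iso, Δ.symm d y, hy, cs.inv_simple]
        rw [h3]
        exact simple_mem_WJ (Set.mem_singleton k)
  · rintro rfl
    rw [one_smul] at hvyz
    exact hyz hvyz

/-- Let `s` commute with `w`, and let `l (w s) > l w`. The stabiliser in `U` of a chamber `d` at distance `w`
is transitive on the other chambers of the panel of type `s` of `c`. -/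
theorem Split.trans_Pan {d : C} {s : I} {w : W} (hd : Δ.δ c d = w)
    (hlen : cs.length w < cs.length (w * cs.simple s))
    (hsw : cs.simple s * w = w * cs.simple s) {x y : C}
    (hx : Δ.δ c x = cs.simple s) (hy : Δ.δ c y = cs.simple s) :
    ∃ v ∈ U, v • d = d ∧ v • x = y := by
  have key : ∀ x, Δ.δ c x = cs.simple s → ∃ x', Δ.δ d x' = cs.simple s ∧ Δ.δ x x' = w ∧
      Δ.δ c x' = w * cs.simple s := by
    intro x hx
    have h1 : Δ.δ x d = cs.simple s * w := by
      have h2 : Δ.δ x c = cs.simple s := by rw [Δ.symm c x, hx, cs.inv_simple]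
      rw [← hd] at hlen hsw ⊢
      exact Δ.step_lt_left h2 (by rw [hsw]; exact hlen)
    obtain ⟨x', h2, h3⟩ := Δ.exists_step x d s
    refine ⟨x', h2, ?_, ?_⟩
    · rw [h3, h1, hsw, mul_assoc, cs.simple_mul_simple_self, mul_one]
    · rw [← hd]
      rw [← hd] at hlen
      exact Δ.step_lt c d x' s h2 hlen
  obtain ⟨x', hx1, hx2, hx3⟩ := key x hx
  obtain ⟨y', hy1, hy2, hy3⟩ := key y hy
  obtain ⟨v, hv, hvxy⟩ := H.sphere x' y' (hx3.trans hy3.symm)
  refine ⟨v, hv, ?_, ?_⟩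
  · refine (eq_of_short (Δ := Δ) (x := c) (w := w) (j := s) hd ?_ hlen ?_).symm
    · conv_lhs => rw [← H.fix v hv]
      rw [H.iso, hd]
    · refine delta_mem_of_mem (y := y') ?_ ?_
      · rw [hy1]
        exact simple_mem_WJ (Set.mem_singleton s)
      · have h3 : Δ.δ y' (v • d) = cs.simple s := by
          rw [← hvxy, H.iso, Δ.symm d x', hx1, cs.inv_simple]
        rw [h3]
        exact simple_mem_WJ (Set.mem_singleton s)
  · have hw : cs.length w⁻¹ < cs.length (w⁻¹ * cs.simple s) := by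
      have h4 := cs.length_inv (w * cs.simple s)
      rw [mul_inv_rev, cs.inv_simple] at h4
      have h5 : cs.simple s * w⁻¹ = w⁻¹ * cs.simple s := by
        exact (Commute.inv_right (show Commute (cs.simple s) w from hsw)).eq
      rw [← h5, h4, cs.length_inv]
      exact hlen
    refine eq_of_short (Δ := Δ) (x := y') (w := w⁻¹) (j := s) ?_ ?_ hw ?_
    · rw [← hvxy, H.iso, Δ.symm x x', hx2]
    · rw [Δ.symm y y', hy2]
    · refine delta_mem_of_mem (y := c) ?_ ?_
      · have h3 : Δ.δ (v • x) c = cs.simple s := by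
          conv_lhs => rw [← H.fix v hv]
          rw [H.iso, Δ.symm c x, hx, cs.inv_simple]
        rw [h3]
        exact simple_mem_WJ (Set.mem_singleton s)
      · rw [hy]
        exact simple_mem_WJ (Set.mem_singleton s)

omit H in
theorem len_lt_wJ {K : Set I} {k : I} (hk : k ∉ K) :
    cs.length (wJ cs K) < cs.length (wJ cs K * cs.simple k) := by
  by_contra hcon
  have h1 : cs.length (wJ cs K * cs.simple k) < cs.length (wJ cs K) :=
    lt_of_le_of_ne (not_lt.1 hcon) (cs.length_mul_simple_ne _ k)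
  exact hk (F.descent_mem K _ (F.wJ_mem K) k h1)

include hcomm in
theorem Split.false (hR : RankOneR.{u}) [Finite C] [IsSimpleGroup G] (hJ : J.Nonempty)
    (hK : Jᶜ.Nonempty) : False := by
  obtain ⟨k, hk⟩ := hK
  obtain ⟨dJ, hdJ⟩ := exists_delta Δ c (wJ cs J)
  obtain ⟨dK, hdK⟩ := exists_delta Δ c (wJ cs Jᶜ)
  have hcomm' : ∀ i ∈ Jᶜ, ∀ k ∉ Jᶜ, cs.simple i * cs.simple k = cs.simple k * cs.simple i := by
    intro i hi k hk
    rw [Set.mem_compl_iff, not_not] at hk
    exact (hcomm k hk i hi).symm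
  obtain ⟨v, hv, hvd, hv1⟩ := H.exists_ne_one (d := dJ) (k := k) (by
    rw [hdJ]
    exact len_lt_wJ hk)
  have h1 : ∃ s ∈ J, ∃ x ∈ Δ.Pan s c, v • x ≠ x := by
    by_contra hcon
    push Not at hcon
    exact hv1 (H.eq_one_of_fix hcomm hJ hdJ hvd hcon)
  obtain ⟨s, hs, x, hx, hvx⟩ := h1
  obtain ⟨b, hb, hbc, hb'⟩ := H.exists_fix hdJ hs
  refine (H.rankOne hR hb hbc).2 ⟨v, hv, hb' v hv hvd, x, hx, hvx⟩
    (U ⊓ MulAction.stabilizer G dK) inf_le_left ?_ ?_
  · rintro e ⟨he1, he2⟩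
    exact H.sq_eq_one hcomm' hR ⟨k, hk⟩ hdK he1 he2
  · intro x hx y hy hxc hyc
    have hc : c ∈ Δ.Pan s c := Or.inl rfl
    have h2 := H.delta_Pan hc hx (Ne.symm hxc)
    have h3 := H.delta_Pan hc hy (Ne.symm hyc)
    obtain ⟨e, he1, he2, he3⟩ := H.trans_Pan (d := dK) hdK (len_lt_wJ (fun h => h hs))
      (comm_WJ hcomm (simple_mem_WJ hs) (F.wJ_mem _)) h2 h3
    exact ⟨e, ⟨he1, he2⟩, he3⟩

end Building

/-! ### (B,N)-pairs -/

section BN

open Cfsg Cfsg.Agent.LieExceptional.BNPairCore Cfsg.Agent.Tits.OfBN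

/-- A finite simple group with a split (B,N)-pair has an irreducible (B,N)-pair, modulo the rank one
fact `RankOneR`. -/
theorem irreducible_of_split {G : Type u} [Group G] [Finite G] [IsSimpleGroup G]
    (hR : RankOneR.{u}) (P : Cfsg.BNPair G) (hP : P.IsSplit) : P.Irreducible := by
  intro J hJS hJne hKne
  by_contra hcon
  push Not at hcon
  obtain ⟨U, hUB, hUn, hUnil, hUT⟩ := hP
  obtain ⟨M, hN, cs, hcs⟩ := Tits.Labels.exists_bnType P
  have hth := thick P (Equiv.refl P.S) cs hcs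
  have hmem : ∀ g : G, g • (QuotientGroup.mk (1 : G) : G ⧸ P.B) = QuotientGroup.mk 1 ↔ g ∈ P.B := by
    intro g
    change (QuotientGroup.mk (g * 1) : G ⧸ P.B) = QuotientGroup.mk 1 ↔ g ∈ P.B
    rw [mul_one, eq_comm, QuotientGroup.eq, inv_one, one_mul]
  have H : Split (bldg P (Equiv.refl P.S) cs hcs) (QuotientGroup.mk (1 : G) : G ⧸ P.B) U := by
    refine ⟨fun g x y => dist_smul P g x y, fun x y x' y' h => trans P x y x' y' h, hth, ?_, ?_,
      hUnil, ?_⟩
    · intro u hu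
      exact (hmem u).2 (hUB hu)
    · intro b hb
      exact hUn b ((hmem b).1 hb)
    · intro x y hxy
      induction x using QuotientGroup.induction_on with
      | _ a =>
      induction y using QuotientGroup.induction_on with
      | _ b =>
      rw [bldg_δ_mk, bldg_δ_mk, inv_one, one_mul, one_mul] at hxy
      obtain ⟨n, hn⟩ := exists_mem_C P a
      rw [wt_of_mem P hn] at hxy
      have hn' := mem_C_of_wt P hxy.symm
      have key : ∀ g ∈ C P (n : G), ∃ u ∈ U, (QuotientGroup.mk g : G ⧸ P.B) =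
          QuotientGroup.mk (u * n) := by
        intro g hg
        obtain ⟨b₁, hb₁, b₂, hb₂, rfl⟩ := mem_C.1 hg
        rw [← hUT] at hb₁
        have hnorm : (P.B ⊓ P.N) ≤ Subgroup.normalizer (U : Set G) := by
          intro t ht
          rw [Subgroup.mem_normalizer_iff]
          intro u
          refine ⟨fun hu => hUn t ht.1 u hu, fun hu => ?_⟩
          have := hUn t⁻¹ (inv_mem ht.1) _ hu
          have h2 : t⁻¹ * (t * u * t⁻¹) * t⁻¹⁻¹ = u := by group
          rwa [h2] at this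
        rw [← SetLike.mem_coe, Subgroup.coe_mul_of_right_le_normalizer_left _ _ hnorm] at hb₁
        obtain ⟨u, hu, t, ht, rfl⟩ := hb₁
        refine ⟨u, hu, ?_⟩
        rw [eq_comm, QuotientGroup.eq]
        have h3 : (u * (n : G))⁻¹ * (u * t * (n : G) * b₂) = ((n : G)⁻¹ * t * (n : G)⁻¹⁻¹) * b₂ := by
          group
        rw [h3]
        exact mul_mem (P.conj_mem _ (inv_mem n.2) t ht) hb₂
      obtain ⟨u, hu, hu'⟩ := key a hn
      obtain ⟨w, hw, hw'⟩ := key b hn'
      refine ⟨w * u⁻¹, mul_mem hw (inv_mem hu), ?_⟩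
      rw [hu', hw']
      change (QuotientGroup.mk (w * u⁻¹ * (u * n)) : G ⧸ P.B) = QuotientGroup.mk (w * n)
      congr 1
      group
  refine H.false (J := {s | (s : G) ∈ J}) ?_ hR ?_ ?_
  · intro s hs t ht
    have h1 := hcon s hs t ⟨t.2, ht⟩
    rw [hcs, hcs, ← QuotientGroup.mk_mul, ← QuotientGroup.mk_mul, mk_eq_iff]
    change ((s : G) * t)⁻¹ * (t * s) ∈ P.B
    have h2 := inv_mem (conj_mem' (P := P) (n := ((s : G) * t)⁻¹)
      (inv_mem (mul_mem (P.subset s.2) (P.subset t.2))) h1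
      (by
        exact mul_mem (mul_mem (mul_mem (P.subset s.2) (P.subset t.2)) (inv_mem (P.subset s.2)))
          (inv_mem (P.subset t.2))))
    have h3 : (((s : G) * t)⁻¹ * ((s : G) * t * (s : G)⁻¹ * (t : G)⁻¹) * ((s : G) * t)⁻¹⁻¹)⁻¹ =
        ((s : G) * t)⁻¹ * (t * s) := by group
    rwa [h3] at h2
  · obtain ⟨s, hs⟩ := hJne
    exact ⟨⟨s, hJS hs⟩, hs⟩
  · obtain ⟨s, hs⟩ := hKne
    exact ⟨⟨s, hs.1⟩, hs.2⟩

end BN

end Cfsg.Agent.SplitTwo.Reducible
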