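import Cfsg.Agent.SplitTwo.RankOneOddB
import Cfsg.Agent.SplitTwo.RankOneFinal
import Cfsg.Agent.SplitTwo.RankTransfer
import Cfsg.Agent.SplitTwo.Reducible
import Cfsg.Agent.KantorSeitz.Assembly
import Cfsg.Agent.PermutationGroups.TwoTransitiveNormal
import Cfsg.Agent.Lib.SubnormalJoin

/-!
# The rank one fact `RankOneR` and the odd degree case of the Kantor–Seitz theorem

* `odd_concl` : `OddConcl` from the criterion S1174 for all simple groups;
* `rankOneR` : `RankOneR` from the even degree case and the criterion.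
-/

set_option autoImplicit false
set_option linter.unusedSectionVars false

namespace Cfsg.Agent.SplitTwo.RankOneAll

open MulAction Cfsg Cfsg.Agent.KantorSeitz Cfsg.Agent.SplitTwo.RankOneOdd
  Cfsg.Agent.SplitTwo.RankOneFrame Cfsg.Agent.SplitTwo.RankOneOddB

universe v

/-- S1174 for all simple groups -/
def CritAll : Prop := ∀ (X : Type v) [Group X] [Finite X] [IsSimpleGroup X], Crit X

section

variable {G Ω : Type*} [Group G] [Finite G] [MulAction G Ω] [Finite Ω] [FaithfulSMul G Ω]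
  {U : Ω → Subgroup G} {X : Subgroup G}

/-- The Kantor–Seitz theorem in odd degree if there is a nonabelian simple normal subgroup. -/
theorem odd_simple (h : KS U) (hodd : Odd (Nat.card Ω)) (hX : X.Normal) [IsSimpleGroup X]
    (hnc : ∃ x y : X, x * y ≠ y * x) (hcrit : Crit X) {a b : Ω} (hab : b ≠ a) {y : G}
    (hy : y ∈ U a) (hyb : y • b = b) : y = 1 := by
  have htr : ∀ a b c : Ω, b ≠ a → c ≠ a → ∃ u ∈ U a, u ∈ X ∧ u • b = c := fun a =>
    RankTransfer.inf_transitive X (U a) (fun g x hx => hX.conj_mem x hx g) hnc a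
      (fun b c hb hc => trans_stab h hodd hX hnc hcrit hb hc) (fun u hu => h.fix hu)
      (fun g hg u hu => by
        have := h.conj g hu
        rwa [hg] at this) (h.nil a) (fun b c hb hc => h.trans hb hc)
  have hex : ∀ c : Ω, ∃ d : Ω, d ≠ c := by
    intro c
    by_cases hc : a = c
    · exact ⟨b, fun e => hab (e.trans hc.symm)⟩
    · exact ⟨a, hc⟩
  have hF := frame h hodd hX hnc hcrit htr hex ⟨a⟩
  refine hF.eq_one hnc (fun c => ?_) hab hy hyb
  obtain ⟨d, hd⟩ := hex c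
  exact two_group h hodd hX hnc hcrit htr hd

end

/-- In odd degree `U a` is regular or there is a transitive abelian normal subgroup. -/
theorem odd_cases (hcrit : CritAll.{v}) {G Ω : Type v} [Group G] [Finite G] [MulAction G Ω] [Finite Ω]
    [FaithfulSMul G Ω] {U : Ω → Subgroup G} (h : KS U) (hodd : Odd (Nat.card Ω)) {a b : Ω}
    (hab : a ≠ b) : (∀ x ∈ U a, x • b = b → x = 1) ∨
      ∃ W : Subgroup G, W.Normal ∧ (∀ x ∈ W, ∀ y ∈ W, x * y = y * x) ∧
        ∀ c d : Ω, ∃ w ∈ W, w • c = d := by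
  have : Nontrivial Ω := ⟨a, b, hab⟩
  have : Nontrivial G := by
    obtain ⟨g, hg⟩ := h.tr a b
    refine ⟨g, 1, ?_⟩
    rintro rfl
    rw [one_smul] at hg
    exact hab hg
  obtain ⟨N, hN, hN1, hmin⟩ := Cfsg.Agent.Lib.SubnormalJoin.exists_minimal_normal G
  have habel : (∀ x ∈ N, ∀ y ∈ N, x * y = y * x) → ∃ W : Subgroup G, W.Normal ∧
      (∀ x ∈ W, ∀ y ∈ W, x * y = y * x) ∧ ∀ c d : Ω, ∃ w ∈ W, w • c = d :=
    fun hc => ⟨N, hN, hc, fun c d => trans_X h hN hN1 c d⟩
  rcases Cfsg.Agent.PermutationGroups.TwoTransitiveNormal.burnside_minimal_normal (G := G) (X := Ω)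
    (fun a b c d hab hcd => h.two hab hcd) N hN1 hmin with ⟨hc, -, -⟩ | ⟨hs, -⟩
  · right
    apply habel
    intro x hx y hy
    exact congrArg Subtype.val (hc.is_comm.comm (⟨x, hx⟩ : N) ⟨y, hy⟩)
  · by_cases hc : ∀ x ∈ N, ∀ y ∈ N, x * y = y * x
    · exact Or.inr (habel hc)
    · left
      push Not at hc
      obtain ⟨x, hx, y, hy, hxy⟩ := hc
      intro z hz hzb
      exact odd_simple h hodd hN ⟨⟨x, hx⟩, ⟨y, hy⟩, fun e => hxy (congrArg Subtype.val e)⟩
        (hcrit N) hab.symm hz hzb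

/-- **The odd degree case of the Kantor–Seitz theorem**, from S1174. -/
theorem odd_concl (hcrit : CritAll.{v}) : OddConcl.{v} := by
  intro G Ω _ _ _ _ _ U h hodd a b hab
  rcases odd_cases hcrit h hodd hab with h1 | ⟨W, hW, hWc, hWt⟩
  · exact Or.inl h1
  · exact h.affine_concl hW hWc hWt hab

/-- In any degree `U a` is regular or there is a transitive abelian normal subgroup. -/
theorem cases (hE : ∀ n, EvenHyp.{v} n) (hcrit : CritAll.{v}) {G Ω : Type v} [Group G] [Finite G]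
    [MulAction G Ω] [Finite Ω] [FaithfulSMul G Ω] {U : Ω → Subgroup G} (h : KS U) {a b : Ω}
    (hab : a ≠ b) : (∀ x ∈ U a, x • b = b → x = 1) ∨
      ∃ W : Subgroup G, W.Normal ∧ (∀ x ∈ W, ∀ y ∈ W, x * y = y * x) ∧
        ∀ c d : Ω, ∃ w ∈ W, w • c = d := by
  rcases Nat.even_or_odd (Nat.card Ω) with hev | hodd
  · left
    intro x hx hxb
    exact KS.eq_one_of_fix (Ω := Ω) (hE _ G Ω U h hev (Nat.lt_succ_self _) a b hab x hx hxb)
  · exact odd_cases hcrit h hodd hab

/-- **The rank one fact** used in S1144. -/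
theorem rankOneR (hE : ∀ n, EvenHyp.{v} n) (hcrit : CritAll.{v}) : Reducible.RankOneR.{v} := by
  intro Ω _ R M a b hba h2 hMR hMa hMn hMnil hMt
  have hinv : ∀ g : R, g • a = a → ∀ x ∈ M.subgroupOf R, g * x * g⁻¹ ∈ M.subgroupOf R := by
    intro g hg x hx
    exact hMn g.1 g.2 hg x.1 hx
  have hKS : KS (ofBase (M.subgroupOf R) a) := by
    refine KS_of_base (fun x hx => hMa x.1 hx) hinv ?_ ?_ ?_
    · intro c d hc hd
      obtain ⟨m, hm, hmc⟩ := hMt c d hc hd
      exact ⟨⟨m, hMR hm⟩, hm, hmc⟩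
    · have := hMnil
      exact (Group.isNilpotent_congr (Subgroup.subgroupOfEquivOfLe hMR)).2 hMnil
    · intro c
      by_cases hc : c = a
      · exact ⟨1, by rw [one_smul, hc]⟩
      · obtain ⟨g, hg, hga, -⟩ := h2 a c c a (Ne.symm hc) hc
        exact ⟨⟨g, hg⟩, hga⟩
  have hUa : ofBase (M.subgroupOf R) a a = M.subgroupOf R := ofBase_self hinv
  rcases cases hE hcrit hKS hba.symm with h1 | ⟨W, hW, hWc, hWt⟩
  · rw [hUa] at h1
    have h3 : ∀ m ∈ M, m b = b → m = 1 := by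
      intro m hm hmb
      exact congrArg Subtype.val (h1 ⟨m, hMR hm⟩ hm hmb)
    refine ⟨fun m hm m' hm' hmb hmb' hm1 _ => absurd (h3 m hm hmb) hm1, ?_⟩
    rintro ⟨m, hm, hmb, hm1⟩
    exact absurd (h3 m hm hmb) hm1
  · have hC : Concl (ofBase (M.subgroupOf R) a) a b := hKS.affine_concl hW hWc hWt hba.symm
    unfold Concl at hC
    rw [hUa] at hC
    constructor
    · intro m hm m' hm' hmb hmb' hm1 hm1'
      rcases hC with h1 | ⟨⟨x₀, hx₀⟩, -⟩
      · exact absurd (congrArg Subtype.val (h1 ⟨m, hMR hm⟩ hm hmb)) hm1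
      · have e1 := (hx₀ ⟨m, hMR hm⟩ hm hmb).resolve_left (fun e => hm1 (congrArg Subtype.val e))
        have e2 := (hx₀ ⟨m', hMR hm'⟩ hm' hmb').resolve_left (fun e => hm1' (congrArg Subtype.val e))
        exact congrArg Subtype.val (e1.trans e2.symm)
    · intro _
      refine ⟨W.map R.subtype, ?_, ?_, ?_, ?_⟩
      · rintro _ ⟨x, -, rfl⟩
        exact x.2
      · rintro r hr _ ⟨x, hx, rfl⟩
        exact ⟨⟨r, hr⟩ * x * ⟨r, hr⟩⁻¹, hW.conj_mem x hx ⟨r, hr⟩, rfl⟩
      · rintro _ ⟨x, hx, rfl⟩ _ ⟨y, hy, rfl⟩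
        exact congrArg Subtype.val (hWc x hx y hy)
      · intro x y
        obtain ⟨w, hw, hwx⟩ := hWt x y
        exact ⟨w.1, ⟨w, hw, rfl⟩, hwx⟩

end Cfsg.Agent.SplitTwo.RankOneAll
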