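import Cfsg.Agent.SplitTwo.RankOneFrame

/-!
# Rank one groups of odd degree: counting perpendiculars

If there is a line involution then `|U c ⊓ X| = q ^ 3`, where `q` is the order of the group of involutions
of `X` fixing `c`, and the elements of `U c ⊓ X` commuting with a line involution `j` fixing `c` are
involutions.
-/

set_option autoImplicit false

namespace Cfsg.Agent.SplitTwo.RankOneFrame

open MulAction

theorem arith {k e g : ℕ} (hg : 1 ≤ g) (hge : g ≤ e)
    (h : 2 ^ k = 2 ^ e + (2 ^ e + 1) * (2 ^ g - 1) * 2 ^ e) : e = g ∧ k = 3 * g := by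
  obtain ⟨d, rfl⟩ := Nat.exists_eq_add_of_le hge
  have hP : 2 ≤ 2 ^ g := by
    calc 2 = 2 ^ 1 := by norm_num
      _ ≤ 2 ^ g := Nat.pow_le_pow_right (by norm_num) hg
  obtain ⟨P, hP'⟩ : ∃ P, 2 ^ g = P + 1 := ⟨2 ^ g - 1, by omega⟩
  have h1 : 2 ^ k = 2 ^ g * 2 ^ g * 2 ^ d * (2 ^ d * P + 1) := by
    rw [h, pow_add, hP', Nat.add_sub_cancel]
    ring
  rcases Nat.eq_zero_or_pos d with hd | hd
  · subst hd
    refine ⟨rfl, ?_⟩
    have h2 : 2 ^ k = 2 ^ (3 * g) := by
      rw [h1, pow_zero, one_mul, mul_one, ← hP']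
      ring
    exact Nat.pow_right_injective (le_refl 2) h2
  · exfalso
    have h2 : (2 ^ d * P + 1) ∣ 2 ^ k := ⟨2 ^ g * 2 ^ g * 2 ^ d, by rw [h1]; ring⟩
    obtain ⟨i, -, hi⟩ := (Nat.dvd_prime_pow Nat.prime_two).1 h2
    have h3 : 2 ∣ 2 ^ d * P := Dvd.dvd.mul_right (dvd_pow_self 2 (by omega)) P
    have h4 : 2 ≤ 2 ^ d * P := by
      refine Nat.le_of_dvd (Nat.mul_pos (pow_pos (by norm_num) d) (by omega)) h3
    rcases Nat.eq_zero_or_pos i with hi0 | hi0
    · rw [hi0, pow_zero] at hi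
      omega
    · have h5 : 2 ∣ 2 ^ i := dvd_pow_self 2 (by omega)
      rw [← hi] at h5
      omega

variable {G Ω : Type*} [Group G] [MulAction G Ω] {X : Subgroup G} {U : Ω → Subgroup G}

/-- the group of involutions of `X` fixing `c` -/
def tor (h : Frame X U) (c : Ω) : Subgroup G where
  carrier := {s | s ∈ X ∧ s * s = 1 ∧ s • c = c}
  one_mem' := ⟨X.one_mem, one_mul _, one_smul _ _⟩
  mul_mem' := by
    rintro s t ⟨hs, hss, hsc⟩ ⟨ht, htt, htc⟩
    refine ⟨X.mul_mem hs ht, ?_, by rw [mul_smul, htc, hsc]⟩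
    have h1 := (h.inv_mem hs hss hsc).2 t (h.inv_mem ht htt htc).1
    calc s * t * (s * t) = s * (t * s) * t := by group
      _ = s * (s * t) * t := by rw [h1]
      _ = (s * s) * (t * t) := by group
      _ = 1 := by rw [hss, htt, one_mul]
  inv_mem' := by
    rintro s ⟨hs, hss, hsc⟩
    have : s⁻¹ = s := inv_eq_of_mul_eq_one_left hss
    rw [this]
    exact ⟨hs, hss, hsc⟩

theorem mem_tor {h : Frame X U} {c : Ω} {s : G} : s ∈ tor h c ↔ s ∈ X ∧ s * s = 1 ∧ s • c = c := Iff.rfl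

/-- the elements of `U c ⊓ X` commuting with `j` -/
def cen (X : Subgroup G) (U : Ω → Subgroup G) (j : G) (c : Ω) : Subgroup G :=
  U c ⊓ X ⊓ Subgroup.centralizer {j}

theorem mem_cen {j : G} {c : Ω} {x : G} : x ∈ cen X U j c ↔ x ∈ U c ∧ x ∈ X ∧ x * j = j * x := by
  rw [cen, Subgroup.mem_inf, Subgroup.mem_inf, Subgroup.mem_centralizer_singleton_iff, and_assoc]

namespace Frame

theorem tor_le_cen (h : Frame X U) {j : G} (hj : IsLine X U j) {c : Ω} (hjc : j • c = c) :
    tor h c ≤ cen X U j c := by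
  rintro s ⟨hs, hss, hsc⟩
  obtain ⟨h1, h2⟩ := h.inv_mem hs hss hsc
  exact mem_cen.2 ⟨h1, hs, h2 j (h.line_mem hj hjc)⟩

theorem card_Q (h : Frame X U) [Finite Ω] (c : Ω) {b : Ω} (hbc : b ≠ c) :
    Nat.card (U c ⊓ X : Subgroup G) + 1 = Nat.card Ω := by
  classical
  have := Fintype.ofFinite Ω
  have h1 : Nat.card (U c ⊓ X : Subgroup G) = Nat.card {d : Ω // d ≠ c} := by
    refine Nat.card_congr (Equiv.ofBijective (fun x => ⟨(x : G) • b, fun e => hbc ?_⟩) ⟨?_, ?_⟩)
    · exact MulAction.injective (x : G) (e.trans (h.fix x.2.1).symm)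
    · rintro ⟨x, hx⟩ ⟨y, hy⟩ hxy
      have h2 : x • b = y • b := congrArg Subtype.val hxy
      have h3 : y⁻¹ * x = 1 := by
        refine h.semireg ((U c).mul_mem ((U c).inv_mem hy.1) hx.1)
          (X.mul_mem (X.inv_mem hy.2) hx.2) hbc ?_
        rw [mul_smul, h2, inv_smul_smul]
      exact Subtype.ext (inv_mul_eq_one.1 h3).symm
    · rintro ⟨d, hd⟩
      obtain ⟨x, hx, hxX, hxb⟩ := h.reg hbc hd
      exact ⟨⟨x, hx, hxX⟩, Subtype.ext hxb⟩
  rw [h1, Nat.card_eq_fintype_card, Nat.card_eq_fintype_card, Fintype.card_subtype_compl,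
    Fintype.card_subtype_eq]
  have : 0 < Fintype.card Ω := Fintype.card_pos_iff.2 ⟨c⟩
  omega

theorem card_cen (h : Frame X U) [Finite Ω] {j : G} (hj : IsLine X U j) {c : Ω} (hjc : j • c = c) :
    Nat.card (cen X U j c) = Nat.card {d : Ω // j • d = d ∧ d ≠ c} := by
  obtain ⟨b, hbc, hjb⟩ := h.line_other hj c
  refine Nat.card_congr (Equiv.ofBijective (fun x => ⟨(x : G) • b, ?_, fun e => hbc ?_⟩) ⟨?_, ?_⟩)
  · rw [← mul_smul, ← (mem_cen.1 x.2).2.2, mul_smul, hjb]
  · exact MulAction.injective (x : G) (e.trans (h.fix (mem_cen.1 x.2).1).symm)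
  · rintro ⟨x, hx⟩ ⟨y, hy⟩ hxy
    have h2 : x • b = y • b := congrArg Subtype.val hxy
    have h3 : y⁻¹ * x = 1 := by
      refine h.semireg ((U c).mul_mem ((U c).inv_mem (mem_cen.1 hy).1) (mem_cen.1 hx).1)
        (X.mul_mem (X.inv_mem (mem_cen.1 hy).2.1) (mem_cen.1 hx).2.1) hbc ?_
      rw [mul_smul, h2, inv_smul_smul]
    exact Subtype.ext (inv_mul_eq_one.1 h3).symm
  · rintro ⟨d, hd, hdc⟩
    obtain ⟨x, hx, hxX, hxb⟩ := h.reg hbc hdc
    refine ⟨⟨x, mem_cen.2 ⟨hx, hxX, ?_⟩⟩, Subtype.ext hxb⟩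
    have hjU := h.line_mem hj hjc
    have h1 : x⁻¹ * (j * x * j⁻¹) = 1 := by
      refine h.semireg ((U c).mul_mem ((U c).inv_mem hx)
        ((U c).mul_mem ((U c).mul_mem hjU hx) ((U c).inv_mem hjU)))
        (X.mul_mem (X.inv_mem hxX) (h.normal j x hxX)) hbc ?_
      have hjb' : j⁻¹ • b = b := by rw [inv_smul_eq_iff, hjb]
      rw [mul_smul, mul_smul, mul_smul, hjb', hxb, hd, inv_smul_eq_iff, hxb]
    have h2 := inv_mul_eq_one.1 h1
    calc x * j = (j * x * j⁻¹) * j := by rw [← h2]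
      _ = j * x := by group

theorem cen_mul (h : Frame X U) {j : G} {c : Ω} {s : G} (hs : s ∈ tor h c) :
    cen X U (j * s) c = cen X U j c := by
  obtain ⟨hsX, hss, hsc⟩ := hs
  ext x
  rw [mem_cen, mem_cen]
  refine and_congr_right (fun hx => and_congr_right (fun _ => ?_))
  have h1 := (h.inv_mem hsX hss hsc).2 x hx
  constructor
  · intro h2
    have h3 : x * j * s = j * x * s := by
      rw [mul_assoc x, h2, mul_assoc, h1, mul_assoc]
    exact mul_right_cancel h3
  · intro h2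
    rw [← mul_assoc, h2, mul_assoc, ← h1, mul_assoc]

theorem card_tor (h : Frame X U) (c d : Ω) (hcd : c ≠ d) :
    Nat.card (tor h c) = Nat.card (tor h d) := by
  obtain ⟨g, hg, hgc, -⟩ := h.two hcd hcd.symm
  refine Nat.card_congr ⟨fun s => ⟨g * s * g⁻¹, ?_⟩, fun s => ⟨g⁻¹ * s * g, ?_⟩, fun s => ?_, fun s => ?_⟩
  · obtain ⟨s, hs, hss, hsc⟩ := s
    refine ⟨h.normal g s hs, ?_, ?_⟩
    · calc g * s * g⁻¹ * (g * s * g⁻¹) = g * (s * s) * g⁻¹ := by group
        _ = 1 := by rw [hss]; group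
    · rw [← hgc, mul_smul, mul_smul, inv_smul_smul, hsc]
  · obtain ⟨s, hs, hss, hsc⟩ := s
    refine ⟨?_, ?_, ?_⟩
    · have := h.normal g⁻¹ s hs
      rwa [inv_inv] at this
    · calc g⁻¹ * s * g * (g⁻¹ * s * g) = g⁻¹ * (s * s) * g := by group
        _ = 1 := by rw [hss]; group
    · rw [mul_smul, mul_smul, hgc, hsc, inv_smul_eq_iff, hgc]
  · exact Subtype.ext (by change g⁻¹ * (g * s * g⁻¹) * g = s; group)
  · exact Subtype.ext (by change g * (g⁻¹ * s * g) * g⁻¹ = s; group)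

/-- the number of points outside the line -/
theorem card_outside [Finite G] [Finite Ω] (h : Frame X U) {j : G} (hj : IsLine X U j) {c₀ : Ω}
    (hc₀ : j • c₀ = c₀) :
    Nat.card {a : Ω // j • a ≠ a} =
      (Nat.card (cen X U j c₀) + 1) * ((Nat.card (tor h c₀) - 1) * Nat.card (cen X U j c₀)) := by
  classical
  have := Fintype.ofFinite Ω
  have := Fintype.ofFinite G
  let A : {c : Ω // j • c = c} → Type _ := fun c => {s : G // s ∈ X ∧ s * s = 1 ∧ s ≠ 1 ∧ s • c.1 = c.1}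
  let Bf : (c : {c : Ω // j • c = c}) → A c → Type _ := fun c s => {a : Ω // (j * s.1) • a = a ∧ a ≠ c.1}
  let e : (Σ c : {c : Ω // j • c = c}, Σ s : A c, Bf c s) → {a : Ω // j • a ≠ a} :=
    fun p => ⟨p.2.2.1, by
      obtain ⟨⟨c, hc⟩, ⟨s, hs, hss, hs1, hsc⟩, ⟨a, ha, hac⟩⟩ := p
      intro hja
      change j • a = a at hja
      change (j * s) • a = a at ha
      have h1 : s • a = a := by
        rw [mul_smul] at ha
        have : j • (s • a) = j • a := by rw [ha, hja]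
        exact MulAction.injective j this
      exact hac (h.inv_le hs hss hs1 h1 hsc)⟩
  have he : Function.Bijective e := by
    constructor
    · rintro ⟨⟨c, hc⟩, ⟨s, hs, hss, hs1, hsc⟩, ⟨a, ha, hac⟩⟩ ⟨⟨c', hc'⟩, ⟨s', hs', hss', hs1', hsc'⟩, ⟨a', ha', hac'⟩⟩ hee
      have h1 : a = a' := congrArg Subtype.val hee
      subst h1
      have hja : j • a ≠ a := (e ⟨⟨c, hc⟩, ⟨s, hs, hss, hs1, hsc⟩, ⟨a, ha, hac⟩⟩).2
      obtain ⟨h2, h3⟩ := h.perp_unique hj hja hs hc hss hs1 hsc ha hs' hc' hss' hs1' hsc' ha'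
      subst h2
      subst h3
      rfl
    · rintro ⟨a, ha⟩
      obtain ⟨c, s, hs, hjc, hss, hs1, hsc, hja⟩ := h.exists_perp hj ha
      exact ⟨⟨⟨c, hjc⟩, ⟨s, hs, hss, hs1, hsc⟩, ⟨a, hja, fun e => ha (by rw [e]; exact hjc)⟩⟩, rfl⟩
  rw [← Nat.card_congr (Equiv.ofBijective e he), Nat.card_sigma]
  -- cardinality of the fibres
  have hcen : ∀ c : Ω, j • c = c → Nat.card (cen X U j c) = Nat.card (cen X U j c₀) := by
    intro c hc
    rw [h.card_cen hj hc, h.card_cen hj hc₀]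
    have key : ∀ d : Ω, j • d = d →
        Nat.card {x : Ω // j • x = x ∧ x ≠ d} + 1 = Nat.card {x : Ω // j • x = x} := by
      intro d hd
      rw [Nat.card_eq_fintype_card, Nat.card_eq_fintype_card, Fintype.card_subtype, Fintype.card_subtype]
      rw [← Finset.filter_filter, Finset.filter_ne']
      rw [Finset.card_erase_of_mem (by simpa using hd)]
      have : 0 < (Finset.univ.filter (fun x : Ω => j • x = x)).card :=
        Finset.card_pos.2 ⟨d, by simpa using hd⟩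
      omega
    have h1 := key c hc
    have h2 := key c₀ hc₀
    omega
  have hF : Nat.card {c : Ω // j • c = c} = Nat.card (cen X U j c₀) + 1 := by
    rw [h.card_cen hj hc₀]
    rw [Nat.card_eq_fintype_card, Nat.card_eq_fintype_card, Fintype.card_subtype, Fintype.card_subtype]
    rw [← Finset.filter_filter, Finset.filter_ne']
    rw [Finset.card_erase_of_mem (by simpa using hc₀)]
    have : 0 < (Finset.univ.filter (fun x : Ω => j • x = x)).card :=
      Finset.card_pos.2 ⟨c₀, by simpa using hc₀⟩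
    omega
  have hA : ∀ c, Nat.card (A c) = Nat.card (tor h c₀) - 1 := by
    rintro ⟨c, hc⟩
    have h1 : Nat.card (A ⟨c, hc⟩) + 1 = Nat.card (tor h c) := by
      have h2 : Nat.card (A ⟨c, hc⟩) = Nat.card {s : tor h c // s ≠ 1} := by
        refine Nat.card_congr ⟨fun s => ⟨⟨s.1, s.2.1, s.2.2.1, s.2.2.2.2⟩, fun e => s.2.2.2.1
          (congrArg Subtype.val e)⟩, fun s => ⟨s.1.1, s.1.2.1, s.1.2.2.1, fun e => s.2 (Subtype.ext e),
          s.1.2.2.2⟩, fun s => rfl, fun s => rfl⟩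
      rw [h2, Nat.card_eq_fintype_card, Nat.card_eq_fintype_card, Fintype.card_subtype_compl,
        Fintype.card_subtype_eq]
      have : 0 < Fintype.card (tor h c) := Fintype.card_pos
      omega
    have h3 : Nat.card (tor h c) = Nat.card (tor h c₀) := by
      by_cases hcc : c = c₀
      · rw [hcc]
      · exact h.card_tor c c₀ hcc
    omega
  have hB : ∀ c (s : A c), Nat.card (Bf c s) = Nat.card (cen X U j c₀) := by
    rintro ⟨c, hc⟩ ⟨s, hs, hss, hs1, hsc⟩
    have hl := h.line_mul hj hc hs hss hs1 hsc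
    have hlc : (j * s) • c = c := by rw [mul_smul, hsc, hc]
    have h1 := h.card_cen hl hlc
    rw [h.cen_mul (s := s) ⟨hs, hss, hsc⟩, hcen c hc] at h1
    exact h1.symm
  have hinner : ∀ c, Nat.card (Σ s : A c, Bf c s) = (Nat.card (tor h c₀) - 1) * Nat.card (cen X U j c₀) := by
    intro c
    have : Finite (A c) := Subtype.finite
    have := Fintype.ofFinite (A c)
    rw [Nat.card_sigma, Finset.sum_congr rfl (fun s _ => hB c s), Finset.sum_const, Finset.card_univ,
      ← Nat.card_eq_fintype_card, hA, smul_eq_mul]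
  rw [Finset.sum_congr rfl (fun c _ => hinner c), Finset.sum_const, Finset.card_univ,
    ← Nat.card_eq_fintype_card, hF, smul_eq_mul]

/-- **Main theorem of this file.** -/
theorem count [Finite G] [Finite Ω] (h : Frame X U) (h2 : ∀ c, IsPGroup 2 (U c)) {j : G}
    (hj : IsLine X U j) {c : Ω} (hc : j • c = c) :
    Nat.card (U c ⊓ X : Subgroup G) = Nat.card (tor h c) ^ 3 ∧ cen X U j c = tor h c ∧
      ∃ g : ℕ, 1 ≤ g ∧ Nat.card (tor h c) = 2 ^ g := by
  classical
  have := Fintype.ofFinite Ω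
  have : Fact (Nat.Prime 2) := ⟨Nat.prime_two⟩
  have hp : ∀ H : Subgroup G, H ≤ U c → ∃ n : ℕ, Nat.card H = 2 ^ n := by
    intro H hH
    exact IsPGroup.iff_card.1 ((h2 c).to_le hH)
  obtain ⟨k, hk⟩ := hp (U c ⊓ X) inf_le_left
  obtain ⟨e, he⟩ := hp (cen X U j c) (inf_le_left.trans inf_le_left)
  obtain ⟨g, hg⟩ := hp (tor h c) (fun s hs => (h.inv_mem hs.1 hs.2.1 hs.2.2).1)
  have hle := h.tor_le_cen hj hc
  have hge : g ≤ e := by
    have h1 := Subgroup.card_dvd_of_le hle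
    rw [hg, he] at h1
    exact (Nat.pow_dvd_pow_iff_le_right (by norm_num)).1 h1
  have hg1 : 1 ≤ g := by
    rcases Nat.eq_zero_or_pos g with h0 | h0
    · exfalso
      rw [h0, pow_zero] at hg
      obtain ⟨t, ht, ht1, htt, htc⟩ := h.inv_ex c
      have h3 := Subgroup.card_eq_one.1 hg
      have h4 : t ∈ tor h c := ⟨ht, htt, htc⟩
      rw [h3] at h4
      exact ht1 (Subgroup.mem_bot.1 h4)
    · exact h0
  obtain ⟨b, hbc, -⟩ := h.line_other hj c
  have hQ := h.card_Q c hbc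
  have hout := h.card_outside hj hc
  have hfix : Nat.card {a : Ω // j • a = a} = Nat.card (cen X U j c) + 1 := by
    rw [h.card_cen hj hc]
    rw [Nat.card_eq_fintype_card, Nat.card_eq_fintype_card, Fintype.card_subtype, Fintype.card_subtype]
    rw [← Finset.filter_filter, Finset.filter_ne']
    rw [Finset.card_erase_of_mem (by simpa using hc)]
    have : 0 < (Finset.univ.filter (fun x : Ω => j • x = x)).card :=
      Finset.card_pos.2 ⟨c, by simpa using hc⟩
    omega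
  have htot : Nat.card {a : Ω // j • a = a} + Nat.card {a : Ω // j • a ≠ a} = Nat.card Ω := by
    rw [Nat.card_eq_fintype_card, Nat.card_eq_fintype_card, Nat.card_eq_fintype_card,
      Fintype.card_subtype_compl]
    have := Fintype.card_subtype_le (fun a : Ω => j • a = a)
    omega
  rw [hfix, hout, ← hQ, hk, he, hg] at htot
  have h5 : 2 ^ k = 2 ^ e + (2 ^ e + 1) * (2 ^ g - 1) * 2 ^ e := by
    rw [mul_assoc]
    omega
  obtain ⟨h6, h7⟩ := arith hg1 hge h5
  refine ⟨?_, ?_, g, hg1, hg⟩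
  · rw [hk, hg, h7, ← pow_mul, mul_comm]
  · symm
    refine Subgroup.eq_of_le_of_card_ge hle ?_
    rw [he, hg, h6]

end Frame

end Cfsg.Agent.SplitTwo.RankOneFrame
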