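import Cfsg.Agent.SplitTwo.RankOneSetup
import Cfsg.Agent.S0215
import Cfsg.Agent.S1180
import Cfsg.Agent.S1128
import Cfsg.Agent.S1131
import Cfsg.Agent.S0885
import Cfsg.Agent.S0347

/-!
# Rank one groups of odd degree: there are no line involutions

`Frame.not_isLine`: in a `Frame X U` with `X` simple and `U c` a `2`-group there is no line involution.
-/

set_option autoImplicit false

namespace Cfsg.Agent.SplitTwo.RankOneFrame

open MulAction Cfsg.Agent.HKS Cfsg

/-- A finite non-abelian simple group has no isolated involution (by the `Z*`-theorem). -/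
theorem not_isolated {X : Type*} [Group X] [Finite X] [IsSimpleGroup X] (t : X)
    (hiso : Cfsg.IsIsolatedInvolution t) (hnc : ∃ a b : X, a * b ≠ b * a) : False := by
  have : Fact (Nat.Prime 2) := ⟨Nat.prime_two⟩
  have hp : IsPGroup 2 (Subgroup.zpowers t) := by
    apply IsPGroup.of_card (n := 1)
    rw [Nat.card_zpowers, hiso.1, pow_one]
  obtain ⟨P, hP⟩ := hp.exists_le_sylow
  have htP : t ∈ P := hP (Subgroup.mem_zpowers t)
  obtain ⟨N, hN, hodd, hcomm⟩ := Cfsg.Agent.S0215.result P t hiso.1 htP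
    (fun g hg => Cfsg.Agent.S1180.eq_of_conj_mem_isPGroup t hiso (P : Subgroup X) P.2 htP g hg)
  rcases hN.eq_bot_or_eq_top with h | h
  · have hcen : ∀ g : X, t * g = g * t := by
      intro g
      have := hcomm g
      rw [h, Subgroup.mem_bot] at this
      have h1 : t * g * t⁻¹ = g := mul_inv_eq_one.mp this
      rwa [mul_inv_eq_iff_eq_mul] at h1
    have htc : t ∈ Subgroup.center X := by
      rw [Subgroup.mem_center_iff]; intro g; exact (hcen g).symm
    rcases (inferInstance : (Subgroup.center X).Normal).eq_bot_or_eq_top with hc | hc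
    · rw [hc, Subgroup.mem_bot] at htc
      have := hiso.1
      rw [htc, orderOf_one] at this
      omega
    · obtain ⟨a, b, hab⟩ := hnc
      apply hab
      have : b ∈ Subgroup.center X := by rw [hc]; trivial
      exact (Subgroup.mem_center_iff.mp this a)
  · rw [h, Subgroup.card_top] at hodd
    have h2 : 2 ∣ Nat.card X := by
      rw [← hiso.1]; exact orderOf_dvd_natCard t
    rw [← Nat.not_even_iff_odd] at hodd
    exact hodd (even_iff_two_dvd.2 h2)

variable {G Ω : Type*} [Group G] [MulAction G Ω] {X : Subgroup G} {U : Ω → Subgroup G}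

namespace Frame

variable [Finite G] [Finite Ω]

theorem two_involutions [IsSimpleGroup X] (h : Frame X U) (hnc : ∃ x y : X, x * y ≠ y * x) (a : Ω) :
    ∃ s ∈ tor h a, ∃ s' ∈ tor h a, s ≠ 1 ∧ s' ≠ 1 ∧ s ≠ s' := by
  obtain ⟨s, hs, hs1, hss, hsa⟩ := h.inv_ex a
  by_contra hno
  push Not at hno
  have hall : ∀ s' ∈ tor h a, s' ≠ 1 → s = s' := fun s' hs' h1 =>
    hno s ⟨hs, hss, hsa⟩ s' hs' hs1 h1
  refine not_isolated (⟨s, hs⟩ : X) ⟨?_, ?_⟩ hnc
  · refine orderOf_eq_prime ?_ (fun e => hs1 (congrArg Subtype.val e))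
    rw [pow_two]
    exact Subtype.ext hss
  · intro g hg
    have hg' : s * (g.1 * s * g.1⁻¹) = (g.1 * s * g.1⁻¹) * s := congrArg Subtype.val hg.eq
    apply Subtype.ext
    change g.1 * s * g.1⁻¹ = s
    refine (hall _ ⟨h.normal _ _ hs, ?_, h.inv_fixed_of_comm hs hss hs1 hsa hg'⟩ ?_).symm
    · calc g.1 * s * g.1⁻¹ * (g.1 * s * g.1⁻¹) = g.1 * (s * s) * g.1⁻¹ := by group
        _ = 1 := by rw [hss]; group
    · intro e
      apply hs1
      have : g.1⁻¹ * (g.1 * s * g.1⁻¹) * g.1 = s := by group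
      rw [← this, e]
      group

theorem two_of_simple [IsSimpleGroup X] (h : Frame X U) (hnc : ∃ x y : X, x * y ≠ y * x) (a : Ω) :
    ∃ x y : X, x ≠ 1 ∧ y ≠ 1 ∧ x ≠ y ∧ x * x = 1 ∧ y * y = 1 ∧ x * y = y * x := by
  obtain ⟨s, ⟨hs, hss, hsa⟩, s', ⟨hs', hss', hsa'⟩, h1, h2, h3⟩ := h.two_involutions hnc a
  exact ⟨⟨s, hs⟩, ⟨s', hs'⟩, fun e => h1 (congrArg Subtype.val e), fun e => h2 (congrArg Subtype.val e),
    fun e => h3 (congrArg Subtype.val e), Subtype.ext hss, Subtype.ext hss',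
    Subtype.ext ((h.inv_mem hs hss hsa).2 s' (h.inv_mem hs' hss' hsa').1)⟩

/-- The two point stabiliser is inverted by `w`. -/
theorem D_le [IsSimpleGroup X] (h : Frame X U) (h2 : ∀ c, IsPGroup 2 (U c)) {j : G} (hj : IsLine X U j)
    {a b : Ω} (hab : b ≠ a) (hja : j • a = a) (hjb : j • b = b) {w : X} (hwa : w.1 • a = b)
    (hwb : w.1 • b = a) (hww : w * w = 1) (hwj : w.1 * j = j * w.1) (C : Subgroup X)
    (hC : (C : Set X) = invertedBy (stabilizer X a ⊓ stabilizer X (w • a)) w) :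
    stabilizer X a ⊓ stabilizer X b ≤ C := by
  classical
  have := Fintype.ofFinite G
  have hwa' : w • a = b := hwa
  rw [hwa'] at hC
  have hmemC : ∀ x, x ∈ C ↔ x ∈ stabilizer X a ⊓ stabilizer X b ∧ w * x * w⁻¹ = x⁻¹ := by
    intro x
    rw [← SetLike.mem_coe, hC]
    rfl
  have hwi : w⁻¹ = w := inv_eq_of_mul_eq_one_left hww
  have hR := h.rankOne hab hwa hwb
  have hjU := h.line_mem hj hja
  have hjj := hj.1
  have hji : j⁻¹ = j := inv_eq_of_mul_eq_one_left hjj
  have := Fintype.ofFinite ((U a).subgroupOf X)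
  -- conjugation by `j` on `X`
  let y : X → X := fun x => ⟨j * x * j⁻¹, h.normal j x x.2⟩
  have hymul : ∀ x x', y (x * x') = y x * y x' := fun x x' => Subtype.ext (by
    change j * (x.1 * x'.1) * j⁻¹ = j * x.1 * j⁻¹ * (j * x'.1 * j⁻¹)
    group)
  have hyy : ∀ x, y (y x) = x := fun x => Subtype.ext (by
    change j * (j * x.1 * j⁻¹) * j⁻¹ = x.1
    calc j * (j * x.1 * j⁻¹) * j⁻¹ = (j * j) * x.1 * (j * j)⁻¹ := by group
      _ = x.1 := by rw [hjj]; group)
  have hyw : y w = w := Subtype.ext (by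
    change j * w.1 * j⁻¹ = w.1
    rw [← hwj, mul_inv_cancel_right])
  have hyD : ∀ d ∈ stabilizer X a ⊓ stabilizer X b, y d = d := by
    intro d hd
    refine Subtype.ext ?_
    change j * d.1 * j⁻¹ = d.1
    rw [h.comm hab hjU hjb d.2 hd.1 hd.2, mul_inv_cancel_right]
  have hyQ : ∀ x ∈ (U a).subgroupOf X, y x ∈ (U a).subgroupOf X := by
    intro x hx
    rw [Subgroup.mem_subgroupOf] at hx ⊢
    exact (U a).mul_mem ((U a).mul_mem hjU hx) ((U a).inv_mem hjU)
  have hcount := h.count h2 hj hja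
  -- the group of fixed points of `y`
  have hfix2 : ∀ u : X, u ∈ (U a).subgroupOf X → y u = u → u * u = 1 := by
    intro u hu hyu
    have h1 : u.1 ∈ cen X U j a := by
      refine mem_cen.2 ⟨Subgroup.mem_subgroupOf.1 hu, u.2, ?_⟩
      have h3 : j * u.1 * j⁻¹ = u.1 := congrArg Subtype.val hyu
      rw [mul_inv_eq_iff_eq_mul] at h3
      exact h3.symm
    rw [hcount.2.1] at h1
    exact Subtype.ext h1.2.1
  refine RankOneMod.le_of_aut hR hww ?_ ?_ ?_ ?_ ?_ (fun u => ⟨y u, hyQ u u.2⟩) ?_ ?_ ?_ ?_ ?_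
  · intro x hx
    exact ((hmemC x).1 hx).1
  · intro d hd
    obtain ⟨h1, h3⟩ := (hmemC d).1 hd
    have h4 : w⁻¹ * d * w = d⁻¹ := by
      calc w⁻¹ * d * w = w * d * w⁻¹ := by rw [hwi]
        _ = d⁻¹ := h3
    rw [h4]
    exact C.inv_mem hd
  · -- `2`-group
    rintro ⟨⟨x, hx⟩, hx'⟩
    obtain ⟨k, hk⟩ := h2 a ⟨x, Subgroup.mem_subgroupOf.1 hx'⟩
    refine ⟨k, Subtype.ext (Subtype.ext ?_)⟩
    have := congrArg Subtype.val hk
    exact this
  · exact (h.setup hab hwa hwb hww).even_card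
  · -- generation
    rcases (Subgroup.normalClosure_normal (s := ((U a).subgroupOf X : Set X))).eq_bot_or_eq_top with h3 | h3
    · exfalso
      obtain ⟨t, ht, ht1, htt, hta⟩ := h.inv_ex a
      have h4 : (⟨t, ht⟩ : X) ∈ Subgroup.normalClosure ((U a).subgroupOf X : Set X) :=
        Subgroup.subset_normalClosure (Subgroup.mem_subgroupOf.2 (h.inv_mem ht htt hta).1)
      rw [h3, Subgroup.mem_bot] at h4
      exact ht1 (congrArg Subtype.val h4)
    · exact h3
  · intro u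
    exact Subtype.ext (hyy u)
  · exact Subtype.ext (Subtype.ext (by change j * 1 * j⁻¹ = 1; group))
  · intro u x₁ hx₁ d hd x₂ hx₂ he
    refine ⟨y x₁, hyQ _ hx₁, y x₂, hyQ _ hx₂, ?_⟩
    change w * y u * w = y x₁ * d * w * y x₂
    calc w * y u * w = y w * y u * y w := by rw [hyw]
      _ = y (w * u * w) := by rw [hymul, hymul]
      _ = y (x₁ * d * w * x₂) := by rw [he]
      _ = y x₁ * d * w * y x₂ := by rw [hymul, hymul, hymul, hyw, hyD d hd]
  · intro u hu1 hyu
    have hyu' : y u = u := congrArg Subtype.val hyu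
    have huu := hfix2 u u.2 hyu'
    have h1 : w * (u : X) * w ∉ stabilizer X a := by
      have := hR.not_mem_of_Q' u.2 (fun e => hu1 (Subtype.ext e))
      rwa [hwi] at this
    obtain ⟨p, hp, x₂, hx₂, he⟩ := hR.bruhat' h1
    obtain ⟨x₁, hx₁, d, hd, rfl⟩ := hR.Bmul p hp
    refine ⟨x₁, hx₁, d, (hmemC d).2 ⟨hd, ?_⟩, x₂, hx₂, he⟩
    -- `w u w` is an involution
    have h3 : (w * (u : X) * w)⁻¹ = w * (u : X) * w := by
      refine inv_eq_of_mul_eq_one_left ?_
      calc w * (u : X) * w * (w * u * w) = w * (u : X) * (w * w) * u * w := by group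
        _ = w * ((u : X) * u) * w := by rw [hww]; group
        _ = 1 := by rw [huu, mul_one, hww]
    have h4 : x₁ * w * ((w⁻¹ * d * w) * x₂) = x₂⁻¹ * w * (d⁻¹ * x₁⁻¹) := by
      calc x₁ * w * ((w⁻¹ * d * w) * x₂) = x₁ * d * w * x₂ := by group
        _ = (x₁ * d * w * x₂)⁻¹ := by rw [← he, h3]
        _ = x₂⁻¹ * w⁻¹ * (d⁻¹ * x₁⁻¹) := by group
        _ = _ := by rw [hwi]
    obtain ⟨h5, h6⟩ := hR.unique_bruhat hx₁ (Subgroup.inv_mem _ hx₂)
      (Subgroup.mul_mem _ (hR.DB (hR.winv_conj hd)) (hR.QB hx₂))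
      (Subgroup.mul_mem _ (Subgroup.inv_mem _ (hR.DB hd)) (Subgroup.inv_mem _ (hR.QB hx₁))) h4
    rw [h5, inv_inv] at h6
    have h7 := mul_right_cancel h6
    rw [← h7]
    calc w * d * w⁻¹ = w⁻¹ * d * w := by rw [hwi]
      _ = w⁻¹ * d * w := rfl
  · -- the number of fixed points is even
    obtain ⟨-, hcen, g, hg1, hg⟩ := hcount
    have h1 : Nat.card {u : (U a).subgroupOf X // (⟨y u, hyQ u u.2⟩ : (U a).subgroupOf X) = u} =
        Nat.card (tor h a) := by
      rw [← hcen]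
      refine Nat.card_congr ⟨fun u => ⟨u.1.1.1, ?_⟩, fun x => ⟨⟨⟨x.1, ?_⟩, ?_⟩, ?_⟩, fun u => rfl, fun x => rfl⟩
      · have h3 : j * u.1.1.1 * j⁻¹ = u.1.1.1 := congrArg Subtype.val (congrArg Subtype.val u.2)
        rw [mul_inv_eq_iff_eq_mul] at h3
        exact mem_cen.2 ⟨Subgroup.mem_subgroupOf.1 u.1.2, u.1.1.2, h3.symm⟩
      · exact (mem_cen.1 x.2).2.1
      · exact Subgroup.mem_subgroupOf.2 (mem_cen.1 x.2).1
      · refine Subtype.ext (Subtype.ext ?_)
        change j * x.1 * j⁻¹ = x.1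
        rw [mul_inv_eq_iff_eq_mul]
        exact (mem_cen.1 x.2).2.2.symm
    rw [h1, hg, even_iff_two_dvd]
    exact dvd_pow_self 2 (by omega)

end Frame

end Cfsg.Agent.SplitTwo.RankOneFrame
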