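import Mathlib

/-!
# Rank one groups of odd degree: perpendiculars

`Frame X U`: `X` is a normal doubly transitive subgroup whose involutions fix exactly one point, `U a` is a
nilpotent normal subgroup of the stabiliser of `a` with `U a ⊓ X` regular on the other points, and the
involutions of `X` fixing `a` are central in `U a`. An involution `j ∈ U a` fixing another point is a *line
involution*. If it exists then `|U a ⊓ X| = q ^ 3`, `|Fix j| = q + 1`, where `q - 1` is the number of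
involutions of `X` fixing `a`.
-/

set_option autoImplicit false

namespace Cfsg.Agent.SplitTwo.RankOneFrame

open MulAction

structure Frame {G Ω : Type*} [Group G] [MulAction G Ω] (X : Subgroup G) (U : Ω → Subgroup G) : Prop where
  normal : ∀ g : G, ∀ x ∈ X, g * x * g⁻¹ ∈ X
  faithful : ∀ g : G, (∀ c : Ω, g • c = c) → g = 1
  fix : ∀ {a : Ω} {x : G}, x ∈ U a → x • a = a
  conj : ∀ (g : G) {a : Ω} {x : G}, x ∈ U a → g * x * g⁻¹ ∈ U (g • a)
  nil : ∀ a, Group.IsNilpotent (U a)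
  two : ∀ {a b c d : Ω}, a ≠ b → c ≠ d → ∃ g ∈ X, g • a = c ∧ g • b = d
  reg : ∀ {a b c : Ω}, b ≠ a → c ≠ a → ∃ x ∈ U a, x ∈ X ∧ x • b = c
  semireg : ∀ {a b : Ω} {x : G}, x ∈ U a → x ∈ X → b ≠ a → x • b = b → x = 1
  inv_le : ∀ {t : G}, t ∈ X → t * t = 1 → t ≠ 1 → ∀ {a b : Ω}, t • a = a → t • b = b → a = b
  inv_fix : ∀ {t : G}, t ∈ X → t * t = 1 → ∃ a : Ω, t • a = a
  inv_ex : ∀ a : Ω, ∃ t ∈ X, t ≠ 1 ∧ t * t = 1 ∧ t • a = a
  inv_mem : ∀ {a : Ω} {t : G}, t ∈ X → t * t = 1 → t • a = a → t ∈ U a ∧ ∀ x ∈ U a, t * x = x * t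
  inv_conj : ∀ {a b : Ω} {s t : G}, a ≠ b → s ∈ X → s * s = 1 → s ≠ 1 → s • a = a →
    t ∈ X → t * t = 1 → t ≠ 1 → t • a = a → ∃ d ∈ X, d • a = a ∧ d • b = b ∧ d * s * d⁻¹ = t

/-- `j` is a line involution. -/
def IsLine {G Ω : Type*} [Group G] [MulAction G Ω] (X : Subgroup G) (U : Ω → Subgroup G) (j : G) : Prop :=
  j * j = 1 ∧ j ∉ X ∧ ∃ a b : Ω, a ≠ b ∧ j ∈ U a ∧ j • b = b

/-- the involution in a dihedral group -/
theorem dihedral {G : Type*} [Group G] [Finite G] {t j : G} (ht : t * t = 1) (hj : j * j = 1) :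
    (∃ g : G, g ∈ Subgroup.closure ({t, j} : Set G) ∧ g * t * g⁻¹ = j) ∨
      ∃ k : ℕ, ((t * j) ^ k) ≠ 1 ∧ ((t * j) ^ k) * ((t * j) ^ k) = 1 ∧ t * (t * j) ^ k = (t * j) ^ k * t ∧
        j * (t * j) ^ k = (t * j) ^ k * j := by
  have hti : t⁻¹ = t := inv_eq_of_mul_eq_one_left ht
  have hji : j⁻¹ = j := inv_eq_of_mul_eq_one_left hj
  set g := t * j with hg
  have hgi : g⁻¹ = j * t := by rw [hg, mul_inv_rev, hti, hji]
  have h1 : t * g * t⁻¹ = g⁻¹ := by
    rw [hgi, hti, hg]
    calc t * (t * j) * t = (t * t) * j * t := by group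
      _ = j * t := by rw [ht, one_mul]
  have h2 : j * g * j⁻¹ = g⁻¹ := by
    rw [hgi, hji, hg]
    calc j * (t * j) * j = j * t * (j * j) := by group
      _ = j * t := by rw [hj, mul_one]
  have h1k : ∀ k : ℕ, t * g ^ k * t⁻¹ = (g ^ k)⁻¹ := by
    intro k
    rw [← conj_pow, h1, inv_pow]
  have h2k : ∀ k : ℕ, j * g ^ k * j⁻¹ = (g ^ k)⁻¹ := by
    intro k
    rw [← conj_pow, h2, inv_pow]
  rcases Nat.even_or_odd' (orderOf g) with ⟨k, hk | hk⟩
  · right
    have hpos : 0 < orderOf g := orderOf_pos g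
    have h3 : g ^ k * g ^ k = 1 := by
      rw [← pow_add, ← two_mul, ← hk, pow_orderOf_eq_one]
    have h4 : (g ^ k)⁻¹ = g ^ k := inv_eq_of_mul_eq_one_left h3
    refine ⟨k, ?_, h3, ?_, ?_⟩
    · exact pow_ne_one_of_lt_orderOf (by omega) (by omega)
    · have := h1k k
      rw [h4, mul_inv_eq_iff_eq_mul] at this
      exact this
    · have := h2k k
      rw [h4, mul_inv_eq_iff_eq_mul] at this
      exact this
  · left
    refine ⟨g ^ k, ?_, ?_⟩
    · refine Subgroup.pow_mem _ ?_ _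
      exact Subgroup.mul_mem _ (Subgroup.subset_closure (by simp)) (Subgroup.subset_closure (by simp))
    · have h5 : t * (g ^ k)⁻¹ = g ^ k * t := by
        have := h1k k
        rw [mul_inv_eq_iff_eq_mul] at this
        have h6 : t * (g ^ k)⁻¹ = t * ((g ^ k)⁻¹ * t) * t⁻¹ := by group
        rw [h6, ← this, ← mul_assoc t t, ht, one_mul, hti]
      rw [mul_assoc, h5, ← mul_assoc, ← pow_add, ← two_mul]
      have h7 : g ^ (2 * k) * g = 1 := by rw [← pow_succ, ← hk, pow_orderOf_eq_one]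
      have h8 : g ^ (2 * k) = g⁻¹ := eq_inv_of_mul_eq_one_left h7
      rw [h8, hgi, mul_assoc, ht, mul_one]

variable {G Ω : Type*} [Group G] [MulAction G Ω] {X : Subgroup G} {U : Ω → Subgroup G}

namespace Frame

theorem mem_of_conj (h : Frame X U) {g x : G} (hx : g * x * g⁻¹ ∈ X) : x ∈ X := by
  have := h.normal g⁻¹ _ hx
  have h1 : g⁻¹ * (g * x * g⁻¹) * g⁻¹⁻¹ = x := by group
  rwa [h1] at this

/-- Elements of `U a` fixing `b` commute with the two point stabiliser in `X`. -/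
theorem comm (h : Frame X U) {a b : Ω} (hab : b ≠ a) {y d : G} (hy : y ∈ U a) (hyb : y • b = b)
    (hd : d ∈ X) (hda : d • a = a) (hdb : d • b = b) : y * d = d * y := by
  have h1 : d * y⁻¹ * d⁻¹ ∈ U a := by
    have := h.conj d ((U a).inv_mem hy)
    rwa [hda] at this
  have h2 : y * (d * y⁻¹ * d⁻¹) ∈ U a := (U a).mul_mem hy h1
  have h3 : y * (d * y⁻¹ * d⁻¹) ∈ X := by
    have : y * (d * y⁻¹ * d⁻¹) = (y * d * y⁻¹) * d⁻¹ := by group
    rw [this]
    exact X.mul_mem (h.normal y d hd) (X.inv_mem hd)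
  have hyb' : y⁻¹ • b = b := by rw [inv_smul_eq_iff, hyb]
  have hdb' : d⁻¹ • b = b := by rw [inv_smul_eq_iff, hdb]
  have h4 : (y * (d * y⁻¹ * d⁻¹)) • b = b := by
    rw [mul_smul, mul_smul, mul_smul, hdb', hyb', hdb, hyb]
  have h5 := h.semireg h2 h3 hab h4
  have h6 : y * d = (y * (d * y⁻¹ * d⁻¹)) * (d * y) := by group
  rw [h6, h5, one_mul]

/-- uniqueness of the line involution fixing `a` and `b` -/
theorem line_unique (h : Frame X U) {a b : Ω} (hab : b ≠ a) {y j : G} (hy : y ∈ U a) (hyb : y • b = b)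
    (hyy : y * y = 1) (hjj : j * j = 1) (hjy : j * y ∈ X) (hja : j • a = a) (hjb : j • b = b) : j = y := by
  have hya := h.fix hy
  have hda : (j * y) • a = a := by rw [mul_smul, hya, hja]
  have hdb : (j * y) • b = b := by rw [mul_smul, hyb, hjb]
  have hc := h.comm hab hy hyb hjy hda hdb
  by_contra hne
  have h1 : j * y ≠ 1 := by
    intro he
    apply hne
    rw [mul_eq_one_iff_eq_inv] at he
    rw [he]
    exact inv_eq_of_mul_eq_one_left hyy
  have h2 : (j * y) * (j * y) = 1 := by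
    calc (j * y) * (j * y) = j * (y * (j * y)) := by group
      _ = j * ((j * y) * y) := by rw [hc]
      _ = (j * j) * (y * y) := by group
      _ = 1 := by rw [hjj, hyy, one_mul]
  exact hab (h.inv_le hjy h2 h1 hdb hda)

theorem line_mem (h : Frame X U) {y : G} (hy : IsLine X U y) {c : Ω} (hc : y • c = c) : y ∈ U c := by
  obtain ⟨hyy, hyX, a, b, hab, hya, hyb⟩ := hy
  by_cases hca : c = a
  · rw [hca]; exact hya
  obtain ⟨x, hx, hxa, hxb⟩ := h.two hab (fun e : c = a => hca e)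
  have h1 : x * y * x⁻¹ ∈ U c := by
    have := h.conj x hya
    rwa [hxa] at this
  have h2 : (x * y * x⁻¹) • a = a := by
    have hxa' : x⁻¹ • a = b := by rw [inv_smul_eq_iff, hxb]
    rw [mul_smul, mul_smul, hxa', hyb, hxb]
  have h3 : y = x * y * x⁻¹ := by
    refine h.line_unique (fun e : a = c => hca e.symm) h1 h2 ?_ hyy ?_ hc (h.fix hya)
    · calc x * y * x⁻¹ * (x * y * x⁻¹) = x * (y * y) * x⁻¹ := by group
        _ = 1 := by rw [hyy]; group
    · have h4 : y * (x * y * x⁻¹) = (y * x * y⁻¹) * (y * y) * x⁻¹ := by group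
      rw [h4, hyy, mul_one]
      exact X.mul_mem (h.normal y x hx) (X.inv_mem hx)
  rw [h3]
  exact h1

theorem line_other (h : Frame X U) {y : G} (hy : IsLine X U y) (c : Ω) :
    ∃ b : Ω, b ≠ c ∧ y • b = b := by
  obtain ⟨hyy, hyX, a, b, hab, hya, hyb⟩ := hy
  by_cases hca : a = c
  · exact ⟨b, fun e => hab (hca.trans e.symm), hyb⟩
  · exact ⟨a, hca, h.fix hya⟩

theorem line_ne_one {y : G} (hy : IsLine X U y) : y ≠ 1 := by
  rintro rfl
  exact hy.2.1 X.one_mem

theorem line_conj (h : Frame X U) {y : G} (hy : IsLine X U y) (g : G) : IsLine X U (g * y * g⁻¹) := by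
  obtain ⟨hyy, hyX, a, b, hab, hya, hyb⟩ := hy
  refine ⟨?_, fun hm => hyX (h.mem_of_conj hm), g • a, g • b, ?_, h.conj g hya, ?_⟩
  · calc g * y * g⁻¹ * (g * y * g⁻¹) = g * (y * y) * g⁻¹ := by group
      _ = 1 := by rw [hyy]; group
  · exact fun e => hab (MulAction.injective g e)
  · rw [mul_smul, mul_smul, inv_smul_smul, hyb]

/-- the iterated commutator -/
theorem exists_last {S : Subgroup G} (hN : Group.IsNilpotent S) (f : G → G)
    (hf : ∀ x, ∀ n, x ∈ S.lowerCentralSeries n → f x ∈ S.lowerCentralSeries (n + 1)) {q : G}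
    (hqS : q ∈ S) (hq : f q ≠ 1) (hf1 : f 1 = 1) : ∃ k : ℕ, f (f^[k] q) ≠ 1 ∧ f (f (f^[k] q)) = 1 := by
  classical
  have h1 : ∀ k, f^[k] q ∈ S.lowerCentralSeries k := by
    intro k
    induction k with
    | zero => exact hqS
    | succ k ih =>
      rw [Function.iterate_succ_apply']
      exact hf _ _ ih
  obtain ⟨n, hn⟩ := (Subgroup.isNilpotent_iff_lowerCentralSeries S).1 hN
  have h2 : ∃ k, f^[k] q = 1 := ⟨n, by
    have := h1 n
    rw [hn] at this
    exact Subgroup.mem_bot.1 this⟩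
  let m := Nat.find h2
  have hm : f^[m] q = 1 := Nat.find_spec h2
  have hmin : ∀ k < m, f^[k] q ≠ 1 := fun k hk => Nat.find_min h2 hk
  have hm0 : m ≠ 0 := by
    intro h0
    rw [h0] at hm
    apply hq
    rw [Function.iterate_zero, id] at hm
    rw [hm, hf1]
  have hm1 : m ≠ 1 := by
    intro h0
    rw [h0] at hm
    exact hq hm
  refine ⟨m - 2, ?_, ?_⟩
  · rw [← Function.iterate_succ_apply' f]
    exact hmin _ (by omega)
  · rw [← Function.iterate_succ_apply' f, ← Function.iterate_succ_apply' f]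
    have h3 : (m - 2).succ.succ = m := by omega
    rw [h3, hm]

/-- **(c1)** `j t` is a line involution for every involution `t ∈ X` sharing a fixed point with `j`. -/
theorem line_mul (h : Frame X U) {j : G} (hj : IsLine X U j) {c : Ω} (hjc : j • c = c) {t : G} (ht : t ∈ X)
    (htt : t * t = 1) (ht1 : t ≠ 1) (htc : t • c = c) : IsLine X U (j * t) := by
  have hjU := h.line_mem hj hjc
  have hjj := hj.1
  have hji : j⁻¹ = j := inv_eq_of_mul_eq_one_left hjj
  -- an element `q ∈ U c ⊓ X` not commuting with `j`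
  obtain ⟨b, hbc, hjb⟩ := h.line_other hj c
  have hex : ∃ q ∈ U c, q ∈ X ∧ q * j * q⁻¹ * j⁻¹ ≠ 1 := by
    by_contra hno
    push Not at hno
    apply line_ne_one hj
    apply h.faithful
    intro d
    by_cases hd : d = c
    · rw [hd]; exact hjc
    · obtain ⟨x, hx, hxX, hxb⟩ := h.reg hbc hd
      have h1 := hno x hx hxX
      have h2 : x * j = j * x := by
        rw [mul_inv_eq_one, mul_inv_eq_iff_eq_mul] at h1
        exact h1
      rw [← hxb, ← mul_smul, ← h2, mul_smul, hjb]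
  obtain ⟨q, hq, hqX, hqj⟩ := hex
  -- iterate
  let f : G → G := fun x => x * j * x⁻¹ * j⁻¹
  have hfl : ∀ x, ∀ n, x ∈ (U c).lowerCentralSeries n → f x ∈ (U c).lowerCentralSeries (n + 1) := by
    intro x n hx
    rw [Subgroup.lowerCentralSeries_succ]
    exact Subgroup.commutator_mem_commutator hx hjU
  obtain ⟨k, hk1, hk2⟩ := exists_last (h.nil c) f hfl hq hqj (by
      change 1 * _ * (1 : G)⁻¹ * _⁻¹ = 1
      rw [one_mul, inv_one, mul_one, mul_inv_cancel])
  have hXk : ∀ k, f^[k] q ∈ X ∧ f^[k] q ∈ U c := by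
    intro k
    induction k with
    | zero => exact ⟨hqX, hq⟩
    | succ k ih =>
      rw [Function.iterate_succ_apply']
      change _ * j * _⁻¹ * j⁻¹ ∈ X ∧ _ * j * _⁻¹ * j⁻¹ ∈ U c
      set z := f^[k] q with hz
      have h1 : z * j * z⁻¹ * j⁻¹ = z * (j * z⁻¹ * j⁻¹) := by group
      refine ⟨?_, (U c).mul_mem ((U c).mul_mem ((U c).mul_mem ih.2 hjU) ((U c).inv_mem ih.2))
        ((U c).inv_mem hjU)⟩
      rw [h1]
      exact X.mul_mem ih.1 (h.normal _ _ (X.inv_mem ih.1))
  set x : G := f^[k] q with hx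
  have hxX : x ∈ X := (hXk k).1
  have hxU : x ∈ U c := (hXk k).2
  set s : G := x * j * x⁻¹ * j⁻¹ with hs
  have hs1 : s ≠ 1 := hk1
  have hsX : s ∈ X := by
    have h1 : s = x * (j * x⁻¹ * j⁻¹) := by rw [hs]; group
    rw [h1]
    exact X.mul_mem hxX (h.normal _ _ (X.inv_mem hxX))
  have hsU : s ∈ U c := (U c).mul_mem ((U c).mul_mem ((U c).mul_mem hxU hjU) ((U c).inv_mem hxU))
    ((U c).inv_mem hjU)
  have hsj : s * j = j * s := by
    have h1 : s * j * s⁻¹ * j⁻¹ = 1 := hk2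
    rw [mul_inv_eq_one, mul_inv_eq_iff_eq_mul] at h1
    exact h1
  have hsc : s • c = c := h.fix hsU
  have hxj : x * j * x⁻¹ = s * j := by rw [hs]; group
  have hss : s * s = 1 := by
    have h1 : (s * j) * (s * j) = 1 := by
      rw [← hxj]
      calc x * j * x⁻¹ * (x * j * x⁻¹) = x * (j * j) * x⁻¹ := by group
        _ = 1 := by rw [hjj]; group
    calc s * s = s * s * (j * j) := by rw [hjj, mul_one]
      _ = s * (s * j) * j := by group
      _ = s * (j * s) * j := by rw [hsj]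
      _ = (s * j) * (s * j) := by group
      _ = 1 := h1
  obtain ⟨d, hd, hdc, hdb, hdst⟩ := h.inv_conj hbc.symm hsX hss hs1 hsc ht htt ht1 htc
  have hcomm := h.comm hbc hjU hjb hd hdc hdb
  have h1 : IsLine X U (s * j) := by
    rw [← hxj]
    exact h.line_conj hj x
  have h2 : j * t = d * (s * j) * d⁻¹ := by
    have h3 : d * (s * j) * d⁻¹ = (d * s * d⁻¹) * (d * j * d⁻¹) := by group
    have h4 : d * j * d⁻¹ = j := by rw [← hcomm, mul_inv_cancel_right]
    rw [h3, h4, hdst]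
    exact ((h.inv_mem ht htt htc).2 j hjU).symm
  rw [h2]
  exact h.line_conj h1 d

theorem inv_fixed_of_comm (h : Frame X U) {t z : G} (ht : t ∈ X) (htt : t * t = 1) (ht1 : t ≠ 1) {a : Ω}
    (hta : t • a = a) (hzt : t * z = z * t) : z • a = a := by
  have h1 : t • (z • a) = z • a := by rw [← mul_smul, hzt, mul_smul, hta]
  exact h.inv_le ht htt ht1 h1 hta

/-- **(c3), existence of the perpendicular** -/
theorem exists_perp [Finite G] (h : Frame X U) {j : G} (hj : IsLine X U j) {a : Ω} (ha : j • a ≠ a) :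
    ∃ c : Ω, ∃ s ∈ X, j • c = c ∧ s * s = 1 ∧ s ≠ 1 ∧ s • c = c ∧ (j * s) • a = a := by
  obtain ⟨t, ht, ht1, htt, hta⟩ := h.inv_ex a
  have hjj := hj.1
  have hji : j⁻¹ = j := inv_eq_of_mul_eq_one_left hjj
  rcases dihedral htt hjj with ⟨g, -, hg⟩ | ⟨k, hk1, hkk, hkt, hkj⟩
  · exact absurd (by rw [← hg]; exact h.normal g t ht) hj.2.1
  set z := (t * j) ^ k with hz
  have hza : z • a = a := h.inv_fixed_of_comm ht htt ht1 hta hkt
  have hzX : z ∉ X := by
    intro hzX
    exact ha (h.inv_fixed_of_comm hzX hkk hk1 hza hkj.symm)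
  -- `z` and `j` are congruent modulo `X`
  have hmod : z * j ∈ X := by
    have h1 : ∀ n : ℕ, (t * j) ^ n * (j ^ n)⁻¹ ∈ X := by
      intro n
      induction n with
      | zero => simp
      | succ n ih =>
        have h2 : (t * j) ^ (n + 1) * (j ^ (n + 1))⁻¹ =
            ((t * j) ^ n * (j ^ n)⁻¹) * (j ^ n * t * (j ^ n)⁻¹) := by
          rw [pow_succ, pow_succ, mul_inv_rev]
          group
        rw [h2]
        exact X.mul_mem ih (h.normal _ _ ht)
    have h3 := h1 k
    rw [← hz] at h3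
    rcases Nat.even_or_odd' k with ⟨m, hm | hm⟩
    · exfalso
      apply hzX
      have h4 : j ^ k = 1 := by rw [hm, pow_mul, pow_two, hjj, one_pow]
      rwa [h4, inv_one, mul_one] at h3
    · have h4 : j ^ k = j := by rw [hm, pow_succ, pow_mul, pow_two, hjj, one_pow, one_mul]
      rwa [h4, hji] at h3
  set s := z * j with hs
  have hss : s * s = 1 := by
    calc s * s = z * (j * z) * j := by rw [hs]; group
      _ = z * (z * j) * j := by rw [hkj]
      _ = (z * z) * (j * j) := by group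
      _ = 1 := by rw [hkk, hjj, one_mul]
  have hs1 : s ≠ 1 := by
    intro e
    apply ha
    have h1 : j = z := by
      have h2 : z⁻¹ = z := inv_eq_of_mul_eq_one_left hkk
      rw [hs, mul_eq_one_iff_inv_eq, h2] at e
      exact e.symm
    rw [h1]
    exact hza
  obtain ⟨c, hc⟩ := h.inv_fix hmod hss
  have hsj : s * j = j * s := by rw [hs, ← mul_assoc, hkj]
  refine ⟨c, s, hmod, h.inv_fixed_of_comm hmod hss hs1 hc hsj, hss, hs1, hc, ?_⟩
  rw [← hsj, hs, mul_assoc, hjj, mul_one]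
  exact hza

/-- **(c3), uniqueness of the perpendicular** -/
theorem perp_unique (h : Frame X U) {j : G} (hj : IsLine X U j) {a : Ω} (ha : j • a ≠ a) {c c' : Ω}
    {s s' : G} (hs : s ∈ X) (hjc : j • c = c) (hss : s * s = 1) (hs1 : s ≠ 1) (hsc : s • c = c)
    (hja : (j * s) • a = a) (hs' : s' ∈ X) (hjc' : j • c' = c') (hss' : s' * s' = 1) (hs1' : s' ≠ 1)
    (hsc' : s' • c' = c') (hja' : (j * s') • a = a) : s = s' ∧ c = c' := by
  have hjj := hj.1
  have hl := h.line_mem (h.line_mul hj hjc hs hss hs1 hsc) hja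
  have hl' := h.line_mem (h.line_mul hj hjc' hs' hss' hs1' hsc') hja'
  have hsj : s * j = j * s := (h.inv_mem hs hss hsc).2 j (h.line_mem hj hjc)
  have hsj' : s' * j = j * s' := (h.inv_mem hs' hss' hsc').2 j (h.line_mem hj hjc')
  have h1 : s * s' ∈ U a := by
    have h2 : s * s' = (j * s) * (j * s') := by
      calc s * s' = s * (j * j) * s' := by rw [hjj, mul_one]
        _ = (s * j) * (j * s') := by group
        _ = (j * s) * (j * s') := by rw [hsj]
    rw [h2]
    exact (U a).mul_mem hl hl'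
  have h3 : s * s' = 1 := by
    refine h.semireg h1 (X.mul_mem hs hs') ha ?_
    have h4 : s * s' * j = j * (s * s') := by
      rw [mul_assoc, hsj', ← mul_assoc, hsj, mul_assoc]
    rw [← mul_smul, h4, mul_smul, h.fix h1]
  have h5 : s = s' := by
    rw [mul_eq_one_iff_eq_inv] at h3
    rw [h3]
    exact inv_eq_of_mul_eq_one_left hss'
  exact ⟨h5, h.inv_le hs hss hs1 hsc (by rw [h5]; exact hsc')⟩

end Frame

end Cfsg.Agent.SplitTwo.RankOneFrame
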