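import Cfsg.Agent.HKS.RankOne

/-!
# A modular argument for rank one groups in characteristic two

`RankOne.le_of_aut`: `G` is generated by the conjugates of the `2`-group `Q`, `w` is an involution, `y` is an
involutory automorphism of `Q` compatible with the structure equations `w v w = x₁ d w x₂` such that `d ∈ D₀`
for the fixed points `v` of `y`. Then `D ≤ D₀`.
-/

set_option autoImplicit false

namespace Cfsg.Agent.SplitTwo.RankOneMod

open Cfsg.Agent.HKS MulAction

variable {G : Type*} [Group G]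

/-- functions invariant under right multiplication by `Q` and `D₀` -/
def Inv (Q D₀ : Subgroup G) (f : G → ZMod 2) : Prop :=
  (∀ g, ∀ u ∈ Q, f (g * u) = f g) ∧ (∀ g, ∀ d ∈ D₀, f (g * d) = f g)

/-- The operator of the double coset `Q w Q`. -/
noncomputable def T (Q : Subgroup G) [Fintype Q] (w : G) (f : G → ZMod 2) (g : G) : ZMod 2 :=
  ∑ u : Q, f (g * u * w)

variable {Q D₀ : Subgroup G} [Fintype Q] {w : G}

theorem T_left (f : G → ZMod 2) (x g : G) : T Q w (fun h => f (x * h)) g = T Q w f (x * g) := by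
  simp only [T, mul_assoc]

theorem T_add (f f' : G → ZMod 2) (g : G) :
    T Q w (fun h => f h + f' h) g = T Q w f g + T Q w f' g := by
  simp only [T, Finset.sum_add_distrib]

theorem T_mul_Q (f : G → ZMod 2) (g : G) {v : G} (hv : v ∈ Q) : T Q w f (g * v) = T Q w f g := by
  rw [T, T]
  refine Fintype.sum_equiv (Equiv.mulLeft ⟨v, hv⟩) _ _ (fun u => ?_)
  simp only [Equiv.coe_mulLeft, Subgroup.coe_mul, mul_assoc]

/-- conjugation by an element normalising `Q`, on `Q` -/
def conjEquiv (Q : Subgroup G) (d : G) (hd : ∀ u ∈ Q, d * u * d⁻¹ ∈ Q) (hd' : ∀ u ∈ Q, d⁻¹ * u * d ∈ Q) :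
    Q ≃ Q where
  toFun u := ⟨d * u * d⁻¹, hd u u.2⟩
  invFun u := ⟨d⁻¹ * u * d, hd' u u.2⟩
  left_inv u := Subtype.ext (by change d⁻¹ * (d * (u : G) * d⁻¹) * d = u; group)
  right_inv u := Subtype.ext (by change d * (d⁻¹ * (u : G) * d) * d⁻¹ = u; group)

theorem T_mul_D (f : G → ZMod 2) (g : G) {d : G} (hd : ∀ u ∈ Q, d * u * d⁻¹ ∈ Q)
    (hd' : ∀ u ∈ Q, d⁻¹ * u * d ∈ Q) : T Q w f (g * d) = ∑ u : Q, f (g * u * (d * w)) := by
  rw [T]
  refine Fintype.sum_equiv (conjEquiv Q d hd hd') _ _ (fun u => ?_)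
  congr 1
  change g * d * u * w = g * (d * u * d⁻¹) * (d * w)
  group

section

variable {B D W : Subgroup G}

theorem T_inv (h : RankOne B Q D W w) (hDD : D₀ ≤ D) (hwD : ∀ d ∈ D₀, w⁻¹ * d * w ∈ D₀)
    {f : G → ZMod 2} (hf : Inv Q D₀ f) : Inv Q D₀ (T Q w f) := by
  refine ⟨fun g u hu => T_mul_Q f g hu, fun g d hd => ?_⟩
  rw [T_mul_D f g (h.Qn d (h.DB (hDD hd))) (fun u hu => h.Qn' (h.DB (hDD hd)) hu), T]
  refine Finset.sum_congr rfl (fun u _ => ?_)
  have h1 : g * (u : G) * (d * w) = g * u * w * (w⁻¹ * d * w) := by group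
  rw [h1, hf.2 _ _ (hwD d hd)]

/-- the inner sum in `T (T f)` -/
noncomputable def S (Q : Subgroup G) [Fintype Q] (w : G) (f : G → ZMod 2) (g u : G) : ZMod 2 :=
  ∑ v : Q, f (g * v * (w * u * w))

theorem TT_eq (f : G → ZMod 2) (g : G) : T Q w (T Q w f) g = ∑ u : Q, S Q w f g u := by
  simp only [T, S]
  rw [Finset.sum_comm]
  refine Finset.sum_congr rfl (fun u _ => Finset.sum_congr rfl (fun v _ => ?_))
  congr 1
  simp only [mul_assoc]

theorem S_eq (h : RankOne B Q D W w) {f : G → ZMod 2} (hf : Inv Q D₀ f) (g : G) {u x₁ d x₂ : G}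
    (hx₁ : x₁ ∈ Q) (hd : d ∈ D) (hx₂ : x₂ ∈ Q) (he : w * u * w = x₁ * d * w * x₂) :
    S Q w f g u = T Q w f (g * d) := by
  rw [T_mul_D f g (h.Qn d (h.DB hd)) (fun u hu => h.Qn' (h.DB hd) hu), S]
  refine Fintype.sum_equiv (Equiv.mulRight ⟨x₁, hx₁⟩) _ _ (fun v => ?_)
  rw [he]
  have h1 : g * (v : G) * (x₁ * d * w * x₂) = g * (v * x₁) * (d * w) * x₂ := by group
  rw [h1, hf.1 _ _ hx₂]
  rfl

theorem S_one (hw : w * w = 1) (hQ : Even (Nat.card Q)) {f : G → ZMod 2} (hf : Inv Q D₀ f) (g : G) :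
    S Q w f g 1 = 0 := by
  have h1 : S Q w f g 1 = ∑ v : Q, f g := by
    rw [S]
    refine Finset.sum_congr rfl (fun v _ => ?_)
    rw [mul_one, hw, mul_one, hf.1 _ _ v.2]
  rw [h1, Finset.sum_const, Finset.card_univ, ← Nat.card_eq_fintype_card]
  obtain ⟨k, hk⟩ := hQ
  rw [hk, add_nsmul]
  exact CharTwo.add_self_eq_zero _

/-- **The quadratic relation.** -/
theorem TT (h : RankOne B Q D W w) (hw : w * w = 1) (hDD : D₀ ≤ D)
    (hwD : ∀ d ∈ D₀, w⁻¹ * d * w ∈ D₀) (hQ : Even (Nat.card Q))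
    (y : Q → Q) (hyy : ∀ u, y (y u) = u) (hy1 : y 1 = 1)
    (hy : ∀ u : Q, ∀ x₁ ∈ Q, ∀ d ∈ D, ∀ x₂ ∈ Q, w * u * w = x₁ * d * w * x₂ →
      ∃ z₁ ∈ Q, ∃ z₂ ∈ Q, w * (y u : G) * w = z₁ * d * w * z₂)
    (hfix : ∀ u : Q, u ≠ 1 → y u = u → ∃ x₁ ∈ Q, ∃ d ∈ D₀, ∃ x₂ ∈ Q, w * u * w = x₁ * d * w * x₂)
    (hodd : Even (Nat.card {u : Q // y u = u}))
    {f : G → ZMod 2} (hf : Inv Q D₀ f) (g : G) : T Q w (T Q w f) g = T Q w f g := by
  classical
  have hwi : w⁻¹ = w := inv_eq_of_mul_eq_one_left hw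
  have hTi := T_inv h hDD hwD hf
  -- structure equation
  have hst : ∀ u : Q, u ≠ 1 → ∃ x₁ ∈ Q, ∃ d ∈ D, ∃ x₂ ∈ Q, w * u * w = x₁ * d * w * x₂ := by
    intro u hu
    have h1 : w * (u : G) * w ∉ B := by
      have := h.not_mem_of_Q' u.2 (fun e => hu (Subtype.ext e))
      rwa [hwi] at this
    obtain ⟨b, hb, x₂, hx₂, he⟩ := h.bruhat' h1
    obtain ⟨x₁, hx₁, d, hd, rfl⟩ := h.Bmul b hb
    exact ⟨x₁, hx₁, d, hd, x₂, hx₂, he⟩
  have hSy : ∀ u : Q, S Q w f g (y u) = S Q w f g u := by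
    intro u
    by_cases hu : u = 1
    · rw [hu, hy1]
    · obtain ⟨x₁, hx₁, d, hd, x₂, hx₂, he⟩ := hst u hu
      obtain ⟨z₁, hz₁, z₂, hz₂, he'⟩ := hy u x₁ hx₁ d hd x₂ hx₂ he
      rw [S_eq h hf g hx₁ hd hx₂ he, S_eq h hf g hz₁ hd hz₂ he']
  rw [TT_eq, ← Finset.sum_filter_add_sum_filter_not Finset.univ (fun u : Q => y u = u)]
  have h2 : ∑ u ∈ Finset.univ.filter (fun u : Q => ¬ y u = u), S Q w f g u = 0 := by
    refine Finset.sum_involution (fun u _ => y u) (fun u _ => ?_) (fun u hu _ => ?_) (fun u hu => ?_)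
      (fun u _ => hyy u)
    · rw [hSy]
      exact CharTwo.add_self_eq_zero _
    · simpa using hu
    · simp only [Finset.mem_filter, Finset.mem_univ, true_and] at hu ⊢
      rw [hyy]
      exact fun e => hu e.symm
  rw [h2, add_zero]
  have h3 : ∀ u ∈ Finset.univ.filter (fun u : Q => y u = u),
      S Q w f g u = T Q w f g + if u = 1 then T Q w f g else 0 := by
    intro u hu
    by_cases hu1 : u = 1
    · subst hu1
      rw [if_pos rfl]
      change S Q w f g 1 = _
      rw [S_one hw hQ hf]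
      exact (CharTwo.add_self_eq_zero _).symm
    · rw [if_neg hu1, add_zero]
      obtain ⟨x₁, hx₁, d, hd, x₂, hx₂, he⟩ := hfix u hu1 (Finset.mem_filter.1 hu).2
      rw [S_eq h hf g hx₁ (hDD hd) hx₂ he, hTi.2 g d hd]
  rw [Finset.sum_congr rfl h3, Finset.sum_add_distrib, Finset.sum_const]
  have h4 : (Finset.univ.filter (fun u : Q => y u = u)).card = Nat.card {u : Q // y u = u} := by
    rw [Nat.card_eq_fintype_card, Fintype.card_subtype]
  rw [h4]
  obtain ⟨k, hk⟩ := hodd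
  rw [hk, add_nsmul, CharTwo.add_self_eq_zero, zero_add]
  rw [Finset.sum_ite_eq' (Finset.univ.filter (fun u : Q => y u = u)) 1 (fun _ => T Q w f g),
    if_pos (by simp [hy1])]

/-- A function in the kernel of `T` is invariant under left multiplication by `Q`. -/
theorem left_Q [Finite G] (h : RankOne B Q D W w) (hw : w * w = 1) (hDD : D₀ ≤ D)
    (hwD : ∀ d ∈ D₀, w⁻¹ * d * w ∈ D₀) (hQ : IsPGroup 2 Q)
    (hTT : ∀ f : G → ZMod 2, Inv Q D₀ f → ∀ g, T Q w (T Q w f) g = T Q w f g)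
    {f : G → ZMod 2} (hf : Inv Q D₀ f) (hker : ∀ g, T Q w f g = 0) {u : G} (hu : u ∈ Q) (g : G) :
    f (u * g) = f g := by
  classical
  have : Fact (Nat.Prime 2) := ⟨Nat.prime_two⟩
  have hwi : w⁻¹ = w := inv_eq_of_mul_eq_one_left hw
  -- the module `N`
  let N : AddSubgroup (G → ZMod 2) :=
    { carrier := {s | Inv Q D₀ s ∧ (∀ g, T Q w s g = 0) ∧ ∀ g ∈ B, s g = 0}
      zero_mem' := ⟨⟨fun _ _ _ => rfl, fun _ _ _ => rfl⟩, fun g => by simp [T], fun _ _ => rfl⟩
      add_mem' := by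
        rintro s s' ⟨hs1, hs2, hs3⟩ ⟨hs1', hs2', hs3'⟩
        refine ⟨⟨fun g u hu => ?_, fun g d hd => ?_⟩, fun g => ?_, fun g hg => ?_⟩
        · rw [Pi.add_apply, Pi.add_apply, hs1.1 g u hu, hs1'.1 g u hu]
        · rw [Pi.add_apply, Pi.add_apply, hs1.2 g d hd, hs1'.2 g d hd]
        · have := T_add (Q := Q) (w := w) s s' g
          rw [hs2, hs2', add_zero] at this
          exact this
        · rw [Pi.add_apply, hs3 g hg, hs3' g hg, add_zero]
      neg_mem' := by
        intro s hs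
        have h1 : -s = s := funext fun g => CharTwo.neg_eq (s g)
        change Inv Q D₀ (-s) ∧ (∀ g, T Q w (-s) g = 0) ∧ ∀ g ∈ B, (-s) g = 0
        rw [h1]
        exact hs }
  -- there is no nonzero element in `N` invariant under `Q`
  have hno : ∀ s ∈ N, (∀ v ∈ Q, ∀ g, s (v * g) = s g) → s = 0 := by
    rintro s ⟨hs1, hs2, hs3⟩ hsQ
    let r : G → ZMod 2 := fun g => if g ∈ B then s (g * w) else 0
    have hr : Inv Q D₀ r := by
      refine ⟨fun g v hv => ?_, fun g d hd => ?_⟩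
      · change (if g * v ∈ B then s (g * v * w) else 0) = if g ∈ B then s (g * w) else 0
        by_cases hg : g ∈ B
        · rw [if_pos hg, if_pos (B.mul_mem hg (h.QB hv))]
          have h1 : g * v * w = (g * v * g⁻¹) * (g * w) := by group
          rw [h1, hsQ _ (h.Qn g hg v hv)]
        · rw [if_neg hg, if_neg (fun hgv => hg ((Subgroup.mul_mem_cancel_right B (h.QB hv)).1 hgv))]
      · change (if g * d ∈ B then s (g * d * w) else 0) = if g ∈ B then s (g * w) else 0
        by_cases hg : g ∈ B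
        · rw [if_pos hg, if_pos (B.mul_mem hg (h.DB (hDD hd)))]
          have h1 : g * d * w = g * w * (w⁻¹ * d * w) := by group
          rw [h1, hs1.2 _ _ (hwD d hd)]
        · rw [if_neg hg,
            if_neg (fun hgv => hg ((Subgroup.mul_mem_cancel_right B (h.DB (hDD hd))).1 hgv))]
    have hTr : ∀ g, T Q w r g = s g := by
      intro g
      by_cases hg : g ∈ B
      · rw [hs3 g hg, T]
        refine Finset.sum_eq_zero (fun v _ => ?_)
        change (if g * v * w ∈ B then _ else _) = _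
        rw [if_neg (fun hm => h.wB ((Subgroup.mul_mem_cancel_left B (B.mul_mem hg (h.QB v.2))).1 hm))]
      · obtain ⟨b, hb, x, hx, rfl⟩ := h.bruhat' hg
        rw [T, Finset.sum_eq_single (⟨x, hx⟩⁻¹ : Q)]
        · change (if b * w * x * x⁻¹ * w ∈ B then s (b * w * x * x⁻¹ * w * w) else 0) = _
          have h1 : b * w * x * x⁻¹ * w = b := by
            rw [mul_inv_cancel_right, mul_assoc, hw, mul_one]
          rw [h1, if_pos hb, hs1.1 _ _ hx]
        · intro v _ hv
          change (if b * w * x * v * w ∈ B then _ else _) = _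
          rw [if_neg]
          intro hm
          have h1 : b * w * x * (v : G) * w = b * (w * (x * v) * w⁻¹) := by rw [hwi]; group
          rw [h1, Subgroup.mul_mem_cancel_left B hb] at hm
          refine h.not_mem_of_Q' (Q.mul_mem hx v.2) (fun e => hv ?_) hm
          rw [eq_comm, inv_eq_iff_mul_eq_one]
          exact Subtype.ext e
        · intro hn
          exact absurd (Finset.mem_univ _) hn
    ext g
    rw [← hTr g, ← hTT r hr g]
    have h5 : T Q w r = s := funext hTr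
    rw [h5]
    exact hs2 g
  -- hence `N = 0`
  have hN : ∀ s ∈ N, s = 0 := by
    intro s hs
    by_contra hs0
    let act : MulAction Q N :=
      { smul := fun v s => ⟨fun g => s.1 ((v : G)⁻¹ * g), by
          obtain ⟨hs1, hs2, hs3⟩ := s.2
          refine ⟨⟨fun g x hx => ?_, fun g x hx => ?_⟩, fun g => ?_, fun g hg => ?_⟩
          · change s.1 ((v : G)⁻¹ * (g * x)) = _
            rw [← mul_assoc]
            exact hs1.1 _ _ hx
          · change s.1 ((v : G)⁻¹ * (g * x)) = _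
            rw [← mul_assoc]
            exact hs1.2 _ _ hx
          · rw [T_left]
            exact hs2 _
          · exact hs3 _ (B.mul_mem (B.inv_mem (h.QB v.2)) hg)⟩
        one_smul := fun s => Subtype.ext (funext fun g => by
          change s.1 (((1 : Q) : G)⁻¹ * g) = s.1 g
          rw [Subgroup.coe_one, inv_one, one_mul])
        mul_smul := fun v v' s => Subtype.ext (funext fun g => by
          change s.1 (((v * v' : Q) : G)⁻¹ * g) = s.1 ((v' : G)⁻¹ * ((v : G)⁻¹ * g))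
          rw [Subgroup.coe_mul, mul_inv_rev, mul_assoc]) }
    have h2 : 2 ∣ Nat.card N := by
      have h3 : addOrderOf (⟨s, hs⟩ : N) = 2 := by
        refine addOrderOf_eq_prime ?_ (fun e => hs0 (congrArg Subtype.val e))
        rw [two_nsmul]
        refine Subtype.ext (funext fun g => ?_)
        exact CharTwo.add_self_eq_zero _
      have h3' := addOrderOf_dvd_natCard (⟨s, hs⟩ : N)
      obtain ⟨k, hk⟩ := h3'
      exact ⟨k, by rw [hk, h3]⟩
    obtain ⟨s', hs', hne⟩ := hQ.exists_fixed_point_of_prime_dvd_card_of_fixed_point N h2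
      (a := 0) (fun v => Subtype.ext rfl)
    apply hne
    symm
    refine Subtype.ext (hno s'.1 s'.2 (fun v hv g => ?_))
    have h4 := hs' (⟨v, hv⟩⁻¹ : Q)
    have h5 := congrFun (congrArg Subtype.val h4) g
    change s'.1 (((⟨v, hv⟩⁻¹ : Q) : G)⁻¹ * g) = s'.1 g at h5
    rwa [Subgroup.coe_inv, inv_inv] at h5
  have h6 := hN (fun g => f (u * g) + f g) ?_
  · have h7 := congrFun h6 g
    exact CharTwo.add_eq_zero.1 h7
  · refine ⟨⟨fun g x hx => ?_, fun g x hx => ?_⟩, fun g => ?_, fun g hg => ?_⟩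
    · change f (u * (g * x)) + f (g * x) = f (u * g) + f g
      rw [← mul_assoc, hf.1 _ _ hx, hf.1 _ _ hx]
    · change f (u * (g * x)) + f (g * x) = f (u * g) + f g
      rw [← mul_assoc, hf.2 _ _ hx, hf.2 _ _ hx]
    · rw [T_add, T_left, hker, hker, add_zero]
    · change f (u * g) + f g = 0
      have h8 : u * g = g * (g⁻¹ * u * g) := by group
      rw [h8, hf.1 _ _ (h.Qn' hg hu)]
      exact CharTwo.add_self_eq_zero _

/-- **Main theorem of this file.** -/
theorem le_of_aut [Finite G] (h : RankOne B Q D W w) (hw : w * w = 1) (hDD : D₀ ≤ D)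
    (hwD : ∀ d ∈ D₀, w⁻¹ * d * w ∈ D₀) (hQ : IsPGroup 2 Q) (hQe : Even (Nat.card Q))
    (hgen : Subgroup.normalClosure (Q : Set G) = ⊤)
    (y : Q → Q) (hyy : ∀ u, y (y u) = u) (hy1 : y 1 = 1)
    (hy : ∀ u : Q, ∀ x₁ ∈ Q, ∀ d ∈ D, ∀ x₂ ∈ Q, w * u * w = x₁ * d * w * x₂ →
      ∃ z₁ ∈ Q, ∃ z₂ ∈ Q, w * (y u : G) * w = z₁ * d * w * z₂)
    (hfix : ∀ u : Q, u ≠ 1 → y u = u → ∃ x₁ ∈ Q, ∃ d ∈ D₀, ∃ x₂ ∈ Q, w * u * w = x₁ * d * w * x₂)
    (hodd : Even (Nat.card {u : Q // y u = u})) : D ≤ D₀ := by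
  classical
  have hTT : ∀ f : G → ZMod 2, Inv Q D₀ f → ∀ g, T Q w (T Q w f) g = T Q w f g :=
    fun f hf g => TT h hw hDD hwD hQe y hyy hy1 hy hfix hodd hf g
  let δ : G → ZMod 2 := fun g => if ∃ u ∈ Q, ∃ d ∈ D₀, g = u * d then 1 else 0
  have hδ : Inv Q D₀ δ := by
    refine ⟨fun g v hv => ?_, fun g e he => ?_⟩
    · have : (∃ u ∈ Q, ∃ d ∈ D₀, g * v = u * d) ↔ ∃ u ∈ Q, ∃ d ∈ D₀, g = u * d := by
        constructor
        · rintro ⟨u, hu, d, hd, he⟩
          refine ⟨u * (d * v⁻¹ * d⁻¹), Q.mul_mem hu (h.Qn d (h.DB (hDD hd)) _ (Q.inv_mem hv)), d, hd, ?_⟩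
          rw [← mul_inv_eq_iff_eq_mul] at he
          calc g = u * d * v⁻¹ := by rw [← mul_inv_eq_iff_eq_mul.1 he]; group
            _ = _ := by group
        · rintro ⟨u, hu, d, hd, rfl⟩
          refine ⟨u * (d * v * d⁻¹), Q.mul_mem hu (h.Qn d (h.DB (hDD hd)) _ hv), d, hd, ?_⟩
          group
      change (if _ then _ else _) = if _ then _ else _
      simp only [this]
    · have : (∃ u ∈ Q, ∃ d ∈ D₀, g * e = u * d) ↔ ∃ u ∈ Q, ∃ d ∈ D₀, g = u * d := by
        constructor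
        · rintro ⟨u, hu, d, hd, he'⟩
          refine ⟨u, hu, d * e⁻¹, D₀.mul_mem hd (D₀.inv_mem he), ?_⟩
          rw [← mul_assoc, ← he', mul_inv_cancel_right]
        · rintro ⟨u, hu, d, hd, rfl⟩
          exact ⟨u, hu, d * e, D₀.mul_mem hd he, by group⟩
      change (if _ then _ else _) = if _ then _ else _
      simp only [this]
  have hδB : ∀ g, g ∉ B → δ g = 0 := by
    intro g hg
    refine if_neg ?_
    rintro ⟨u, hu, d, hd, rfl⟩
    exact hg (B.mul_mem (h.QB hu) (h.DB (hDD hd)))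
  have hTδ : ∀ g ∈ B, T Q w δ g = 0 := by
    intro g hg
    refine Finset.sum_eq_zero (fun v _ => hδB _ (fun hm => h.wB ?_))
    exact (Subgroup.mul_mem_cancel_left B (B.mul_mem hg (h.QB v.2))).1 hm
  let f : G → ZMod 2 := fun g => δ g + T Q w δ g
  have hTδi := T_inv h hDD hwD hδ
  have hf : Inv Q D₀ f := by
    refine ⟨fun g u hu => ?_, fun g d hd => ?_⟩
    · change δ (g * u) + T Q w δ (g * u) = δ g + T Q w δ g
      rw [hδ.1 g u hu, hTδi.1 g u hu]
    · change δ (g * d) + T Q w δ (g * d) = δ g + T Q w δ g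
      rw [hδ.2 g d hd, hTδi.2 g d hd]
  have hker : ∀ g, T Q w f g = 0 := by
    intro g
    change T Q w (fun g => δ g + T Q w δ g) g = 0
    rw [T_add, hTT δ hδ]
    exact CharTwo.add_self_eq_zero _
  -- `f` is constant
  have hinv : ∀ x u : G, u ∈ Q → ∀ g, f (x * u * g) = f (x * g) := by
    intro x u hu g
    have hfx : Inv Q D₀ (fun g => f (x * g)) := by
      refine ⟨fun g v hv => ?_, fun g d hd => ?_⟩
      · change f (x * (g * v)) = f (x * g)
        rw [← mul_assoc, hf.1 _ _ hv]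
      · change f (x * (g * d)) = f (x * g)
        rw [← mul_assoc, hf.2 _ _ hd]
    have := left_Q h hw hDD hwD hQ hTT hfx (fun g => by rw [T_left]; exact hker _) hu g
    change f (x * (u * g)) = f (x * g) at this
    rwa [← mul_assoc] at this
  let K : Subgroup G :=
    { carrier := {k | ∀ g, f (k * g) = f g}
      one_mem' := fun g => by rw [one_mul]
      mul_mem' := by
        intro k k' hk hk' g
        rw [mul_assoc, hk, hk']
      inv_mem' := by
        intro k hk g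
        have := hk (k⁻¹ * g)
        rw [mul_inv_cancel_left] at this
        exact this.symm }
  have hK : K = ⊤ := by
    rw [eq_top_iff, ← hgen, Subgroup.normalClosure, Subgroup.closure_le]
    intro k hk
    rw [Group.mem_conjugatesOfSet_iff] at hk
    obtain ⟨u, hu, hc⟩ := hk
    obtain ⟨x, rfl⟩ := isConj_iff.1 hc
    intro g
    have := hinv x u hu (x⁻¹ * g)
    rw [mul_inv_cancel_left] at this
    rw [← this]
    congr 1
    group
  have hconst : ∀ g, f g = f 1 := by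
    intro g
    have : g ∈ K := by rw [hK]; trivial
    have := this 1
    rwa [mul_one] at this
  intro d hd
  have h1 : f 1 = 1 := by
    change δ 1 + T Q w δ 1 = 1
    rw [hTδ 1 B.one_mem, add_zero]
    exact if_pos ⟨1, Q.one_mem, 1, D₀.one_mem, by rw [mul_one]⟩
  have h2 : δ d = 1 := by
    have := hconst d
    change δ d + T Q w δ d = f 1 at this
    rwa [hTδ d (h.DB hd), add_zero, h1] at this
  by_contra hd0
  have h3 : δ d = 0 := by
    refine if_neg ?_
    rintro ⟨u, hu, e, he, hde⟩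
    apply hd0
    have h4 : u = d * e⁻¹ := by rw [hde]; group
    have h5 : u = 1 := h.QD u hu (by rw [h4]; exact D.mul_mem hd (D.inv_mem (hDD he)))
    rw [hde, h5, one_mul]
    exact he
  rw [h3] at h2
  exact zero_ne_one h2

end

end Cfsg.Agent.SplitTwo.RankOneMod
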