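import Cfsg.Agent.KantorSeitz.Lines
import Cfsg.Agent.SplitTwo.RankOneFrame
import Cfsg.Agent.S1180
import Cfsg.Agent.S0215
import Cfsg.Agent.S0205
import Cfsg.Agent.S1220
import Cfsg.Agent.S1221
import Cfsg.Agent.S1225

/-!
# Kantor–Seitz groups of odd degree which are not affine

`KS U`, odd degree, `X` a normal nonabelian simple subgroup. The involutions of `X` fix exactly one point,
the stabilisers in `X` are strongly embedded, `X` is doubly transitive.
-/

set_option autoImplicit false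
set_option linter.unusedSectionVars false

namespace Cfsg.Agent.SplitTwo.RankOneOdd

open MulAction Cfsg Cfsg.Agent.KantorSeitz

universe u v

/-- The conclusion of S1174 for the group `X`. -/
def Crit (X : Type*) [Group X] : Prop :=
  ∀ (S : Sylow 2 X) (T : Subgroup X), T ≠ ⊥ → IsStronglyClosed T (S : Subgroup X) →
    (⨆ t : {t : X // t ∈ T ∧ orderOf t = 2}, Subgroup.centralizer ({(t : X)} : Set X)) ≠ ⊤ →
    ∃ H : Subgroup X, IsStronglyEmbedded H

variable {G Ω : Type*} [Group G] [Finite G] [MulAction G Ω] [Finite Ω] [FaithfulSMul G Ω]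
  {U : Ω → Subgroup G}

/-- the involutions (and `1`) in the centre of `U a` -/
def Zc (U : Ω → Subgroup G) (a : Ω) : Subgroup G where
  carrier := {z | z ∈ U a ∧ z * z = 1 ∧ ∀ u ∈ U a, u * z = z * u}
  one_mem' := ⟨one_mem _, one_mul _, fun u _ => by rw [one_mul, mul_one]⟩
  mul_mem' := by
    rintro x y ⟨hx, hxx, hxc⟩ ⟨hy, hyy, hyc⟩
    refine ⟨mul_mem hx hy, ?_, fun u hu => ?_⟩
    · calc x * y * (x * y) = x * (y * x) * y := by group
        _ = x * (x * y) * y := by rw [hxc y hy]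
        _ = (x * x) * (y * y) := by group
        _ = 1 := by rw [hxx, hyy, one_mul]
    · rw [← mul_assoc, hxc u hu, mul_assoc, hyc u hu, mul_assoc]
  inv_mem' := by
    rintro x ⟨hx, hxx, hxc⟩
    have : x⁻¹ = x := inv_eq_of_mul_eq_one_left hxx
    rw [this]
    exact ⟨hx, hxx, hxc⟩

theorem mem_Zc {a : Ω} {z : G} : z ∈ Zc U a ↔ z ∈ U a ∧ z * z = 1 ∧ ∀ u ∈ U a, u * z = z * u := Iff.rfl

theorem conj_Zc (h : KS U) (g : G) {a : Ω} {z : G} (hz : z ∈ Zc U a) : g * z * g⁻¹ ∈ Zc U (g • a) := by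
  obtain ⟨h1, h2, h3⟩ := hz
  refine ⟨h.conj g h1, ?_, fun u hu => ?_⟩
  · calc g * z * g⁻¹ * (g * z * g⁻¹) = g * (z * z) * g⁻¹ := by group
      _ = 1 := by rw [h2]; group
  · have h4 : g⁻¹ * u * g ∈ U a := by
      have := h.conj g⁻¹ hu
      rwa [inv_smul_smul, inv_inv] at this
    calc u * (g * z * g⁻¹) = g * ((g⁻¹ * u * g) * z) * g⁻¹ := by group
      _ = g * (z * (g⁻¹ * u * g)) * g⁻¹ := by rw [h3 _ h4]
      _ = _ := by group

theorem Zc_fix (h : KS U) {a : Ω} {z : G} (hz : z ∈ Zc U a) : z • a = a := h.fix hz.1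

theorem Zc_eq (h : KS U) {a b : Ω} {z : G} (hz : z ∈ Zc U a) (hz1 : z ≠ 1) (hb : z • b = b) : b = a := by
  by_contra hab
  exact hz1 (h.semireg_of_comm hab (h.fix hz.1) hz.2.2 hb)

/-- a commuting element fixes the point -/
theorem fix_of_comm (h : KS U) {a : Ω} {z g : G} (hz : z ∈ Zc U a) (hz1 : z ≠ 1) (hg : z * g = g * z) :
    g • a = a := by
  refine Zc_eq h hz hz1 ?_
  rw [← mul_smul, hg, mul_smul, Zc_fix h hz]

theorem exists_Zc (h : KS U) (hodd : Odd (Nat.card Ω)) {a b : Ω} (hab : b ≠ a) :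
    ∃ z ∈ Zc U a, z ≠ 1 := by
  classical
  have : Fact (Nat.Prime 2) := ⟨Nat.prime_two⟩
  have hev : Even (Nat.card (U a)) := by
    -- the orbit `Ω ∖ {a}`
    have h1 := MulAction.index_stabilizer (U a) b
    have h2 : MulAction.orbit (U a) b = {a}ᶜ := by
      ext c
      rw [Set.mem_compl_iff, Set.mem_singleton_iff]
      constructor
      · rintro ⟨x, rfl⟩ hc
        have h3 : x.1 • b = a := hc
        have h4 : x.1 • b = x.1 • a := by rw [h3, h.fix x.2]
        exact hab (MulAction.injective x.1 h4)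
      · intro hc
        obtain ⟨x, hx, hxb⟩ := h.trans hab hc
        exact ⟨⟨x, hx⟩, hxb⟩
    rw [h2, Set.ncard_compl, Set.ncard_singleton] at h1
    have h3 : (MulAction.stabilizer (U a) b).index ∣ Nat.card (U a) := Subgroup.index_dvd_card _
    rw [h1] at h3
    rw [even_iff_two_dvd]
    refine dvd_trans ?_ h3
    obtain ⟨k, hk⟩ := hodd
    exact ⟨k, by omega⟩
  have h1 : pP 2 (U a) ≠ ⊥ := by
    intro hb
    obtain ⟨⟨x, hx⟩, hx2⟩ := exists_prime_orderOf_dvd_card' 2 (even_iff_two_dvd.1 hev)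
    rw [Subgroup.orderOf_mk] at hx2
    have h3 : x ∈ pP 2 (U a) := mem_pP_of hx (k := 1) (by rw [pow_one, ← hx2, pow_orderOf_eq_one])
    rw [hb, Subgroup.mem_bot] at h3
    rw [h3, orderOf_one] at hx2
    omega
  have h2 := Z_ne_bot (p := 2) (h.nil a) h1
  obtain ⟨⟨z, hz⟩, hz1'⟩ := Subgroup.ne_bot_iff_exists_ne_one.1 h2
  have hz1 : z ≠ 1 := fun e => hz1' (Subtype.ext e)
  obtain ⟨-, k, hk⟩ := (mem_pP (h.nil a)).1 (Z_le hz)
  obtain ⟨n, -, hn⟩ := (Nat.dvd_prime_pow Nat.prime_two).1 (orderOf_dvd_of_pow_eq_one hk)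
  have hn0 : n ≠ 0 := by
    rintro rfl
    rw [pow_zero, orderOf_eq_one_iff] at hn
    exact hz1 hn
  obtain ⟨m, rfl⟩ := Nat.exists_eq_succ_of_ne_zero hn0
  have hj : z ^ 2 ^ m ∈ Z 2 U a := Subgroup.pow_mem _ hz _
  refine ⟨z ^ 2 ^ m, ⟨pP_le _ _ (Z_le hj), ?_, fun u hu => h.Z_comm hj hu⟩, ?_⟩
  · rw [← pow_add, ← two_mul, ← pow_succ', ← hn, pow_orderOf_eq_one]
  · refine pow_ne_one_of_lt_orderOf (pow_ne_zero _ (by norm_num)) ?_
    rw [hn]
    exact Nat.pow_lt_pow_right (by norm_num) (Nat.lt_succ_self m)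

section

variable {X : Subgroup G}

/-- a nontrivial normal subgroup is transitive -/
theorem trans_X (h : KS U) (hX : X.Normal) (hX1 : X ≠ ⊥) (a b : Ω) : ∃ x ∈ X, x • a = b := by
  by_cases hab : a = b
  · exact ⟨1, one_mem _, by rw [one_smul, hab]⟩
  obtain ⟨⟨x, hx⟩, hx1⟩ := Subgroup.ne_bot_iff_exists_ne_one.1 hX1
  have hx1' : x ≠ 1 := fun e => hx1 (Subtype.ext e)
  have : ∃ c : Ω, x • c ≠ c := by
    by_contra hno
    push Not at hno
    exact hx1' (KS.eq_one_of_fix (Ω := Ω) hno)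
  obtain ⟨c, hc⟩ := this
  obtain ⟨g, hg1, hg2⟩ := h.two (Ne.symm hc) hab
  refine ⟨g * x * g⁻¹, hX.conj_mem x hx g, ?_⟩
  rw [← hg1, mul_smul, mul_smul, inv_smul_smul, hg2]

/-- In odd degree some central involution of `U a` lies in `X`. -/
theorem exists_Zc_X (h : KS U) (hodd : Odd (Nat.card Ω)) (hX : X.Normal) [IsSimpleGroup X]
    (hnc : ∃ x y : X, x * y ≠ y * x) {a b : Ω} (hab : b ≠ a) : ∃ z ∈ Zc U a, z ∈ X ∧ z ≠ 1 := by
  classical
  by_contra hno
  push Not at hno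
  obtain ⟨z, hz, hz1⟩ := exists_Zc h hodd hab
  have hzX : z ∉ X := fun hzX => hz1 (hno z hz hzX)
  have hX1 : X ≠ ⊥ := by
    rintro rfl
    obtain ⟨x, y, hxy⟩ := hnc
    exact hxy (Subsingleton.elim _ _)
  -- `z` centralises the stabiliser
  have hcen : ∀ x ∈ X, x • a = a → z * x = x * z := by
    intro x hx hxa
    have h1 : x * z⁻¹ * x⁻¹ ∈ Zc U a := by
      have := conj_Zc h x ((Zc U a).inv_mem hz)
      rwa [hxa] at this
    have h2 := hno (z * (x * z⁻¹ * x⁻¹)) ((Zc U a).mul_mem hz h1) (by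
      have : z * (x * z⁻¹ * x⁻¹) = (z * x * z⁻¹) * x⁻¹ := by group
      rw [this]
      exact X.mul_mem (hX.conj_mem x hx z) (X.inv_mem hx))
    have h3 : z * x = (z * (x * z⁻¹ * x⁻¹)) * (x * z) := by group
    rw [h3, h2, one_mul]
  let H : Subgroup G := X ⊔ Subgroup.zpowers z
  have hzH : z ∈ H := Subgroup.mem_sup_right (Subgroup.mem_zpowers z)
  have hXH : X ≤ H := le_sup_left
  have hiso : IsIsolatedInvolution (⟨z, hzH⟩ : H) := by
    refine ⟨?_, ?_⟩
    · refine orderOf_eq_prime ?_ (fun e => hz1 (congrArg Subtype.val e))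
      rw [pow_two]
      exact Subtype.ext hz.2.1
    · rintro ⟨g, hg⟩ hc
      have hc' : z * (g * z * g⁻¹) = (g * z * g⁻¹) * z := congrArg Subtype.val hc.eq
      apply Subtype.ext
      change g * z * g⁻¹ = z
      obtain ⟨x, hx, y, hy, rfl⟩ := Subgroup.mem_sup_of_normal_left.1 hg
      obtain ⟨i, rfl⟩ := Subgroup.mem_zpowers_iff.1 hy
      have h1 : x * z ^ i * z * (x * z ^ i)⁻¹ = x * z * x⁻¹ := by group
      rw [h1] at hc' ⊢
      have h2 := fix_of_comm h hz hz1 hc'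
      have h3 : x * z * x⁻¹ ∈ Zc U (x • a) := conj_Zc h x hz
      have h4 : x * z * x⁻¹ ≠ 1 := by
        intro e
        apply hz1
        rw [mul_inv_eq_one] at e
        exact mul_left_cancel (e.trans (mul_one x).symm)
      have h5 := Zc_eq h h3 h4 h2
      rw [← hcen x hx h5.symm, mul_inv_cancel_right]
  have : Fact (Nat.Prime 2) := ⟨Nat.prime_two⟩
  have hp : IsPGroup 2 (Subgroup.zpowers (⟨z, hzH⟩ : H)) := by
    apply IsPGroup.of_card (n := 1)
    rw [Nat.card_zpowers, hiso.1, pow_one]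
  obtain ⟨P, hP⟩ := hp.exists_le_sylow
  have htP : (⟨z, hzH⟩ : H) ∈ P := hP (Subgroup.mem_zpowers _)
  obtain ⟨N, hN, hNodd, hcomm⟩ := Cfsg.Agent.S0215.result P (⟨z, hzH⟩ : H) hiso.1 htP
    (fun g hg => Cfsg.Agent.S1180.eq_of_conj_mem_isPGroup _ hiso (P : Subgroup H) P.2 htP g hg)
  -- the intersection of `N` and `X`
  let N' : Subgroup X := N.comap (Subgroup.inclusion hXH)
  have hN'n : N'.Normal := hN.comap _
  have hNX : N' = ⊥ := by
    rcases hN'n.eq_bot_or_eq_top with h1 | h1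
    · exact h1
    · exfalso
      have h2 : Odd (Nat.card X) := by
        have h3 : Nat.card X ∣ Nat.card N := by
          have h4 : ∀ x : X, Subgroup.inclusion hXH x ∈ N := by
            intro x
            have : x ∈ N' := by rw [h1]; trivial
            exact this
          let f : X →* N := (Subgroup.inclusion hXH).codRestrict N h4
          have hf : Function.Injective f := by
            intro x y hxy
            have := congrArg (fun n : N => ((n : H) : G)) hxy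
            exact Subtype.ext this
          exact Subgroup.card_dvd_of_injective f hf
        exact Odd.of_dvd_nat hNodd h3
      have h3 : Group.IsSolvable X := Cfsg.Agent.S0205.result h2
      obtain ⟨x, y, hxy⟩ := hnc
      exact hxy (IsSimpleGroup.comm_iff_isSolvable.2 h3 x y)
  have hzc : ∀ x ∈ X, z * x = x * z := by
    intro x hx
    have h1 := hcomm ⟨x, hXH hx⟩
    have h2 : (⟨z * x * z⁻¹ * x⁻¹, X.mul_mem (hX.conj_mem x hx z) (X.inv_mem hx)⟩ : X) ∈ N' := h1
    rw [hNX, Subgroup.mem_bot] at h2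
    have h3 : z * x * z⁻¹ * x⁻¹ = 1 := congrArg Subtype.val h2
    rw [mul_inv_eq_one, mul_inv_eq_iff_eq_mul] at h3
    exact h3
  apply hz1
  apply KS.eq_one_of_fix (Ω := Ω)
  intro c
  obtain ⟨x, hx, rfl⟩ := trans_X h hX hX1 a c
  rw [← mul_smul, hzc x hx, mul_smul, Zc_fix h hz]

/-- **All involutions of `X` are conjugate; each fixes exactly one point.** -/
theorem inv_conj_all (h : KS U) (hodd : Odd (Nat.card Ω)) (hX : X.Normal) [IsSimpleGroup X]
    (hnc : ∃ x y : X, x * y ≠ y * x) {a b : Ω} (hab : b ≠ a) (hcrit : Crit X) :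
    ∀ x y : X, orderOf x = 2 → orderOf y = 2 → IsConj x y := by
  classical
  have : Fact (Nat.Prime 2) := ⟨Nat.prime_two⟩
  have hX1 : X ≠ ⊥ := by
    rintro rfl
    obtain ⟨x, y, hxy⟩ := hnc
    exact hxy (Subsingleton.elim _ _)
  obtain ⟨z, hz, hzX, hz1⟩ := exists_Zc_X h hodd hX hnc hab
  let T : Subgroup X := (Zc U a).subgroupOf X
  have hT2 : IsPGroup 2 T := by
    rintro ⟨⟨x, hx⟩, hx'⟩
    refine ⟨1, Subtype.ext (Subtype.ext ?_)⟩
    have h1 : x * x = 1 := (Subgroup.mem_subgroupOf.1 hx').2.1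
    change x ^ 2 ^ 1 = 1
    rw [pow_one, pow_two, h1]
  obtain ⟨S, hS⟩ := hT2.exists_le_sylow
  -- `S` fixes `a`
  have hSa : ∀ s ∈ S, (s : X).1 • a = a := by
    have h1 : (Nat.card Ω).Coprime 2 := Nat.coprime_two_right.2 hodd
    obtain ⟨c, hc⟩ : (fixedPoints S Ω).Nonempty := by
      rw [Set.nonempty_iff_ne_empty]
      intro he
      have h2 := S.isPGroup'.card_modEq_card_fixedPoints Ω
      rw [he] at h2
      have h3 : Nat.card (∅ : Set Ω) = 0 := by simp
      rw [h3] at h2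
      have h4 := Nat.modEq_zero_iff_dvd.1 h2
      rw [← Nat.not_even_iff_odd] at hodd
      exact hodd (even_iff_two_dvd.2 h4)
    have hzS : (⟨z, hzX⟩ : X) ∈ S := hS (Subgroup.mem_subgroupOf.2 hz)
    have h5 : z • c = c := hc ⟨⟨z, hzX⟩, hzS⟩
    have h6 := Zc_eq h hz hz1 h5
    intro s hs
    have h7 : s.1 • c = c := hc ⟨s, hs⟩
    rwa [h6] at h7
  have hcl : IsStronglyClosed T (S : Subgroup X) := by
    refine ⟨hS, ?_⟩
    rintro ⟨x, hxX⟩ hx ⟨g, hg⟩ hgx
    by_cases hx1 : x = 1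
    · subst hx1
      have : (⟨g, hg⟩ : X) * ⟨1, hxX⟩ * ⟨g, hg⟩⁻¹ = 1 := by
        have h1 : (⟨1, hxX⟩ : X) = 1 := rfl
        rw [h1]
        group
      rw [this]
      exact one_mem _
    · have h1 : x ∈ Zc U a := Subgroup.mem_subgroupOf.1 hx
      have h2 := hSa _ hgx
      have h3 : g * x * g⁻¹ ∈ Zc U (g • a) := conj_Zc h g h1
      have h4 : g * x * g⁻¹ ≠ 1 := by
        intro e
        apply hx1
        rw [mul_inv_eq_one] at e
        exact mul_left_cancel (e.trans (mul_one g).symm)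
      have h5 : a = g • a := Zc_eq h h3 h4 h2
      rw [← h5] at h3
      exact Subgroup.mem_subgroupOf.2 h3
  have hprop : (⨆ t : {t : X // t ∈ T ∧ orderOf t = 2}, Subgroup.centralizer ({(t : X)} : Set X)) ≠ ⊤ := by
    intro htop
    have h1 : (⨆ t : {t : X // t ∈ T ∧ orderOf t = 2}, Subgroup.centralizer ({(t : X)} : Set X)) ≤
        stabilizer X a := by
      refine iSup_le ?_
      rintro ⟨t, ht, ht2⟩ x hx
      rw [Subgroup.mem_centralizer_singleton_iff] at hx
      refine fix_of_comm h (Subgroup.mem_subgroupOf.1 ht) ?_ (congrArg Subtype.val hx.symm)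
      intro e
      have : t = 1 := Subtype.ext e
      rw [this, orderOf_one] at ht2
      omega
    rw [htop] at h1
    obtain ⟨x, hx, hxa⟩ := trans_X h hX hX1 a b
    have h2 : x • a = a := h1 (Subgroup.mem_top (⟨x, hx⟩ : X))
    exact hab (hxa.symm.trans h2)
  have hTne : T ≠ ⊥ := by
    intro hT
    have h1 : (⟨z, hzX⟩ : X) ∈ T := Subgroup.mem_subgroupOf.2 hz
    rw [hT, Subgroup.mem_bot] at h1
    exact hz1 (congrArg Subtype.val h1)
  obtain ⟨H, hH⟩ := hcrit S T hTne hcl hprop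
  -- an involution outside `H`
  obtain ⟨s, hs⟩ := exists_prime_orderOf_dvd_card' 2 (even_iff_two_dvd.1 hH.2.1)
  have hs' : orderOf (s : X) = 2 := by rw [Subgroup.orderOf_coe, hs]
  have hu : ∃ u : X, orderOf u = 2 ∧ u ∉ H := by
    by_contra hno
    push Not at hno
    have h1 : Subgroup.normalClosure ({(s : X)} : Set X) ≤ H := by
      rw [Subgroup.normalClosure, Subgroup.closure_le]
      intro x hx
      rw [Group.mem_conjugatesOfSet_iff] at hx
      obtain ⟨s', hs1, hc⟩ := hx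
      rw [Set.mem_singleton_iff] at hs1
      subst hs1
      obtain ⟨g, rfl⟩ := isConj_iff.1 hc
      refine hno _ ?_
      have := orderOf_injective (MulAut.conj g).toMonoidHom (MulAut.conj g).injective (s : X)
      rw [← hs']
      exact this
    rcases (Subgroup.normalClosure_normal (s := ({(s : X)} : Set X))).eq_bot_or_eq_top with h2 | h2
    · have h3 : (s : X) ∈ Subgroup.normalClosure ({(s : X)} : Set X) :=
        Subgroup.subset_normalClosure rfl
      rw [h2, Subgroup.mem_bot] at h3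
      rw [h3, orderOf_one] at hs'
      omega
    · rw [h2, top_le_iff] at h1
      exact hH.1 h1
  obtain ⟨u, hu2, huH⟩ := hu
  exact (Cfsg.Agent.S1225.result H hH u hu2 huH s s hs' s.2 hs' s.2).2

theorem orderOf_two {K : Type*} [Group K] {x : K} : orderOf x = 2 ↔ x * x = 1 ∧ x ≠ 1 := by
  have : Fact (Nat.Prime 2) := ⟨Nat.prime_two⟩
  rw [orderOf_eq_prime_iff, pow_two]

/-- Every involution of `X` is a central involution of some `U p`. -/
theorem inv_mem_Zc (h : KS U) (hodd : Odd (Nat.card Ω)) (hX : X.Normal) [IsSimpleGroup X]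
    (hnc : ∃ x y : X, x * y ≠ y * x) {a b : Ω} (hab : b ≠ a) (hcrit : Crit X) {t : G} (ht : t ∈ X)
    (htt : t * t = 1) (ht1 : t ≠ 1) : ∃ p : Ω, t ∈ Zc U p := by
  obtain ⟨z, hz, hzX, hz1⟩ := exists_Zc_X h hodd hX hnc hab
  obtain ⟨x, hx⟩ := isConj_iff.1 (inv_conj_all h hodd hX hnc hab hcrit ⟨z, hzX⟩ ⟨t, ht⟩
    (orderOf_two.2 ⟨Subtype.ext hz.2.1, fun e => hz1 (congrArg Subtype.val e)⟩)
    (orderOf_two.2 ⟨Subtype.ext htt, fun e => ht1 (congrArg Subtype.val e)⟩))
  have h1 : x.1 * z * x.1⁻¹ = t := congrArg Subtype.val hx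
  exact ⟨x.1 • a, h1 ▸ conj_Zc h x.1 hz⟩

theorem inv_mem_Zc' (h : KS U) (hodd : Odd (Nat.card Ω)) (hX : X.Normal) [IsSimpleGroup X]
    (hnc : ∃ x y : X, x * y ≠ y * x) {a b : Ω} (hab : b ≠ a) (hcrit : Crit X) {t : G} (ht : t ∈ X)
    (htt : t * t = 1) (ht1 : t ≠ 1) {c : Ω} (htc : t • c = c) : t ∈ Zc U c := by
  obtain ⟨p, hp⟩ := inv_mem_Zc h hodd hX hnc hab hcrit ht htt ht1
  rwa [Zc_eq h hp ht1 htc]

/-- The stabilisers in `X` are strongly embedded. -/
theorem stronglyEmbedded (h : KS U) (hodd : Odd (Nat.card Ω)) (hX : X.Normal) [IsSimpleGroup X]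
    (hnc : ∃ x y : X, x * y ≠ y * x) {a b : Ω} (hab : b ≠ a) (hcrit : Crit X) :
    IsStronglyEmbedded (stabilizer X a) := by
  classical
  have : Fact (Nat.Prime 2) := ⟨Nat.prime_two⟩
  have hX1 : X ≠ ⊥ := by
    rintro rfl
    obtain ⟨x, y, hxy⟩ := hnc
    exact hxy (Subsingleton.elim _ _)
  obtain ⟨z, hz, hzX, hz1⟩ := exists_Zc_X h hodd hX hnc hab
  refine ⟨fun htop => ?_, ?_, fun g hg => ?_⟩
  · obtain ⟨x, hx, hxa⟩ := trans_X h hX hX1 a b
    have h2 : (⟨x, hx⟩ : X) ∈ stabilizer X a := by rw [htop]; trivial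
    exact hab (hxa.symm.trans h2)
  · have h1 : (⟨z, hzX⟩ : X) ∈ stabilizer X a := Zc_fix h hz
    have h2 : orderOf (⟨⟨z, hzX⟩, h1⟩ : stabilizer X a) = 2 :=
      orderOf_two.2 ⟨Subtype.ext (Subtype.ext hz.2.1), fun e => hz1
        (congrArg Subtype.val (congrArg Subtype.val e))⟩
    rw [even_iff_two_dvd, ← h2]
    exact orderOf_dvd_natCard _
  · rw [← Nat.not_even_iff_odd, even_iff_two_dvd]
    intro h2
    obtain ⟨d, hd⟩ := exists_prime_orderOf_dvd_card' 2 h2
    obtain ⟨hdd, hd1⟩ := orderOf_two.1 hd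
    have h3 : ((d : X) : G) ≠ 1 := fun e => hd1 (Subtype.ext (Subtype.ext e))
    have h4 : ((d : X) : G) * ((d : X) : G) = 1 := congrArg Subtype.val (congrArg Subtype.val hdd)
    have h5 : ((d : X) : G) • a = a := d.2.1
    obtain ⟨e, he, hed⟩ := Subgroup.mem_map.1 d.2.2
    have h6 : ((d : X) : G) • (g.1 • a) = g.1 • a := by
      have h7 : g.1 * e.1 * g.1⁻¹ = ((d : X) : G) := congrArg Subtype.val hed
      have h8 : e.1 • a = a := he
      rw [← h7, mul_smul, mul_smul, inv_smul_smul, h8]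
    have h9 := inv_mem_Zc' h hodd hX hnc hab hcrit (d : X).2 h4 h3 h5
    exact hg (Zc_eq h h9 h3 h6)

end

end Cfsg.Agent.SplitTwo.RankOneOdd
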