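import Cfsg.Agent.SplitTwo.RankOneOdd
import Cfsg.Agent.Lib.Cores

/-!
# Kantor–Seitz groups of odd degree which are not affine: the frame
-/

set_option autoImplicit false
set_option linter.unusedSectionVars false

namespace Cfsg.Agent.SplitTwo.RankOneOddB

open MulAction Cfsg Cfsg.Agent.KantorSeitz Cfsg.Agent.SplitTwo.RankOneOdd Cfsg.Agent.SplitTwo.RankOneFrame

variable {G Ω : Type*} [Group G] [Finite G] [MulAction G Ω] [Finite Ω] [FaithfulSMul G Ω]
  {U : Ω → Subgroup G} {X : Subgroup G}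

theorem oddCore_X [IsSimpleGroup X] {t : X} (ht : orderOf t = 2) : oddCore X = ⊥ := by
  have : Fact (Nat.Prime 2) := ⟨Nat.prime_two⟩
  have hn : (oddCore X).Normal := Cfsg.Agent.Lib.Cores.pPrimeCore_normal 2
  rcases hn.eq_bot_or_eq_top with h1 | h1
  · exact h1
  · exfalso
    have h2 : Odd (Nat.card (oddCore X)) :=
      Nat.coprime_two_right.mp (Cfsg.Agent.Lib.Cores.pPrimeCore_coprime 2)
    rw [h1, Subgroup.card_top, ← Nat.not_even_iff_odd] at h2
    exact h2 (even_iff_two_dvd.2 (ht ▸ orderOf_dvd_natCard t))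

section

variable (h : KS U) (hodd : Odd (Nat.card Ω)) (hX : X.Normal) [IsSimpleGroup X]
  (hnc : ∃ x y : X, x * y ≠ y * x) (hcrit : Crit X)

include h hodd hX hnc hcrit

theorem oddCore_bot {a b : Ω} (hab : b ≠ a) : oddCore X = ⊥ := by
  obtain ⟨z, hz, hzX, hz1⟩ := exists_Zc_X h hodd hX hnc hab
  exact oddCore_X (t := ⟨z, hzX⟩)
    (orderOf_two.2 ⟨Subtype.ext hz.2.1, fun e => hz1 (congrArg Subtype.val e)⟩)

theorem trans_stab {a b c : Ω} (hb : b ≠ a) (hc : c ≠ a) : ∃ x ∈ X, x • a = a ∧ x • b = c := by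
  have hX1 : X ≠ ⊥ := by
    rintro rfl
    obtain ⟨x, y, hxy⟩ := hnc
    exact hxy (Subsingleton.elim _ _)
  have hSE := stronglyEmbedded h hodd hX hnc hb hcrit
  obtain ⟨g₁, hg₁, hg₁a⟩ := trans_X h hX hX1 a b
  obtain ⟨g₂, hg₂, hg₂a⟩ := trans_X h hX hX1 a c
  rcases Cfsg.Agent.S1220.result (stabilizer X a) hSE with h1 | ⟨-, h1⟩
  · obtain ⟨x, hx, hx'⟩ := h1 ⟨g₁, hg₁⟩ ⟨g₂, hg₂⟩ (fun e => hb (hg₁a.symm.trans e))
      (fun e => hc (hg₂a.symm.trans e))
    refine ⟨x, x.2, hx, ?_⟩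
    have h2 : (g₂⁻¹ * (x.1 * g₁)) • a = a := hx'
    rw [mul_smul, mul_smul, hg₁a, inv_smul_eq_iff, hg₂a] at h2
    exact h2
  · exfalso
    rw [oddCore_bot h hodd hX hnc hcrit hb, bot_sup_eq] at h1
    exact hSE.1 h1

theorem two_X {a b c d : Ω} (hab : a ≠ b) (hcd : c ≠ d) : ∃ g ∈ X, g • a = c ∧ g • b = d := by
  have hX1 : X ≠ ⊥ := by
    rintro rfl
    obtain ⟨x, y, hxy⟩ := hnc
    exact hxy (Subsingleton.elim _ _)
  obtain ⟨g, hg, hga⟩ := trans_X h hX hX1 a c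
  have h1 : g • b ≠ c := fun e => hab (MulAction.injective g (hga.trans e.symm))
  obtain ⟨x, hx, hxc, hxb⟩ := trans_stab h hodd hX hnc hcrit h1 hcd.symm
  exact ⟨x * g, X.mul_mem hx hg, by rw [mul_smul, hga, hxc], by rw [mul_smul, hxb]⟩

theorem oddCore_stab {a b : Ω} (hab : b ≠ a) : oddCore (stabilizer X a) = ⊥ := by
  have hSE := stronglyEmbedded h hodd hX hnc hab hcrit
  have h1 := Cfsg.Agent.S1221.result (stabilizer X a) hSE
  rw [oddCore_bot h hodd hX hnc hcrit hab, le_bot_iff] at h1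
  exact (Subgroup.map_eq_bot_iff_of_injective _ (stabilizer X a).subtype_injective).1 h1

/-- `O(U a) ∩ X = 1` -/
theorem pR_inf {a b : Ω} (hab : b ≠ a) {x : G} (hx : x ∈ pR 2 (U a)) (hxX : x ∈ X) : x = 1 := by
  have : Fact (Nat.Prime 2) := ⟨Nat.prime_two⟩
  let N : Subgroup (stabilizer X a) := ((pR 2 (U a)).subgroupOf X).subgroupOf (stabilizer X a)
  have hN : N.Normal := by
    refine ⟨?_⟩
    rintro ⟨⟨y, hyX⟩, hy⟩ hyN ⟨⟨g, hgX⟩, hg⟩
    exact h.conj_pR_of_fix (p := 2) hg hyN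
  have hNodd : Odd (Nat.card N) := by
    have h1 : Nat.card N ∣ Nat.card (pR 2 (U a)) := by
      let f : N →* pR 2 (U a) :=
        { toFun := fun y => ⟨((y : stabilizer X a) : X), y.2⟩
          map_one' := rfl
          map_mul' := fun _ _ => rfl }
      refine Subgroup.card_dvd_of_injective f ?_
      intro y y' hyy
      have h0 : (((y : stabilizer X a) : X) : G) = (((y' : stabilizer X a) : X) : G) :=
        congrArg (fun z : pR 2 (U a) => (z : G)) hyy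
      exact Subtype.ext (Subtype.ext (Subtype.ext h0))
    exact Odd.of_dvd_nat (Nat.coprime_two_right.1 (coprime_pR (h.nil a))) h1
  have h1 : N ≤ oddCore (stabilizer X a) :=
    Cfsg.Agent.Lib.Cores.le_pPrimeCore hN hNodd.coprime_two_right
  rw [oddCore_stab h hodd hX hnc hcrit hab, le_bot_iff] at h1
  have hxa : x • a = a := h.fix (pR_le _ _ hx)
  have h2 : (⟨⟨x, hxX⟩, hxa⟩ : stabilizer X a) ∈ N := hx
  rw [h1, Subgroup.mem_bot] at h2
  exact congrArg Subtype.val (congrArg Subtype.val h2)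

/-- every element of `U a ⊓ X` has `2`-power order -/
theorem two_pow {a b : Ω} (hab : b ≠ a) {x : G} (hx : x ∈ U a) (hxX : x ∈ X) : ∃ k, x ^ 2 ^ k = 1 := by
  have : Fact (Nat.Prime 2) := ⟨Nat.prime_two⟩
  obtain ⟨y, hy, z, hz, hxyz, -, hzx⟩ := exists_mul_parts (p := 2) hx
  have hzX : z ∈ X := (Subgroup.zpowers_le.2 hxX) hzx
  have hz1 := pR_inf h hodd hX hnc hcrit hab hz hzX
  rw [hxyz, hz1, mul_one]
  exact ((mem_pP (h.nil a)).1 hy).2

/-- `U a ⊓ X` is semiregular on the other points -/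
theorem semireg {a b : Ω} (hab : b ≠ a) {x : G} (hx : x ∈ U a) (hxX : x ∈ X) (hxb : x • b = b) : x = 1 := by
  have : Fact (Nat.Prime 2) := ⟨Nat.prime_two⟩
  by_contra hx1
  obtain ⟨k, hk⟩ := two_pow h hodd hX hnc hcrit hab hx hxX
  obtain ⟨n, -, hn⟩ := (Nat.dvd_prime_pow Nat.prime_two).1 (orderOf_dvd_of_pow_eq_one hk)
  have hn0 : n ≠ 0 := by
    rintro rfl
    rw [pow_zero, orderOf_eq_one_iff] at hn
    exact hx1 hn
  obtain ⟨m, rfl⟩ := Nat.exists_eq_succ_of_ne_zero hn0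
  have h1 : x ^ 2 ^ m * x ^ 2 ^ m = 1 := by
    rw [← pow_add, ← two_mul, ← pow_succ', ← hn, pow_orderOf_eq_one]
  have h2 : x ^ 2 ^ m ≠ 1 := by
    refine pow_ne_one_of_lt_orderOf (pow_ne_zero _ (by norm_num)) ?_
    rw [hn]
    exact Nat.pow_lt_pow_right (by norm_num) (Nat.lt_succ_self m)
  have h3 : x ^ 2 ^ m • a = a := h.fix ((U a).pow_mem hx _)
  have h4 : x ^ 2 ^ m • b = b := (stabilizer G b).pow_mem (show x ∈ stabilizer G b from hxb) _
  have h5 := inv_mem_Zc' h hodd hX hnc hab hcrit (X.pow_mem hxX _) h1 h2 h3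
  exact hab (Zc_eq h h5 h2 h4)

/-- `O(U a) = 1` -/
theorem pR_bot (htr : ∀ a b c : Ω, b ≠ a → c ≠ a → ∃ u ∈ U a, u ∈ X ∧ u • b = c) {a b : Ω} (hab : b ≠ a) {k : G} (hk : k ∈ pR 2 (U a)) : k = 1 := by
  have : Fact (Nat.Prime 2) := ⟨Nat.prime_two⟩
  -- `k` centralises `X_a`
  have hcen : ∀ x ∈ X, x • a = a → k * x = x * k := by
    intro x hx hxa
    have h1 : x * k⁻¹ * x⁻¹ ∈ pR 2 (U a) := h.conj_pR_of_fix hxa ((pR 2 (U a)).inv_mem hk)
    have h2 := pR_inf h hodd hX hnc hcrit hab (x := k * (x * k⁻¹ * x⁻¹)) ((pR 2 (U a)).mul_mem hk h1) (by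
      have : k * (x * k⁻¹ * x⁻¹) = (k * x * k⁻¹) * x⁻¹ := by group
      rw [this]
      exact X.mul_mem (hX.conj_mem x hx k) (X.inv_mem hx))
    have h3 : k * x = (k * (x * k⁻¹ * x⁻¹)) * (x * k) := by group
    rw [h3, h2, one_mul]
  have hka : k • a = a := h.fix (pR_le _ _ hk)
  have hkb : k • b ≠ a := fun e => hab (MulAction.injective k (e.trans hka.symm))
  obtain ⟨q, hq, hqX, hqb⟩ := htr a b (k • b) hab hkb
  have hkq : ∀ m : ℕ, k ^ m • b = q ^ m • b := by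
    intro m
    induction m with
    | zero => rw [pow_zero, pow_zero]
    | succ m ih =>
      have h1 : k * q ^ m = q ^ m * k :=
        hcen _ (X.pow_mem hqX _) (h.fix ((U a).pow_mem hq _))
      rw [pow_succ', mul_smul, ih, ← mul_smul, h1, mul_smul, ← hqb, ← mul_smul, ← pow_succ]
  have h1 := hkq (orderOf k)
  rw [pow_orderOf_eq_one, one_smul] at h1
  have h2 := semireg h hodd hX hnc hcrit hab ((U a).pow_mem hq _) (X.pow_mem hqX _) h1.symm
  obtain ⟨n, hn⟩ := two_pow h hodd hX hnc hcrit hab hq hqX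
  have h3 : (orderOf k).Coprime 2 := ((mem_pR (h.nil a)).1 hk).2
  have h4 : orderOf q ∣ orderOf k := orderOf_dvd_of_pow_eq_one h2
  have h5 : orderOf q ∣ 2 ^ n := orderOf_dvd_of_pow_eq_one hn
  have h6 : orderOf q = 1 := Nat.eq_one_of_dvd_coprimes (Nat.Coprime.pow_right n h3) h4 h5
  rw [orderOf_eq_one_iff] at h6
  rw [h6, one_smul] at hqb
  -- `k` fixes `b`, and centralises the transitive group `X_a`
  apply KS.eq_one_of_fix (Ω := Ω)
  intro c
  by_cases hca : c = a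
  · rw [hca, hka]
  · obtain ⟨x, hx, hxX, rfl⟩ := htr a b c hab hca
    rw [← mul_smul, hcen x hxX (h.fix hx), mul_smul, ← hqb]

theorem two_group (htr : ∀ a b c : Ω, b ≠ a → c ≠ a → ∃ u ∈ U a, u ∈ X ∧ u • b = c)
    {a b : Ω} (hab : b ≠ a) : IsPGroup 2 (U a) := by
  have : Fact (Nat.Prime 2) := ⟨Nat.prime_two⟩
  rintro ⟨x, hx⟩
  obtain ⟨y, hy, z, hz, hxyz, -, -⟩ := exists_mul_parts (p := 2) hx
  obtain ⟨-, k, hk⟩ := (mem_pP (h.nil a)).1 hy
  refine ⟨k, Subtype.ext ?_⟩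
  change x ^ 2 ^ k = 1
  rw [hxyz, pR_bot h hodd hX hnc hcrit htr hab hz, mul_one, hk]

/-- **The frame.** -/
theorem frame (htr : ∀ a b c : Ω, b ≠ a → c ≠ a → ∃ u ∈ U a, u ∈ X ∧ u • b = c)
    (hex : ∀ a : Ω, ∃ b : Ω, b ≠ a) (hne : Nonempty Ω) : Frame X U where
  normal g x hx := hX.conj_mem x hx g
  faithful g hg := KS.eq_one_of_fix hg
  fix hx := h.fix hx
  conj g _ _ hx := h.conj g hx
  nil := h.nil
  two hab hcd := two_X h hodd hX hnc hcrit hab hcd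
  reg {a b c} hb hc := htr a b c hb hc
  semireg hx hxX hab hxb := semireg h hodd hX hnc hcrit hab hx hxX hxb
  inv_le {t} ht htt ht1 a b hta htb := by
    obtain ⟨c, hc⟩ := hex a
    have h1 := inv_mem_Zc' h hodd hX hnc hc hcrit ht htt ht1 hta
    exact (Zc_eq h h1 ht1 htb).symm
  inv_fix {t} ht htt := by
    by_cases ht1 : t = 1
    · obtain ⟨a⟩ := hne
      exact ⟨a, by rw [ht1, one_smul]⟩
    · obtain ⟨a⟩ := hne
      obtain ⟨c, hc⟩ := hex a
      obtain ⟨p, hp⟩ := inv_mem_Zc h hodd hX hnc hc hcrit ht htt ht1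
      exact ⟨p, Zc_fix h hp⟩
  inv_ex a := by
    obtain ⟨c, hc⟩ := hex a
    obtain ⟨z, hz, hzX, hz1⟩ := exists_Zc_X h hodd hX hnc hc
    exact ⟨z, hzX, hz1, hz.2.1, Zc_fix h hz⟩
  inv_mem {a t} ht htt hta := by
    by_cases ht1 : t = 1
    · subst ht1
      exact ⟨one_mem _, fun x _ => by rw [one_mul, mul_one]⟩
    · obtain ⟨c, hc⟩ := hex a
      have h1 := inv_mem_Zc' h hodd hX hnc hc hcrit ht htt ht1 hta
      exact ⟨h1.1, fun x hx => (h1.2.2 x hx).symm⟩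
  inv_conj {a b s t} hab hs hss hs1 hsa ht htt ht1 hta := by
    -- an involution moving `a` to `b`
    obtain ⟨z, hz, hzX, hz1⟩ := exists_Zc_X h hodd hX hnc (a := b) (b := a) hab
    have hza : z • a ≠ a := fun e => hab (Zc_eq h hz hz1 e)
    obtain ⟨g, hg, hga, hgb⟩ := two_X h hodd hX hnc hcrit hza.symm hab
    have hSE := stronglyEmbedded h hodd hX hnc hab.symm hcrit
    have hu2 : orderOf (⟨g * z * g⁻¹, hX.conj_mem z hzX g⟩ : X) = 2 := by
      refine orderOf_two.2 ⟨Subtype.ext ?_, fun e => hz1 ?_⟩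
      · change g * z * g⁻¹ * (g * z * g⁻¹) = 1
        calc g * z * g⁻¹ * (g * z * g⁻¹) = g * (z * z) * g⁻¹ := by group
          _ = 1 := by rw [hz.2.1]; group
      · have e' : g * z * g⁻¹ = 1 := congrArg Subtype.val e
        rw [mul_inv_eq_one] at e'
        exact mul_left_cancel (e'.trans (mul_one g).symm)
    have huab : (g * z * g⁻¹) • a = b := by
      rw [mul_smul, mul_smul, inv_smul_eq_iff.2 hga.symm, hgb]
    obtain ⟨⟨d, hd, hds⟩, -⟩ := Cfsg.Agent.S1225.result (stabilizer X a) hSE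
      ⟨g * z * g⁻¹, hX.conj_mem z hzX g⟩ hu2 (fun e => hab.symm (huab.symm.trans e)) ⟨s, hs⟩ ⟨t, ht⟩
      (orderOf_two.2 ⟨Subtype.ext hss, fun e => hs1 (congrArg Subtype.val e)⟩) hsa
      (orderOf_two.2 ⟨Subtype.ext htt, fun e => ht1 (congrArg Subtype.val e)⟩) hta
    refine ⟨d, d.2, hd.1, ?_, congrArg Subtype.val hds⟩
    obtain ⟨e, he, hed⟩ := Subgroup.mem_map.1 hd.2
    have h7 : (g * z * g⁻¹) * e.1 * (g * z * g⁻¹)⁻¹ = d.1 := congrArg Subtype.val hed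
    have h8 : e.1 • a = a := he
    rw [← h7, mul_smul, mul_smul, inv_smul_eq_iff.2 huab.symm, h8, huab]

end

end Cfsg.Agent.SplitTwo.RankOneOddB
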