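import Cfsg.Agent.SplitTwo.RankOneMod
import Cfsg.Agent.SplitTwo.RankOneCount
import Cfsg.Prelude.Def_LieRecognition

/-!
# Rank one groups of odd degree: the rank one set-up of `X`
-/

set_option autoImplicit false

namespace Cfsg.Agent.SplitTwo.RankOneFrame

open MulAction Cfsg.Agent.HKS Cfsg

/-- comparison of orders -/
theorem order_arith {g m : ℕ} (hg : 1 ≤ g)
    (h : (2 ^ g ^ 1) * 0 = 0 →
      (2 ^ g) ^ 3 * (((2 ^ g) ^ 3 + 1) * (2 ^ g - 1)) =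
        (2 ^ (2 * m + 1)) ^ 2 * (((2 ^ (2 * m + 1)) ^ 2 + 1) * (2 ^ (2 * m + 1) - 1))) : False := by
  have h := h (by simp)
  set s := 2 * m + 1 with hs
  have hodd : ∀ n : ℕ, 1 ≤ n → Odd (2 ^ n - 1) := by
    intro n hn
    obtain ⟨k, hk⟩ : ∃ k, 2 ^ n = 2 * k := (dvd_pow_self 2 (by omega))
    have : 1 ≤ 2 ^ n := Nat.one_le_two_pow
    exact ⟨k - 1, by omega⟩
  have hodd' : ∀ n : ℕ, 1 ≤ n → Odd (2 ^ n + 1) := by
    intro n hn
    obtain ⟨k, hk⟩ : ∃ k, 2 ^ n = 2 * k := (dvd_pow_self 2 (by omega))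
    exact ⟨k, by omega⟩
  have hA : Odd (((2 ^ g) ^ 3 + 1) * (2 ^ g - 1)) := by
    rw [← pow_mul]
    exact (hodd' _ (by omega)).mul (hodd _ hg)
  have hB : Odd (((2 ^ s) ^ 2 + 1) * (2 ^ s - 1)) := by
    rw [← pow_mul]
    exact (hodd' _ (by omega)).mul (hodd _ (by omega))
  have h1 : (2 ^ g) ^ 3 = (2 ^ s) ^ 2 := by
    apply Nat.dvd_antisymm
    · have h2 : (2 ^ g) ^ 3 ∣ (2 ^ s) ^ 2 * (((2 ^ s) ^ 2 + 1) * (2 ^ s - 1)) := ⟨_, h.symm⟩
      refine Nat.Coprime.dvd_of_dvd_mul_right ?_ h2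
      rw [← pow_mul]
      exact Nat.Coprime.pow_left _ (Nat.coprime_two_left.2 hB)
    · have h2 : (2 ^ s) ^ 2 ∣ (2 ^ g) ^ 3 * (((2 ^ g) ^ 3 + 1) * (2 ^ g - 1)) := ⟨_, h⟩
      refine Nat.Coprime.dvd_of_dvd_mul_right ?_ h2
      rw [← pow_mul]
      exact Nat.Coprime.pow_left _ (Nat.coprime_two_left.2 hA)
  rw [h1] at h
  have h3 : 0 < (2 ^ s) ^ 2 := by positivity
  have h4 := Nat.eq_of_mul_eq_mul_left h3 h
  have h5 : 0 < (2 ^ s) ^ 2 + 1 := by positivity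
  have h6 := Nat.eq_of_mul_eq_mul_left h5 h4
  have h7 : 2 ^ g = 2 ^ s := by
    have : 1 ≤ 2 ^ g := Nat.one_le_two_pow
    have : 1 ≤ 2 ^ s := Nat.one_le_two_pow
    omega
  rw [h7, ← pow_mul, ← pow_mul] at h1
  have := Nat.pow_right_injective (le_refl 2) h1
  omega

variable {G Ω : Type*} [Group G] [MulAction G Ω] {X : Subgroup G} {U : Ω → Subgroup G}

namespace Frame

section

variable [Finite G] [Finite Ω]

/-- set stabiliser of `{a, b}` in `X` -/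
def pairStab (X : Subgroup G) (a b : Ω) : Subgroup X where
  carrier := {g | (g.1 • a = a ∧ g.1 • b = b) ∨ (g.1 • a = b ∧ g.1 • b = a)}
  one_mem' := Or.inl ⟨one_smul _ _, one_smul _ _⟩
  mul_mem' := by
    rintro ⟨g, hg⟩ ⟨k, hk⟩ h1 h2
    change ((g * k) • a = a ∧ (g * k) • b = b) ∨ ((g * k) • a = b ∧ (g * k) • b = a)
    simp only [mul_smul]
    rcases h1 with ⟨h1, h1'⟩ | ⟨h1, h1'⟩ <;> rcases h2 with ⟨h2, h2'⟩ | ⟨h2, h2'⟩ <;>
      simp only [] at h1 h1' h2 h2' <;> rw [h2, h2'] <;> simp [h1, h1']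
  inv_mem' := by
    rintro ⟨g, hg⟩ h1
    change (g⁻¹ • a = a ∧ g⁻¹ • b = b) ∨ (g⁻¹ • a = b ∧ g⁻¹ • b = a)
    simp only [inv_smul_eq_iff]
    rcases h1 with ⟨h1, h1'⟩ | ⟨h1, h1'⟩
    · exact Or.inl ⟨h1.symm, h1'.symm⟩
    · exact Or.inr ⟨h1'.symm, h1.symm⟩

omit [Finite G] [Finite Ω] in
theorem mem_pairStab {a b : Ω} {g : X} : g ∈ pairStab X a b ↔
    (g.1 • a = a ∧ g.1 • b = b) ∨ (g.1 • a = b ∧ g.1 • b = a) := Iff.rfl

omit [Finite G] [Finite Ω] in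
/-- the rank one structure of `X` -/
theorem rankOne (h : Frame X U) {a b : Ω} (hab : b ≠ a) {w : X} (hwa : w.1 • a = b) (hwb : w.1 • b = a) :
    RankOne (stabilizer X a) ((U a).subgroupOf X) (stabilizer X a ⊓ stabilizer X b) (pairStab X a b) w where
  QB u hu := h.fix (Subgroup.mem_subgroupOf.1 hu)
  Qn x hx u hu := by
    rw [Subgroup.mem_subgroupOf] at hu ⊢
    have := h.conj x.1 hu
    have h1 : x.1 • a = a := hx
    rwa [h1] at this
  DB := inf_le_left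
  Bmul x hx := by
    have hxa : x.1 • a = a := hx
    have hxb : x.1 • b ≠ a := fun e => hab (MulAction.injective x.1 (e.trans hxa.symm))
    obtain ⟨u, hu, huX, hub⟩ := h.reg hab hxb
    refine ⟨⟨u, huX⟩, Subgroup.mem_subgroupOf.2 hu, ⟨u, huX⟩⁻¹ * x, ⟨?_, ?_⟩, by group⟩
    · change (u⁻¹ * x.1) • a = a
      rw [mul_smul, hxa, inv_smul_eq_iff, h.fix hu]
    · change (u⁻¹ * x.1) • b = b
      rw [mul_smul, ← hub, inv_smul_smul]
  QD x hx hxD := Subtype.ext (h.semireg (Subgroup.mem_subgroupOf.1 hx) x.2 hab hxD.2)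
  DW d hd := Or.inl ⟨hd.1, hd.2⟩
  wW := Or.inr ⟨hwa, hwb⟩
  wB hw := hab (hwa.symm.trans hw)
  Wmul g hg hgD := by
    rcases hg with hg | ⟨hg1, hg2⟩
    · exact absurd ⟨hg.1, hg.2⟩ hgD
    · refine ⟨w⁻¹ * g, ⟨?_, ?_⟩, by group⟩
      · change (w.1⁻¹ * g.1) • a = a
        rw [mul_smul, hg1, inv_smul_eq_iff, hwa]
      · change (w.1⁻¹ * g.1) • b = b
        rw [mul_smul, hg2, inv_smul_eq_iff, hwb]
  Wn g hg d hd := by
    have hda : d.1 • a = a := hd.1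
    have hdb : d.1 • b = b := hd.2
    refine ⟨?_, ?_⟩
    · change (g.1 * d.1 * g.1⁻¹) • a = a
      rcases hg with ⟨h1, h2⟩ | ⟨h1, h2⟩
      · rw [mul_smul, mul_smul, inv_smul_eq_iff.2 h1.symm, hda, h1]
      · rw [mul_smul, mul_smul, inv_smul_eq_iff.2 h2.symm, hdb, h2]
    · change (g.1 * d.1 * g.1⁻¹) • b = b
      rcases hg with ⟨h1, h2⟩ | ⟨h1, h2⟩
      · rw [mul_smul, mul_smul, inv_smul_eq_iff.2 h2.symm, hdb, h2]
      · rw [mul_smul, mul_smul, inv_smul_eq_iff.2 h1.symm, hda, h1]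
  WB g hg hgB := by
    rcases hg with hg | ⟨hg1, hg2⟩
    · exact ⟨hg.1, hg.2⟩
    · exact absurd (hg1.symm.trans hgB) hab
  bruhat g hg := by
    have hga : g.1 • a ≠ a := hg
    obtain ⟨u, hu, huX, hub⟩ := h.reg hab hga
    refine ⟨⟨u, huX⟩, Subgroup.mem_subgroupOf.2 hu, w⁻¹ * ⟨u, huX⟩⁻¹ * g, ?_, by group⟩
    change (w.1⁻¹ * u⁻¹ * g.1) • a = a
    rw [mul_smul, mul_smul, ← hub, inv_smul_smul, inv_smul_eq_iff, hwa]
  conjD x hx hxw := by
    refine ⟨hx, ?_⟩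
    have h1 : (w.1⁻¹ * x.1 * w.1) • a = a := hxw
    rw [mul_smul, mul_smul, hwa, inv_smul_eq_iff, hwa] at h1
    exact h1

/-- two distinct commuting involutions -/
def Two (X : Subgroup G) : Prop :=
  ∃ x y : X, x ≠ 1 ∧ y ≠ 1 ∧ x ≠ y ∧ x * x = 1 ∧ y * y = 1 ∧ x * y = y * x

omit [Finite Ω] in
theorem odd_D (h : Frame X U) {a b : Ω} (hab : b ≠ a) :
    Odd (Nat.card ↥(stabilizer X a ⊓ stabilizer X b)) := by
  rw [← Nat.not_even_iff_odd, even_iff_two_dvd]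
  intro h2
  have : Fact (Nat.Prime 2) := ⟨Nat.prime_two⟩
  obtain ⟨d, hd⟩ := exists_prime_orderOf_dvd_card' 2 h2
  have hd1 : d ≠ 1 := by
    rintro rfl
    rw [orderOf_one] at hd
    omega
  have hdd : d * d = 1 := by
    rw [← pow_two, ← hd]
    exact pow_orderOf_eq_one d
  have h3 : ((d : X) : G) ≠ 1 := fun e => hd1 (Subtype.ext (Subtype.ext e))
  have h4 : ((d : X) : G) * ((d : X) : G) = 1 := congrArg Subtype.val (congrArg Subtype.val hdd)
  exact hab (h.inv_le (d : X).2 h4 h3 d.2.2 d.2.1)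

omit [Finite G] [Finite Ω] in
theorem two_pretransitive (h : Frame X U) : MulAction.IsMultiplyPretransitive X Ω 2 := by
  rw [MulAction.is_two_pretransitive_iff]
  intro a b c d hab hcd
  obtain ⟨g, hg, hga, hgb⟩ := h.two hab hcd
  exact ⟨⟨g, hg⟩, hga, hgb⟩

theorem setup (h : Frame X U) {a b : Ω} (hab : b ≠ a) {w : X} (hwa : w.1 • a = b)
    (hwb : w.1 • b = a) (hww : w * w = 1) : IsRankOneSetup X Ω a w ((U a).subgroupOf X) where
  two_transitive := h.two_pretransitive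
  mul_self := hww
  ne_one := by
    rintro rfl
    exact hab (by rw [← hwa]; exact one_smul _ _)
  not_mem hw := hab (hwa.symm.trans hw)
  le u hu := h.fix (Subgroup.mem_subgroupOf.1 hu)
  conj_mem x hx u hu := (h.rankOne hab hwa hwb).Qn x hx u hu
  inf_eq_bot := by
    rw [eq_bot_iff]
    rintro x ⟨hx, hx'⟩
    have h1 : x.1 • (w.1 • a) = w.1 • a := hx'
    rw [hwa] at h1
    exact Subgroup.mem_bot.2 (Subtype.ext (h.semireg (Subgroup.mem_subgroupOf.1 hx) x.2 hab h1))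
  sup_eq := by
    have hwa' : w • a = b := hwa
    rw [hwa']
    apply le_antisymm
    · exact sup_le (fun u hu => h.fix (Subgroup.mem_subgroupOf.1 hu)) inf_le_left
    · intro x hx
      obtain ⟨u, hu, d, hd, rfl⟩ := (h.rankOne hab hwa hwb).Bmul x hx
      exact Subgroup.mul_mem_sup hu hd
  even_card := by
    obtain ⟨t, ht, ht1, htt, hta⟩ := h.inv_ex a
    have h1 : (⟨t, ht⟩ : X) ∈ (U a).subgroupOf X := Subgroup.mem_subgroupOf.2 (h.inv_mem ht htt hta).1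
    have h2 : orderOf (⟨⟨t, ht⟩, h1⟩ : (U a).subgroupOf X) = 2 := by
      refine orderOf_eq_prime ?_ ?_
      · rw [pow_two]
        exact Subtype.ext (Subtype.ext htt)
      · exact fun e => ht1 (congrArg Subtype.val (congrArg Subtype.val e))
    rw [even_iff_two_dvd, ← h2]
    exact orderOf_dvd_natCard _
  odd_card := by
    have hwa' : w • a = b := hwa
    rw [hwa']
    exact h.odd_D hab

end

end Frame

end Cfsg.Agent.SplitTwo.RankOneFrame
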